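import Cfsg.Agent.PermGroups.RegularLinear
import Cfsg.Agent.FGS4.Swaps
import Cfsg.Agent.S3742
import Mathlib.GroupTheory.SpecificGroups.ZGroup

/-!
Linear groups regular on the non-zero vectors without irreducible cyclic normal subgroup:
the minimal non-abelian normal subgroup.
-/

set_option autoImplicit false
set_option linter.style.haveILetI false
set_option linter.unusedSectionVars false

namespace Cfsg.Agent.PermGroups.RegLin

open FGS4.Zass

theorem quat_center : ∀ x : QuaternionGroup 2, (∀ y, x * y = y * x) →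
    x = 1 ∨ x = QuaternionGroup.a 2 := by decide +kernel

theorem quat_two_card : Nat.card (QuaternionGroup 2) = 8 := by
  rw [Nat.card_eq_fintype_card, QuaternionGroup.card]

theorem card_mulAut_quat : Nat.card (MulAut (QuaternionGroup 2)) = 24 := by
  obtain ⟨e⟩ := S3742.result
  rw [Nat.card_congr e.toEquiv, Nat.card_perm, Nat.card_fin]
  rfl

theorem isSolvable_mulAut_quat : Group.IsSolvable (MulAut (QuaternionGroup 2)) := by
  obtain ⟨e⟩ := S3742.result
  haveI : Group.IsSolvable (Equiv.Perm (Fin 4)) :=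
    FGS4.isSolvable_perm_of_card_le_four (Fintype.card_fin 4).le
  exact solvable_of_solvable_injective (f := e.toMonoidHom) e.injective

theorem exists_order_four_quat : ∃ x : QuaternionGroup 2, orderOf x = 4 :=
  ⟨QuaternionGroup.xa 0, QuaternionGroup.orderOf_xa 0⟩

/-- The automorphism group of `SL(2,5)` has at most 120 elements. -/
theorem card_mulAut_T5_le : Nat.card (MulAut T5) ≤ 120 := by
  classical
  let g : MulAut T5 → K5 × K5 := fun φ => (key (φ A5), key (φ B5))
  have hg : Function.Injective g := fun φ φ' h => by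
    simp only [g, Prod.mk.injEq] at h
    refine MulEquiv.ext fun x => ?_
    have key' : Set.EqOn φ.toMonoidHom φ'.toMonoidHom (Subgroup.closure {A5, B5} : Set T5) := by
      refine MonoidHom.eqOn_closure ?_
      rintro y (rfl | rfl)
      · exact key_injective h.1
      · exact key_injective h.2
    exact key' (show x ∈ Subgroup.closure ({A5, B5} : Set T5) by rw [closure_AB]; trivial)
  have hsub : Set.range g ⊆ {p | p ∈ genPairs} := by
    rintro _ ⟨φ, rfl⟩
    refine mem_genPairs ?_ ?_ ?_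
    · rw [MulEquiv.orderOf_eq, orderOf_A5]
    · rw [MulEquiv.orderOf_eq, orderOf_B5]
    · rw [← map_mul, MulEquiv.orderOf_eq, orderOf_A5B5]
  rw [← Set.ncard_univ, ← Set.ncard_image_of_injective _ hg, Set.image_univ]
  refine (Set.ncard_le_ncard hsub (List.finite_toSet _)).trans ?_
  rw [show {p | p ∈ genPairs} = (genPairs.toFinset : Set (K5 × K5)) by ext; simp,
    Set.ncard_coe_finset]
  exact (List.toFinset_card_le _).trans genPairs_length.le

theorem center_T5 : ∀ t : T5, (∀ y, t * y = y * t) → t = 1 ∨ t = Z5c :=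
  fun _ h => eq_of_commute_gens (h A5) (h B5)

theorem exists_order_four_T5 : ∃ x : T5, orderOf x = 4 := by
  refine ⟨⟨!![0, 1; -1, 0], by simp [Matrix.det_fin_two]⟩, ?_⟩
  refine orderOf_eq_prime_pow (p := 2) (n := 1) ?_ ?_ <;> decide +kernel

/-- A quaternion group with derived group in the centre has order eight. -/
theorem quat_exponent {n : ℕ}
    (hna : ∃ x y : QuaternionGroup (2 ^ n), x * y ≠ y * x)
    (hc : ∀ x y z : QuaternionGroup (2 ^ n), (x * y * x⁻¹ * y⁻¹) * z = z * (x * y * x⁻¹ * y⁻¹)) :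
    n = 1 := by
  rcases n with _ | _ | n
  · exfalso
    obtain ⟨x, y, hxy⟩ := hna
    revert hxy
    revert x y
    decide +kernel
  · rfl
  · exfalso
    have h := hc (QuaternionGroup.a 1) (QuaternionGroup.xa 0) (QuaternionGroup.xa 0)
    rw [show (QuaternionGroup.a 1 : QuaternionGroup (2 ^ (n + 1 + 1)))⁻¹ = QuaternionGroup.a (-1) from rfl,
      show (QuaternionGroup.xa 0 : QuaternionGroup (2 ^ (n + 1 + 1)))⁻¹ =
        QuaternionGroup.xa ((2 ^ (n + 1 + 1) : ℕ) + 0) from rfl] at h
    simp only [QuaternionGroup.a_mul_xa, QuaternionGroup.xa_mul_a, QuaternionGroup.xa_mul_xa,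
      QuaternionGroup.a_mul_a, QuaternionGroup.xa.injEq] at h
    ring_nf at h
    have h' : ((4 : ℕ) : ZMod (2 * 2 ^ (n + 1 + 1))) = 0 := by
      have hN : ((2 ^ n * 4 : ℕ) : ZMod (2 * 2 ^ (n + 1 + 1))) * 2 = 0 := by
        have h0 := ZMod.natCast_self (2 * 2 ^ (n + 1 + 1))
        push_cast at h0 ⊢
        linear_combination h0
      rw [Nat.cast_ofNat]
      linear_combination -h - 2 * hN
    rw [ZMod.natCast_eq_zero_iff] at h'
    have h8 := Nat.le_of_dvd (by norm_num) h'
    have : 1 ≤ 2 ^ n := Nat.one_le_two_pow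
    rw [pow_succ, pow_succ] at h8
    omega

variable {p : ℕ} [hp : Fact p.Prime] {V : Type*} [AddCommGroup V] [Module (ZMod p) V] [Finite V]
  {H : Subgroup (V ≃ₗ[ZMod p] V)}

/-- `A` is a maximal normal abelian subgroup. -/
def IsMaxAb (A : Subgroup H) : Prop :=
  A.Normal ∧ IsMulCommutative A ∧
    ∀ B : Subgroup H, B.Normal → IsMulCommutative B → A ≤ B → B = A

/-- `N` is minimal among the non-abelian normal subgroups centralising `A`. -/
def IsMinNA (A N : Subgroup H) : Prop :=
  N.Normal ∧ N ≤ Subgroup.centralizer (A : Set H) ∧ ¬ IsMulCommutative N ∧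
    ∀ M : Subgroup H, M.Normal → M ≤ N → ¬ IsMulCommutative M → M = N

theorem exists_isMaxAb (H : Subgroup (V ≃ₗ[ZMod p] V)) : ∃ A : Subgroup H, IsMaxAb A := by
  haveI := finite_group H
  obtain ⟨A, ⟨hAn, hAc⟩, hmax⟩ := Set.exists_max_image
    {A : Subgroup H | A.Normal ∧ IsMulCommutative A} (fun A => Nat.card A) (Set.toFinite _)
    ⟨⊥, inferInstance, inferInstance⟩
  exact ⟨A, hAn, hAc, fun B hBn hBc hle =>
    (Subgroup.eq_of_le_of_card_ge hle (hmax B ⟨hBn, hBc⟩)).symm⟩

variable {A : Subgroup H}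

theorem IsMaxAb.le_centralizer (hA : IsMaxAb A) : A ≤ Subgroup.centralizer (A : Set H) :=
  haveI := hA.2.1
  Subgroup.le_centralizer A

theorem IsMaxAb.le_of_centralizes (hA : IsMaxAb A) {B : Subgroup H} [B.Normal]
    (hB : IsMulCommutative B) (hc : B ≤ Subgroup.centralizer (A : Set H)) : B ≤ A := by
  haveI := hA.1
  have hc' : ∀ a ∈ A, ∀ b ∈ B, a * b = b * a := fun a ha b hb => Subgroup.mem_centralizer_iff.1 (hc hb) a ha
  have hcomm : IsMulCommutative (A ⊔ B : Subgroup H) := by
    rw [Subgroup.sup_eq_closure]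
    refine Subgroup.isMulCommutative_closure ?_
    rintro x (hx | hx) y (hy | hy)
    · exact congrArg Subtype.val (hA.2.1.is_comm.comm ⟨x, hx⟩ ⟨y, hy⟩)
    · exact hc' x hx y hy
    · exact (hc' y hy x hx).symm
    · exact congrArg Subtype.val (hB.is_comm.comm ⟨x, hx⟩ ⟨y, hy⟩)
  exact (le_sup_right : B ≤ A ⊔ B).trans (hA.2.2 _ inferInstance hcomm le_sup_left).le

theorem two_le_degree (hreg : IsReg H) (hI : NoIrrCyclic H) (hA : IsMaxAb A) :
    ∃ d : ℕ, 2 ≤ d ∧ Nat.card H + 1 = fieldSize A ^ d := by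
  haveI := hA.1
  haveI := hI.nontrivial.1
  obtain ⟨d, hd, hd2⟩ := hreg.exists_card_eq_pow hA.2.1
  exact ⟨d, hd2 (hI A hA.1 (hreg.isCyclic_and_dvd hA.2.1).1), hreg.card_eq.trans hd⟩

/-- The centraliser of a maximal normal abelian subgroup is not abelian. -/
theorem centralizer_not_comm (hreg : IsReg H) (hI : NoIrrCyclic H) (hA : IsMaxAb A) :
    ¬ IsMulCommutative (Subgroup.centralizer (A : Set H)) := by
  intro hC
  haveI := hA.1
  haveI := hI.nontrivial.1
  haveI := finite_group H
  have hCA : Subgroup.centralizer (A : Set H) = A := hA.2.2 _ inferInstance hC hA.le_centralizer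
  obtain ⟨d, hd, hq⟩ := two_le_degree hreg hI hA
  obtain ⟨-, hdvd⟩ := hreg.isCyclic_and_dvd hA.2.1
  have hj := (hreg.index_centralizer_dvd hA.2.1).1
  rw [hCA] at hj
  haveI := finite_genAlg A
  set k := Module.finrank (ZMod p) (genAlg A) with hk
  have hqk : fieldSize A = p ^ k := card_genAlg A
  have hk0 : 0 < k := by
    by_contra h0
    rw [show k = 0 by omega, pow_zero] at hqk
    have h3 := hI.nontrivial.2
    rw [← hreg.card_eq, hq, hqk, one_pow] at h3
    omega
  have hkq : k + 1 ≤ fieldSize A := hqk ▸ Nat.lt_pow_self hp.out.one_lt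
  generalize fieldSize A = q at hq hdvd hkq
  have hA' : Nat.card A ≤ q - 1 := Nat.le_of_dvd (by omega) hdvd
  have hcard := Subgroup.card_mul_index A
  have hle : Nat.card H ≤ (q - 1) * k := hcard ▸ Nat.mul_le_mul hA' (Nat.le_of_dvd hk0 hj)
  have hsq : q ^ 2 ≤ q ^ d := Nat.pow_le_pow_right (by omega) hd
  obtain ⟨r, rfl⟩ : ∃ r, q = r + 1 := ⟨q - 1, by omega⟩
  simp only [Nat.add_sub_cancel] at hle
  nlinarith

theorem exists_isMinNA (hreg : IsReg H) (hI : NoIrrCyclic H) (hA : IsMaxAb A) :
    ∃ N : Subgroup H, IsMinNA A N := by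
  haveI := hA.1
  haveI := finite_group H
  obtain ⟨N, ⟨h1, h2, h3⟩, hmin⟩ := Set.exists_min_image
    {N : Subgroup H | N.Normal ∧ N ≤ Subgroup.centralizer (A : Set H) ∧ ¬ IsMulCommutative N}
    (fun N => Nat.card N) (Set.toFinite _)
    ⟨_, inferInstance, le_rfl, centralizer_not_comm hreg hI hA⟩
  exact ⟨N, h1, h2, h3, fun M hMn hMle hMna =>
    Subgroup.eq_of_le_of_card_ge hMle (hmin M ⟨hMn, hMle.trans h2, hMna⟩)⟩

theorem IsMaxAb.nontrivial_group (hA : IsMaxAb A) {N : Subgroup H} (hN : ¬ IsMulCommutative N) :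
    Nontrivial H := by
  by_contra h
  rw [not_nontrivial_iff_subsingleton] at h
  exact hN ⟨⟨fun a b => Subtype.ext (Subsingleton.elim _ _)⟩⟩

/-- The minimal non-abelian normal subgroup is quaternion of order eight or `SL(2,5)`. -/
theorem minNA_cases (hreg : IsReg H) [Nontrivial V] (hA : IsMaxAb A) {N : Subgroup H}
    (hN : IsMinNA A N) : Nonempty (N ≃* QuaternionGroup 2) ∨ Nonempty (N ≃* T5) := by
  classical
  obtain ⟨hNn, hNle, hNna, hNmin⟩ := hN
  haveI := hNn
  haveI := finite_group H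
  haveI := hA.nontrivial_group hNna
  obtain ⟨m, hm, ⟨F⟩⟩ := hreg.exists_fpfRep
  haveI : Nonempty (Fin m) := ⟨⟨0, hm⟩⟩
  haveI : Nontrivial N := by
    by_contra h
    rw [not_nontrivial_iff_subsingleton] at h
    exact hNna ⟨⟨fun a b => Subsingleton.elim _ _⟩⟩
  set D : Subgroup H := ⁅N, N⁆ with hD
  by_cases hDc : IsMulCommutative D
  swap
  · right
    have hDN : D = N := hNmin D inferInstance (Subgroup.commutator_le_right N N) hDc
    refine (F.res N).equiv_of_perfect ?_
    apply Subgroup.map_injective N.subtype_injective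
    rw [Subgroup.map_subtype_commutator, ← MonoidHom.range_eq_map, Subgroup.range_subtype]
    exact hDN
  left
  have hDA : D ≤ A := hA.le_of_centralizes hDc ((Subgroup.commutator_le_right N N).trans hNle)
  have hcent : ∀ x y z : N, (x * y * x⁻¹ * y⁻¹) * z = z * (x * y * x⁻¹ * y⁻¹) := fun x y z => by
    have hd : ((x * y * x⁻¹ * y⁻¹ : N) : H) ∈ A :=
      hDA (Subgroup.commutator_mem_commutator x.2 y.2)
    exact Subtype.ext (Subgroup.mem_centralizer_iff.1 (hNle z.2) _ hd)
  haveI hnil : Group.IsNilpotent N := by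
    refine ⟨2, eq_top_iff.2 fun x _ => ?_⟩
    rw [Subgroup.mem_upperCentralSeries_succ_iff]
    intro y
    rw [Subgroup.upperCentralSeries_one, Subgroup.mem_center_iff]
    intro z
    exact (hcent x y z).symm
  have hsyl : ∃ (q : ℕ) (hq : q.Prime) (P : Sylow q N), ¬ IsCyclic P := by
    by_contra hcon
    push Not at hcon
    haveI : IsZGroup N := ⟨fun q hq P => hcon q hq P⟩
    exact hNna ⟨⟨fun a b => IsCyclic.isMulCommutative.is_comm.comm a b⟩⟩
  obtain ⟨q, hq, P, hP⟩ := hsyl
  haveI := Fact.mk hq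
  obtain ⟨rfl, n, ⟨e⟩⟩ := ((F.res N).sylow_cases P).resolve_left hP
  haveI hPn : (P : Subgroup N).Normal :=
    (Group.isNilpotent_of_finite_tfae (G := N)).out 0 3 rfl rfl |>.mp hnil 2 inferInstance P
  haveI : (P : Subgroup N).Characteristic := P.characteristic_of_normal hPn
  by_cases hna : ∃ x y : QuaternionGroup (2 ^ n), x * y ≠ y * x
  swap
  · exfalso
    push Not at hna
    apply hP
    rcases n with _ | n
    · haveI : IsCyclic (QuaternionGroup (2 ^ 0)) := QuaternionGroup.quaternionGroup_one_isCyclic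
      exact isCyclic_of_surjective e.symm e.symm.surjective
    · have h1 := hna (QuaternionGroup.a 1) (QuaternionGroup.xa 0)
      simp only [QuaternionGroup.a_mul_xa, QuaternionGroup.xa_mul_a, QuaternionGroup.xa.injEq] at h1
      have h2 : ((2 : ℕ) : ZMod (2 * 2 ^ (n + 1))) = 0 := by push_cast; linear_combination -h1
      rw [ZMod.natCast_eq_zero_iff] at h2
      have := Nat.le_of_dvd (by norm_num) h2
      have : 1 ≤ 2 ^ n := Nat.one_le_two_pow
      rw [pow_succ] at *
      omega
  have hn1 : n = 1 := by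
    refine quat_exponent hna fun x y z => ?_
    apply e.symm.injective
    simp only [map_mul, map_inv]
    exact Subtype.ext (hcent _ _ _)
  subst hn1
  have hMna : ¬ IsMulCommutative ((P : Subgroup N).map N.subtype) := by
    intro hc
    obtain ⟨x, y, hxy⟩ := hna
    refine hxy (e.symm.injective (Subtype.ext (Subtype.ext ?_)))
    rw [map_mul, map_mul]
    simpa using congrArg Subtype.val (hc.is_comm.comm
      (⟨((e.symm x : (P : Subgroup N)) : N), ⟨_, (e.symm x).2, rfl⟩⟩ : (P : Subgroup N).map N.subtype)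
      ⟨((e.symm y : (P : Subgroup N)) : N), ⟨_, (e.symm y).2, rfl⟩⟩)
  have hMN : (P : Subgroup N).map N.subtype = N := by
    refine hNmin _ ?_ (Subgroup.map_subtype_le _) hMna
    infer_instance
  exact ⟨((MulEquiv.subgroupCongr hMN).symm.trans
    (Subgroup.equivMapOfInjective _ _ N.subtype_injective).symm).trans e⟩

end Cfsg.Agent.PermGroups.RegLin
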