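import Mathlib

/-!
Criteria for multiple transitivity, and orbit lengths of fixators.
-/

namespace Cfsg.Agent.PermGroups

open MulAction

variable {G α : Type*} [Group G] [MulAction G α]

/-- If the pointwise stabiliser of every `(k-1)`-set is transitive outside it, and `k` is less
than the degree, the action is `k`-transitive. -/
theorem isMultiplyPretransitive_of_fixator [Fintype α] {k : ℕ} (hkn : k < Fintype.card α)
    (h : ∀ s : Finset α, s.card + 1 = k → ∀ a b : α, a ∉ s → b ∉ s →
      ∃ g : G, (∀ x ∈ s, g • x = x) ∧ g • a = b) :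
    IsMultiplyPretransitive G α k := by
  classical
  suffices H : ∀ j, j ≤ k → ∀ x y : Fin j ↪ α, ∃ g : G, ∀ i, g • x i = y i by
    rw [isMultiplyPretransitive_iff]
    intro x y
    obtain ⟨g, hg⟩ := H k le_rfl x y
    exact ⟨g, Function.Embedding.ext hg⟩
  intro j
  induction j with
  | zero => exact fun _ _ _ => ⟨1, fun i => i.elim0⟩
  | succ j ih =>
    intro hj x y
    obtain ⟨g, hg⟩ := ih (by omega) (Fin.castSuccEmb.trans x) (Fin.castSuccEmb.trans y)
    set a := g • x (Fin.last j) with ha
    set b := y (Fin.last j) with hb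
    set t : Finset α := Finset.univ.map (Fin.castSuccEmb.trans y) with ht
    have htc : t.card = j := by simp [ht]
    have hat : a ∉ t := by
      intro hmem
      obtain ⟨i, -, hi⟩ := Finset.mem_map.mp hmem
      have := (hg i).trans hi
      rw [ha, smul_left_cancel_iff] at this
      exact Fin.castSucc_ne_last i (x.injective this)
    have hbt : b ∉ t := by
      intro hmem
      obtain ⟨i, -, hi⟩ := Finset.mem_map.mp hmem
      exact Fin.castSucc_ne_last i (y.injective hi)
    have htsub : t ⊆ Finset.univ \ {a, b} := by
      intro z hz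
      simp only [Finset.mem_sdiff, Finset.mem_univ, true_and, Finset.mem_insert,
        Finset.mem_singleton, not_or]
      exact ⟨fun e => hat (e ▸ hz), fun e => hbt (e ▸ hz)⟩
    obtain ⟨s, hts, hss, hsc⟩ := Finset.exists_subsuperset_card_eq htsub
      (show t.card ≤ k - 1 by omega) (by
        rw [Finset.card_sdiff, Finset.inter_univ, Finset.card_univ]
        have : ({a, b} : Finset α).card ≤ 2 := Finset.card_le_two
        omega)
    have has : a ∉ s := fun hz => by simpa using hss hz
    have hbs : b ∉ s := fun hz => by simpa using hss hz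
    obtain ⟨g', hfix, hab⟩ := h s (by omega) a b has hbs
    refine ⟨g' * g, Fin.lastCases ?_ fun i => ?_⟩
    · rw [mul_smul]; exact hab
    · rw [mul_smul, show g • x i.castSucc = y i.castSucc from hg i]
      exact hfix _ (hts (Finset.mem_map.mpr ⟨i, Finset.mem_univ _, rfl⟩))

/-- Orbit-stabiliser for the pointwise stabiliser of a set. -/
theorem natCard_orbit_mul_fixingSubgroup_insert (s : Set α) (x : α) :
    Nat.card (orbit (fixingSubgroup G s) x) * Nat.card (fixingSubgroup G (insert x s)) =
      Nat.card (fixingSubgroup G s) := by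
  have hle : fixingSubgroup G (insert x s) ≤ fixingSubgroup G s := fun g hg =>
    mem_fixingSubgroup_iff G |>.mpr fun y hy =>
      (mem_fixingSubgroup_iff G).mp hg y (Set.mem_insert_of_mem x hy)
  have hst : stabilizer (fixingSubgroup G s) x =
      (fixingSubgroup G (insert x s)).subgroupOf (fixingSubgroup G s) := by
    ext ⟨g, hg⟩
    rw [Subgroup.mem_subgroupOf, mem_stabilizer_iff, mem_fixingSubgroup_iff]
    refine ⟨fun h y hy => ?_, fun h => h x (Set.mem_insert x s)⟩
    rcases Set.mem_insert_iff.mp hy with rfl | hy
    · exact h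
    · exact (mem_fixingSubgroup_iff G).mp hg y hy
  rw [Nat.card_coe_set_eq, ← index_stabilizer, hst,
    ← Nat.card_congr (Subgroup.subgroupOfEquivOfLe hle).toEquiv, Subgroup.index_mul_card]

theorem orbit_fixingSubgroup_subset_compl {s : Set α} {x : α} (hx : x ∉ s) :
    orbit (fixingSubgroup G s) x ⊆ sᶜ := by
  rintro _ ⟨⟨g, hg⟩, rfl⟩ hy
  have := (mem_fixingSubgroup_iff G).mp hg _ hy
  change g • g • x = g • x at this
  have e : g • x = x := smul_left_cancel g this
  change g • x ∈ s at hy
  exact hx (e ▸ hy)

end Cfsg.Agent.PermGroups
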