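import Cfsg.Agent.PermGroups.PolyAffine
import Cfsg.Agent.PermGroups.Transitivity
import Cfsg.Prelude.Def_Perm

/-!
Transitive groups of prime degree: coordinates in `ZMod p`, and Burnside's dichotomy.
-/

namespace Cfsg.Agent.PermGroups

open MulAction Equiv

variable {α : Type*} [Fintype α] [DecidableEq α] {p : ℕ} [hp : Fact p.Prime]

set_option linter.unusedSectionVars false

/-- An element of order `p` in a transitive group of degree `p`. -/
theorem exists_orderOf_eq_degree (hα : Fintype.card α = p) (G : Subgroup (Perm α))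
    [IsPretransitive G α] : ∃ τ ∈ G, orderOf τ = p := by
  obtain ⟨a⟩ : Nonempty α := Fintype.card_pos_iff.mp (hα ▸ hp.out.pos)
  have : p ∣ Nat.card G := by
    rw [← (stabilizer G a).index_mul_card, index_stabilizer_of_transitive, Nat.card_eq_fintype_card,
      hα]
    exact dvd_mul_right _ _
  obtain ⟨τ, hτ⟩ := exists_prime_orderOf_dvd_card' (G := G) p this
  exact ⟨τ, τ.2, by rw [Subgroup.orderOf_coe, hτ]⟩

/-- Coordinates in which a given element of order `p` becomes the unit translation. -/
theorem exists_coordinates (hα : Fintype.card α = p) {τ : Perm α} (hτ : orderOf τ = p) (a : α) :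
    ∃ e : α ≃ ZMod p, e a = 0 ∧ ∀ (n : ℕ) x, e ((τ ^ n) x) = e x + n := by
  have hcyc : τ.IsCycle := Perm.isCycle_of_prime_order'' (hα ▸ hp.out) (hτ.trans hα.symm)
  have hsupp : τ.support = Finset.univ :=
    Finset.eq_univ_of_card _ (by rw [← hcyc.orderOf, hτ, hα])
  let φ : ZMod p → α := fun i => (τ ^ i.val) a
  have hsurj : Function.Surjective φ := by
    intro y
    have hay : τ.SameCycle a y := hcyc.sameCycle
      (Perm.mem_support.mp (hsupp ▸ Finset.mem_univ a))
      (Perm.mem_support.mp (hsupp ▸ Finset.mem_univ y))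
    obtain ⟨n, hn⟩ := hay.exists_nat_pow_eq
    refine ⟨(n : ZMod p), ?_⟩
    change (τ ^ ((n : ZMod p)).val) a = y
    rw [ZMod.val_natCast, ← hn]
    conv_rhs => rw [← pow_mod_orderOf, hτ]
  have hbij : Function.Bijective φ := by
    refine ⟨?_, hsurj⟩
    exact ((Fintype.bijective_iff_surjective_and_card φ).mpr
      ⟨hsurj, by rw [ZMod.card, hα]⟩).1
  refine ⟨(Equiv.ofBijective φ hbij).symm, ?_, fun n x => ?_⟩
  · rw [Equiv.symm_apply_eq]
    change a = (τ ^ (0 : ZMod p).val) a
    simp
  · obtain ⟨i, rfl⟩ := hsurj x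
    rw [Equiv.symm_apply_eq, show (Equiv.ofBijective φ hbij).symm (φ i) = i from
      (Equiv.ofBijective φ hbij).symm_apply_apply i]
    change (τ ^ n * τ ^ i.val) a = (τ ^ (i + (n : ZMod p)).val) a
    rw [← pow_add, ZMod.val_add, ZMod.val_natCast, Nat.add_mod_mod]
    conv_lhs => rw [← pow_mod_orderOf, hτ, Nat.add_comm]

/-- **Burnside**: a transitive group of prime degree is affine or doubly transitive. -/
theorem prime_degree_affine_or_two_transitive (hα : Fintype.card α = p) (G : Subgroup (Perm α))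
    [IsPretransitive G α] {τ : Perm α} (hτG : τ ∈ G) (hτ : orderOf τ = p)
    (e : α ≃ ZMod p) (he : ∀ (n : ℕ) x, e ((τ ^ n) x) = e x + n) :
    IsMultiplyPretransitive G α 2 ∨ ∀ g ∈ G, ∃ a b : ZMod p, ∀ x, e (g x) = a * e x + b := by
  classical
  have _ := hτ
  rcases hp.out.eq_two_or_odd with hp2 | hp2
  · right
    intro g _
    subst hp2
    refine ⟨e (g (e.symm 1)) - e (g (e.symm 0)), e (g (e.symm 0)), fun x => ?_⟩
    have h01 : ∀ z : ZMod 2, z = 0 ∨ z = 1 := fun z => by
      fin_cases z
      · left; rfl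
      · right; rfl
    rcases h01 (e x) with h | h <;> rw [h, show x = e.symm (e x) from (e.symm_apply_apply x).symm, h]
      <;> simp
  set a₀ := e.symm 0 with ha₀
  set a₁ := e.symm 1 with ha₁
  set U : Finset (ZMod p) := Finset.univ.filter
    (fun u => ∃ g ∈ G, g a₀ = a₀ ∧ g a₁ = e.symm u) with hU
  have htr : ∀ c : ZMod p, ∃ t ∈ G, ∀ x, e (t x) = e x + c := fun c =>
    ⟨τ ^ c.val, pow_mem hτG _, fun x => by rw [he, ZMod.natCast_zmod_val]⟩
  have hmem : ∀ g ∈ G, ∀ x, ∀ u ∈ U,
      e (g (e.symm (x + u))) - e (g (e.symm x)) ∈ U := by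
    intro g hg x u hu
    simp only [hU, Finset.mem_filter, Finset.mem_univ, true_and] at hu ⊢
    obtain ⟨h, hh, hh0, hh1⟩ := hu
    obtain ⟨t, ht, htx⟩ := htr x
    obtain ⟨t', ht', htx'⟩ := htr (-(e (g (e.symm x))))
    have h1 : ∀ z, t (e.symm z) = e.symm (z + x) := fun z => by
      rw [eq_symm_apply, htx, apply_symm_apply]
    refine ⟨t' * g * t * h, mul_mem (mul_mem (mul_mem ht' hg) ht) hh, ?_, ?_⟩
    · simp only [Perm.coe_mul, Function.comp_apply, hh0]
      rw [ha₀, h1, zero_add, eq_symm_apply, htx']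
      ring
    · simp only [Perm.coe_mul, Function.comp_apply, hh1]
      rw [h1, eq_symm_apply, htx', add_comm u x]
      ring
  have h1U : (1 : ZMod p) ∈ U := by
    simp only [hU, Finset.mem_filter, Finset.mem_univ, true_and]
    exact ⟨1, one_mem G, rfl, rfl⟩
  have h0U : (0 : ZMod p) ∉ U := by
    simp only [hU, Finset.mem_filter, Finset.mem_univ, true_and, not_exists, not_and]
    intro g _ hg0 hg1
    exact one_ne_zero (α := ZMod p) (e.symm.injective (g.injective (hg1.trans hg0.symm)))
  by_cases hall : ∀ v, v ≠ 0 → v ∈ U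
  · left
    refine isMultiplyPretransitive_of_fixator (by
      rw [hα]; have := hp.out.two_le; omega) fun s hs a b ha hb => ?_
    obtain ⟨c, rfl⟩ : ∃ c, s = {c} := Finset.card_eq_one.mp (by omega)
    rw [Finset.mem_singleton] at ha hb
    obtain ⟨t, ht, htx⟩ := htr (e c)
    have hva : ∀ v, v ≠ c → ∃ g ∈ G, g a₀ = a₀ ∧ t (g a₁) = v := fun v hv => by
      have := hall (e v - e c) (sub_ne_zero.mpr (e.injective.ne hv))
      simp only [hU, Finset.mem_filter, Finset.mem_univ, true_and] at this
      obtain ⟨g, hg, hg0, hg1⟩ := this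
      refine ⟨g, hg, hg0, e.injective ?_⟩
      rw [htx, hg1, apply_symm_apply, sub_add_cancel]
    have ht0 : t a₀ = c := e.injective (by rw [htx, ha₀, apply_symm_apply, zero_add])
    obtain ⟨g, hg, hg0, hga⟩ := hva a ha
    obtain ⟨g', hg', hg0', hgb⟩ := hva b hb
    refine ⟨⟨(t * g') * (t * g)⁻¹,
      mul_mem (mul_mem ht hg') (inv_mem (mul_mem ht hg))⟩, fun x hx => ?_, ?_⟩
    · rw [Finset.mem_singleton] at hx
      subst hx
      change (t * g') ((t * g)⁻¹ x) = x
      rw [show (t * g)⁻¹ x = a₀ from Perm.inv_eq_iff_eq.mpr (by simp [hg0, ht0])]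
      simp [hg0', ht0]
    · change (t * g') ((t * g)⁻¹ a) = b
      rw [show (t * g)⁻¹ a = a₁ from Perm.inv_eq_iff_eq.mpr (by simp [hga])]
      simp [hgb]
  · right
    push Not at hall
    intro g hg
    obtain ⟨a, b, hab⟩ := affine_of_difference_preserving (fun x => e (g (e.symm x)))
      (e.injective.comp (g.injective.comp e.symm.injective)) U ⟨1, h1U⟩ h0U hall (hmem g hg)
    exact ⟨a, b, fun x => by simpa using hab (e x)⟩

/-- The affine group of a commutative ring is soluble. -/
theorem affineGroup_isSolvable (R : Type*) [CommRing R] : Group.IsSolvable (Cfsg.affineGroup R) := by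
  classical
  let m : Cfsg.affineGroup R → Rˣ := fun σ => σ.2.choose
  have hm : ∀ σ : Cfsg.affineGroup R, ∀ x, (σ : Perm R) x = (m σ : R) * x + (σ : Perm R) 0 := by
    intro σ x
    obtain ⟨b, hb⟩ := σ.2.choose_spec
    rw [hb x, hb 0, mul_zero, zero_add]
  have hu : ∀ (σ : Cfsg.affineGroup R) (a : Rˣ),
      (∀ x, (σ : Perm R) x = (a : R) * x + (σ : Perm R) 0) → m σ = a := by
    intro σ a ha
    have h1 := hm σ 1
    rw [ha 1, mul_one, mul_one] at h1
    exact Units.ext (add_right_cancel h1).symm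
  let φ : Cfsg.affineGroup R →* Rˣ := MonoidHom.mk' m (fun σ τ => by
    refine hu _ _ fun x => ?_
    simp only [Subgroup.coe_mul, Perm.coe_mul, Function.comp_apply, Units.val_mul]
    rw [hm σ, hm τ x, hm σ ((τ : Perm R) 0)]
    ring)
  have hker : ∀ σ ∈ φ.ker, ∀ x, (σ : Perm R) x = x + (σ : Perm R) 0 := fun σ hσ x => by
    rw [hm σ x, show m σ = 1 from MonoidHom.mem_ker.mp hσ, Units.val_one, one_mul]
  have hcomm : ∀ a b : φ.ker, a * b = b * a := fun a b => by
    refine Subtype.ext (Subtype.ext (Perm.ext fun x => ?_))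
    simp only [Subgroup.coe_mul, Perm.coe_mul, Function.comp_apply]
    rw [hker a a.2, hker b b.2 x, hker b b.2 ((a : Cfsg.affineGroup R).1 x), hker a a.2 x]
    ring
  have hsol : Group.IsSolvable φ.ker := Group.isSolvable_of_comm hcomm
  exact Group.isSolvable_of_ker_le_range φ.ker.subtype φ (by simp)

/-- A group all of whose elements are affine in some coordinates is soluble. -/
theorem isSolvable_of_affine_coordinates (G : Subgroup (Perm α)) (e : α ≃ ZMod p)
    (h : ∀ g ∈ G, ∃ a b : ZMod p, ∀ x, e (g x) = a * e x + b) : Group.IsSolvable G := by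
  have hle : G.map e.permCongrHom.toMonoidHom ≤ Cfsg.affineGroup (ZMod p) := by
    rintro _ ⟨g, hg, rfl⟩
    obtain ⟨a, b, hab⟩ := h g hg
    have ha : a ≠ 0 := fun ha => by
      have h1 := hab (e.symm 0)
      have h2 := hab (e.symm 1)
      rw [ha, zero_mul, zero_add] at h1 h2
      exact one_ne_zero (α := ZMod p)
        (e.symm.injective (g.injective (e.injective (h2.trans h1.symm))))
    refine ⟨Units.mk0 a ha, b, fun x => ?_⟩
    simpa [Equiv.permCongrHom, Equiv.permCongr_apply] using hab (e.symm x)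
  have := affineGroup_isSolvable (ZMod p)
  have : Group.IsSolvable (G.map e.permCongrHom.toMonoidHom) :=
    Group.isSolvable_of_isSolvable_injective (f := Subgroup.inclusion hle) (Subgroup.inclusion_injective hle)
  exact Group.isSolvable_of_isSolvable_injective
    (f := (G.equivMapOfInjective e.permCongrHom.toMonoidHom e.permCongrHom.injective).toMonoidHom)
    (G.equivMapOfInjective e.permCongrHom.toMonoidHom e.permCongrHom.injective).injective

/-- **Burnside's prime degree theorem.** -/
theorem prime_degree_solvable_or_two_transitive (hα : Fintype.card α = p) (G : Subgroup (Perm α))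
    [IsPretransitive G α] : Group.IsSolvable G ∨ IsMultiplyPretransitive G α 2 := by
  obtain ⟨τ, hτG, hτ⟩ := exists_orderOf_eq_degree hα G
  obtain ⟨a⟩ : Nonempty α := Fintype.card_pos_iff.mp (hα ▸ hp.out.pos)
  obtain ⟨e, -, he⟩ := exists_coordinates hα hτ a
  exact (prime_degree_affine_or_two_transitive hα G hτG hτ e he).symm.imp_left
    (isSolvable_of_affine_coordinates G e)

end Cfsg.Agent.PermGroups
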