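import Mathlib
import Cfsg.Prelude.Def_Solvable
import Cfsg.Agent.Chars.Gen
import Cfsg.Agent.Chars.Eigen
import Cfsg.Agent.Chars2.TI

/-!
Frobenius' theorem: the Frobenius kernel is a normal complement.
-/

set_option autoImplicit false

namespace Cfsg.Agent.PermGroups

open scoped Pointwise

universe u

variable {G : Type u} [Group G]

theorem mem_conj_smul {H : Subgroup G} {g x : G} :
    x ∈ MulAut.conj g • H ↔ g⁻¹ * x * g ∈ H := by
  rw [Subgroup.mem_pointwise_smul_iff_inv_smul_mem, ← map_inv]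
  simp [MulAut.smul_def]

variable {H : Subgroup G}

theorem Frobenius.eq_one (hH : Cfsg.IsFrobeniusComplement H) {g x : G} (hg : g ∉ H) (hx : x ∈ H)
    (hgx : g⁻¹ * x * g ∈ H) : x = 1 := by
  have h : x ∈ H ⊓ MulAut.conj g • H := ⟨hx, mem_conj_smul.2 hgx⟩
  rwa [hH.2.2 g hg, Subgroup.mem_bot] at h

/-- Normalising a nontrivial subgroup of a Frobenius complement means lying in it. -/
theorem Frobenius.mem_of_conj (hH : Cfsg.IsFrobeniusComplement H) {g x : G} (hx : x ∈ H)
    (hx1 : x ≠ 1) (hgx : g * x * g⁻¹ ∈ H) : g ∈ H := by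
  by_contra hg
  exact hx1 (Frobenius.eq_one hH (fun h => hg (inv_inv g ▸ H.inv_mem h)) hx (by simpa using hgx))

theorem mem_frobeniusKernel {x : G} :
    x ∈ Cfsg.frobeniusKernel H ↔ x = 1 ∨ ∀ g : G, g⁻¹ * x * g ∉ H :=
  ⟨fun h => h.imp_right fun h' g hg => h' g (mem_conj_smul.2 hg),
    fun h => h.imp_right fun h' g hg => h' g (mem_conj_smul.1 hg)⟩

/-- The kernel of a Frobenius complement has as many elements as the index. -/
theorem Frobenius.natCard_kernel [Finite G] (hH : Cfsg.IsFrobeniusComplement H) :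
    Nat.card (Cfsg.frobeniusKernel H) = H.index := by
  classical
  haveI := Fintype.ofFinite G
  let f : (G ⧸ H) × {h : H // h ≠ 1} → ↥(Cfsg.frobeniusKernel H)ᶜ := fun p =>
    ⟨p.1.out * ((p.2 : H) : G) * p.1.out⁻¹, fun hmem => by
      rcases mem_frobeniusKernel.1 hmem with h | h
      · exact p.2.2 (Subtype.ext (conj_eq_one_iff.1 h))
      · exact h p.1.out (by group; exact (p.2 : H).2)⟩
  have hbij : Function.Bijective f := by
    constructor
    · rintro ⟨q, ⟨⟨h, hh⟩, h1⟩⟩ ⟨q', ⟨⟨h', hh'⟩, h1'⟩⟩ e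
      have e' : q.out * h * q.out⁻¹ = q'.out * h' * q'.out⁻¹ := congrArg Subtype.val e
      have hm : q'.out⁻¹ * q.out ∈ H := Frobenius.mem_of_conj hH hh (fun e1 => h1 (Subtype.ext e1)) (by
        rw [show q'.out⁻¹ * q.out * h * (q'.out⁻¹ * q.out)⁻¹ =
          q'.out⁻¹ * (q.out * h * q.out⁻¹) * q'.out by group, e']
        group; exact hh')
      have hq : q = q' := by
        rw [← q.out_eq, ← q'.out_eq]
        exact (QuotientGroup.eq.2 hm).symm
      subst hq
      have : h = h' := by simpa using e'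
      subst this
      rfl
    · rintro ⟨x, hx⟩
      have hx' : x ∉ Cfsg.frobeniusKernel H := hx
      rw [mem_frobeniusKernel, not_or] at hx'
      obtain ⟨hx1, hx2⟩ := hx'
      push Not at hx2
      obtain ⟨g, hg⟩ := hx2
      obtain ⟨k, hk⟩ := QuotientGroup.mk_out_eq_mul H g
      refine ⟨⟨(g : G ⧸ H), ⟨⟨(k : G)⁻¹ * (g⁻¹ * x * g) * k, H.mul_mem (H.mul_mem (H.inv_mem k.2) hg) k.2⟩, ?_⟩⟩, ?_⟩
      · intro e
        have e1 : (k : G)⁻¹ * (g⁻¹ * x * g) * k = 1 := congrArg Subtype.val e
        apply hx1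
        calc x = g * k * ((k : G)⁻¹ * (g⁻¹ * x * g) * k) * (g * k)⁻¹ := by group
          _ = 1 := by rw [e1]; group
      · apply Subtype.ext
        show (g : G ⧸ H).out * ((k : G)⁻¹ * (g⁻¹ * x * g) * k) * (g : G ⧸ H).out⁻¹ = x
        rw [hk]; group
  have h1 := Nat.card_congr (Equiv.ofBijective f hbij)
  rw [Nat.card_prod, Nat.card_coe_set_eq, Set.ncard_compl] at h1
  have h2 : Nat.card {h : H // h ≠ 1} + 1 = Nat.card H := by
    rw [← Finite.card_option, Nat.card_congr (Equiv.optionSubtypeNe (1 : H))]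
  have h3 := H.index_mul_card
  have h4 : (Cfsg.frobeniusKernel H).ncard ≤ Nat.card G := Set.ncard_le_card _
  rw [← h2, mul_add, mul_one] at h3
  rw [Nat.card_coe_set_eq]
  change H.index * _ = _ at h1
  omega

/-- The index of a Frobenius complement is `1` modulo its order. -/
theorem Frobenius.card_dvd_index_sub_one [Finite G] (hH : Cfsg.IsFrobeniusComplement H) :
    Nat.card H ∣ H.index - 1 := by
  classical
  let S : Set (G ⧸ H) := {q | q ≠ ((1 : G) : G ⧸ H)}
  have hS : Nat.card S = H.index - 1 := by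
    rw [Nat.card_coe_set_eq, show S = {((1 : G) : G ⧸ H)}ᶜ from rfl, Set.ncard_compl,
      Set.ncard_singleton]
    rfl
  rw [← hS]
  have hfree : ∀ (h : H) (q : G ⧸ H), q ∈ S → h • q = q → h = 1 := by
    intro h q
    induction q using QuotientGroup.induction_on with
    | H g =>
      intro hq hfix
      have hg : g ∉ H := fun hg => hq (QuotientGroup.eq.2 (by simpa using hg))
      have : (((h : G) * g : G) : G ⧸ H) = (g : G ⧸ H) := hfix
      rw [QuotientGroup.eq] at this
      have h2 : g⁻¹ * ((h : G)⁻¹) * g ∈ H := by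
        have h3 : ((h : G) * g)⁻¹ * g = g⁻¹ * (h : G)⁻¹ * g := by group
        rwa [h3] at this
      exact Subtype.ext (inv_eq_one.1 (Frobenius.eq_one hH hg (H.inv_mem h.2) h2))
  have hinv : ∀ h : H, ∀ q ∈ S, h • q ∈ S := by
    intro h q hq e
    apply hq
    have e' : h • q = ((1 : G) : G ⧸ H) := e
    rw [← inv_smul_smul h q, e']
    show ((((h⁻¹ : H) : G) * 1 : G) : G ⧸ H) = _
    exact QuotientGroup.eq.2 (by simp)
  letI : MulAction H S :=
    { smul := fun h q => ⟨h • q.1, hinv h q.1 q.2⟩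
      one_smul := fun q => Subtype.ext (one_smul H q.1)
      mul_smul := fun h h' q => Subtype.ext (mul_smul h h' q.1) }
  haveI := Fintype.ofFinite (MulAction.orbitRel.Quotient H S)
  rw [Nat.card_congr (MulAction.selfEquivSigmaOrbits H S), Nat.card_sigma]
  refine Finset.dvd_sum fun ω _ => ?_
  have hst : MulAction.stabilizer H (Quotient.out ω : S) = ⊥ := by
    rw [Subgroup.eq_bot_iff_forall]
    intro h hh
    exact hfree h _ (Quotient.out ω : S).2 (congrArg Subtype.val (MulAction.mem_stabilizer_iff.1 hh))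
  have := Nat.card_congr (MulAction.orbitEquivQuotientStabilizer H (Quotient.out ω : S))
  rw [this]
  show Nat.card H ∣ (MulAction.stabilizer H (Quotient.out ω : S)).index
  rw [hst, Subgroup.index_bot]

theorem Frobenius.coprime [Finite G] (hH : Cfsg.IsFrobeniusComplement H) :
    (Nat.card H).Coprime H.index := by
  obtain ⟨c, hc⟩ := Frobenius.card_dvd_index_sub_one hH
  have h0 : H.index ≠ 0 := Subgroup.index_ne_zero_of_finite
  rw [show H.index = 1 + Nat.card H * c by omega, Nat.coprime_add_mul_left_right]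
  exact Nat.coprime_one_right _

open Cfsg.Agent.Chars in
/-- Frobenius' theorem. -/
theorem Frobenius.exists_kernel [Finite G] (hH : Cfsg.IsFrobeniusComplement H) :
    ∃ N : Subgroup G, (N : Set G) = Cfsg.frobeniusKernel H ∧ N.Normal ∧
      Subgroup.IsComplement' N H := by
  classical
  haveI := Fintype.ofFinite G
  let S : Set G := {x | x ∈ H ∧ x ≠ 1}
  have hTI : ∀ g : G, g ∉ H → ∀ s ∈ S, g * s * g⁻¹ ∉ S := fun g hg s hs hgs =>
    hg (Frobenius.mem_of_conj hH hs.1 hs.2 hgs.1)
  -- the extension of an irreducible character of `H`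
  have hext : ∀ θ : IrrCharacter H, ∃ χ : G → ℂ, IsCharacter G χ ∧
      (∀ h : H, χ h = (θ : H → ℂ) h) ∧
      ∀ x ∈ Cfsg.frobeniusKernel H, χ x = χ 1 := by
    intro θ
    obtain ⟨d, hd, hd1⟩ := exists_irr_apply_one_eq θ.2
    set φ : H → ℂ := (θ : H → ℂ) - (d : ℂ) • (fun _ => 1) with hφdef
    have hone : IsIrrCharacter H (fun _ => (1 : ℂ)) := isIrrCharacter_one
    have hφ1 : φ 1 = 0 := by simp [hφdef, hd1]
    have hφcl : IsClassFunction H φ := by
      intro g h
      simp only [hφdef, Pi.sub_apply, Pi.smul_apply]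
      rw [isClassFunction_of_isCharacter (isCharacter_of_isIrr θ.2) g h]
    have hφS : ∀ x : H, (x : G) ∉ S → φ x = 0 := by
      intro x hx
      have : x = 1 := by
        by_contra h1
        exact hx ⟨x.2, fun e => h1 (Subtype.ext e)⟩
      rw [this, hφ1]
    set χ : G → ℂ := indFun H φ + (d : ℂ) • (fun _ => 1) with hχdef
    have hχH : ∀ h : H, χ h = (θ : H → ℂ) h := by
      intro h
      by_cases h1 : h = 1
      · subst h1
        simp [hχdef, indFun_apply_one, hφ1, hd1]
      · have hS : (h : G) ∈ S := ⟨h.2, fun e => h1 (Subtype.ext e)⟩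
        simp only [hχdef, Pi.add_apply, Pi.smul_apply]
        rw [Cfsg.Agent.Chars2.indFun_eq_of_ti H φ S hφS hTI hφcl h hS]
        simp [hφdef]
    have hgen : IsGeneralizedCharacter G χ :=
      isGen_add (isGen_indFun H (isGen_sub (isGen_of_isCharacter (isCharacter_of_isIrr θ.2))
        (isGen_natCast_smul isGen_one d))) (isGen_natCast_smul isGen_one d)
    have hθθ : classInner (θ : H → ℂ) (θ : H → ℂ) = 1 := classInner_self_irr θ.2
    have hrec : classInner (indFun H φ) (fun _ : G => (1 : ℂ)) = classInner φ (fun _ : H => 1) := by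
      rw [classInner_indFun H φ (isClassFunction_of_isCharacter isCharacter_one)]
    have hiso : classInner (indFun H φ) (indFun H φ) = classInner φ φ :=
      Cfsg.Agent.Chars2.indFun_inner_ti H φ S hφS hTI φ hφcl hφS
    have hGone : classInner (fun _ : G => (1 : ℂ)) (fun _ => 1) = 1 :=
      classInner_self_irr isIrrCharacter_one
    have hHone : classInner (fun _ : H => (1 : ℂ)) (fun _ => 1) = 1 := classInner_self_irr hone
    have hnorm : classInner χ χ = 1 := by
      rw [hχdef, classInner_add_left, classInner_add_right, classInner_add_right,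
        classInner_smul_left, classInner_smul_left,
        ← classInner_conj_symm ((d : ℂ) • fun _ : G => (1 : ℂ)) (indFun H φ), classInner_smul_left,
        ← classInner_conj_symm (indFun H φ) (fun _ : G => (1 : ℂ)),
        ← classInner_conj_symm ((d : ℂ) • fun _ : G => (1 : ℂ)) (fun _ : G => (1 : ℂ)),
        classInner_smul_left, hiso, hrec, hGone]
      have e1 : classInner φ (fun _ : H => (1 : ℂ)) =
          classInner (θ : H → ℂ) (fun _ => 1) - d := by
        rw [hφdef, classInner_sub_left, classInner_smul_left, hHone, mul_one]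
      have e2 : classInner φ φ = 1 - (d : ℂ) * classInner (fun _ : H => (1 : ℂ)) (θ : H → ℂ)
          - (d : ℂ) * classInner (θ : H → ℂ) (fun _ => 1) + (d : ℂ) * d := by
        conv_lhs => rw [hφdef]
        rw [classInner_sub_left, classInner_sub_right, classInner_sub_right, classInner_smul_left,
          classInner_smul_left, hθθ,
          ← classInner_conj_symm ((d : ℂ) • fun _ : H => (1 : ℂ)) (θ : H → ℂ),
          classInner_smul_left,
          ← classInner_conj_symm ((d : ℂ) • fun _ : H => (1 : ℂ)) (fun _ : H => (1 : ℂ)),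
          classInner_smul_left, hHone]
        simp only [map_mul, map_natCast, classInner_conj_symm, map_one]
        ring
      rw [e1, e2]
      simp only [map_mul, map_natCast, map_sub, map_one, classInner_conj_symm, Complex.conj_conj]
      ring
    have hχ1 : χ 1 = d := by simp [hχdef, indFun_apply_one, hφ1]
    have hchar : IsCharacter G χ := by
      rcases isIrrCharacter_of_gen_norm_one hgen hnorm with h | h
      · exact isCharacter_of_isIrr h
      · obtain ⟨m, hm, hm1⟩ := exists_irr_apply_one_eq h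
        rw [Pi.neg_apply, hχ1] at hm1
        have : ((d + m : ℕ) : ℂ) = 0 := by push_cast; rw [← hm1]; ring
        rw [Nat.cast_eq_zero] at this
        omega
    refine ⟨χ, hchar, hχH, fun x hx => ?_⟩
    rcases mem_frobeniusKernel.1 hx with rfl | hx'
    · rfl
    · rw [hχ1]
      simp only [hχdef, Pi.add_apply, Pi.smul_apply]
      rw [Cfsg.Agent.Chars2.indFun_eq_zero_of_support H φ S hφS x fun y hy => hx' y hy.1]
      simp
  choose χ hχc hχH hχK using hext
  let N : Subgroup G := ⨅ θ, charKer (hχc θ)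
  have hNn : N.Normal := Subgroup.normal_iInf_normal fun θ => charKer_normal (hχc θ)
  have hNmem : ∀ x, x ∈ N ↔ ∀ θ, χ θ x = χ θ 1 := fun x => by simp [N, Subgroup.mem_iInf]
  have hNH : ∀ h ∈ H, h ∈ N → h = 1 := by
    intro h hh hN
    by_contra h1
    have hsum := sum_apply_one_mul (G := H) (⟨h, hh⟩ : H)
    rw [if_neg fun e => h1 (congrArg Subtype.val e)] at hsum
    have hsq := sum_sq_apply_one (G := H)
    have : ∀ θ : IrrCharacter H, (θ : H → ℂ) 1 * (θ : H → ℂ) ⟨h, hh⟩ = (θ : H → ℂ) 1 ^ 2 := by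
      intro θ
      rw [sq, ← hχH θ ⟨h, hh⟩, ← hχH θ 1]
      rw [show χ θ ((⟨h, hh⟩ : H) : G) = χ θ 1 from (hNmem h).1 hN θ]
      rfl
    rw [Finset.sum_congr rfl fun θ _ => this θ, hsq] at hsum
    exact Chars.card_ne_zero hsum
  have hset : (N : Set G) = Cfsg.frobeniusKernel H := by
    ext x
    refine ⟨fun hx => ?_, fun hx => (hNmem x).2 fun θ => hχK θ x hx⟩
    refine mem_frobeniusKernel.2 (or_iff_not_imp_left.2 fun hx1 g hg => hx1 ?_)
    have h2 : g⁻¹ * x * g ∈ N := by
      have := hNn.conj_mem x hx g⁻¹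
      rwa [inv_inv] at this
    have h3 := hNH _ hg h2
    calc x = g * (g⁻¹ * x * g) * g⁻¹ := by group
      _ = 1 := by rw [h3]; group
  refine ⟨N, hset, hNn, Subgroup.isComplement'_of_card_mul_and_disjoint ?_ ?_⟩
  · have : Nat.card N = H.index := by
      rw [← Frobenius.natCard_kernel hH, ← hset]
      rfl
    rw [this, H.index_mul_card]
  · rw [Subgroup.disjoint_def]
    exact fun {x} hxN hxH => hNH x hxH hxN

/-- A complement of a normal subgroup is a Frobenius complement iff it acts without fixed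
points. -/
theorem Frobenius.centralizer_kernel_eq_one (hH : Cfsg.IsFrobeniusComplement H) {N : Subgroup G}
    (hdisj : Disjoint N H) {h k : G} (hh : h ∈ H) (h1 : h ≠ 1) (hk : k ∈ N)
    (hcomm : h * k = k * h) : k = 1 := by
  have hkH : k ∈ H := Frobenius.mem_of_conj hH hh h1 (by rw [← hcomm, mul_inv_cancel_right]; exact hh)
  exact Subgroup.disjoint_def.1 hdisj hk hkH

/-- Each subgroup whose order divides that of a Frobenius complement lies in a conjugate of it. -/
theorem Frobenius.exists_le_conj [Finite G] (hH : Cfsg.IsFrobeniusComplement H) (L : Subgroup G)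
    (hL : Nat.card L ∣ Nat.card H) : ∃ x : G, L ≤ MulAut.conj x • H := by
  classical
  obtain ⟨N, hN, hNn, hc⟩ := Frobenius.exists_kernel hH
  have hNcard : Nat.card N = H.index := by rw [← Frobenius.natCard_kernel hH, ← hN]; rfl
  have hcop : (Nat.card L).Coprime (Nat.card N) := by
    rw [hNcard]; exact Nat.Coprime.of_dvd_left hL (Frobenius.coprime hH)
  have hLN : Disjoint L N := Subgroup.disjoint_of_coprime_natCard hcop
  -- the components
  have hmeet : ∀ l ∈ L, l ≠ 1 → ∃ g : G, g⁻¹ * l * g ∈ H := by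
    intro l hl hl1
    have hlN : l ∉ N := fun h => hl1 (Subgroup.disjoint_def.1 hLN hl h)
    rw [← SetLike.mem_coe, hN, mem_frobeniusKernel, not_or] at hlN
    have := hlN.2
    push Not at this
    exact this
  let C : G → Subgroup L := fun g => (MulAut.conj g • H).subgroupOf L
  have hC : ∀ g (x : L), x ∈ C g ↔ g⁻¹ * (x : G) * g ∈ H := fun g x => by
    show (x : G) ∈ MulAut.conj g • H ↔ _
    exact mem_conj_smul
  by_contra hno
  push Not at hno
  have hproper : ∀ g, C g ≠ ⊤ := fun g e => hno g fun x hx => by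
    have : (⟨x, hx⟩ : L) ∈ C g := e ▸ Subgroup.mem_top _
    exact mem_conj_smul.2 ((hC g _).1 this)
  have hfrob : ∀ g, C g ≠ ⊥ → Cfsg.IsFrobeniusComplement (C g) := by
    intro g hg
    refine ⟨hg, hproper g, fun l hl => ?_⟩
    rw [Subgroup.eq_bot_iff_forall]
    rintro x ⟨hx, hx'⟩
    by_contra hx1
    replace hx : g⁻¹ * (x : G) * g ∈ H := (hC g x).1 hx
    replace hx' : g⁻¹ * ((l⁻¹ * x * l : L) : G) * g ∈ H :=
      (hC g _).1 (mem_conj_smul.1 hx')
    push_cast at hx'
    apply hl
    rw [hC]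
    have hl' := Frobenius.mem_of_conj hH hx (fun e => hx1 (Subtype.ext (by
      calc (x : G) = g * (g⁻¹ * (x : G) * g) * g⁻¹ := by group
        _ = 1 := by rw [e]; group)))
      (g := g⁻¹ * (l : G)⁻¹ * g) (by
        rw [show g⁻¹ * (l : G)⁻¹ * g * (g⁻¹ * (x : G) * g) * (g⁻¹ * (l : G)⁻¹ * g)⁻¹ =
          g⁻¹ * ((l : G)⁻¹ * (x : G) * (l : G)) * g by group]
        simpa using hx')
    have := H.inv_mem hl'
    rwa [show (g⁻¹ * (l : G)⁻¹ * g)⁻¹ = g⁻¹ * (l : G) * g by group] at this
  -- a nontrivial component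
  by_cases hL1 : L = ⊥
  · exact hno 1 (by rw [hL1]; exact bot_le)
  obtain ⟨l, hl, hl1⟩ := L.ne_bot_iff_exists_ne_one.1 hL1 |>.elim fun x hx =>
    (⟨x, x.2, fun e => hx (Subtype.ext e)⟩ : ∃ l, l ∈ L ∧ l ≠ 1)
  obtain ⟨g₁, hg₁⟩ := hmeet l hl hl1
  have hne₁ : C g₁ ≠ ⊥ := fun e => hl1 (congrArg Subtype.val
    (Subgroup.mem_bot.1 (e ▸ (hC g₁ ⟨l, hl⟩).2 hg₁) : (⟨l, hl⟩ : L) = 1))
  have hF₁ := hfrob g₁ hne₁
  -- an element outside the conjugates of the first component
  have hk₁ : 1 < Nat.card (Cfsg.frobeniusKernel (C g₁)) := by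
    rw [Frobenius.natCard_kernel hF₁]
    exact Subgroup.one_lt_index_of_ne_top (hproper g₁)
  obtain ⟨m, hm, hm1⟩ : ∃ m ∈ Cfsg.frobeniusKernel (C g₁), m ≠ 1 := by
    rw [Nat.card_coe_set_eq] at hk₁
    exact Set.exists_ne_of_one_lt_ncard hk₁ 1
  obtain ⟨g₂, hg₂⟩ := hmeet (m : G) m.2 fun e => hm1 (Subtype.ext e)
  have hne₂ : C g₂ ≠ ⊥ := fun e => hm1 (Subgroup.mem_bot.1 (e ▸ (hC g₂ m).2 hg₂))
  have hF₂ := hfrob g₂ hne₂
  -- the conjugates of the two components are disjoint
  have hdisj : ∀ x : L, x ≠ 1 → x ∈ Cfsg.frobeniusKernel (C g₁) ∨ x ∈ Cfsg.frobeniusKernel (C g₂) := by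
    intro x hx1
    by_contra hh
    rw [not_or, mem_frobeniusKernel, mem_frobeniusKernel, not_or, not_or] at hh
    obtain ⟨⟨-, h1⟩, -, h2⟩ := hh
    push Not at h1 h2
    obtain ⟨a, ha⟩ := h1
    obtain ⟨b, hb⟩ := h2
    rw [hC] at ha hb
    rcases mem_frobeniusKernel.1 hm with hm' | hm'
    · exact hm1 hm'
    -- both components contain conjugates of `x`
    have hx' : (x : G) ≠ 1 := fun e => hx1 (Subtype.ext e)
    set u := (a : G) * g₁ with hu
    set v := (b : G) * g₂ with hv
    have e1 : u⁻¹ * x * u ∈ H := by rw [hu]; push_cast at ha; convert ha using 1; group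
    have e2 : v⁻¹ * x * v ∈ H := by rw [hv]; push_cast at hb; convert hb using 1; group
    have hw : v⁻¹ * u ∈ H := Frobenius.mem_of_conj hH e1 (fun e => hx' (by
      calc (x : G) = u * (u⁻¹ * x * u) * u⁻¹ := by group
        _ = 1 := by rw [e]; group)) (by
      rw [show v⁻¹ * u * (u⁻¹ * x * u) * (v⁻¹ * u)⁻¹ = v⁻¹ * x * v by group]; exact e2)
    refine hm' (b⁻¹ * a) ((hC g₁ _).2 ?_)
    push_cast
    have e3 : g₂⁻¹ * (m : G) * g₂ ∈ H := hg₂
    have := H.mul_mem (H.mul_mem (H.inv_mem hw) e3) hw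
    convert this using 1
    rw [hu, hv]; group
  have hsub : (Set.univ : Set L) ⊆ Cfsg.frobeniusKernel (C g₁) ∪ Cfsg.frobeniusKernel (C g₂) := by
    intro x _
    by_cases hx1 : x = 1
    · exact Or.inl (Or.inl hx1)
    · exact hdisj x hx1
  have hle := (Set.ncard_le_ncard hsub).trans (Set.ncard_union_le _ _)
  rw [Set.ncard_univ, ← Nat.card_coe_set_eq, ← Nat.card_coe_set_eq,
    Frobenius.natCard_kernel hF₁, Frobenius.natCard_kernel hF₂] at hle
  have hint : (1 : L) ∈ Cfsg.frobeniusKernel (C g₁) ∩ Cfsg.frobeniusKernel (C g₂) :=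
    ⟨Or.inl rfl, Or.inl rfl⟩
  have hlt := Set.ncard_union_add_ncard_inter (Cfsg.frobeniusKernel (C g₁)) (Cfsg.frobeniusKernel (C g₂))
  have hpos := (Set.ncard_pos).2 ⟨_, hint⟩
  have h5 := Set.ncard_le_ncard hsub
  rw [Set.ncard_univ] at h5
  rw [← Nat.card_coe_set_eq (Cfsg.frobeniusKernel (C g₁)),
    ← Nat.card_coe_set_eq (Cfsg.frobeniusKernel (C g₂)), Frobenius.natCard_kernel hF₁,
    Frobenius.natCard_kernel hF₂] at hlt
  have h6 := (C g₁).index_mul_card
  have h7 := (C g₂).index_mul_card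
  have h8 := (Subgroup.one_lt_card_iff_ne_bot _).2 hne₁
  have h9 := (Subgroup.one_lt_card_iff_ne_bot _).2 hne₂
  have h10 : (C g₁).index * 2 ≤ Nat.card L := h6 ▸ Nat.mul_le_mul_left _ h8
  have h11 : (C g₂).index * 2 ≤ Nat.card L := h7 ▸ Nat.mul_le_mul_left _ h9
  omega

end Cfsg.Agent.PermGroups
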