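import Mathlib.Algebra.BigOperators.Ring.Finset
import Mathlib.Algebra.Order.BigOperators.Ring.Finset
import Mathlib.Data.Fintype.BigOperators
import Mathlib.Data.Int.GCD
import Mathlib.RingTheory.Coprime.Basic
import Mathlib.Tactic.Linarith
import Mathlib.Tactic.Ring
import Mathlib.Tactic.IntervalCases
import Mathlib.Tactic.FinCases

/-!
Multiplicity vectors of norm `k + 1` with all mutual products `k`: three or more of them differ
only in an exceptional family.  The arithmetic this forces on the degrees.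
-/

set_option autoImplicit false

namespace Cfsg.Agent.PermGroups

variable {ι X : Type*} [Fintype ι] [Fintype X]

/-- An integer vector of norm two orthogonal to a positive vector is a difference of unit vectors. -/
theorem exists_unit_diff [DecidableEq X] (u : X → ℤ) (w : X → ℤ) (hw : ∀ χ, 0 < w χ) (h2 : ∑ χ, u χ ^ 2 = 2)
    (h0 : ∑ χ, u χ * w χ = 0) :
    ∃ p q, p ≠ q ∧ u = fun χ => (if χ = p then 1 else 0) - (if χ = q then 1 else 0) := by
  set s := Finset.univ.filter fun χ => u χ ≠ 0 with hs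
  have hone : ∀ χ ∈ s, u χ ^ 2 = 1 := by
    intro χ hχ
    have h := (Finset.mem_filter.1 hχ).2
    have hle : u χ ^ 2 ≤ 2 := h2 ▸ Finset.single_le_sum (fun i _ => sq_nonneg (u i)) (Finset.mem_univ χ)
    have h1 : -1 ≤ u χ := by nlinarith
    have h1' : u χ ≤ 1 := by nlinarith
    interval_cases hv : u χ <;> simp_all
  have hsum : ∀ f : X → ℤ, (∀ χ, u χ = 0 → f χ = 0) → ∑ χ, f χ = ∑ χ ∈ s, f χ := fun f hf =>
    (Finset.sum_subset (Finset.subset_univ s) fun χ _ hχ => hf χ (by simpa [hs] using hχ)).symm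
  have hcard : s.card = 2 := by
    rw [hsum _ (fun χ h => by rw [h]; rfl), Finset.sum_congr rfl hone] at h2
    simp at h2
    exact_mod_cast h2
  obtain ⟨p, q, hpq, hpair⟩ := Finset.card_eq_two.1 hcard
  rw [hsum _ (fun χ h => by rw [h, zero_mul]), hpair, Finset.sum_pair hpq] at h0
  have hz : ∀ χ, χ ≠ p → χ ≠ q → u χ = 0 := fun χ h1 h2 => by
    by_contra h
    have : χ ∈ s := Finset.mem_filter.2 ⟨Finset.mem_univ _, h⟩
    rw [hpair] at this
    simp [h1, h2] at this
  have hwp := hw p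
  have hwq := hw q
  rcases sq_eq_one_iff.1 (hone p (by rw [hpair]; simp)) with hp | hp <;>
    rcases sq_eq_one_iff.1 (hone q (by rw [hpair]; simp)) with hq | hq
  · rw [hp, hq] at h0; linarith
  · refine ⟨p, q, hpq, funext fun χ => ?_⟩
    by_cases h1 : χ = p
    · subst h1; simp [hp, hpq]
    by_cases h2 : χ = q
    · subst h2; simp [hq, h1]
    simp [hz χ h1 h2, h1, h2]
  · refine ⟨q, p, hpq.symm, funext fun χ => ?_⟩
    by_cases h1 : χ = p
    · subst h1; simp [hp, hpq]
    by_cases h2 : χ = q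
    · subst h2; simp [hq, h1]
    simp [hz χ h1 h2, h1, h2]
  · rw [hp, hq] at h0; linarith

/-- The exceptional family. -/
theorem exists_exceptional [DecidableEq X] [DecidableEq ι] (x : ι → X → ℕ) (w : X → ℕ) (hw : ∀ χ, 0 < w χ)
    (k : ℕ) (hxx : ∀ i j, ∑ χ, x i χ * x j χ = k + (if i = j then 1 else 0))
    (hxw : ∀ i j, ∑ χ, x i χ * w χ = ∑ χ, x j χ * w χ) (hm : 3 ≤ Fintype.card ι) :
    ∃ (θ : ι → X) (ε : ℤ) (y : X → ℕ) (c : ℕ), (ε = 1 ∨ ε = -1) ∧ Function.Injective θ ∧
      (∀ i χ, (x i χ : ℤ) = y χ + if χ = θ i then ε else 0) ∧ ∀ i, y (θ i) = c := by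
  obtain ⟨i₀⟩ : Nonempty ι := Fintype.card_pos_iff.1 (by omega)
  let X' : ι → X → ℤ := fun i χ => x i χ
  have hX : ∀ i j, ∑ χ, X' i χ * X' j χ = (k : ℤ) + if i = j then 1 else 0 := fun i j => by
    have := congrArg (Nat.cast : ℕ → ℤ) (hxx i j)
    push_cast at this
    simpa [X'] using this
  let u : ι → X → ℤ := fun i χ => X' i χ - X' i₀ χ
  have huu : ∀ i j, i ≠ i₀ → j ≠ i₀ → ∑ χ, u i χ * u j χ = if i = j then 2 else 1 := by
    intro i j hi hj
    simp only [u, sub_mul, mul_sub, Finset.sum_sub_distrib, hX]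
    rw [if_neg hi, if_neg (fun e : i₀ = j => hj e.symm), if_pos trivial]
    split_ifs <;> ring
  have hdiff : ∀ i : {i : ι // i ≠ i₀}, ∃ p q, p ≠ q ∧
      u i = fun χ => (if χ = p then 1 else 0) - (if χ = q then 1 else 0) := by
    intro i
    refine exists_unit_diff (u i) (fun χ => (w χ : ℤ)) (fun χ => by exact_mod_cast hw χ) ?_ ?_
    · simp only [sq]
      rw [huu i i i.2 i.2, if_pos rfl]
    · simp only [u, sub_mul, Finset.sum_sub_distrib, X']
      rw [sub_eq_zero]
      exact_mod_cast hxw i i₀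
  choose p q hpq hu using hdiff
  have hinner : ∀ i j : {i : ι // i ≠ i₀}, i ≠ j →
      (if p i = p j then (1 : ℤ) else 0) + (if q i = q j then 1 else 0) - (if p i = q j then 1 else 0) -
        (if q i = p j then 1 else 0) = 1 := by
    intro i j hij
    have h := huu i j i.2 j.2
    rw [if_neg (fun e => hij (Subtype.ext e)), hu i, hu j] at h
    simp only [sub_mul, mul_sub, Finset.sum_sub_distrib, ite_mul, one_mul, zero_mul,
      Finset.sum_ite_eq', Finset.mem_univ, if_true] at h
    linarith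
  have hshare : ∀ i j, i ≠ j → (p i = p j ∧ q i ≠ q j) ∨ (p i ≠ p j ∧ q i = q j) := by
    intro i j hij
    have h := hinner i j hij
    by_cases h1 : p i = p j
    · refine Or.inl ⟨h1, fun h2 => ?_⟩
      have h3 : p i ≠ q j := fun e => hpq j (h1.symm.trans e)
      have h4 : q i ≠ p j := fun e => hpq j (e.symm.trans h2)
      rw [if_pos h1, if_pos h2, if_neg h3, if_neg h4] at h
      norm_num at h
    · refine Or.inr ⟨h1, ?_⟩
      by_contra h2
      rw [if_neg h1, if_neg h2] at h
      split_ifs at h <;> norm_num at h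
  obtain ⟨i₁, i₂, h12⟩ : ∃ i₁ i₂ : {i : ι // i ≠ i₀}, i₁ ≠ i₂ := by
    refine Fintype.exists_pair_of_one_lt_card ?_
    rw [Fintype.card_subtype_compl, Fintype.card_subtype_eq]
    omega
  -- the common member and the others
  obtain ⟨e, r, t, he, ht, hrinj, hu'⟩ : ∃ (e : ℤ) (r : {i : ι // i ≠ i₀} → X) (t : X), (e = 1 ∨ e = -1) ∧
      (∀ i, r i ≠ t) ∧ Function.Injective r ∧
      ∀ i χ, u i.1 χ = e * ((if χ = r i then 1 else 0) - (if χ = t then 1 else 0)) := by
    rcases hshare i₁ i₂ h12 with ⟨hp, -⟩ | ⟨-, hq⟩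
    · have hall : ∀ j, p j = p i₁ := by
        intro j
        by_contra hne
        have hj1 : i₁ ≠ j := fun e => hne (by rw [e])
        have hj2 : i₂ ≠ j := fun e => hne (by rw [← e, hp])
        obtain ⟨-, hq1⟩ := (hshare i₁ j hj1).resolve_left fun h => hne h.1.symm
        obtain ⟨-, hq2⟩ := (hshare i₂ j hj2).resolve_left fun h => hne (h.1.symm.trans hp.symm)
        rcases hshare i₁ i₂ h12 with ⟨-, h⟩ | ⟨h, -⟩
        · exact h (hq1.trans hq2.symm)
        · exact h hp
      refine ⟨-1, q, p i₁, Or.inr rfl, fun i e => hpq i ((hall i).trans e.symm), fun i j e => ?_, fun i χ => ?_⟩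
      · by_contra hij
        rcases hshare i j hij with h | h
        · exact h.2 e
        · exact h.1 ((hall i).trans (hall j).symm)
      · rw [hu i, hall i]; ring
    · have hall : ∀ j, q j = q i₁ := by
        intro j
        by_contra hne
        have hj1 : i₁ ≠ j := fun e => hne (by rw [e])
        have hj2 : i₂ ≠ j := fun e => hne (by rw [← e, hq])
        obtain ⟨hp1, -⟩ := (hshare i₁ j hj1).resolve_right fun h => hne h.2.symm
        obtain ⟨hp2, -⟩ := (hshare i₂ j hj2).resolve_right fun h => hne (h.2.symm.trans hq.symm)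
        rcases hshare i₁ i₂ h12 with ⟨-, h⟩ | ⟨h, -⟩
        · exact h hq
        · exact h (hp1.trans hp2.symm)
      refine ⟨1, p, q i₁, Or.inl rfl, fun i e => hpq i (e.trans (hall i).symm), fun i j e => ?_, fun i χ => ?_⟩
      · by_contra hij
        rcases hshare i j hij with h | h
        · exact h.2 ((hall i).trans (hall j).symm)
        · exact h.1 e
      · rw [hu i, hall i]; ring
  let θ : ι → X := fun i => if h : i = i₀ then t else r ⟨i, h⟩
  have hθ0 : θ i₀ = t := by simp [θ]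
  have hθne : ∀ i (h : i ≠ i₀), θ i = r ⟨i, h⟩ := fun i h => by simp [θ, h]
  have hθinj : Function.Injective θ := by
    intro i j hij
    by_cases hi : i = i₀ <;> by_cases hj : j = i₀
    · rw [hi, hj]
    · rw [hi, hθ0, hθne j hj] at hij; exact absurd hij.symm (ht _)
    · rw [hj, hθ0, hθne i hi] at hij; exact absurd hij (ht _)
    · rw [hθne i hi, hθne j hj] at hij; exact congrArg Subtype.val (hrinj hij)
  let y : X → ℤ := fun χ => X' i₀ χ - if χ = t then e else 0
  have hxy : ∀ i χ, (x i χ : ℤ) = y χ + if χ = θ i then e else 0 := by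
    intro i χ
    by_cases hi : i = i₀
    · subst hi
      rw [hθ0]
      show X' _ χ = _
      simp only [y]
      ring
    · have := hu' ⟨i, hi⟩ χ
      simp only [u, X', y, hθne i hi] at this ⊢
      split_ifs at this ⊢ <;> linarith
  -- all the common parts are natural and the exceptional ones agree
  have hynn : ∀ χ, 0 ≤ y χ := by
    intro χ
    obtain ⟨i, hi⟩ : ∃ i, χ ≠ θ i := by
      by_contra hcon
      push Not at hcon
      exact h12 (Subtype.ext (hθinj ((hcon i₁).symm.trans (hcon i₂))))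
    have := hxy i χ
    rw [if_neg hi, add_zero] at this
    omega
  have hsame : ∀ i, y (θ i) = y (θ i₀) := by
    have hn : ∀ i, ∑ χ, y χ ^ 2 + 2 * e * y (θ i) = k := by
      intro i
      have h := hX i i
      rw [if_pos rfl] at h
      simp only [X', hxy] at h
      have hexp : ∀ χ, (y χ + if χ = θ i then e else 0) * (y χ + if χ = θ i then e else 0) =
          y χ ^ 2 + if χ = θ i then 2 * e * y χ + e * e else 0 := fun χ => by split_ifs <;> ring
      rw [Finset.sum_congr rfl (fun χ _ => hexp χ), Finset.sum_add_distrib,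
        Finset.sum_ite_eq', if_pos (Finset.mem_univ _)] at h
      rcases he with rfl | rfl <;> linarith
    intro i
    have h1 := hn i
    have h2 := hn i₀
    rcases he with rfl | rfl <;> linarith
  refine ⟨θ, e, fun χ => (y χ).toNat, (y (θ i₀)).toNat, he, hθinj, fun i χ => ?_, fun i => by simp only [hsame i]⟩
  rw [Int.toNat_of_nonneg (hynn χ)]
  exact hxy i χ

/-- The arithmetic. -/
theorem arith_of_family [DecidableEq X] [DecidableEq ι] (x : ι → X → ℕ) (w : X → ℕ) (hw : ∀ χ, 0 < w χ) (d n : ℕ)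
    (hxx : ∀ i j, ∑ χ, x i χ * x j χ = d + (if i = j then 1 else 0))
    (hxw : ∀ i j, ∑ χ, x i χ * w χ = ∑ χ, x j χ * w χ) (hm : 3 ≤ Fintype.card ι) (hd : 3 ≤ d)
    (hn : n = Fintype.card ι * d + 1) (P : Finset X) (one : X) (hPc : 2 * P.card = d + 1)
    (hP : ∀ χ ∈ P, ∀ i, x i χ = 1) (hone : ∀ i, x i one = 0)
    (hdeg : ∀ χ, χ ∉ P → χ ≠ one → w χ = d * ∑ i, x i χ)
    (hdvd : ∀ χ, w χ ∣ (n + 1) * n * d) :
    d + 3 = 2 * Fintype.card ι ∧ n = (Fintype.card ι - 1) * (2 * Fintype.card ι - 1) := by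
  classical
  set m := Fintype.card ι with hmdef
  obtain ⟨θ, ε, y, c, hε, hθ, hxy, hc⟩ := exists_exceptional x w hw d hxx hxw hm
  obtain ⟨i₀⟩ : Nonempty ι := Fintype.card_pos_iff.1 (by omega)
  obtain ⟨i₁, hi₁⟩ := Fintype.exists_ne_of_one_lt_card (by omega) i₀
  have hε0 : ε ≠ 0 := by rcases hε with rfl | rfl <;> decide
  have hθP : ∀ i, θ i ∉ P ∧ θ i ≠ one := by
    intro i
    obtain ⟨j, hj⟩ := Fintype.exists_ne_of_one_lt_card (show 1 < Fintype.card ι by omega) i
    have h1 := hxy i (θ i)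
    have h2 := hxy j (θ i)
    rw [if_pos rfl] at h1
    rw [if_neg (fun e => hj (hθ e).symm)] at h2
    refine ⟨fun h => hε0 ?_, fun h => hε0 ?_⟩
    · rw [hP _ h i] at h1; rw [hP _ h j] at h2; linarith
    · rw [h, hone i] at h1; rw [h, hone j] at h2; linarith
  -- only the exceptional characters are left
  have hrest : ∀ χ, χ ∉ P → (∀ i, χ ≠ θ i) → y χ = 0 := by
    intro χ hχP hχθ
    have hx : ∀ i, x i χ = y χ := fun i => by
      have := hxy i χ
      rw [if_neg (hχθ i), add_zero] at this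
      exact_mod_cast this
    by_contra hy
    by_cases h1 : χ = one
    · subst h1; exact hy ((hx i₀).symm.trans (hone i₀))
    have hwχ : w χ = d * (m * y χ) := by
      rw [hdeg χ hχP h1]; simp [hx, hmdef]
    have h2 : m ∣ (n + 1) * n := by
      have h := hdvd χ
      rw [hwχ, mul_comm ((n + 1) * n) d] at h
      exact (Dvd.intro _ rfl).trans (Nat.dvd_of_mul_dvd_mul_left (by omega) h)
    have h3 : m ∣ 2 := by
      have h4 : (n + 1) * n = m * (d * (m * d + 3)) + 2 := by rw [hn]; ring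
      rw [h4] at h2
      exact (Nat.dvd_add_right (dvd_mul_right m _)).1 h2
    have := Nat.le_of_dvd (by norm_num) h3
    omega
  -- the norm
  have hnorm : 2 * ((m : ℤ) * c ^ 2 + 2 * ε * c) = d - 1 := by
    set Θ := Finset.univ.image θ with hΘ
    have hdisj : Disjoint P Θ := Finset.disjoint_left.2 fun χ hP' hΘ' => by
      obtain ⟨i, -, rfl⟩ := Finset.mem_image.1 hΘ'
      exact (hθP i).1 hP'
    have h := congrArg (Nat.cast : ℕ → ℤ) (hxx i₀ i₀)
    push_cast at h
    rw [← Finset.sum_subset (Finset.subset_univ (P ∪ Θ)) (fun χ _ hχ => ?_), Finset.sum_union hdisj,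
      Finset.sum_image (fun i _ j _ e => hθ e)] at h
    · rw [Finset.sum_congr rfl (fun χ hχ => by rw [hP χ hχ i₀, Nat.cast_one, one_mul] :
          ∀ χ ∈ P, (x i₀ χ : ℤ) * x i₀ χ = 1),
        Finset.sum_congr rfl (fun j _ => ?_ :
          ∀ j ∈ Finset.univ, (x i₀ (θ j) : ℤ) * x i₀ (θ j) = (c : ℤ) ^ 2 + if j = i₀ then 2 * ε * c + 1 else 0)] at h
      · rw [Finset.sum_add_distrib, Finset.sum_const, Finset.sum_const, Finset.sum_ite_eq',
          if_pos (Finset.mem_univ _), if_pos rfl, Finset.card_univ, ← hmdef, nsmul_eq_mul, nsmul_eq_mul] at h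
        have hPc' : 2 * (P.card : ℤ) = d + 1 := by exact_mod_cast hPc
        linarith
      · rw [hxy, hc]
        by_cases hj : j = i₀
        · subst hj
          rw [if_pos rfl, if_pos rfl]
          rcases hε with rfl | rfl <;> ring
        · rw [if_neg (fun e => hj (hθ e)), if_neg hj]; ring
    · simp only [Finset.mem_union, not_or, hΘ, Finset.mem_image, Finset.mem_univ, true_and, not_exists] at hχ
      have h1 := hxy i₀ χ
      rw [if_neg (fun e => hχ.2 i₀ e.symm), hrest χ hχ.1 (fun i e => hχ.2 i e.symm)] at h1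
      simp at h1
      simp [h1]
  have hc0 : 1 ≤ c := by
    rcases Nat.eq_zero_or_pos c with rfl | h
    · exfalso
      have : (3 : ℤ) ≤ d := by exact_mod_cast hd
      simp at hnorm
      omega
    · exact h
  -- the degree of an exceptional character
  have hS : (w (θ i₀) : ℤ) = d * (m * c + ε) := by
    rw [hdeg _ (hθP i₀).1 (hθP i₀).2]
    push_cast
    congr 1
    rw [Finset.sum_congr rfl (fun i _ => ?_ : ∀ i ∈ Finset.univ, (x i (θ i₀) : ℤ) = c + if i = i₀ then ε else 0),
      Finset.sum_add_distrib, Finset.sum_const, Finset.sum_ite_eq', if_pos (Finset.mem_univ _),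
      Finset.card_univ, ← hmdef, nsmul_eq_mul]
    rw [hxy, hc]
    by_cases hi : i = i₀
    · subst hi; rw [if_pos rfl, if_pos rfl]
    · rw [if_neg (fun e => hi (hθ e).symm), if_neg hi]
  set S : ℤ := m * c + ε with hSdef
  have hcz : (1 : ℤ) ≤ c := by exact_mod_cast hc0
  have hmz : (3 : ℤ) ≤ m := by exact_mod_cast hm
  have hdz : (3 : ℤ) ≤ d := by exact_mod_cast hd
  have hnz : (n : ℤ) = m * d + 1 := by exact_mod_cast hn
  have hnS : (n : ℤ) = 2 * S ^ 2 + m - 1 := by
    rw [hnz, show (d : ℤ) = 2 * ((m : ℤ) * c ^ 2 + 2 * ε * c) + 1 by linarith, hSdef]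
    rcases hε with rfl | rfl <;> ring
  have hS1 : S ∣ ((m : ℤ) - 1) * m := by
    have h := Int.natCast_dvd_natCast.2 (hdvd (θ i₀))
    push_cast at h
    rw [hS, mul_comm (((n : ℤ) + 1) * n) (d : ℤ)] at h
    have h2 := Int.dvd_of_mul_dvd_mul_left (by omega) h
    rw [hnS] at h2
    have h3 : (2 * S ^ 2 + (m : ℤ) - 1 + 1) * (2 * S ^ 2 + m - 1) =
        S * (2 * S * (2 * S ^ 2 + 2 * m - 1)) + ((m : ℤ) - 1) * m := by ring
    rw [h3] at h2
    exact (Int.dvd_add_right (dvd_mul_right S _)).1 h2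
  have hcop : IsCoprime S (m : ℤ) := by
    refine ⟨ε, -ε * c, ?_⟩
    rw [hSdef]
    rcases hε with rfl | rfl <;> ring
  have hS2 : S ∣ (m : ℤ) - 1 := hcop.dvd_of_dvd_mul_right hS1
  have hle : S ≤ (m : ℤ) - 1 := Int.le_of_dvd (by linarith) hS2
  have hmc : (m : ℤ) * 1 ≤ m * c := by nlinarith
  have hcase : ε = -1 ∧ (c : ℤ) = 1 := by
    rcases hε with rfl | rfl
    · exfalso; rw [hSdef] at hle; linarith
    · refine ⟨rfl, le_antisymm ?_ hcz⟩
      by_contra h2
      have : (m : ℤ) * 2 ≤ m * c := by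
        have : (2 : ℤ) ≤ c := by omega
        nlinarith
      rw [hSdef] at hle
      linarith
  rw [hcase.1, hcase.2] at hnorm
  have hd' : (d : ℤ) + 3 = 2 * m := by linarith
  refine ⟨by exact_mod_cast hd', ?_⟩
  have : (n : ℤ) = ((m - 1 : ℕ) : ℤ) * ((2 * m - 1 : ℕ) : ℤ) := by
    rw [hnz, show (d : ℤ) = 2 * m - 3 by linarith, Nat.cast_sub (by omega), Nat.cast_sub (by omega)]
    push_cast
    ring
  exact_mod_cast this

end Cfsg.Agent.PermGroups
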