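import Cfsg.Agent.PermGroups.ZassenhausBasic
import Cfsg.Agent.PermGroups.ZassenhausFamily
import Cfsg.Agent.Chars.Induced
import Cfsg.Agent.Chars.Linear
import Cfsg.Agent.Chars.Gen
import Cfsg.Agent.Chars.Eigen
import Cfsg.Agent.OddChar.Virtual
import Mathlib.RingTheory.IntegralDomain
import Mathlib.GroupTheory.Perm.Cycle.Type

/-!
Doubly transitive groups in which only the identity fixes three points, with abelian translations
and an inverted two-point stabiliser of odd order `d`: the number of other orbits is at most two.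
-/

set_option autoImplicit false
set_option linter.style.haveILetI false
set_option linter.unusedSectionVars false

namespace Cfsg.Agent.PermGroups

open MulAction
open scoped ComplexConjugate Classical

universe u v

variable {G : Type u} {Ω : Type v} [Group G] [Fintype G] [MulAction G Ω] [Fintype Ω]

/-- Orthogonality of linear characters, as a sum. -/
theorem sum_hom_apply {H : Type*} [Group H] [Fintype H] (φ : H →* ℂˣ) :
    ∑ h : H, (φ h : ℂ) = if φ = 1 then (Nat.card H : ℂ) else 0 := by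
  split_ifs with h
  · subst h; simp [Nat.card_eq_fintype_card]
  · refine sum_hom_units_eq_zero ((Units.coeHom ℂ).comp φ) fun e => h (MonoidHom.ext fun x => Units.ext ?_)
    exact DFunLike.congr_fun e x

set_option maxHeartbeats 4000000 in
/-- Degree bound for an inverted odd two-point stabiliser and abelian translations. -/
theorem card_le_of_abelian_kernel (h2 : IsMultiplyPretransitive G Ω 2) (hthree : ThreeFix G Ω) {a b : Ω}
    (hab : a ≠ b) (hodd : Odd (Nat.card ↥(stabilizer G a ⊓ stabilizer G b)))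
    (hd3 : 3 ≤ Nat.card ↥(stabilizer G a ⊓ stabilizer G b))
    (hinv : ∀ s : G, s • a = b → s • b = a → ∀ h ∈ stabilizer G a ⊓ stabilizer G b, s * h * s⁻¹ = h⁻¹)
    {F : Subgroup G} (hFb : F ≤ stabilizer G b) (hFn : ∀ g ∈ stabilizer G b, ∀ u ∈ F, g * u * g⁻¹ ∈ F)
    (hreg : ∀ y z : Ω, y ≠ b → z ≠ b → ∃! u : F, (u : G) • y = z) (hFcard : Nat.card F + 1 = Fintype.card Ω)
    (hFc : ∀ u ∈ F, ∀ v ∈ F, u * v = v * u) :
    Fintype.card Ω - 2 ≤ 2 * Nat.card ↥(stabilizer G a ⊓ stabilizer G b) := by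
  set H := stabilizer G a ⊓ stabilizer G b with hH
  set B := stabilizer G b with hB
  set d := Nat.card H with hd
  set n := Nat.card F with hn
  have hfa : ∀ {h : G}, h ∈ H → h • a = a := fun hh => mem_stabilizer_iff.1 hh.1
  have hfb : ∀ {h : G}, h ∈ H → h • b = b := fun hh => mem_stabilizer_iff.1 hh.2
  have hFB : ∀ {u : G}, u ∈ F → u • b = b := fun hu => mem_stabilizer_iff.1 (hFb hu)
  obtain ⟨s, hsa, hsb⟩ := is_two_pretransitive_iff.1 h2 hab hab.symm
  have hHc : ∀ x ∈ H, ∀ y ∈ H, x * y = y * x := by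
    intro x hx y hy
    have h1 := hinv s hsa hsb _ (mul_mem hx hy)
    rw [show s * (x * y) * s⁻¹ = (s * x * s⁻¹) * (s * y * s⁻¹) by group, hinv s hsa hsb x hx,
      hinv s hsa hsb y hy] at h1
    simpa [mul_inv_rev] using (congrArg Inv.inv h1).symm
  have hne : ∀ {u : G}, u ∈ F → u • a ≠ b := fun {u} hu e =>
    hab (smul_left_cancel u (e.trans (hFB hu).symm))
  have hFfix : ∀ {u : G}, u ∈ F → ∀ {y : Ω}, y ≠ b → u • y = y → u = 1 := fun {u} hu {y} hy e =>
    congrArg Subtype.val ((hreg y y hy hy).unique (y₁ := ⟨u, hu⟩) (y₂ := 1) e (one_smul G y))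
  have hsemi : ∀ h ∈ H, h ≠ 1 → ∀ u ∈ F, h * u * h⁻¹ = u → u = 1 := by
    intro h hh h1 u hu e
    by_contra hu1
    refine h1 (hthree h a b (u • a) hab (hne hu).symm (fun e' => hu1 (hFfix hu hab e'.symm)) (hfa hh) (hfb hh) ?_)
    conv_rhs => rw [← e]
    rw [mul_smul, mul_smul, inv_smul_eq_iff.2 (hfa hh).symm]
  -- the coordinates of the point stabiliser
  let mk : F × H → G := fun p => (p.1 : G) * (p.2 : G)
  have mkinj : Function.Injective mk := by
    rintro ⟨v, h⟩ ⟨v', h'⟩ e
    have e1 : (v : G) • a = (v' : G) • a := by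
      have := congrArg (fun g : G => g • a) e
      simpa only [mk, mul_smul, hfa h.2, hfa h'.2] using this
    obtain rfl : v = v' := (hreg a ((v' : G) • a) hab (hne v'.2)).unique e1 rfl
    exact Prod.ext rfl (Subtype.ext (mul_left_cancel e))
  have mksurj : ∀ x : G, x • b = b → ∃ p, mk p = x := by
    intro x hx
    obtain ⟨v, hv, -⟩ := hreg a (x • a) hab (fun e => hab (smul_left_cancel x (e.trans hx.symm)))
    refine ⟨⟨v, ⟨(v : G)⁻¹ * x, mem_stabilizer_iff.2 ?_, mem_stabilizer_iff.2 ?_⟩⟩, mul_inv_cancel_left _ _⟩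
    · rw [mul_smul, ← hv, inv_smul_smul]
    · rw [mul_smul, hx, inv_smul_eq_iff, hFB v.2]
  have mkb : ∀ p, mk p • b = b := fun p => by rw [mul_smul, hfb p.2.2, hFB p.1.2]
  have hnd : Nat.card B = n * d := by
    rw [← Nat.card_prod]
    exact (Nat.card_eq_of_bijective (fun p => (⟨mk p, mem_stabilizer_iff.2 (mkb p)⟩ : B))
      ⟨fun p q e => mkinj (congrArg Subtype.val e), fun x =>
        let ⟨p, hp⟩ := mksurj x x.2; ⟨p, Subtype.ext hp⟩⟩).symm
  haveI := h2
  haveI : IsPretransitive G Ω := isPretransitive_of_is_two_pretransitive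
  have hBidx : B.index = n + 1 := by
    rw [hB, index_stabilizer_of_transitive, Nat.card_eq_fintype_card, hFcard]
  have hGcard : Nat.card G = (n + 1) * n * d := by
    rw [← B.card_mul_index, hBidx, hnd]; ring
  have hn0 : 0 < n := Nat.card_pos
  have hnC : (n : ℂ) ≠ 0 := Nat.cast_ne_zero.2 hn0.ne'
  have hdC : (d : ℂ) ≠ 0 := Nat.cast_ne_zero.2 (by omega)
  have hFidx : F.index = (n + 1) * d := by
    have h := F.card_mul_index
    rw [hGcard] at h
    exact Nat.eq_of_mul_eq_mul_left hn0 (h.trans (by ring))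
  letI cF : CommGroup F := { (inferInstance : Group F) with mul_comm := fun u v => Subtype.ext (hFc u u.2 v v.2) }
  letI cH : CommGroup H := { (inferInstance : Group H) with mul_comm := fun u v => Subtype.ext (hHc u u.2 v v.2) }
  haveI : Finite (F →* ℂˣ) := Nat.finite_of_card_ne_zero (by
    rw [CommGroup.card_monoidHom_of_hasEnoughRootsOfUnity F ℂ]; exact hn0.ne')
  haveI : Finite (H →* ℂˣ) := Nat.finite_of_card_ne_zero (by
    rw [CommGroup.card_monoidHom_of_hasEnoughRootsOfUnity H ℂ]; exact Nat.card_pos.ne')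
  letI : Fintype (F →* ℂˣ) := Fintype.ofFinite _
  letI : Fintype (H →* ℂˣ) := Fintype.ofFinite _
  have hFdual : Fintype.card (F →* ℂˣ) = n := by
    rw [← Nat.card_eq_fintype_card, CommGroup.card_monoidHom_of_hasEnoughRootsOfUnity F ℂ]
  have hHdual : Fintype.card (H →* ℂˣ) = d := by
    rw [← Nat.card_eq_fintype_card, CommGroup.card_monoidHom_of_hasEnoughRootsOfUnity H ℂ]
  -- the conjugates of a linear character of the translations
  let cj : H → F →* F := fun h => MonoidHom.mk'
    (fun u => ⟨(h : G) * u * (h : G)⁻¹, hFn h h.2.2 u u.2⟩) fun u v => Subtype.ext (by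
      show (h : G) * (u * v : G) * (h : G)⁻¹ = (h : G) * u * (h : G)⁻¹ * ((h : G) * v * (h : G)⁻¹)
      group)
  have hcj : ∀ (h : H) (u : F), ((cj h u : F) : G) = (h : G) * u * (h : G)⁻¹ := fun _ _ => rfl
  have hcjmul : ∀ (h k : H) (u : F), cj (h * k) u = cj h (cj k u) := fun h k u => Subtype.ext (by
    rw [hcj, hcj, hcj, Subgroup.coe_mul]; group)
  have hcj1 : ∀ u : F, cj 1 u = u := fun u => Subtype.ext (by rw [hcj, Subgroup.coe_one]; group)
  let ac : (F →* ℂˣ) → H → (F →* ℂˣ) := fun α h => α.comp (cj h)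
  have hac1 : ∀ h, ac 1 h = 1 := fun h => MonoidHom.ext fun u => rfl
  have hacmul : ∀ α h k, ac (ac α h) k = ac α (h * k) := fun α h k => MonoidHom.ext fun u => by
    show α (cj h (cj k u)) = α (cj (h * k) u)
    rw [hcjmul]
  have hacone : ∀ α, ac α 1 = α := fun α => MonoidHom.ext fun u => by
    show α (cj 1 u) = α u
    rw [hcj1]
  have hcomm_surj : ∀ h : H, h ≠ 1 → ∀ u : F, ∃ w : F, w * (cj h w)⁻¹ = u := by
    intro h h1
    refine Finite.injective_iff_surjective.1 fun w w' e => ?_
    have e1 : cj h (w / w') = w / w' := by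
      rw [map_div]
      have e' : w / cj h w = w' / cj h w' := by simpa only [div_eq_mul_inv] using e
      exact ((div_eq_div_iff_div_eq_div).1 e').symm
    have := hsemi h h.2 (fun e => h1 (Subtype.ext e)) _ (w / w').2 (congrArg Subtype.val e1)
    exact div_eq_one.1 (Subtype.ext this)
  have hfree : ∀ α, α ≠ 1 → ∀ h, ac α h = α → h = 1 := by
    intro α hα h e
    by_contra h1
    refine hα (MonoidHom.ext fun u => ?_)
    obtain ⟨w, rfl⟩ := hcomm_surj h h1 u
    rw [MonoidHom.one_apply, map_mul, map_inv, show α (cj h w) = α w from DFunLike.congr_fun e w, mul_inv_cancel]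
  -- the induced characters
  let φF : (F →* ℂˣ) → F → ℂ := fun α u => (α u : ℂ)
  have hφi : ∀ α, Cfsg.IsIrrCharacter F (φF α) := fun α => Chars.isIrrCharacter_hom α
  have hφF : ∀ α β, Cfsg.classInner (φF α) (φF β) = if α = β then 1 else 0 := by
    intro α β
    rw [Chars.classInner_irr (hφi α) (hφi β)]
    exact if_congr ⟨fun e => MonoidHom.ext fun u => Units.ext (congrFun e u), fun e => e ▸ rfl⟩ rfl rfl
  let Ψ : (F →* ℂˣ) → G → ℂ := fun α => Cfsg.indFun F (φF α)
  have hΨc : ∀ α, Cfsg.IsCharacter G (Ψ α) := fun α => Chars.isCharacter_indFun F (Chars.isCharacter_hom α)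
  have hΨF : ∀ α, (fun u : F => Ψ α u) = fun u =>
      (∑ h : H, φF (ac α h) u) + if u = 1 then (n : ℂ) * d else 0 := by
    intro α
    funext u
    show Cfsg.indFun F (φF α) (u : G) = _
    by_cases hu : u = 1
    · subst hu
      rw [Subgroup.coe_one, Chars.indFun_apply_one, hFidx, if_pos rfl]
      simp only [φF, map_one, Units.val_one, Finset.sum_const, Finset.card_univ, nsmul_eq_mul, mul_one,
        ← Nat.card_eq_fintype_card, ← hd]
      push_cast
      ring
    rw [if_neg hu, add_zero, Chars.indFun_apply,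
      ← Fintype.sum_of_injective mk mkinj (fun p => φF (ac α p.2⁻¹) u) _ (fun x hx => ?_) (fun p => ?_),
      Fintype.sum_prod_type]
    dsimp only
    rw [Finset.sum_const, Finset.card_univ, nsmul_eq_mul, ← Nat.card_eq_fintype_card, ← hn,
      ← mul_assoc, inv_mul_cancel₀ hnC, one_mul]
    · exact Fintype.sum_equiv (Equiv.inv H) _ _ fun h => rfl
    · refine Chars.extendByZero_of_not_mem _ _ fun hmem => hx ?_
      refine mksurj x (by_contra fun hxb => hu ?_)
      have h1 := hFB hmem
      rw [mul_smul, mul_smul, inv_smul_eq_iff] at h1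
      exact Subtype.ext (hFfix u.2 hxb h1)
    · obtain ⟨v, h⟩ := p
      have e : (mk (v, h))⁻¹ * (u : G) * mk (v, h) = ((cj h⁻¹ u : F) : G) := by
        rw [hcj, Subgroup.coe_inv, inv_inv]
        show ((v : G) * h)⁻¹ * u * ((v : G) * h) = _
        calc ((v : G) * h)⁻¹ * u * ((v : G) * h) = (h : G)⁻¹ * ((v : G)⁻¹ * (u * v)) * h := by group
          _ = _ := by rw [hFc u u.2 v v.2]; group
      rw [e, Chars.extendByZero_coe]
      rfl
  have hδF : ∀ α, Cfsg.classInner (φF α) (fun u : F => if u = 1 then (n : ℂ) * d else 0) = d := by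
    intro α
    rw [Chars.classInner_def, Finset.sum_eq_single 1 (fun u _ hu => by simp [hu]) (by simp)]
    simp [φF, ← hn]
    field_simp
    simp [hn, Nat.card_eq_fintype_card]
  have hΨΨ : ∀ α β, Cfsg.classInner (Ψ α) (Ψ β) = (∑ h : H, if α = ac β h then (1 : ℂ) else 0) + d := by
    intro α β
    rw [Chars.classInner_indFun F _ (Chars.isClassFunction_indFun F _), hΨF β]
    show Cfsg.classInner (φF α) ((fun u => ∑ h : H, φF (ac β h) u) + fun u => if u = 1 then (n : ℂ) * d else 0) = _
    rw [Chars.classInner_add_right, hδF, show (fun u : F => ∑ h : H, φF (ac β h) u) = ∑ h : H, φF (ac β h) from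
      funext fun u => by rw [Finset.sum_apply], Chars.classInner_sum_right]
    simp only [hφF]
  have hΨeq : ∀ α, α ≠ 1 → ∀ h, Ψ (ac α h) = Ψ α := by
    intro α hα h
    have hone : ∀ β k, β ≠ 1 → (∑ h : H, if ac β k = ac β h then (1 : ℂ) else 0) = 1 := by
      intro β k hβ
      rw [Finset.sum_eq_single k (fun h' _ hne' => if_neg fun e => hne' ?_) (by simp), if_pos rfl]
      have h1 : ac β (h' * k⁻¹) = β := by
        rw [← hacmul, ← e, hacmul, mul_inv_cancel, hacone]
      exact mul_inv_eq_one.1 (hfree β hβ _ h1)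
    have hα' : ac α h ≠ 1 := fun e => hα (by rw [← hacone α, ← mul_inv_cancel h, ← hacmul, e, hac1])
    have hrev : α = ac (ac α h) h⁻¹ := by rw [hacmul, mul_inv_cancel, hacone]
    rw [← sub_eq_zero]
    refine OddChar.virt_eq_zero_of_norm_zero (OddChar.virt_sub (OddChar.virt_of_char (hΨc _))
      (OddChar.virt_of_char (hΨc _))) ?_
    rw [Chars.classInner_sub_left, Chars.classInner_sub_right, Chars.classInner_sub_right, hΨΨ, hΨΨ, hΨΨ, hΨΨ]
    have e1 := hone (ac α h) 1 hα'
    have e2 := hone α 1 hα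
    have e3 := hone α h hα
    have e4 := hone (ac α h) h⁻¹ hα'
    rw [hacone] at e1 e2
    rw [← hrev] at e4
    rw [e1, e2, e3, e4]
    ring
  have hΨone : ∀ α, α ≠ 1 → ∀ β, β ≠ 1 → Ψ α = Ψ β → ∃ h, α = ac β h := by
    intro α hα β hβ e
    by_contra hcon
    push Not at hcon
    have h1 := hΨΨ α β
    rw [← e, hΨΨ α α, Finset.sum_eq_zero (fun h _ => if_neg (hcon h)), zero_add, Finset.sum_eq_single 1
      (fun h _ hh => if_neg fun e' => hh (hfree α hα h e'.symm)) (by simp), if_pos (hacone α).symm] at h1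
    simp at h1
  -- the induced characters from non-trivial linear characters, up to conjugation
  set Snt := (Finset.univ : Finset (F →* ℂˣ)).filter (· ≠ 1) with hSnt
  set S := Snt.image Ψ with hS
  have hfib : ∀ f ∈ S, (Snt.filter fun α => Ψ α = f).card = d := by
    intro f hf
    obtain ⟨β, hβ, rfl⟩ := Finset.mem_image.1 hf
    have hβ1 : β ≠ 1 := (Finset.mem_filter.1 hβ).2
    rw [hd, Nat.card_eq_fintype_card, ← Finset.card_univ]
    refine (Finset.card_bij (fun h _ => ac β h) (fun h _ => ?_) (fun h _ k _ e => ?_) fun α hα => ?_).symm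
    · refine Finset.mem_filter.2 ⟨Finset.mem_filter.2 ⟨Finset.mem_univ _, fun e => hβ1 ?_⟩, hΨeq β hβ1 h⟩
      rw [← hacone β, ← mul_inv_cancel h, ← hacmul, e, hac1]
    · have h1 : ac β (h * k⁻¹) = β := by rw [← hacmul, e, hacmul, mul_inv_cancel, hacone]
      exact mul_inv_eq_one.1 (hfree β hβ1 _ h1)
    · obtain ⟨hα1, hα2⟩ := Finset.mem_filter.1 hα
      obtain ⟨h, hh⟩ := hΨone α (Finset.mem_filter.1 hα1).2 β hβ1 hα2
      exact ⟨h, Finset.mem_univ _, hh.symm⟩
  have hSnt_card : Snt.card + 1 = n := by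
    rw [hSnt, Finset.filter_ne', Finset.card_erase_of_mem (Finset.mem_univ _), Finset.card_univ, hFdual]
    omega
  have hmd : S.card * d + 1 = n := by
    rw [← hSnt_card, Finset.card_eq_sum_card_image Ψ Snt, ← hS, Finset.sum_congr rfl hfib, Finset.sum_const,
      smul_eq_mul]
  by_cases hm : S.card ≤ 2
  · have : S.card * d ≤ 2 * d := Nat.mul_le_mul_right d hm
    omega
  exfalso
  -- multiplicities
  have hcoef : ∀ (α : F →* ℂˣ) (χ : Cfsg.IrrCharacter G), ∃ k : ℕ, Cfsg.classInner (Ψ α) (χ : G → ℂ) = k :=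
    fun α χ => Chars.exists_classInner_eq_nat (hΨc α) (Chars.irr_isCharacter χ)
  choose k hk using hcoef
  choose w hw0 hw1 hwd using fun χ : Cfsg.IrrCharacter G => Chars.irr_degree_dvd_card χ.2
  have hS' : ∀ f : ↥S, ∃ α, α ≠ 1 ∧ Ψ α = f.1 := fun f =>
    let ⟨α, hα, e⟩ := Finset.mem_image.1 f.2; ⟨α, (Finset.mem_filter.1 hα).2, e⟩
  choose rep hrep hrepf using hS'
  let x : ↥S → Cfsg.IrrCharacter G → ℕ := fun f χ => k (rep f) χ
  have hparse : ∀ α β, ((∑ χ, k α χ * k β χ : ℕ) : ℂ) = (∑ h : H, if α = ac β h then (1 : ℂ) else 0) + d := by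
    intro α β
    rw [← hΨΨ, Chars.classInner_eq_sum (Chars.isClassFunction_of_isCharacter (hΨc α))]
    push_cast
    refine Finset.sum_congr rfl fun χ _ => ?_
    rw [hk, ← Chars.classInner_conj_symm (Ψ β) (χ : G → ℂ), hk, map_natCast]
  have hxx : ∀ i j, ∑ χ, x i χ * x j χ = d + (if i = j then 1 else 0) := by
    intro i j
    have h1 := hparse (rep i) (rep j)
    by_cases hij : i = j
    · subst hij
      rw [if_pos rfl]
      rw [Finset.sum_eq_single 1 (fun h _ hh => if_neg fun e' => hh (hfree _ (hrep i) h e'.symm)) (by simp),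
        if_pos (hacone _).symm] at h1
      have : ((∑ χ, k (rep i) χ * k (rep i) χ : ℕ) : ℂ) = ((d + 1 : ℕ) : ℂ) := by rw [h1]; push_cast; ring
      exact_mod_cast this
    · rw [if_neg hij, add_zero]
      rw [Finset.sum_eq_zero (fun h _ => if_neg fun e' => hij (Subtype.ext ?_)), zero_add] at h1
      · exact_mod_cast h1
      · rw [← hrepf i, ← hrepf j, e', hΨeq _ (hrep j)]
  have hxw : ∀ i j, ∑ χ, x i χ * w χ = ∑ χ, x j χ * w χ := by
    have h1 : ∀ α, ((∑ χ, k α χ * w χ : ℕ) : ℂ) = (F.index : ℂ) := by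
      intro α
      have h := congrFun (Chars.eq_sum_classInner (Chars.isClassFunction_of_isCharacter (hΨc α))) 1
      rw [show Ψ α 1 = (F.index : ℂ) from by
        show Cfsg.indFun F (φF α) 1 = _
        rw [Chars.indFun_apply_one]; simp [φF], Finset.sum_apply] at h
      rw [h]
      push_cast
      refine Finset.sum_congr rfl fun χ _ => ?_
      rw [Pi.smul_apply, smul_eq_mul, hk, hw1]
    intro i j
    exact_mod_cast (h1 (rep i)).trans (h1 (rep j)).symm
  -- the degrees
  have hwsum : ∀ χ, w χ = k 1 χ + d * ∑ i, x i χ := by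
    intro χ
    have hres : Cfsg.IsClassFunction F (fun u : F => (χ : G → ℂ) u) := fun u v =>
      Chars.isClassFunction_irr χ (u : G) (v : G)
    have h := congrFun (Chars.eq_sum_classInner hres) 1
    simp only [Subgroup.coe_one, hw1, Finset.sum_apply, Pi.smul_apply, smul_eq_mul] at h
    rw [← Fintype.sum_bijective (fun α : F →* ℂˣ => (⟨φF α, hφi α⟩ : Cfsg.IrrCharacter F))
      ⟨fun α β e => MonoidHom.ext fun u => Units.ext (congrFun (congrArg Subtype.val e) u), fun ⟨ψ, hψ⟩ => by
        obtain ⟨α, hα⟩ := Chars.exists_hom_of_degree_one (Chars.isCharacter_of_isIrr hψ)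
          (Chars.irr_apply_one_of_comm (fun u v => mul_comm u v) hψ)
        exact ⟨α, Subtype.ext hα.symm⟩⟩ (fun α => ((k α χ : ℕ) : ℂ)) _ (fun α => ?_)] at h
    · have h' : w χ = ∑ α, k α χ := by exact_mod_cast h
      rw [h', ← Finset.add_sum_erase _ _ (Finset.mem_univ (1 : F →* ℂˣ))]
      congr 1
      rw [← Finset.filter_ne', ← hSnt, ← Finset.sum_fiberwise_of_maps_to (g := Ψ) (t := S)
        (fun α hα => Finset.mem_image_of_mem Ψ hα), Finset.mul_sum, ← Finset.sum_coe_sort S]
      refine Finset.sum_congr rfl fun f _ => ?_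
      have hconst : ∀ α ∈ Snt.filter (fun α => Ψ α = (f : G → ℂ)), k α χ = x f χ := fun α hα => by
        have e : Ψ α = Ψ (rep f) := (Finset.mem_filter.1 hα).2.trans (hrepf f).symm
        have h1 := hk α χ
        rw [e, hk] at h1
        exact_mod_cast h1.symm
      rw [Finset.sum_congr rfl hconst, Finset.sum_const, hfib f f.2, smul_eq_mul]
    · show ((k α χ : ℕ) : ℂ) = Cfsg.classInner (fun u : F => (χ : G → ℂ) u) (φF α) * (α 1 : ℂ)
      rw [map_one, Units.val_one, mul_one, ← Chars.classInner_conj_symm (φF α),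
        ← Chars.classInner_indFun F (φF α) (Chars.isClassFunction_irr χ), hk, map_natCast]
  -- the characters induced from the point stabiliser
  have hπex : ∀ y : B, ∃ p, mk p = (y : G) := fun y => mksurj y y.2
  choose co hco using hπex
  let π : B →* H := MonoidHom.mk' (fun y => (co y).2) fun y z => by
    have e : mk ((co y).1 * cj (co y).2 (co z).1, (co y).2 * (co z).2) = mk (co (y * z)) := by
      rw [hco, Subgroup.coe_mul, ← hco y, ← hco z]
      simp only [mk, Subgroup.coe_mul, hcj]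
      group
    exact (congrArg Prod.snd (mkinj e)).symm
  have hπ : ∀ (p : F × H) (hp : mk p ∈ B), π ⟨mk p, hp⟩ = p.2 := fun p hp =>
    congrArg Prod.snd (mkinj (hco ⟨mk p, hp⟩))
  let μB : (H →* ℂˣ) → B → ℂ := fun lam y => ((lam.comp π) y : ℂ)
  let Iv : (H →* ℂˣ) → G → ℂ := fun lam => Cfsg.indFun B (μB lam)
  have hIc : ∀ lam, Cfsg.IsCharacter G (Iv lam) := fun lam => Chars.isCharacter_indFun B (Chars.isCharacter_hom _)
  have hBd : (Nat.card B : ℂ) = n * d := by rw [hnd]; push_cast; ring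
  have hextB : ∀ lam (q : F × H), Cfsg.extendByZero B (μB lam) (mk q) = (lam q.2 : ℂ) := fun lam q => by
    rw [Chars.extendByZero_of_mem B _ (mem_stabilizer_iff.2 (mkb q) : mk q ∈ B)]
    show ((lam (π _)) : ℂ) = _
    rw [hπ]
  have hIone : ∀ lam, Iv lam 1 = (n : ℂ) + 1 := fun lam => by
    show Cfsg.indFun B (μB lam) 1 = _
    rw [Chars.indFun_apply_one, hBidx]
    simp [μB]
  have hIF : ∀ lam (u : F), u ≠ 1 → Iv lam u = 1 := by
    intro lam u hu
    show Cfsg.indFun B (μB lam) (u : G) = _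
    rw [Chars.indFun_apply, ← Fintype.sum_of_injective mk mkinj (fun _ => (1 : ℂ)) _ (fun x hx => ?_) (fun p => ?_)]
    · rw [Finset.sum_const, Finset.card_univ, nsmul_eq_mul, mul_one, ← Nat.card_eq_fintype_card, Nat.card_prod,
        ← hnd]
      exact inv_mul_cancel₀ (hBd ▸ mul_ne_zero hnC hdC)
    · refine Chars.extendByZero_of_not_mem _ _ fun hmem => hx (mksurj x (by_contra fun hxb => hu ?_))
      have h1 := mem_stabilizer_iff.1 hmem
      rw [mul_smul, mul_smul, inv_smul_eq_iff] at h1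
      exact Subtype.ext (hFfix u.2 hxb h1)
    · obtain ⟨v, h⟩ := p
      have e : (mk (v, h))⁻¹ * (u : G) * mk (v, h) = mk (cj h⁻¹ u, 1) := by
        show ((v : G) * h)⁻¹ * u * ((v : G) * h) = ((cj h⁻¹ u : F) : G) * ((1 : H) : G)
        rw [hcj, Subgroup.coe_inv, inv_inv, Subgroup.coe_one, mul_one]
        calc ((v : G) * h)⁻¹ * u * ((v : G) * h) = (h : G)⁻¹ * ((v : G)⁻¹ * (u * v)) * h := by group
          _ = _ := by rw [hFc u u.2 v v.2]; group
      rw [e, hextB]
      simp
  have hIH : ∀ lam (u : F) (h : H), h ≠ 1 → Iv lam (mk (u, h)) = (lam h : ℂ) + (lam h⁻¹ : ℂ) := by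
    intro lam u h hh1
    obtain ⟨w, hw⟩ := hcomm_surj h hh1 u
    have e : mk (u, h) = (w : G) * h * (w : G)⁻¹ := by
      show (u : G) * h = _
      rw [← hw]
      simp only [Subgroup.coe_mul, Subgroup.coe_inv, hcj]
      group
    rw [e, show Iv lam ((w : G) * h * (w : G)⁻¹) = Iv lam (h : G) from
      Chars.isClassFunction_indFun B (μB lam) (h : G) (w : G)]
    show Cfsg.indFun B (μB lam) (h : G) = _
    have hsmk : ∀ p, (s * mk p) • b = a := fun p => by rw [mul_smul, mkb, hsb]
    have hh : (h : G) ≠ 1 := fun e => hh1 (Subtype.ext e)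
    rw [Chars.indFun_apply, ← Fintype.sum_of_injective (Sum.elim mk (fun p => s * mk p))
      (fun p q e => ?_) (Sum.elim (fun _ => (lam h : ℂ)) (fun _ => (lam h⁻¹ : ℂ))) _ (fun x hx => ?_) (fun p => ?_)]
    · rw [Fintype.sum_sum_type]
      simp only [Sum.elim_inl, Sum.elim_inr, Finset.sum_const, Finset.card_univ, nsmul_eq_mul]
      rw [← Nat.card_eq_fintype_card, Nat.card_prod, ← hnd, ← mul_add, ← mul_assoc,
        inv_mul_cancel₀ (hBd ▸ mul_ne_zero hnC hdC), one_mul]
    · rcases p with p | p <;> rcases q with q | q <;> simp only [Sum.elim_inl, Sum.elim_inr] at e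
      · rw [mkinj e]
      · exact absurd ((hsmk q).symm.trans (e ▸ mkb p)) hab
      · exact absurd ((hsmk p).symm.trans (e.symm ▸ mkb q)) hab
      · rw [mkinj (mul_left_cancel e)]
    · refine Chars.extendByZero_of_not_mem _ _ fun hmem => hx ?_
      have h1 := mem_stabilizer_iff.1 hmem
      rw [mul_smul, mul_smul, inv_smul_eq_iff] at h1
      by_cases hxb : x • b = b
      · obtain ⟨p, hp⟩ := mksurj x hxb
        exact ⟨Sum.inl p, hp⟩
      by_cases hxa : x • b = a
      · obtain ⟨p, hp⟩ := mksurj (s⁻¹ * x) (by rw [mul_smul, hxa, inv_smul_eq_iff, hsb])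
        exact ⟨Sum.inr p, by simp [hp]⟩
      exact absurd (hthree h a b (x • b) hab (Ne.symm hxb) (Ne.symm hxa) (hfa h.2) (hfb h.2) h1) hh
    · have hconj : ∀ (p : F × H) (k : H), ∃ q : F, (mk p)⁻¹ * (k : G) * mk p = mk (q, k) := by
        rintro ⟨v, l⟩ k
        refine ⟨cj l⁻¹ (v⁻¹ * cj k v), ?_⟩
        have e1 : (l : G)⁻¹ * k * l = k := by rw [mul_assoc, hHc k k.2 l l.2, inv_mul_cancel_left]
        show ((v : G) * l)⁻¹ * k * ((v : G) * l) = ((cj l⁻¹ (v⁻¹ * cj k v) : F) : G) * (k : G)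
        nth_rw 2 [← e1]
        simp only [hcj, Subgroup.coe_mul, Subgroup.coe_inv, inv_inv]
        group
      rcases p with p | p
      · obtain ⟨q, hq⟩ := hconj p h
        simp only [Sum.elim_inl]
        rw [hq, hextB]
      · obtain ⟨q, hq⟩ := hconj p h⁻¹
        simp only [Sum.elim_inr]
        have e2 : s⁻¹ * (h : G) * s = (h : G)⁻¹ := by
          have h1 := hinv s hsa hsb (h : G)⁻¹ (inv_mem h.2)
          rw [inv_inv] at h1
          calc s⁻¹ * (h : G) * s = s⁻¹ * (s * (h : G)⁻¹ * s⁻¹) * s := by rw [h1]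
            _ = _ := by group
        rw [show (s * mk p)⁻¹ * (h : G) * (s * mk p) = (mk p)⁻¹ * (s⁻¹ * (h : G) * s) * mk p by group, e2,
          ← Subgroup.coe_inv, hq, hextB]
  have hII : ∀ lam mu, Cfsg.classInner (Iv lam) (Iv mu) =
      (if lam = mu then (1 : ℂ) else 0) + if lam = mu⁻¹ then 1 else 0 := by
    intro lam mu
    rw [Chars.classInner_indFun B _ (Chars.isClassFunction_indFun B _), Chars.classInner_def,
      ← Fintype.sum_bijective (fun p : F × H => (⟨mk p, mem_stabilizer_iff.2 (mkb p)⟩ : B))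
        ⟨fun p q e => mkinj (congrArg Subtype.val e), fun y => let ⟨p, hp⟩ := mksurj y y.2; ⟨p, Subtype.ext hp⟩⟩
        (fun p => (lam p.2 : ℂ) * ((mu p.2⁻¹ : ℂ) + (mu p.2 : ℂ)) +
          if p.2 = 1 then (1 + if p.1 = 1 then (n : ℂ) else 0) - 2 else 0) _ (fun p => ?_)]
    · rw [Finset.sum_add_distrib, Fintype.sum_prod_type, Fintype.sum_prod_type]
      dsimp only
      rw [Finset.sum_const, Finset.card_univ, nsmul_eq_mul, ← Nat.card_eq_fintype_card, ← hn]
      have h1 : ∑ h : H, (lam h : ℂ) * ((mu h⁻¹ : ℂ) + (mu h : ℂ)) =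
          (d : ℂ) * ((if lam = mu then 1 else 0) + if lam = mu⁻¹ then 1 else 0) := by
        have e1 : ∀ h : H, (lam h : ℂ) * ((mu h⁻¹ : ℂ) + (mu h : ℂ)) =
            ((lam * mu⁻¹) h : ℂ) + ((lam * mu) h : ℂ) := fun h => by
          rw [MonoidHom.mul_apply, MonoidHom.mul_apply, MonoidHom.inv_apply, map_inv, Units.val_mul, Units.val_mul]
          ring
        rw [Finset.sum_congr rfl (fun h _ => e1 h), Finset.sum_add_distrib, sum_hom_apply, sum_hom_apply, ← hd]
        have i1 : lam * mu⁻¹ = 1 ↔ lam = mu :=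
          ⟨fun e => MonoidHom.ext fun h => mul_inv_eq_one.1 (DFunLike.congr_fun e h),
            fun e => MonoidHom.ext fun h => mul_inv_eq_one.2 (DFunLike.congr_fun e h)⟩
        have i2 : lam * mu = 1 ↔ lam = mu⁻¹ :=
          ⟨fun e => MonoidHom.ext fun h => mul_eq_one_iff_eq_inv.1 (DFunLike.congr_fun e h),
            fun e => MonoidHom.ext fun h => mul_eq_one_iff_eq_inv.2 (DFunLike.congr_fun e h)⟩
        simp only [i1, i2, mul_add, mul_ite, mul_one, mul_zero]
      have h2 : ∑ u : F, ∑ h : H, (if h = 1 then (1 + if u = 1 then (n : ℂ) else 0) - 2 else 0) = 0 := by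
        simp only [Finset.sum_ite_eq', Finset.mem_univ, if_true, Finset.sum_sub_distrib, Finset.sum_add_distrib,
          Finset.sum_const, Finset.card_univ, nsmul_eq_mul, ← Nat.card_eq_fintype_card, ← hn]
        ring
      rw [h1, h2, add_zero, hBd]
      field_simp
    · obtain ⟨u, h⟩ := p
      show _ = (lam (π _) : ℂ) * conj (Iv mu (mk (u, h)))
      rw [hπ]
      dsimp only
      by_cases hh : h = 1
      · subst hh
        rw [if_pos rfl]
        have e : mk (u, 1) = (u : G) := by simp [mk]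
        rw [e]
        by_cases hu : u = 1
        · subst hu; rw [if_pos rfl, Subgroup.coe_one, hIone]; simp; ring
        · rw [if_neg hu, hIF mu u hu]; simp; ring
      · rw [if_neg hh, add_zero, hIH mu u h hh, map_add,
          ← Chars.char_inv_eq_conj (Chars.isCharacter_hom mu) h,
          ← Chars.char_inv_eq_conj (Chars.isCharacter_hom mu) h⁻¹, inv_inv]
  have hΨI : ∀ α lam, Cfsg.classInner (Ψ α) (Iv lam) = (if α = 1 then (1 : ℂ) else 0) + 1 := by
    intro α lam
    rw [Chars.classInner_indFun F _ (Chars.isClassFunction_indFun B _),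
      show (fun u : F => Iv lam u) = φF 1 + fun u => if u = 1 then (n : ℂ) else 0 from funext fun u => by
        by_cases hu : u = 1
        · subst hu; simp [φF, hIone]; ring
        · simp [φF, hu, hIF lam u hu],
      Chars.classInner_add_right, hφF, Chars.classInner_def,
      Finset.sum_eq_single 1 (fun u _ hu => by simp [hu]) (by simp)]
    simp [φF, ← hn]
    field_simp
    simp [hn, Nat.card_eq_fintype_card]
  have hone : Cfsg.IsIrrCharacter G (fun _ : G => (1 : ℂ)) := Chars.isIrrCharacter_hom (1 : G →* ℂˣ)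
  let one : Cfsg.IrrCharacter G := ⟨fun _ => 1, hone⟩
  have hΨone' : ∀ α, Cfsg.classInner (Ψ α) (fun _ : G => (1 : ℂ)) = if α = 1 then 1 else 0 := fun α => by
    rw [Chars.classInner_indFun F _ (Chars.isClassFunction_irr one)]
    exact hφF α 1
  have hIone' : ∀ lam, Cfsg.classInner (Iv lam) (fun _ : G => (1 : ℂ)) = if lam = 1 then 1 else 0 := fun lam => by
    rw [Chars.classInner_indFun B _ (Chars.isClassFunction_irr one),
      show (fun _ : B => (1 : ℂ)) = fun y => (((1 : H →* ℂˣ).comp π) y : ℂ) from rfl,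
      Chars.classInner_irr (Chars.isIrrCharacter_hom (lam.comp π)) (Chars.isIrrCharacter_hom ((1 : H →* ℂˣ).comp π))]
    refine if_congr ⟨fun e => MonoidHom.ext fun h => Units.ext ?_, fun e => by rw [e]⟩ rfl rfl
    have := congrFun e ⟨mk (1, h), mem_stabilizer_iff.2 (mkb _)⟩
    simpa only [MonoidHom.comp_apply, hπ] using this
  have hsq : ∀ lam : H →* ℂˣ, lam = lam⁻¹ → lam = 1 := by
    intro lam e
    refine MonoidHom.ext fun h => ?_
    have h1 : lam h * lam h = 1 := by
      nth_rw 2 [e]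
      rw [MonoidHom.inv_apply, mul_inv_cancel]
    rcases (Nat.dvd_prime Nat.prime_two).1 (orderOf_dvd_of_pow_eq_one (x := lam h) (n := 2) (by rw [sq, h1])) with e' | e'
    · exact orderOf_eq_one_iff.1 e'
    · exact absurd (e' ▸ (orderOf_map_dvd lam h).trans (orderOf_dvd_natCard h)) hodd.not_two_dvd_nat
  let Stf : G → ℂ := Iv 1 - fun _ => 1
  have hStI : Cfsg.classInner (Iv 1) (fun _ : G => (1 : ℂ)) = 1 := by rw [hIone', if_pos rfl]
  have hSt : Cfsg.IsIrrCharacter G Stf := by
    refine (Chars.isIrrCharacter_of_gen_norm_one (Chars.isGen_sub (Chars.isGen_of_isCharacter (hIc 1))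
      Chars.isGen_one) ?_).resolve_right fun h => ?_
    · rw [Chars.classInner_sub_left, Chars.classInner_sub_right, Chars.classInner_sub_right, hII, hStI,
        ← Chars.classInner_conj_symm (Iv 1) (fun _ : G => (1 : ℂ)), hStI, Chars.classInner_self_irr hone,
        if_pos rfl, if_pos (inv_one (G := H →* ℂˣ)).symm]
      simp
    · obtain ⟨r, hr0, hr⟩ := Chars.exists_irr_apply_one_eq h
      rw [Pi.neg_apply, Pi.sub_apply, hIone, add_sub_cancel_right] at hr
      have hz : ((r + n : ℕ) : ℂ) = 0 := by push_cast; linear_combination -hr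
      have : r + n = 0 := Nat.cast_eq_zero.1 hz
      omega
  have hπirr : ∀ lam, lam ≠ 1 → Cfsg.IsIrrCharacter G (Iv lam) := fun lam hl =>
    Chars.isIrrCharacter_of_norm_one (hIc lam) (by rw [hII, if_pos rfl, if_neg (fun e => hl (hsq lam e)), add_zero])
  let St : Cfsg.IrrCharacter G := ⟨Stf, hSt⟩
  let Pi' : (H →* ℂˣ) → Cfsg.IrrCharacter G := fun lam => if hl : lam = 1 then St else ⟨Iv lam, hπirr lam hl⟩
  have hPi' : ∀ lam, lam ≠ 1 → (Pi' lam : G → ℂ) = Iv lam := fun lam hl => by simp [Pi', dif_neg hl]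
  set Hnt := (Finset.univ : Finset (H →* ℂˣ)).filter (· ≠ 1) with hHnt
  set Q := Hnt.image Pi' with hQ
  have hQiff : ∀ lam, lam ≠ 1 → ∀ mu, mu ≠ 1 → (Pi' lam = Pi' mu ↔ lam = mu ∨ lam = mu⁻¹) := by
    intro lam hl mu hm'
    have h1 := Chars.classInner_irrCharacter (Pi' lam) (Pi' mu)
    rw [hPi' lam hl, hPi' mu hm', hII] at h1
    refine ⟨fun e => ?_, fun e => ?_⟩
    · by_contra hcon
      push Not at hcon
      rw [if_pos e, if_neg hcon.1, if_neg hcon.2] at h1
      simp at h1
    · by_contra hne'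
      rw [if_neg hne'] at h1
      rcases e with e | e
      · rw [if_pos e, if_neg (fun e' : lam = mu⁻¹ => hl (hsq lam (by rw [e] at e' ⊢; exact e')))] at h1
        simp at h1
      · rw [if_pos e, if_neg (fun e' : lam = mu => hl (hsq lam (e.trans (congrArg (·⁻¹) e'.symm))))] at h1
        simp at h1
  have hQ2 : 2 * Q.card + 1 = d := by
    have hcard : Hnt.card + 1 = d := by
      rw [hHnt, Finset.filter_ne', Finset.card_erase_of_mem (Finset.mem_univ _), Finset.card_univ, hHdual]
      omega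
    rw [← hcard, Finset.card_eq_sum_card_image Pi' Hnt, ← hQ, Finset.sum_congr rfl (fun χ hχ => ?_),
      Finset.sum_const, smul_eq_mul, mul_comm]
    obtain ⟨mu, hmu, rfl⟩ := Finset.mem_image.1 hχ
    have hmu1 : mu ≠ 1 := (Finset.mem_filter.1 hmu).2
    rw [show (Hnt.filter fun lam => Pi' lam = Pi' mu) = {mu, mu⁻¹} from ?_,
      Finset.card_pair (fun e => hmu1 (hsq mu e))]
    ext lam
    simp only [hHnt, Finset.mem_filter, Finset.mem_univ, true_and, Finset.mem_insert, Finset.mem_singleton]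
    refine ⟨fun ⟨hl, e⟩ => (hQiff lam hl mu hmu1).1 e, fun e => ?_⟩
    have hl : lam ≠ 1 := by
      rcases e with rfl | rfl
      · exact hmu1
      · exact fun e' => hmu1 (MonoidHom.ext fun h => inv_eq_one.1 (DFunLike.congr_fun e' h))
    exact ⟨hl, (hQiff lam hl mu hmu1).2 e⟩
  have hkSt : ∀ α, k α St = 1 := by
    intro α
    have h := hk α St
    rw [show ((St : Cfsg.IrrCharacter G) : G → ℂ) = Iv 1 - fun _ => 1 from rfl, Chars.classInner_sub_right,
      hΨI, hΨone'] at h
    have : ((1 : ℕ) : ℂ) = (k α St : ℂ) := by rw [← h]; push_cast; ring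
    exact_mod_cast this.symm
  have hkQ : ∀ χ ∈ Q, ∀ α, k α χ = (if α = 1 then 1 else 0) + 1 := by
    intro χ hχ α
    obtain ⟨lam, hl, rfl⟩ := Finset.mem_image.1 hχ
    have h := hk α (Pi' lam)
    rw [hPi' lam (Finset.mem_filter.1 hl).2, hΨI] at h
    have : (((if α = 1 then 1 else 0) + 1 : ℕ) : ℂ) = (k α (Pi' lam) : ℂ) := by
      rw [← h]; push_cast; split_ifs <;> simp
    exact_mod_cast this.symm
  have hkone : ∀ α, k α one = if α = 1 then 1 else 0 := by
    intro α
    have h := hk α one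
    rw [show ((one : Cfsg.IrrCharacter G) : G → ℂ) = fun _ => 1 from rfl, hΨone'] at h
    have : ((if α = 1 then 1 else 0 : ℕ) : ℂ) = (k α one : ℂ) := by rw [← h]; split_ifs <;> simp
    exact_mod_cast this.symm
  have hQne : ∀ χ ∈ Q, χ ≠ one ∧ χ ≠ St := fun χ hχ =>
    ⟨fun e => by have := hkQ χ hχ 1; rw [e, hkone] at this; simp at this,
      fun e => by have := hkQ χ hχ 1; rw [e, hkSt] at this; simp at this⟩
  have hStone : St ≠ one := fun e => by
    have hα : ∃ α : F →* ℂˣ, α ≠ 1 := by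
      obtain ⟨f, hf⟩ : S.Nonempty := Finset.card_pos.1 (by omega)
      exact ⟨rep ⟨f, hf⟩, hrep _⟩
    obtain ⟨α, hα⟩ := hα
    have := hkSt α
    rw [e, hkone, if_neg hα] at this
    simp at this
  set P := insert St Q with hP
  have hStQ : St ∉ Q := fun h => (hQne St h).2 rfl
  -- the constituents of the character induced from the principal character
  have hk1 : ∀ χ, χ ∉ P → χ ≠ one → k 1 χ = 0 := by
    intro χ hχP hχone
    have htot : ∑ χ, k 1 χ * k 1 χ = d + d := by
      have h := hparse 1 1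
      rw [Finset.sum_congr rfl (fun h _ => if_pos (hac1 h).symm : ∀ h ∈ (Finset.univ : Finset H), _ = (1 : ℂ)),
        Finset.sum_const, Finset.card_univ, nsmul_eq_mul, mul_one, ← Nat.card_eq_fintype_card, ← hd] at h
      exact_mod_cast h
    have hsub := Finset.sum_le_sum_of_subset (f := fun χ => k 1 χ * k 1 χ)
      (Finset.subset_univ (insert χ (insert one P)))
    have hone_notin : one ∉ P := by
      rw [hP, Finset.mem_insert]
      rintro (h | h)
      · exact hStone h.symm
      · exact (hQne one h).1 rfl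
    rw [Finset.sum_insert (by simp [hχP, hχone]), Finset.sum_insert hone_notin, htot, hP, Finset.sum_insert hStQ,
      Finset.sum_congr rfl (fun χ hχ => by rw [hkQ χ hχ, if_pos rfl] : ∀ χ ∈ Q, k 1 χ * k 1 χ = (1 + 1) * (1 + 1)),
      Finset.sum_const, hkSt, hkone, if_pos rfl, smul_eq_mul] at hsub
    have : k 1 χ * k 1 χ = 0 := by omega
    simpa using this
  have hcardS : Fintype.card ↥S = S.card := Fintype.card_coe S
  obtain ⟨hdm, hnm⟩ := arith_of_family x w hw0 d n hxx hxw (by rw [hcardS]; omega) hd3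
    (by rw [hcardS]; omega) P one
    (by rw [hP, Finset.card_insert_of_notMem hStQ]; omega)
    (fun χ hχ i => by
      rw [hP, Finset.mem_insert] at hχ
      rcases hχ with rfl | hχ
      · exact hkSt _
      · show k (rep i) χ = 1
        rw [hkQ χ hχ, if_neg (hrep i)])
    (fun i => by show k (rep i) one = 0; rw [hkone, if_neg (hrep i)])
    (fun χ hχP hχone => by rw [hwsum, hk1 χ hχP hχone, zero_add])
    (fun χ => hGcard ▸ hwd χ)
  rw [hcardS] at hdm hnm
  -- a torsion subgroup of the translations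
  set p := S.card - 1 with hp
  let X : Subgroup F := (powMonoidHom p).ker
  have hXmem : ∀ {u : F}, u ∈ X ↔ u ^ p = 1 := fun {u} => Iff.rfl
  have hXle : Nat.card X ∣ p := by
    have hcop : (Nat.card X).Coprime (2 * S.card - 1) := by
      refine Nat.coprime_of_dvd' fun q hq hqX hqy => ?_
      haveI := Fact.mk hq
      obtain ⟨u, hu⟩ := exists_prime_orderOf_dvd_card' q hqX
      have hqp : q ∣ p := by
        rw [← hu, ← Subgroup.orderOf_coe]
        exact orderOf_dvd_of_pow_eq_one (hXmem.1 u.2)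
      have h1 := Nat.dvd_sub hqy (hqp.mul_left 2)
      rwa [show 2 * S.card - 1 - 2 * p = 1 by omega] at h1
    refine hcop.dvd_of_dvd_mul_right ?_
    rw [← hnm]
    exact Subgroup.card_subgroup_dvd_card X
  obtain ⟨q, hq, hqp⟩ := Nat.exists_prime_and_dvd (n := p) (by omega)
  haveI := Fact.mk hq
  obtain ⟨u₀, hu₀⟩ := exists_prime_orderOf_dvd_card' (G := F) q (by rw [← hn, hnm]; exact hqp.trans (dvd_mul_right _ _))
  have hu₀X : u₀ ∈ X := by
    rw [hXmem, ← orderOf_dvd_iff_pow_eq_one, hu₀]; exact hqp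
  have hu₀1 : u₀ ≠ 1 := fun e => by rw [e, orderOf_one] at hu₀; exact hq.ne_one hu₀.symm
  have horb : d ≤ Nat.card {u : X // u ≠ 1} := by
    refine Nat.card_le_card_of_injective (fun h : H => (⟨⟨cj h u₀, by
      rw [hXmem, ← map_pow, hXmem.1 hu₀X, map_one]⟩, fun e => hu₀1 ?_⟩ : {u : X // u ≠ 1})) fun h h' e => ?_
    · have e' : cj h u₀ = 1 := congrArg Subtype.val e
      rw [← hcj1 u₀, ← inv_mul_cancel h, hcjmul, e', map_one]
    · have e' : cj h u₀ = cj h' u₀ := congrArg (fun v : {u : X // u ≠ 1} => ((v : X) : F)) e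
      have h1 : cj (h'⁻¹ * h) u₀ = u₀ := by rw [hcjmul, e', ← hcjmul, inv_mul_cancel, hcj1]
      by_contra hne'
      refine hu₀1 (Subtype.ext (hsemi _ (h'⁻¹ * h).2 (fun e'' => hne' ?_) _ u₀.2 (congrArg Subtype.val h1)))
      exact (inv_mul_eq_one.1 (Subtype.ext e'' : h'⁻¹ * h = 1)).symm
  have hXsucc : Nat.card {u : X // u ≠ 1} + 1 = Nat.card X := by
    rw [← Finite.card_option, Nat.card_congr (Equiv.optionSubtypeNe (1 : X))]
  have := Nat.le_of_dvd (by omega) hXle
  omega

end Cfsg.Agent.PermGroups
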