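import Cfsg.Agent.PermGroups.ZassenhausNotSimple
import Cfsg.Agent.S0741
import Cfsg.Agent.S0739
import Mathlib.GroupTheory.GroupAction.Quotient

/-!
General facts on Zassenhaus groups, and simple ones: an even two-point stabiliser has index two
in the semiregular count, and there are no normal complements to odd primes.
-/

set_option autoImplicit false
set_option linter.style.haveILetI false
set_option linter.unusedSectionVars false

namespace Cfsg.Agent.PermGroups

open MulAction

variable {G Ω : Type*} [Group G] [Finite G] [MulAction G Ω] [Fintype Ω]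

/-- Any two-point stabiliser of a Zassenhaus group is non-trivial. -/
theorem exists_ne_one_twoStabilizer (hZ : Cfsg.IsZassenhausGroup G Ω) {a b : Ω} (hab : a ≠ b) :
    ∃ h : G, h ∈ stabilizer G a ⊓ stabilizer G b ∧ h ≠ 1 := by
  obtain ⟨-, h2, -, ⟨g₀, hg₀, x₀, y₀, hxy₀, hgx₀, hgy₀⟩, -⟩ := hZ
  obtain ⟨g, hga, hgb⟩ := is_two_pretransitive_iff.1 h2 hxy₀ hab
  refine ⟨g * g₀ * g⁻¹, ⟨mem_stabilizer_iff.2 ?_, mem_stabilizer_iff.2 ?_⟩, fun h => hg₀ (conj_eq_one_iff.1 h)⟩
  · rw [← hga, mul_smul, mul_smul, inv_smul_smul, hgx₀]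
  · rw [← hgb, mul_smul, mul_smul, inv_smul_smul, hgy₀]

theorem exists_third_point (hZ : Cfsg.IsZassenhausGroup G Ω) {a b : Ω} (hab : a ≠ b) :
    ∃ c : Ω, c ≠ a ∧ c ≠ b := by
  obtain ⟨h, hh, h1⟩ := exists_ne_one_twoStabilizer hZ hab
  by_contra hcon
  push Not at hcon
  haveI := hZ.1
  refine h1 (eq_of_smul_eq_smul (α := Ω) fun z => ?_)
  rw [one_smul]
  by_cases hz : z = a
  · rw [hz]; exact hh.1
  · rw [hcon z hz]; exact hh.2

/-- The order of a two-point stabiliser divides the number of the other points. -/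
theorem card_twoStabilizer_dvd (hthree : ThreeFix G Ω) {a b : Ω} (hab : a ≠ b) :
    Nat.card ↥(stabilizer G a ⊓ stabilizer G b) ∣ Fintype.card Ω - 2 := by
  classical
  set H := stabilizer G a ⊓ stabilizer G b with hH
  let S : SubMulAction H Ω :=
    { carrier := {z | z ≠ a ∧ z ≠ b}
      smul_mem' := fun h z hz =>
        ⟨fun e => hz.1 (smul_left_cancel (h : G) (e.trans (mem_stabilizer_iff.1 h.2.1).symm)),
          fun e => hz.2 (smul_left_cancel (h : G) (e.trans (mem_stabilizer_iff.1 h.2.2).symm))⟩ }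
  have hfree : ∀ x : S, stabilizer H x = ⊥ := fun x => by
    rw [Subgroup.eq_bot_iff_forall]
    intro h hh
    exact Subtype.ext (hthree h a b x hab x.2.2.symm x.2.1.symm h.2.1 h.2.2
      (congrArg Subtype.val (mem_stabilizer_iff.1 hh)))
  have hcardS : Nat.card S = Fintype.card Ω - 2 := by
    rw [Nat.card_congr (Equiv.subtypeEquivRight (q := fun z => z ∈ ({a, b} : Finset Ω)ᶜ) fun z => by
      simp only [Finset.mem_compl, Finset.mem_insert, Finset.mem_singleton, not_or]; exact Iff.rfl),
      Nat.card_eq_fintype_card, Fintype.card_coe, Finset.card_compl, Finset.card_pair hab]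
  haveI : Fintype S := Fintype.ofFinite S
  haveI : Fintype H := Fintype.ofFinite H
  rw [← hcardS, Nat.card_congr (selfEquivSigmaOrbitsQuotientStabilizer H S), Nat.card_sigma]
  refine Finset.dvd_sum fun ω _ => ?_
  rw [show Nat.card (H ⧸ stabilizer H ω.out) = (stabilizer H ω.out).index from rfl, hfree, Subgroup.index_bot]

/-- A simple Zassenhaus group has no normal complement for a prime dividing a two-point stabiliser. -/
theorem no_complement_of_simple (hZ : Cfsg.IsZassenhausGroup G Ω) [IsSimpleGroup G] {a b : Ω} (hab : a ≠ b) :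
    ∀ q : ℕ, q.Prime → q ∣ Nat.card ↥(stabilizer G a ⊓ stabilizer G b) →
      ¬ ∃ N : Subgroup G, N.Normal ∧ N.index = q ^ (Nat.card G).factorization q := by
  classical
  rintro q hq hqd ⟨N, hN, hidx⟩
  have hqG : q ∣ Nat.card G := hqd.trans (Subgroup.card_subgroup_dvd_card _)
  have hv : (Nat.card G).factorization q ≠ 0 := fun e => by
    rcases (Nat.factorization_eq_zero_iff _ _).1 e with h | h | h
    · exact h hq
    · exact h hqG
    · exact Nat.card_pos.ne' h
  rcases hN.eq_bot_or_eq_top with rfl | rfl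
  · rw [Subgroup.index_bot] at hidx
    obtain ⟨c, hca, hcb⟩ := exists_third_point hZ hab
    haveI := hZ.2.1
    haveI : IsPretransitive G Ω := isPretransitive_of_is_two_pretransitive
    have h1 : Fintype.card Ω ∣ q ^ (Nat.card G).factorization q := by
      rw [← hidx, ← Nat.card_eq_fintype_card, ← index_stabilizer_of_transitive G a]
      exact Subgroup.index_dvd_card _
    have h2 : Fintype.card Ω - 1 ∣ q ^ (Nat.card G).factorization q := by
      have h := Subgroup.index_dvd_card (stabilizer (stabilizer G a) b)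
      rw [index_stabilizer, show orbit (stabilizer G a) b = ({a} : Set Ω)ᶜ from Set.ext fun z =>
          ⟨fun ⟨g, hg⟩ hz => hab.symm (smul_left_cancel (g : G)
              ((hg.trans hz).trans (mem_stabilizer_iff.1 g.2).symm)),
            fun hz => by
              obtain ⟨g, hga, hgb⟩ := is_two_pretransitive_iff.1 hZ.2.1 hab (Ne.symm (by simpa using hz : z ≠ a))
              exact ⟨⟨g, hga⟩, hgb⟩⟩,
        Set.ncard_compl, Set.ncard_singleton, Nat.card_eq_fintype_card] at h
      exact hidx ▸ h.trans (Subgroup.card_subgroup_dvd_card _)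
    have h3le : 3 ≤ Fintype.card Ω := by
      calc 3 = ({a, b, c} : Finset Ω).card := by simp [hab, hca.symm, hcb.symm]
        _ ≤ _ := Finset.card_le_univ _
    obtain ⟨i, -, hi⟩ := (Nat.dvd_prime_pow hq).1 h1
    obtain ⟨j, -, hj⟩ := (Nat.dvd_prime_pow hq).1 h2
    have hi0 : i ≠ 0 := by rintro rfl; simp at hi; omega
    have hj0 : j ≠ 0 := by rintro rfl; simp at hj; omega
    have hd := Nat.dvd_sub (dvd_pow_self q hi0) (dvd_pow_self q hj0)
    rw [← hi, ← hj, show Fintype.card Ω - (Fintype.card Ω - 1) = 1 by omega] at hd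
    exact hq.ne_one (Nat.eq_one_of_dvd_one hd)
  · rw [Subgroup.index_top] at hidx
    exact hq.ne_one (Nat.eq_one_of_dvd_one (hidx ▸ dvd_pow_self q hv))

/-- A simple Zassenhaus group whose two-point stabilisers have even order `d` has degree `2d + 2`. -/
theorem card_eq_of_simple_even (hZ : Cfsg.IsZassenhausGroup G Ω) [IsSimpleGroup G] {a b : Ω} (hab : a ≠ b)
    (heven : Even (Nat.card ↥(stabilizer G a ⊓ stabilizer G b))) :
    2 * Nat.card ↥(stabilizer G a ⊓ stabilizer G b) + 2 = Fintype.card Ω := by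
  classical
  set d := Nat.card ↥(stabilizer G a ⊓ stabilizer G b) with hd
  have hge := S0741.result hZ hab heven
  obtain ⟨c, hca, hcb⟩ := exists_third_point hZ hab
  obtain ⟨hfaith, h2, hthree, -, -⟩ := hZ
  haveI := hfaith
  obtain ⟨m, hm⟩ := card_twoStabilizer_dvd hthree hab
  have hd0 : 0 < d := Nat.card_pos
  have h3le : 3 ≤ Fintype.card Ω := by
    calc 3 = ({a, b, c} : Finset Ω).card := by simp [hab, hca.symm, hcb.symm]
      _ ≤ _ := Finset.card_le_univ _
  rw [← hd] at hm
  have hm2 : m ≤ 2 := by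
    by_contra hcon
    have : d * 3 ≤ d * m := Nat.mul_le_mul_left d (by omega)
    omega
  interval_cases m
  · omega
  · exfalso
    refine not_isSimpleGroup_sharplyThree h2 hthree hab hca.symm hcb.symm (by omega) ?_ inferInstance
    obtain ⟨r, hr⟩ := heven
    exact ⟨r + 1, by omega⟩
  · omega

end Cfsg.Agent.PermGroups
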