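import Cfsg.Agent.PermGroups.DegreeElevenSharp

/-!
Degree eleven: there are no odd permutations, and the final classification.
-/

set_option autoImplicit false
set_option linter.unusedSectionVars false

namespace Cfsg.Agent.PermGroups.DegreeEleven

open MulAction Equiv SmallDegree

variable {α : Type*} [Fintype α] [DecidableEq α] (G G0 : Subgroup (Perm α))

theorem sign_of_pow_odd {g : Perm α} {r : ℕ} (hr : Odd r) (h : g ^ r = 1) : Perm.sign g = 1 := by
  rcases Int.units_eq_one_or (Perm.sign g) with e | e
  · exact e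
  · have h1 := congrArg Perm.sign h
    rw [map_pow, e, map_one, hr.neg_one_pow] at h1
    exact absurd h1 (by decide)

theorem not_twice_7920 (hα : Fintype.card α = 11) [IsPretransitive G α] [IsPretransitive G0 α]
    (hA : ¬ alternatingGroup α ≤ G) (hG0 : ∀ g, g ∈ G0 ↔ g ∈ G ∧ Perm.sign g = 1)
    (h2 : IsMultiplyPretransitive G0 α 2) (hc : Nat.card G0 = 7920)
    (hG : Nat.card G = 15840) : False := by
  classical
  have hev : G0 ≤ alternatingGroup α := fun g hg => Perm.mem_alternatingGroup.2 ((hG0 g).1 hg).2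
  have hle : G0 ≤ G := fun g hg => ((hG0 g).1 hg).1
  have hA0 : ¬ alternatingGroup α ≤ G0 := fun h => hA (h.trans hle)
  have h40 := four_transitive G0 hα hev hA0 h2 hc
  haveI h4 : IsMultiplyPretransitive G α 4 := ⟨fun x y => by
    obtain ⟨g, hg⟩ := h40.exists_smul_eq x y
    exact ⟨⟨g.1, hle g.2⟩, hg⟩⟩
  haveI : @IsPretransitive G (Fin 4 ↪ α) MulAction.toSemigroupAction.toSMul :=
    ⟨fun x y => h4.exists_smul_eq x y⟩
  have hstab : ∀ x : Fin 4 ↪ α, Nat.card (stabilizer G x) = 2 := by
    intro x
    have h := (stabilizer G x).index_mul_card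
    rw [index_stabilizer_of_transitive, Nat.card_eq_fintype_card (α := Fin 4 ↪ α),
      Fintype.card_embedding_eq, Fintype.card_fin, hα, hG] at h
    rw [show Nat.descFactorial 11 4 = 7920 by rfl] at h
    omega
  obtain ⟨x⟩ : Nonempty (Fin 4 ↪ α) :=
    Function.Embedding.nonempty_of_card_le (by rw [Fintype.card_fin, hα]; norm_num)
  haveI : Nontrivial (stabilizer G x) :=
    Finite.one_lt_card_iff_nontrivial.1 (by rw [hstab x]; norm_num)
  obtain ⟨w', hw'⟩ := exists_ne (1 : stabilizer G x)
  set w : Perm α := ((w' : G) : Perm α) with hw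
  have hwx : ∀ i, w (x i) = x i := fun i => congrArg (fun e : Fin 4 ↪ α => e i) w'.2
  have hw2 : w ^ 2 = 1 := by
    have h := pow_card_eq_one' (x := w')
    rw [hstab x] at h
    exact congrArg (fun g : stabilizer G x => ((g : G) : Perm α)) h
  have hw1 : w ≠ 1 := fun h => hw' (Subtype.ext (Subtype.ext h))
  have hwo : orderOf w = 2 := orderOf_eq_prime hw2 hw1
  have hodd : Perm.sign w ≠ 1 := by
    intro h
    have hmem : (⟨w, (hG0 w).2 ⟨(w' : G).2, h⟩⟩ : G0) ∈ stabilizer G0 x := w'.2
    rw [stabilizer_four G0 hα hev hA0 h2 hc x, Subgroup.mem_bot] at hmem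
    exact hw1 (congrArg Subtype.val hmem)
  have hsub : w.support ⊆ (Finset.univ.map x)ᶜ := by
    intro z hz
    rw [Finset.mem_compl, Finset.mem_map]
    rintro ⟨i, -, rfl⟩
    exact Perm.mem_support.1 hz (hwx i)
  have hle7 : w.support.card ≤ 7 := by
    have := Finset.card_le_card hsub
    rw [Finset.card_compl, Finset.card_map, Finset.card_univ, Fintype.card_fin, hα] at this
    omega
  have h20 := prime_dvd_support_card Nat.prime_two hw2
  have hpos := support_card_pos Nat.prime_two hwo
  have hmod : w.support.card % 4 ≠ 0 := fun h => hodd (sign_of_support_zero_mod_four hw2 h)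
  rcases (show w.support.card = 2 ∨ w.support.card = 6 by omega) with h6 | h6
  · apply hA
    rw [Perm.subgroup_eq_top_of_swap_mem (H := G) (by rw [hα]; norm_num)
      (by rw [hα, ← Nat.card_eq_fintype_card, hG]; norm_num) (w' : G).2
      (Perm.card_support_eq_two.1 h6)]
    exact le_top
  -- the fifth fixed point
  obtain ⟨f, hf, hfx⟩ : ∃ f, w f = f ∧ ∀ i, x i ≠ f := by
    obtain ⟨f, hfF, hf⟩ := Finset.exists_mem_notMem_of_card_lt_card
      (s := Finset.univ.map x) (t := w.supportᶜ)
      (by rw [Finset.card_compl, h6, hα, Finset.card_map, Finset.card_univ, Fintype.card_fin]; norm_num)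
    refine ⟨f, by simpa using hfF, fun i h => hf ?_⟩
    rw [Finset.mem_map]
    exact ⟨i, Finset.mem_univ i, h⟩
  have hF : ∀ z, w z = z → z = x 0 ∨ z = x 1 ∨ z = x 2 ∨ z = x 3 ∨ z = f := by
    have h5 : insert f (Finset.univ.map x) = w.supportᶜ := by
      refine Finset.eq_of_subset_of_card_le (fun z hz => ?_) ?_
      · rw [Finset.mem_insert, Finset.mem_map] at hz
        rw [Finset.mem_compl, Perm.notMem_support]
        rcases hz with rfl | ⟨i, -, rfl⟩
        · exact hf
        · exact hwx i
      · rw [Finset.card_compl, h6, hα, Finset.card_insert_of_notMem, Finset.card_map,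
          Finset.card_univ, Fintype.card_fin]
        rw [Finset.mem_map]
        rintro ⟨i, -, h⟩
        exact hfx i h
    intro z hz
    have : z ∈ insert f (Finset.univ.map x) := by
      rw [h5, Finset.mem_compl, Perm.notMem_support]; exact hz
    rw [Finset.mem_insert, Finset.mem_map] at this
    rcases this with e | ⟨i, -, rfl⟩
    · simp [e]
    · fin_cases i <;> simp
  set y : Fin 4 ↪ α := ⟨![x 1, x 2, x 3, f], by
    intro i j h
    have e := x.injective
    fin_cases i <;> fin_cases j <;>
      simp [e.eq_iff, hfx, fun i => Ne.symm (hfx i)] at h ⊢⟩ with hy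
  obtain ⟨g', hg'⟩ := exists_smul_eq G x y
  set g : Perm α := (g' : Perm α) with hg
  have hgx : ∀ i, g (x i) = y i := fun i => congrArg (fun e : Fin 4 ↪ α => e i) hg'
  have hwy : (w' : G) ∈ stabilizer G y := by
    rw [mem_stabilizer_iff]
    ext i
    show w (y i) = y i
    fin_cases i
    · exact hwx 1
    · exact hwx 2
    · exact hwx 3
    · exact hf
  have hcomm : Commute g w := by
    have hgy : g' * (w' : G) * g'⁻¹ ∈ stabilizer G y := by
      have hinv : g'⁻¹ • y = x := inv_smul_eq_iff.2 hg'.symm
      rw [mem_stabilizer_iff, mul_smul, mul_smul]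
      exact (congrArg (fun e => g' • (w' : G) • e) hinv).trans
        ((congrArg (g' • ·) (show (w' : G) • x = x from w'.2)).trans hg')
    by_contra hne
    have hsub' : ({(⟨_, hwy⟩ : stabilizer G y), ⟨_, hgy⟩, 1} : Finset (stabilizer G y)).card ≤ 2 :=
      (Nat.card_eq_finsetCard _).ge.trans ((Nat.card_le_card_of_injective _
        Subtype.val_injective).trans (hstab y).le)
    rw [Finset.card_insert_of_notMem, Finset.card_pair] at hsub'
    · omega
    · intro h
      have h' := congrArg (fun z : stabilizer G y => (z : G)) h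
      simp only [OneMemClass.coe_one] at h'
      have : (w' : G) = 1 := by
        calc (w' : G) = g'⁻¹ * (g' * (w' : G) * g'⁻¹) * g' := by group
          _ = 1 := by rw [h']; group
      exact hw' (Subtype.ext this)
    · simp only [Finset.mem_insert, Finset.mem_singleton, not_or]
      refine ⟨fun h => hne ?_, fun h => hw' ?_⟩
      · have h' := congrArg (fun z : stabilizer G y => ((z : G) : Perm α)) h
        simp only [Subgroup.coe_mul, Subgroup.coe_inv] at h'
        show g * w = w * g
        have h'' : w = g * w * g⁻¹ := h'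
        calc g * w = g * w * g⁻¹ * g := by group
          _ = w * g := by rw [← h'']
      · exact Subtype.ext (congrArg (fun z : stabilizer G y => (z : G)) h)
  have hg0 : g (x 0) = x 1 := hgx 0
  have hg1 : g (x 1) = x 2 := hgx 1
  have hg2 : g (x 2) = x 3 := hgx 2
  have hg3 : g (x 3) = f := hgx 3
  have hg4 : g f = x 0 := by
    have hfix : w (g f) = g f := by
      rw [← Perm.mul_apply, ← hcomm.eq, Perm.mul_apply, hf]
    rcases hF _ hfix with h | h | h | h | h
    · exact h
    · exact absurd (g.injective (h.trans hg0.symm)) (fun e => hfx 0 e.symm)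
    · exact absurd (g.injective (h.trans hg1.symm)) (fun e => hfx 1 e.symm)
    · exact absurd (g.injective (h.trans hg2.symm)) (fun e => hfx 2 e.symm)
    · exact absurd (g.injective (h.trans hg3.symm)) (fun e => hfx 3 e.symm)
  have h5o : 5 ∣ orderOf g := by
    have p5 : (g ^ 5) (x 0) = x 0 := by
      simp only [pow_succ, pow_zero, one_mul, Perm.mul_apply, hg0, hg1, hg2, hg3, hg4]
    have hper : (g ^ (orderOf g % 5)) (x 0) = x 0 := by
      have := congrArg (fun σ : Perm α => σ (x 0)) (pow_orderOf_eq_one g)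
      simp only [Perm.one_apply] at this
      rw [← Nat.mod_add_div (orderOf g) 5, pow_add, Perm.mul_apply, pow_mul,
        Perm.pow_apply_eq_self_of_apply_eq_self p5] at this
      exact this
    by_contra h
    have hlt := Nat.mod_lt (orderOf g) (by norm_num : 5 > 0)
    rcases (show orderOf g % 5 = 1 ∨ orderOf g % 5 = 2 ∨ orderOf g % 5 = 3 ∨ orderOf g % 5 = 4 by
      omega) with e | e | e | e <;> rw [e] at hper <;>
      simp only [pow_succ, pow_zero, one_mul, Perm.mul_apply, hg0, hg1, hg2, hg3] at hper
    · exact absurd (x.injective hper) (by decide)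
    · exact absurd (x.injective hper) (by decide)
    · exact absurd (x.injective hper) (by decide)
    · exact hfx 0 hper.symm
  set z := g ^ (orderOf g / 5) with hz
  have hzo : orderOf z = 5 := orderOf_pow_orderOf_div (orderOf_pos g).ne' h5o
  have hz0 : z ∈ G0 := (hG0 z).2 ⟨pow_mem g'.2 _,
    sign_of_pow_odd (by decide) (pow_eq_one_of_orderOf hzo)⟩
  have hzs := five_support hα G0 hA0 hz0 hzo
  obtain ⟨c, hcz⟩ := Finset.card_eq_one.1 (show z.supportᶜ.card = 1 by
    rw [Finset.card_compl, hzs, hα])
  have hzfix : ∀ u, z u = u → u = c := fun u hu => by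
    have : u ∈ z.supportᶜ := by rw [Finset.mem_compl, Perm.notMem_support]; exact hu
    rwa [hcz, Finset.mem_singleton] at this
  have hzc : z c = c := by
    rw [← Perm.notMem_support, ← Finset.mem_compl, hcz]
    exact Finset.mem_singleton_self c
  have hzw : Commute z w := hcomm.pow_left _
  have hwc : w c = c := hzfix _ (by rw [← Perm.mul_apply, hzw.eq, Perm.mul_apply, hzc])
  have := dvd_card_invariant (by norm_num : Nat.Prime 5) (pow_eq_one_of_orderOf hzo) w.support
    (support_invariant hzw.symm) (fun u hu hzu => Perm.mem_support.1 hu (by rw [hzfix u hzu, hwc]))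
  rw [h6] at this
  norm_num at this

theorem not_twice_660 (hα : Fintype.card α = 11) [IsPretransitive G α] [IsPretransitive G0 α]
    (hA : ¬ alternatingGroup α ≤ G) (hG0 : ∀ g, g ∈ G0 ↔ g ∈ G ∧ Perm.sign g = 1)
    (h2 : IsMultiplyPretransitive G0 α 2) (hc : Nat.card G0 = 660)
    (hG : Nat.card G = 1320) : False := by
  classical
  haveI : Fact (Nat.Prime 11) := ⟨by norm_num⟩
  haveI : Fact (Nat.Prime 5) := ⟨by norm_num⟩
  haveI : Fact (Nat.Prime 2) := ⟨Nat.prime_two⟩
  haveI : Fact (Nat.Prime 3) := ⟨Nat.prime_three⟩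
  have hev : G0 ≤ alternatingGroup α := fun g hg => Perm.mem_alternatingGroup.2 ((hG0 g).1 hg).2
  have hle : G0 ≤ G := fun g hg => ((hG0 g).1 hg).1
  have hA0 : ¬ alternatingGroup α ≤ G0 := fun h => hA (h.trans hle)
  -- the normaliser of a Sylow subgroup for the prime eleven
  obtain ⟨P⟩ : Nonempty (Sylow 11 G) := inferInstance
  obtain ⟨m, hm, hN⟩ := exists_natCard_normalizer hα G P
  have hm10 : m = 10 := by
    have hmul := natCard_sylow_mul P
    rw [hN, hG] at hmul
    have hmod : Nat.card (Sylow 11 G) % 11 = 1 := card_sylow_modEq_one 11 G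
    have hmle : m ≤ 10 := Nat.le_of_dvd (by norm_num) hm
    interval_cases m <;> first | omega | norm_num at hm
  subst hm10
  have hPc := natCard_sylow_prime_degree hα G P
  have hPt := isPretransitive_of_card_eq_prime hα G P hPc
  obtain ⟨a⟩ : Nonempty α := Fintype.card_pos_iff.mp (by omega)
  set N := Subgroup.normalizer ((P : Subgroup G) : Set G) with hNd
  haveI : IsPretransitive N α := ⟨fun u v => by
    obtain ⟨g, hg⟩ := hPt.exists_smul_eq u v
    exact ⟨⟨g.1, Subgroup.le_normalizer g.2⟩, hg⟩⟩
  have hNa : Nat.card (stabilizer N a) = 10 := by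
    have h := (stabilizer N a).index_mul_card
    rw [index_stabilizer_of_transitive, Nat.card_eq_fintype_card (α := α), hα, hN] at h
    omega
  haveI : IsCyclic (P : Subgroup G) := isCyclic_of_prime_card hPc
  have hPfree : ∀ h ∈ (P : Subgroup G), h • a = a → h = 1 := by
    intro h hh hha
    have h1 := (stabilizer (P : Subgroup G) a).index_mul_card
    rw [index_stabilizer_of_transitive, Nat.card_eq_fintype_card (α := α), hα, hPc] at h1
    have hb : stabilizer (P : Subgroup G) a = ⊥ := Subgroup.card_eq_one.1 (by omega)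
    have : (⟨h, hh⟩ : (P : Subgroup G)) ∈ stabilizer (P : Subgroup G) a := hha
    rw [hb, Subgroup.mem_bot] at this
    exact congrArg Subtype.val this
  have habel : ∀ u v : stabilizer N a, ((u : N) : G) * (v : N) = ((v : N) : G) * (u : N) := by
    intro u v
    set c : N := (u : N) * v * (u : N)⁻¹ * (v : N)⁻¹ with hcd
    obtain ⟨e⟩ := (⟨IsCyclic.mulAutMulEquiv (P : Subgroup G)⟩ :
      Nonempty (MulAut (P : Subgroup G) ≃* _))
    have hker : c ∈ (P : Subgroup G).normalizerMonoidHom.ker := by
      rw [MonoidHom.mem_ker]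
      apply e.injective
      rw [hcd, map_one]
      simp only [map_mul, map_inv]
      rw [mul_comm (e ((P : Subgroup G).normalizerMonoidHom (u : N)))]
      group
    rw [Subgroup.normalizerMonoidHom_ker] at hker
    have hcP : (c : G) ∈ (P : Subgroup G) := by
      rw [← centralizer_sylow hα G P]; exact hker
    have hca : (c : G) • a = a := by
      show c • a = a
      exact (mul_mem (mul_mem (mul_mem u.2 v.2) (inv_mem u.2)) (inv_mem v.2) : c ∈ stabilizer N a)
    have h1 := hPfree _ hcP hca
    rw [hcd] at h1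
    simp only [Subgroup.coe_mul, Subgroup.coe_inv] at h1
    calc ((u : N) : G) * (v : N)
        = ((u : N) : G) * (v : N) * ((u : N) : G)⁻¹ * ((v : N) : G)⁻¹ * ((v : N) : G) * (u : N) := by
          group
      _ = ((v : N) : G) * (u : N) := by rw [h1]; group
  obtain ⟨x', hx'⟩ := exists_prime_orderOf_dvd_card' (G := stabilizer N a) 2 (by rw [hNa]; norm_num)
  obtain ⟨y', hy'⟩ := exists_prime_orderOf_dvd_card' (G := stabilizer N a) 5 (by rw [hNa]; norm_num)
  set x : Perm α := (((x' : N) : G) : Perm α) with hxd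
  set y : Perm α := (((y' : N) : G) : Perm α) with hyd
  have hxo : orderOf x = 2 := by
    rw [hxd, Subgroup.orderOf_coe, Subgroup.orderOf_coe, Subgroup.orderOf_coe, hx']
  have hyo : orderOf y = 5 := by
    rw [hyd, Subgroup.orderOf_coe, Subgroup.orderOf_coe, Subgroup.orderOf_coe, hy']
  have hxa : x a = a := x'.2
  have hya : y a = a := y'.2
  have hxy : Commute x y := congrArg (fun g : G => (g : Perm α)) (habel x' y')
  have hxG : x ∈ G := ((x' : N) : G).2
  have hyG : y ∈ G := ((y' : N) : G).2
  have hy0 : y ∈ G0 := (hG0 y).2 ⟨hyG, sign_of_pow_odd (by decide) (pow_eq_one_of_orderOf hyo)⟩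
  have hys := five_support hα G0 hA0 hy0 hyo
  have hyfix : ∀ u, y u = u → u = a := by
    intro u hu
    obtain ⟨c, hcy⟩ := Finset.card_eq_one.1 (show y.supportᶜ.card = 1 by
      rw [Finset.card_compl, hys, hα])
    have h1 : u ∈ y.supportᶜ := by rw [Finset.mem_compl, Perm.notMem_support]; exact hu
    have h2 : a ∈ y.supportᶜ := by rw [Finset.mem_compl, Perm.notMem_support]; exact hya
    rw [hcy, Finset.mem_singleton] at h1 h2
    rw [h1, h2]
  have hxs : x.support.card = 10 := by
    have hsub : x.support ⊆ ({a} : Finset α)ᶜ := fun u hu => by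
      rw [Finset.mem_compl, Finset.mem_singleton]
      rintro rfl
      exact Perm.mem_support.1 hu hxa
    have h1 := Finset.card_le_card hsub
    rw [Finset.card_compl, Finset.card_singleton, hα] at h1
    have h5 := dvd_card_invariant (by norm_num : Nat.Prime 5) (pow_eq_one_of_orderOf hyo) x.support
      (support_invariant hxy) (fun u hu hyu => Perm.mem_support.1 hu (by rw [hyfix u hyu, hxa]))
    have h2 := prime_dvd_support_card Nat.prime_two (pow_eq_one_of_orderOf hxo)
    have h3 := support_card_pos Nat.prime_two hxo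
    omega
  -- the point stabiliser
  set K : Subgroup (Perm α) := G ⊓ stabilizer (Perm α) a with hK
  set K0 : Subgroup (Perm α) := G0 ⊓ stabilizer (Perm α) a with hK0
  have hcardstab : ∀ (H : Subgroup (Perm α)) [IsPretransitive H α],
      11 * Nat.card (H ⊓ stabilizer (Perm α) a : Subgroup (Perm α)) = Nat.card H := by
    intro H _
    have h := (stabilizer H a).index_mul_card
    rw [index_stabilizer_of_transitive, Nat.card_eq_fintype_card (α := α), hα] at h
    rw [← h]
    congr 1
    exact Nat.card_congr ⟨fun g => ⟨⟨g.1, g.2.1⟩, g.2.2⟩, fun g => ⟨g.1.1, g.1.2, g.2⟩,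
      fun g => rfl, fun g => rfl⟩
  have hKc : Nat.card K = 120 := by
    have h : 11 * Nat.card K = Nat.card G := hcardstab G
    omega
  have hK0c : Nat.card K0 = 60 := by
    have h : 11 * Nat.card K0 = Nat.card G0 := hcardstab G0
    omega
  -- normaliser of `y` in `G0`
  let Q0 : Sylow 5 G0 := Sylow.ofCard (Subgroup.zpowers ⟨y, hy0⟩) (by
    rw [Nat.card_zpowers, Subgroup.orderOf_mk, hyo, hc, show (660 : ℕ) = 132 * 5 by norm_num,
      Nat.factorization_mul (by norm_num) (by norm_num), Finsupp.add_apply,
      (show Nat.Prime 5 by norm_num).factorization_self,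
      Nat.factorization_eq_zero_of_not_dvd (by norm_num : ¬ 5 ∣ 132)]
    norm_num)
  have hN10 : Nat.card (Subgroup.normalizer ((Q0 : Subgroup G0) : Set G0)) = 10 := by
    obtain ⟨-, k, hk, hNk⟩ := centralizer_normalizer_prime (q := 5) (not_dvd_sq_five hα G0 hA0) Q0
      (by
        show Nat.card (Subgroup.zpowers (⟨y, hy0⟩ : G0)) = 5
        rw [Nat.card_zpowers, Subgroup.orderOf_mk, hyo])
      (by
        intro g hg r hr hgr
        have hcomm : Commute (g : Perm α) y := by
          have := Subgroup.mem_centralizer_iff.1 hg ⟨y, hy0⟩ (Subgroup.mem_zpowers _)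
          exact (congrArg (fun z : G0 => (z : Perm α)) this).symm
        exact commute_five hα G0 hA0 hev hy0 hyo g.2 hcomm hr (by rw [Subgroup.orderOf_coe, hgr]))
    have hmul := natCard_sylow_mul Q0
    rw [hNk, hc] at hmul
    have hmod : Nat.card (Sylow 5 G0) % 5 = 1 := card_sylow_modEq_one 5 G0
    have hk4 : k ≤ 4 := Nat.le_of_dvd (by norm_num) hk
    rw [hNk]
    interval_cases k <;> first | omega | norm_num at hk
  -- Sylow subgroups of `K`
  have hxK : x ∈ K := ⟨hxG, hxa⟩
  have hyK : y ∈ K := ⟨hyG, hya⟩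
  let xK : K := ⟨x, hxK⟩
  let yK : K := ⟨y, hyK⟩
  let QK : Sylow 5 K := Sylow.ofCard (Subgroup.zpowers yK) (by
    rw [Nat.card_zpowers, Subgroup.orderOf_mk, hyo, hKc, show (120 : ℕ) = 24 * 5 by norm_num,
      Nat.factorization_mul (by norm_num) (by norm_num), Finsupp.add_apply,
      (show Nat.Prime 5 by norm_num).factorization_self,
      Nat.factorization_eq_zero_of_not_dvd (by norm_num : ¬ 5 ∣ 24)]
    norm_num)
  have hQKc : Nat.card (QK : Subgroup K) = 5 := by
    show Nat.card (Subgroup.zpowers yK) = 5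
    rw [Nat.card_zpowers, Subgroup.orderOf_mk, hyo]
  have hnormQ : ∀ g : K, (g : Perm α) ∈ G0 → g ∈ Subgroup.normalizer ((QK : Subgroup K) : Set K) →
      ∃ hg : (g : Perm α) ∈ G0,
        (⟨(g : Perm α), hg⟩ : G0) ∈ Subgroup.normalizer ((Q0 : Subgroup G0) : Set G0) := by
    intro g hg hn
    refine ⟨hg, ?_⟩
    rw [Subgroup.mem_normalizer_iff_map_conj_eq]
    refine Subgroup.eq_of_le_of_card_ge ?_
      (Subgroup.card_map_of_injective (MulAut.conj (⟨(g : Perm α), hg⟩ : G0)).injective).ge
    rw [Subgroup.map_le_iff_le_comap]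
    show Subgroup.zpowers (⟨y, hy0⟩ : G0) ≤ _
    rw [Subgroup.zpowers_le, Subgroup.mem_comap]
    have h1 := (Subgroup.mem_normalizer_iff.1 hn yK).1 (Subgroup.mem_zpowers yK)
    obtain ⟨k, hk⟩ := Subgroup.mem_zpowers_iff.1 (show g * yK * g⁻¹ ∈ Subgroup.zpowers yK from h1)
    refine Subgroup.mem_zpowers_iff.2 ⟨k, Subtype.ext ?_⟩
    have h2 := congrArg (fun z : K => (z : Perm α)) hk
    simpa using h2
  have hn6 : Nat.card (Sylow 5 K) = 6 := by
    have hmod : Nat.card (Sylow 5 K) % 5 = 1 := card_sylow_modEq_one 5 K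
    have hd : Nat.card (Sylow 5 K) ∣ (QK : Subgroup K).index := QK.card_dvd_index
    have hidx : (QK : Subgroup K).index = 24 := by
      have h := (QK : Subgroup K).index_mul_card
      rw [hKc, hQKc] at h
      omega
    rw [hidx] at hd
    have hle24 := Nat.le_of_dvd (by norm_num) hd
    have hne1 : Nat.card (Sylow 5 K) ≠ 1 := by
      intro h1
      haveI : Subsingleton (Sylow 5 K) := (Nat.card_eq_one_iff_unique.1 h1).1
      have hn := QK.normal_of_subsingleton
      have hin : ∀ g : K0, ∃ hg : (g : Perm α) ∈ G0,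
          (⟨(g : Perm α), hg⟩ : G0) ∈ Subgroup.normalizer ((Q0 : Subgroup G0) : Set G0) := fun g =>
        hnormQ ⟨g.1, hle g.2.1, g.2.2⟩ g.2.1 (by
          rw [Subgroup.normalizer_eq_top_iff.2 hn]; exact Subgroup.mem_top _)
      have := Nat.card_le_card_of_injective
        (fun g : K0 => (⟨⟨g.1, (hin g).1⟩, (hin g).2⟩ :
          Subgroup.normalizer ((Q0 : Subgroup G0) : Set G0))) (fun g g' h => by
          have h' := congrArg (fun z : Subgroup.normalizer ((Q0 : Subgroup G0) : Set G0) =>
            ((z : G0) : Perm α)) h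
          exact Subtype.ext h')
      rw [hK0c, hN10] at this
      omega
    interval_cases (Nat.card (Sylow 5 K)) <;> first | omega | norm_num at hd
  haveI := Fintype.ofFinite (Sylow 5 K)
  set φ := MulAction.toPermHom K (Sylow 5 K) with hφ
  have hφy : ∀ R : Sylow 5 K, φ yK R = R → R = QK := by
    intro R hR
    have hn : Subgroup.zpowers yK ≤ Subgroup.normalizer ((R : Subgroup K) : Set K) := by
      rw [Subgroup.zpowers_le]
      exact Sylow.smul_eq_iff_mem_normalizer.1 hR
    have h := (IsPGroup.of_card (n := 1) (p := 5) (G := Subgroup.zpowers yK)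
      (by rw [Nat.card_zpowers, Subgroup.orderOf_mk, hyo, pow_one])).inf_normalizer_sylow R
    have hle' : (QK : Subgroup K) ≤ R := fun w hw => (h.le ⟨hw, hn hw⟩).2
    exact Sylow.ext (QK.3 R.2 hle')
  have hxker : xK ∈ φ.ker := by
    rw [MonoidHom.mem_ker]
    have hcK : Commute xK yK := Subtype.ext hxy.eq
    have hfixQ : φ xK QK = QK := by
      apply Sylow.smul_eq_iff_mem_normalizer.2
      refine Subgroup.centralizer_le_normalizer _ (Subgroup.mem_centralizer_iff.2 fun w hw => ?_)
      obtain ⟨k, hk⟩ := Subgroup.mem_zpowers_iff.1 (show w ∈ Subgroup.zpowers yK from hw)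
      rw [← hk]
      exact ((hcK.zpow_right k).eq).symm
    rw [← Perm.support_eq_empty_iff, ← Finset.card_eq_zero]
    have h5 := dvd_card_invariant (by norm_num : Nat.Prime 5) (y := φ yK)
      (by rw [← map_pow, show yK ^ 5 = 1 from Subtype.ext (pow_eq_one_of_orderOf hyo), map_one])
      (φ xK).support (support_invariant (hcK.map φ))
      (fun R hR h => Perm.mem_support.1 hR ((hφy R h) ▸ hfixQ))
    have h2 := prime_dvd_support_card Nat.prime_two (g := φ xK)
      (by rw [← map_pow, show xK ^ 2 = 1 from Subtype.ext (pow_eq_one_of_orderOf hxo), map_one])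
    have hle5 : (φ xK).support.card ≤ 5 := by
      have hsub : (φ xK).support ⊆ ({QK} : Finset (Sylow 5 K))ᶜ := fun R hR => by
        rw [Finset.mem_compl, Finset.mem_singleton]
        rintro rfl
        exact Perm.mem_support.1 hR hfixQ
      have := Finset.card_le_card hsub
      rw [Finset.card_compl, Finset.card_singleton, ← Nat.card_eq_fintype_card, hn6] at this
      omega
    omega
  -- `x` centralises `K0`
  set L : Subgroup K := φ.ker ⊓ G0.comap K.subtype with hL
  haveI hLn : L.Normal := by
    refine ⟨fun l hl g => ⟨φ.normal_ker.conj_mem l hl.1 g, (hG0 _).2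
      ⟨(g * l * g⁻¹ : K).2.1, ?_⟩⟩⟩
    have hs : Perm.sign ((l : K) : Perm α) = 1 := ((hG0 _).1 hl.2).2
    simp [hs]
  have hLbot : L = ⊥ := by
    have hnorm : ∀ (l : K), l ∈ L → ∀ R : Sylow 5 K,
        l ∈ Subgroup.normalizer ((R : Subgroup K) : Set K) := fun l hl R =>
      Sylow.smul_eq_iff_mem_normalizer.1 (congrArg (fun σ : Perm (Sylow 5 K) => σ R) hl.1)
    have hin : ∀ l : L, ∃ hg : ((l : K) : Perm α) ∈ G0,
        (⟨((l : K) : Perm α), hg⟩ : G0) ∈ Subgroup.normalizer ((Q0 : Subgroup G0) : Set G0) :=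
      fun l => hnormQ l l.2.2 (hnorm l l.2 QK)
    let ψ : L →* Subgroup.normalizer ((Q0 : Subgroup G0) : Set G0) :=
      MonoidHom.mk' (fun l => ⟨⟨((l : K) : Perm α), (hin l).1⟩, (hin l).2⟩) (fun l l' => rfl)
    have hd : Nat.card L ∣ 10 := hN10 ▸ Subgroup.card_dvd_of_injective ψ (fun l l' h => by
      have h' := congrArg (fun z : Subgroup.normalizer ((Q0 : Subgroup G0) : Set G0) =>
        ((z : G0) : Perm α)) h
      exact Subtype.ext (Subtype.ext h'))
    have h5 : ¬ 5 ∣ Nat.card L := by
      intro h
      obtain ⟨u, hu⟩ := exists_prime_orderOf_dvd_card' (G := L) 5 h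
      have huK : orderOf (u : K) = 5 := by rw [Subgroup.orderOf_coe, hu]
      have hall : ∀ R : Sylow 5 K, Subgroup.zpowers (u : K) ≤ R := fun R => by
        have h := (IsPGroup.of_card (n := 1) (p := 5) (G := Subgroup.zpowers (u : K))
          (by rw [Nat.card_zpowers, huK, pow_one])).inf_normalizer_sylow R
        exact fun w hw => (h.le ⟨hw, (Subgroup.zpowers_le.2 (hnorm u u.2 R)) hw⟩).2
      have : Subsingleton (Sylow 5 K) := ⟨fun R R' => by
        have hc : ∀ S : Sylow 5 K, Nat.card (S : Subgroup K) = 5 := fun S => by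
          rw [S.card_eq_multiplicity, ← QK.card_eq_multiplicity, hQKc]
        have e1 := Subgroup.eq_of_le_of_card_ge (hall R) (by rw [hc, Nat.card_zpowers, huK])
        have e2 := Subgroup.eq_of_le_of_card_ge (hall R') (by rw [hc, Nat.card_zpowers, huK])
        exact Sylow.ext (e1.symm.trans e2)⟩
      have := Finite.card_le_one_iff_subsingleton.2 this
      omega
    have hd2 : Nat.card L = 1 ∨ Nat.card L = 2 := by
      have := Nat.le_of_dvd (by norm_num) hd
      interval_cases (Nat.card L) <;> first | omega | norm_num at hd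
    rcases hd2 with h1 | h2'
    · exact Subgroup.card_eq_one.1 h1
    exfalso
    obtain ⟨z, hz⟩ := exists_prime_orderOf_dvd_card' (G := L) 2 (by rw [h2'])
    have hz1 : z ≠ 1 := fun h => by rw [h, orderOf_one] at hz; norm_num at hz
    have hconj : yK * (z : K) * yK⁻¹ = (z : K) := by
      by_contra hne
      set z2 : L := ⟨_, hLn.conj_mem _ z.2 yK⟩ with hz2
      have hcard : ({1, z, z2} : Finset L).card ≤ 2 :=
        (Nat.card_eq_finsetCard _).ge.trans ((Nat.card_le_card_of_injective _
          Subtype.val_injective).trans h2'.le)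
      rw [Finset.card_insert_of_notMem, Finset.card_pair] at hcard
      · omega
      · exact fun h => hne (congrArg Subtype.val h).symm
      · simp only [Finset.mem_insert, Finset.mem_singleton, not_or]
        refine ⟨fun h => hz1 h.symm, fun h => hz1 ?_⟩
        apply Subtype.ext
        have h' : (1 : K) = yK * (z : K) * yK⁻¹ := congrArg Subtype.val h
        calc (z : K) = yK⁻¹ * (yK * (z : K) * yK⁻¹) * yK := by group
          _ = 1 := by rw [← h']; group
    have hcz : Commute ((z : K) : Perm α) y := by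
      have h' := congrArg (fun w : K => (w : Perm α)) hconj
      simp only [Subgroup.coe_mul, Subgroup.coe_inv] at h'
      show ((z : K) : Perm α) * y = y * ((z : K) : Perm α)
      calc ((z : K) : Perm α) * y = y * ((z : K) : Perm α) * y⁻¹ * y := by
            exact congrArg (· * y) h'.symm
        _ = y * ((z : K) : Perm α) := by group
    have h5' := orderOf_dvd_of_pow_eq_one
      (commute_five_mem hα G0 hA0 hev hy0 hyo z.2.2 hcz)
    have h5'' : orderOf ((z : K) : Perm α) ∣ 5 := h5'
    rw [Subgroup.orderOf_coe, Subgroup.orderOf_coe, hz] at h5''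
    norm_num at h5''
  have hcent : ∀ g ∈ K0, g * x = x * g := by
    intro g hg
    set gK : K := ⟨g, hle hg.1, hg.2⟩ with hgK
    have hmem : gK * xK * gK⁻¹ * xK⁻¹ ∈ L := by
      refine ⟨φ.ker.mul_mem (φ.normal_ker.conj_mem _ hxker gK) (φ.ker.inv_mem hxker), ?_⟩
      refine (hG0 _).2 ⟨(gK * xK * gK⁻¹ * xK⁻¹ : K).2.1, ?_⟩
      have hsg : Perm.sign g = 1 := ((hG0 _).1 hg.1).2
      show Perm.sign (g * x * g⁻¹ * x⁻¹) = 1
      simp [map_mul, hsg]
    rw [hLbot, Subgroup.mem_bot] at hmem
    have h' : g * x * g⁻¹ * x⁻¹ = 1 := congrArg (fun z : K => (z : Perm α)) hmem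
    calc g * x = g * x * g⁻¹ * x⁻¹ * x * g := by group
      _ = x * g := by rw [h', one_mul]
  -- blocks of four points
  set M : α → Subgroup (Perm α) := fun b => G0 ⊓ stabilizer (Perm α) a ⊓ stabilizer (Perm α) b
  have hMc : ∀ b, b ≠ a → Nat.card (M b) = 6 := fun b hb => by
    have := natCard_two_point G0 h2 (Ne.symm hb)
    rw [hα, hc] at this
    simp only [M]
    omega
  have hu : ∀ b, b ≠ a → ∃ u ∈ M b, u.support.card = 6 ∧ orderOf u = 3 ∧
      ∀ v ∈ M b, v ^ 3 = 1 → v ∈ Subgroup.zpowers u := by
    intro b hb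
    obtain ⟨u, hu⟩ := exists_prime_orderOf_dvd_card' (G := M b) 3 (by rw [hMc b hb]; norm_num)
    have huo : orderOf (u : Perm α) = 3 := by rw [Subgroup.orderOf_coe, hu]
    refine ⟨u, u.2, ?_, huo, ?_⟩
    · refine (three_support G0 hα hA0 u.2.1.1 huo).resolve_right fun h9 => ?_
      have hxb1 : x b ≠ a := fun h => hb (x.injective (h.trans hxa.symm))
      have hxb2 : x b ≠ b := by
        intro h
        have hsub : x.support ⊆ ({a, b} : Finset α)ᶜ := fun w hw => by
          rw [Finset.mem_compl, Finset.mem_insert, Finset.mem_singleton]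
          rintro (rfl | rfl)
          · exact Perm.mem_support.1 hw hxa
          · exact Perm.mem_support.1 hw h
        have := Finset.card_le_card hsub
        rw [Finset.card_compl, Finset.card_pair (Ne.symm hb), hxs, hα] at this
        omega
      have hsub : (u : Perm α).support ⊆ ({a, b, x b} : Finset α)ᶜ := fun w hw => by
        rw [Finset.mem_compl]
        simp only [Finset.mem_insert, Finset.mem_singleton]
        rw [Perm.mem_support] at hw
        rintro (rfl | rfl | rfl)
        · exact hw u.2.1.2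
        · exact hw u.2.2
        · apply hw
          rw [← Perm.mul_apply, hcent _ u.2.1, Perm.mul_apply, show (u : Perm α) b = b from u.2.2]
      have := Finset.card_le_card hsub
      rw [Finset.card_compl, Finset.card_insert_of_notMem (by simp [Ne.symm hb, Ne.symm hxb1]),
        Finset.card_pair (Ne.symm hxb2), h9, hα] at this
      omega
    · intro v hv hv3
      have hidx : (Subgroup.zpowers u).index = 2 := by
        have h := (Subgroup.zpowers u).index_mul_card
        rw [Nat.card_zpowers, hu, hMc b hb] at h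
        omega
      set v' : M b := ⟨v, hv⟩
      have hv' : v' ^ 3 = 1 := Subtype.ext hv3
      have h4 : v' = (v' ^ 2) ^ 2 := by
        rw [← pow_mul, show 2 * 2 = 3 + 1 by norm_num, pow_succ, hv', one_mul]
      have hmem : v' ∈ Subgroup.zpowers u := by
        rw [h4]; exact pow_mem (Subgroup.sq_mem_of_index_two hidx v') 2
      obtain ⟨k, hk⟩ := Subgroup.mem_zpowers_iff.1 hmem
      exact Subgroup.mem_zpowers_iff.2 ⟨k, by
        have h' := congrArg Subtype.val hk
        simpa using h'⟩
  choose! u hu1 hu2 hu3 hu4 using hu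
  set F : α → Finset α := fun b => (u b).supportᶜ.erase a with hF
  have hself : ∀ b, b ≠ a → b ∈ F b := fun b hb => by
    simp only [hF, Finset.mem_erase, Finset.mem_compl, Perm.notMem_support]
    exact ⟨hb, (hu1 b hb).2⟩
  have hFc : ∀ b, b ≠ a → (F b).card = 4 := fun b hb => by
    simp only [hF]
    rw [Finset.card_erase_of_mem, Finset.card_compl, hu2 b hb, hα]
    rw [Finset.mem_compl, Perm.notMem_support]
    exact (hu1 b hb).1.2
  have hsame : ∀ b, b ≠ a → ∀ c ∈ F b, F c = F b := by
    intro b hb c hcF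
    have hca : c ≠ a := Finset.ne_of_mem_erase hcF
    have hbc : (u b) c = c := by
      rw [← Perm.notMem_support, ← Finset.mem_compl]
      exact Finset.mem_of_mem_erase hcF
    have hmemM : u b ∈ M c := ⟨⟨(hu1 b hb).1.1, (hu1 b hb).1.2⟩, hbc⟩
    obtain ⟨k, hk⟩ := Subgroup.mem_zpowers_iff.1
      (hu4 c hca (u b) hmemM (pow_eq_one_of_orderOf (hu3 b hb)))
    refine Finset.eq_of_subset_of_card_le (fun w hw => ?_) (by rw [hFc b hb, hFc c hca])
    simp only [hF, Finset.mem_erase, Finset.mem_compl, Perm.notMem_support] at hw ⊢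
    refine ⟨hw.1, ?_⟩
    rw [← hk]
    exact Perm.zpow_apply_eq_self_of_apply_eq_self hw.2 k
  have hsum : ((Finset.univ : Finset α).erase a).card =
      ∑ B ∈ ((Finset.univ : Finset α).erase a).image F, 4 := by
    rw [Finset.card_eq_sum_card_image F]
    refine Finset.sum_congr rfl fun B hB => ?_
    obtain ⟨b, hb, rfl⟩ := Finset.mem_image.1 hB
    have hba := Finset.ne_of_mem_erase hb
    rw [← hFc b hba]
    congr 1
    ext c
    simp only [Finset.mem_filter, Finset.mem_erase, Finset.mem_univ, and_true]
    constructor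
    · rintro ⟨hca, h⟩
      rw [← h]
      exact hself c hca
    · intro hc'
      exact ⟨Finset.ne_of_mem_erase hc', hsame b hba c hc'⟩
  rw [Finset.sum_const, smul_eq_mul, Finset.card_erase_of_mem (Finset.mem_univ a),
    Finset.card_univ, hα] at hsum
  omega

/-- **Degree eleven.** -/
theorem main (hα : Fintype.card α = 11) [IsPretransitive G α] (hG : ¬ Group.IsSolvable G)
    (hA : ¬ alternatingGroup α ≤ G) :
    (IsMultiplyPretransitive G α 4 ∧ ∀ x : Fin 4 ↪ α, stabilizer G x = ⊥) ∨
      (Nat.card G = 660 ∧ IsSimpleGroup G) := by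
  classical
  haveI : Fact (Nat.Prime 11) := ⟨by norm_num⟩
  set H : Subgroup (Perm α) := G ⊓ alternatingGroup α with hH
  haveI : IsPretransitive H α := isPretransitive_inf_alternating (by norm_num) hα G
  have hns : ¬ Group.IsSolvable H := not_isSolvable_inf_alternating G hG
  have hev : H ≤ alternatingGroup α := inf_le_right
  have hA0 : ¬ alternatingGroup α ≤ H := fun h => hA (h.trans inf_le_left)
  obtain ⟨hord, hsimp⟩ := natCard_even_part hα H hev hns hA0
  have h2 : IsMultiplyPretransitive H α 2 :=
    (prime_degree_solvable_or_two_transitive hα H).resolve_left hns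
  have hmemH : ∀ g, g ∈ H ↔ g ∈ G ∧ Perm.sign g = 1 := fun g => by
    rw [hH, Subgroup.mem_inf, Perm.mem_alternatingGroup]
  rcases natCard_eq_or_twice G with e | e
  · have heq : H = G := Subgroup.eq_of_le_of_card_ge inf_le_left e.le
    clear_value H
    subst heq
    rcases hord with h | h
    · exact Or.inr ⟨h, hsimp⟩
    · exact Or.inl ⟨four_transitive H hα hev hA0 h2 h, stabilizer_four H hα hev hA0 h2 h⟩
  · exfalso
    rcases hord with h | h
    · exact not_twice_660 G H hα hA hmemH h2 h (by rw [e, ← hH, h])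
    · exact not_twice_7920 G H hα hA hmemH h2 h (by rw [e, ← hH, h])

end Cfsg.Agent.PermGroups.DegreeEleven
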