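import Cfsg.Agent.PermGroups.ZassenhausBasic
import Cfsg.Agent.Linear.Transvection
import Mathlib.Topology.Compactification.OnePoint.ProjectiveLine
import Mathlib.NumberTheory.LegendreSymbol.QuadraticChar.Basic
import Mathlib.Algebra.Field.TransferInstance
import Mathlib.LinearAlgebra.Matrix.ProjectiveSpecialLinearGroup

/-!
Recognition of `PSL(2, q)`: doubly transitive groups in which only the identity fixes three
points, with two-point stabilisers of even order `(q - 1) / 2`.
-/

set_option autoImplicit false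
set_option linter.style.haveILetI false
set_option linter.unusedSectionVars false

namespace Cfsg.Agent.PermGroups

open MulAction
open scoped OnePoint

/-- A carrier type in the lowest universe. -/
structure FieldBox (n : ℕ) where
  /-- The underlying number. -/
  val : Fin n

/-- The squares are not closed under adding one. -/
theorem squares_not_add_one_closed {K : Type*} [Field K] [Finite K] (hchar : ringChar K ≠ 2)
    (hm1 : IsSquare (-1 : K)) (h : ∀ x : K, x ≠ 0 → x + 1 ≠ 0 → IsSquare x → IsSquare (x + 1)) : False := by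
  classical
  haveI := Fintype.ofFinite K
  have hadd : ∀ u v : K, IsSquare u → IsSquare v → IsSquare (u + v) := by
    intro u v hu hv
    by_cases hu0 : u = 0
    · rwa [hu0, zero_add]
    by_cases hv0 : v = 0
    · rwa [hv0, add_zero]
    by_cases huv : u + v = 0
    · exact ⟨0, by rw [huv, mul_zero]⟩
    have h1 := h (u / v) (div_ne_zero hu0 hv0) (fun e => huv (by field_simp at e; linear_combination e)) (hu.div hv)
    rw [show u + v = v * (u / v + 1) by field_simp]
    exact hv.mul h1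
  obtain ⟨z, hz⟩ := FiniteField.exists_nonsquare hchar
  obtain ⟨u, v, huv⟩ := FiniteField.exists_root_sum_quadratic (R := K)
    (f := Polynomial.X ^ 2) (g := Polynomial.X ^ 2 - Polynomial.C z)
    (Polynomial.degree_X_pow 2) (Polynomial.degree_X_pow_sub_C (by norm_num) z)
    (FiniteField.odd_card_of_char_ne_two hchar)
  simp only [Polynomial.eval_pow, Polynomial.eval_X, Polynomial.eval_sub, Polynomial.eval_C] at huv
  exact hz (by
    rw [show z = u * u + v * v by linear_combination -huv]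
    exact hadd _ _ ⟨u, rfl⟩ ⟨v, rfl⟩)

theorem toGL_entry {K : Type*} [Field K] (M : Matrix (Fin 2) (Fin 2) K) (h : M.det = 1) (i j : Fin 2) :
    (Matrix.SpecialLinearGroup.toGL ⟨M, h⟩) i j = M i j := rfl

variable {G Ω : Type*} [Group G] [Finite G] [MulAction G Ω] [Fintype Ω]

/-- Coordinates from a field for an abelian two-point stabiliser of half the possible order. -/
theorem exists_half_field (hthree : ThreeFix G Ω) {a b c : Ω} (hab : a ≠ b) (hca : c ≠ a) (hcb : c ≠ b)
    (hHc : ∀ x ∈ stabilizer G a ⊓ stabilizer G b, ∀ y ∈ stabilizer G a ⊓ stabilizer G b, x * y = y * x)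
    {F : Subgroup G} (hFb : F ≤ stabilizer G b) (hFn : ∀ g ∈ stabilizer G b, ∀ u ∈ F, g * u * g⁻¹ ∈ F)
    (hreg : ∀ y z : Ω, y ≠ b → z ≠ b → ∃! u : F, (u : G) • y = z) (hFcard : Nat.card F + 1 = Fintype.card Ω)
    (hFc : ∀ u ∈ F, ∀ v ∈ F, u * v = v * u)
    (hsmall : 2 * Nat.card ↥(stabilizer G a ⊓ stabilizer G b) + 2 = Fintype.card Ω) :
    ∃ (K : Type) (_ : Field K) (_ : Fintype K) (τ : K → G) (κ : ↥(stabilizer G a ⊓ stabilizer G b) → K),
      ringChar K ≠ 2 ∧ Fintype.card K + 1 = Fintype.card Ω ∧ (∀ x, τ x • b = b) ∧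
      (∀ x y, τ (x + y) = τ x * τ y) ∧ (∀ x y, τ x • a = τ y • a → x = y) ∧
      (∀ z, z ≠ b → ∃ x, τ x • a = z) ∧ τ 1 • a = c ∧ (∀ h, κ h ≠ 0 ∧ IsSquare (κ h)) ∧
      (∀ h x, h.1 • τ x • a = τ (κ h * x) • a) ∧ (∀ k : K, k ≠ 0 → IsSquare k → ∃ h, κ h = k) := by
  classical
  set H := stabilizer G a ⊓ stabilizer G b with hH
  have hfa : ∀ {h : G}, h ∈ H → h • a = a := fun hh => mem_stabilizer_iff.1 hh.1
  have hfb : ∀ {h : G}, h ∈ H → h • b = b := fun hh => mem_stabilizer_iff.1 hh.2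
  have hd0 : 0 < Nat.card H := Nat.card_pos
  have hne : ∀ {u : G}, u ∈ F → ∀ {y : Ω}, y ≠ b → u • y ≠ b := fun {u} hu {y} hy e =>
    hy (smul_left_cancel u (e.trans (mem_stabilizer_iff.1 (hFb hu)).symm))
  have hu1 : ∀ u ∈ F, u • a = a → u = 1 := fun u hu e =>
    congrArg Subtype.val ((hreg a a hab hab).unique (y₁ := ⟨u, hu⟩) (y₂ := 1) e (one_smul G a))
  have hsemi : ∀ h ∈ H, ∀ u ∈ F, u ≠ 1 → h * u * h⁻¹ = u → h = 1 := by
    intro h hh u hu hu1' e
    refine hthree h a b (u • a) hab (hne hu hab).symm (fun e' => hu1' (hu1 u hu e'.symm)) (hfa hh) (hfb hh) ?_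
    conv_rhs => rw [← e]
    rw [mul_smul, mul_smul, inv_smul_eq_iff.2 (hfa hh).symm]
  -- an invariant subgroup of the translations is trivial or everything
  have hinvK : ∀ S : Subgroup G, S ≤ F → (∀ h ∈ H, ∀ u ∈ S, h * u * h⁻¹ ∈ S) → (∃ u ∈ S, u ≠ 1) → S = F := by
    intro S hSF hS ⟨u, hu, hu1'⟩
    by_contra hne'
    have hdS : Nat.card H ≤ Nat.card {v : S // v ≠ 1} := by
      refine Nat.card_le_card_of_injective (fun h : H => (⟨⟨(h : G) * u * (h : G)⁻¹, hS h h.2 u hu⟩,
        fun e => hu1' (conj_eq_one_iff.1 (congrArg Subtype.val e))⟩ : {v : S // v ≠ 1})) (fun h h' e => ?_)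
      have e' : (h : G) * u * (h : G)⁻¹ = h' * u * (h' : G)⁻¹ :=
        congrArg (fun v : {v : S // v ≠ 1} => ((v : S) : G)) e
      refine Subtype.ext (inv_mul_eq_one.1 (hsemi _ (mul_mem (inv_mem h.2) h'.2) u (hSF hu) hu1' ?_))
      calc (h : G)⁻¹ * h' * u * ((h : G)⁻¹ * h')⁻¹ = (h : G)⁻¹ * (h' * u * (h' : G)⁻¹) * h := by group
        _ = u := by rw [← e']; group
    have hS1 : Nat.card {v : S // v ≠ 1} + 1 = Nat.card S := by
      rw [← Finite.card_option, Nat.card_congr (Equiv.optionSubtypeNe (1 : S))]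
    obtain ⟨k, hk⟩ := Subgroup.card_dvd_of_le hSF
    have hlt : Nat.card S < Nat.card F := by
      by_contra hge
      exact hne' (Subgroup.eq_of_le_of_card_ge hSF (not_lt.1 hge))
    have hk2 : 2 ≤ k := by
      rcases k with _ | _ | k
      · rw [Nat.mul_zero] at hk; omega
      · rw [Nat.mul_one] at hk; omega
      · omega
    have : Nat.card S * 2 ≤ Nat.card F := hk ▸ Nat.mul_le_mul_left _ hk2
    omega
  -- the field
  obtain ⟨K, fK, fintK, τ, τb, hadd, hτ0, finj, fsurj, fne, hone, hcardK, hscal⟩ :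
      ∃ (K : Type) (_ : Field K) (_ : Fintype K) (τ : K → G), (∀ x, τ x • b = b) ∧
        (∀ x y, τ (x + y) = τ x * τ y) ∧ τ 0 = 1 ∧ (∀ x y, τ x • a = τ y • a → x = y) ∧
        (∀ z, z ≠ b → ∃ x, τ x • a = z) ∧ (∀ x, τ x • a ≠ b) ∧ τ 1 • a = c ∧
        Fintype.card K + 1 = Fintype.card Ω ∧ ∀ h : H, ∃ k : K, ∀ x, (h : G) • τ x • a = τ (k * x) • a := by
    letI : CommGroup F := { (inferInstance : Group F) with mul_comm := fun u v => Subtype.ext (hFc u u.2 v v.2) }
    let V := Additive F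
    let act : H → AddMonoid.End V := fun h =>
      { toFun := fun v => Additive.ofMul ⟨(h : G) * v.toMul.1 * (h : G)⁻¹, hFn _ h.2.2 _ v.toMul.2⟩
        map_zero' := congrArg Additive.ofMul (Subtype.ext (by
          show (h : G) * 1 * (h : G)⁻¹ = 1
          group))
        map_add' := fun v w => congrArg Additive.ofMul (Subtype.ext (by
          show (h : G) * (v.toMul.1 * w.toMul.1) * (h : G)⁻¹ =
            (h : G) * v.toMul.1 * (h : G)⁻¹ * ((h : G) * w.toMul.1 * (h : G)⁻¹)
          group)) }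
    have hact : ∀ (h : H) (v : V), ((act h v).toMul : G) = (h : G) * v.toMul.1 * (h : G)⁻¹ := fun h v => rfl
    let R : Subring (AddMonoid.End V) := Subring.closure (Set.range act)
    have hR : IsMulCommutative R := by
      refine Subring.isMulCommutative_closure ?_
      rintro _ ⟨h, rfl⟩ _ ⟨h', rfl⟩
      refine AddMonoidHom.ext fun v => Additive.toMul.injective (Subtype.ext ?_)
      show (h : G) * ((h' : G) * v.toMul.1 * (h' : G)⁻¹) * (h : G)⁻¹ =
        (h' : G) * ((h : G) * v.toMul.1 * (h : G)⁻¹) * (h' : G)⁻¹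
      calc (h : G) * ((h' : G) * v.toMul.1 * (h' : G)⁻¹) * (h : G)⁻¹
          = ((h : G) * h') * v.toMul.1 * ((h : G) * h')⁻¹ := by group
        _ = ((h' : G) * h) * v.toMul.1 * ((h' : G) * h)⁻¹ := by rw [hHc _ h.2 _ h'.2]
        _ = _ := by group
    have hRc : ∀ r r' : R, r * r' = r' * r := fun r r' => hR.is_comm.comm r r'
    have hcyc : ∀ v : V, v ≠ 0 → ∀ w : V, ∃ r : R, r.1 v = w := by
      intro v hv w
      let S : Subgroup G :=
        { carrier := {u | ∃ hu : u ∈ F, ∃ r : R, r.1 v = Additive.ofMul ⟨u, hu⟩}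
          one_mem' := ⟨one_mem _, 0, rfl⟩
          mul_mem' := fun {x y} ⟨hx, r, hr⟩ ⟨hy, r', hr'⟩ => ⟨mul_mem hx hy, r + r', by
            show r.1 v + r'.1 v = _
            rw [hr, hr']; rfl⟩
          inv_mem' := fun {x} ⟨hx, r, hr⟩ => ⟨inv_mem hx, -r, by
            show -(r.1 v) = _
            rw [hr]; rfl⟩ }
      have hS : S = F := by
        refine hinvK S (fun u ⟨hu, _⟩ => hu) (fun h hh u ⟨hu, r, hr⟩ => ?_)
          ⟨v.toMul.1, ⟨v.toMul.2, 1, rfl⟩, fun e => hv (Additive.toMul.injective (Subtype.ext e))⟩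
        refine ⟨hFn h hh.2 u hu, ⟨act ⟨h, hh⟩, Subring.subset_closure ⟨_, rfl⟩⟩ * r, ?_⟩
        show act ⟨h, hh⟩ (r.1 v) = _
        rw [hr]
        rfl
      have hw : w.toMul.1 ∈ S := by rw [hS]; exact w.toMul.2
      obtain ⟨_, r, hr⟩ := hw
      exact ⟨r, hr⟩
    obtain ⟨u₀, hu₀, -⟩ := hreg a c hab hcb
    let v₀ : V := Additive.ofMul u₀
    have hv₀ : v₀ ≠ 0 := fun e => by
      have e' : u₀ = 1 := congrArg Additive.toMul e
      rw [e'] at hu₀
      exact hca (hu₀.symm.trans (one_smul G a))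
    have hψinj : Function.Injective (fun r : R => r.1 v₀) := by
      intro r r' e
      refine Subtype.ext (AddMonoidHom.ext fun w => ?_)
      obtain ⟨q, rfl⟩ := hcyc v₀ hv₀ w
      show r.1 (q.1 v₀) = r'.1 (q.1 v₀)
      have e1 : (r * q).1 v₀ = (r' * q).1 v₀ := by
        rw [hRc r q, hRc r' q]
        show q.1 (r.1 v₀) = q.1 (r'.1 v₀)
        rw [show r.1 v₀ = r'.1 v₀ from e]
      exact e1
    haveI : Finite R := Finite.of_injective _ hψinj
    letI : CommRing R := { (inferInstance : Ring R) with mul_comm := hRc }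
    haveI : Nontrivial R := ⟨⟨1, 0, fun e => hv₀ (congrArg (fun r : R => r.1 v₀) e)⟩⟩
    haveI : NoZeroDivisors R := ⟨fun {r r'} e => by
      by_cases h0 : r' = 0
      · exact Or.inr h0
      left
      have hw : r'.1 v₀ ≠ 0 := fun e0 => h0 (hψinj (show r'.1 v₀ = (0 : R).1 v₀ from e0))
      obtain ⟨q, hq⟩ := hcyc _ hw v₀
      refine hψinj ?_
      show r.1 v₀ = 0
      rw [← hq]
      show (r * q).1 (r'.1 v₀) = 0
      rw [hRc r q]
      show q.1 ((r * r').1 v₀) = 0
      rw [e]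
      exact map_zero q.1⟩
    haveI : IsDomain R := NoZeroDivisors.to_isDomain _
    letI fR : Field R := (Finite.isDomain_to_isField R).toField
    let e : FieldBox (Nat.card R) ≃ R :=
      ({ toFun := FieldBox.val, invFun := FieldBox.mk, left_inv := fun _ => rfl, right_inv := fun _ => rfl } :
        FieldBox (Nat.card R) ≃ Fin (Nat.card R)).trans (Finite.equivFin _).symm
    letI fK : Field (FieldBox (Nat.card R)) := e.field
    let E : FieldBox (Nat.card R) ≃+* R := e.ringEquiv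
    haveI : Finite (FieldBox (Nat.card R)) := Finite.of_equiv _ e.symm
    letI fintK : Fintype (FieldBox (Nat.card R)) := Fintype.ofFinite _
    let K := FieldBox (Nat.card R)
    let τ : K → G := fun x => (((E x).1 v₀).toMul : G)
    have τmem : ∀ x, τ x ∈ F := fun x => ((E x).1 v₀).toMul.2
    have τb : ∀ x, τ x • b = b := fun x => mem_stabilizer_iff.1 (hFb (τmem x))
    have hadd : ∀ x y, τ (x + y) = τ x * τ y := fun x y => by
      show (((E (x + y)).1 v₀).toMul : G) = _
      rw [map_add]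
      rfl
    have hτ0 : τ 0 = 1 := mul_eq_left.mp ((hadd 0 0).symm.trans (by rw [add_zero]))
    have hone : τ 1 • a = c := by
      show (((E 1).1 v₀).toMul : G) • a = c
      rw [map_one]
      exact hu₀
    have τinj : Function.Injective τ := fun x y h =>
      E.injective (hψinj (Additive.toMul.injective (Subtype.ext h)))
    have finj : ∀ x y, τ x • a = τ y • a → x = y := fun x y h => τinj (congrArg Subtype.val
      ((hreg a (τ y • a) hab (hne (τmem y) hab)).unique (y₁ := ⟨τ x, τmem x⟩) (y₂ := ⟨τ y, τmem y⟩) h rfl))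
    have fsurj : ∀ z, z ≠ b → ∃ x, τ x • a = z := fun z hz => by
      obtain ⟨u, hu, -⟩ := hreg a z hab hz
      obtain ⟨r, hr⟩ := hcyc v₀ hv₀ (Additive.ofMul u)
      refine ⟨E.symm r, ?_⟩
      show (((E (E.symm r)).1 v₀).toMul : G) • a = z
      rw [E.apply_symm_apply, hr]
      exact hu
    have fne : ∀ x, τ x • a ≠ b := fun x => hne (τmem x) hab
    have hcardK : Fintype.card K + 1 = Fintype.card Ω := by
      rw [← hFcard]
      congr 1
      rw [← Nat.card_eq_fintype_card]
      exact Nat.card_eq_of_bijective (fun x : K => (⟨τ x, τmem x⟩ : F)) ⟨fun x y h => τinj (congrArg Subtype.val h),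
        fun u => by
          obtain ⟨r, hr⟩ := hcyc v₀ hv₀ (Additive.ofMul u)
          refine ⟨E.symm r, Subtype.ext ?_⟩
          show (((E (E.symm r)).1 v₀).toMul : G) = u
          rw [E.apply_symm_apply, hr]
          rfl⟩
    -- the two-point stabiliser acts by multiplications
    have hscal : ∀ h : H, ∃ k : K, ∀ x, (h : G) • τ x • a = τ (k * x) • a := fun h => by
      refine ⟨E.symm ⟨act h, Subring.subset_closure ⟨h, rfl⟩⟩, fun x => ?_⟩
      show _ = (((E (E.symm ⟨act h, Subring.subset_closure ⟨h, rfl⟩⟩ * x)).1 v₀).toMul : G) • a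
      rw [map_mul, E.apply_symm_apply]
      show (h : G) • τ x • a = ((h : G) * τ x * (h : G)⁻¹) • a
      rw [mul_smul, mul_smul, inv_smul_eq_iff.2 (hfa h.2).symm]
    exact ⟨K, fK, fintK, τ, τb, hadd, hτ0, finj, fsurj, fne, hone, hcardK, hscal⟩
  choose κ hκ using hscal
  have hκ1 : ∀ h : H, τ (κ h) • a = (h : G) • c := fun h => by rw [← hone, hκ, mul_one]
  have hκm : ∀ h h' : H, κ (h * h') = κ h * κ h' := fun h h' => finj _ _ (by
    rw [hκ1, Subgroup.coe_mul, mul_smul, ← hκ1, hκ])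
  have hκinj : Function.Injective κ := fun h h' e => by
    refine Subtype.ext (inv_mul_eq_one.1 (hthree _ a b c hab hcb.symm hca.symm ?_ ?_ ?_))
    · exact hfa (mul_mem (inv_mem h.2) h'.2)
    · exact hfb (mul_mem (inv_mem h.2) h'.2)
    · rw [mul_smul, ← hκ1, ← e, hκ1, inv_smul_smul]
  have hκ0 : ∀ h, κ h ≠ 0 := fun h e => hca (by
    have := hκ1 h
    rw [e, hτ0, one_smul] at this
    exact (smul_left_cancel (h : G) ((hfa h.2).trans this)).symm)
  have hq : Fintype.card K = 2 * Nat.card H + 1 := by omega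
  have hchar : ringChar K ≠ 2 := fun hh => by
    have := (FiniteField.even_card_iff_char_two (F := K)).1 hh
    omega
  have two0 : (2 : K) ≠ 0 := Ring.two_ne_zero hchar
  have hκ1' : κ 1 = 1 := finj _ _ (by rw [hκ1, Subgroup.coe_one, one_smul, hone])
  have hκsq : ∀ h, IsSquare (κ h) := fun h => by
    rw [FiniteField.isSquare_iff hchar (hκ0 h), show Fintype.card K / 2 = Nat.card H by omega]
    have hp : ∀ n : ℕ, κ (h ^ n) = κ h ^ n := fun n => by
      induction n with
      | zero => rw [pow_zero, pow_zero, hκ1']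
      | succ n ih => rw [pow_succ, pow_succ, hκm, ih]
    rw [← hp, pow_card_eq_one', hκ1']
  obtain ⟨ε, hε⟩ := FiniteField.exists_nonsquare hchar
  have hε0 : ε ≠ 0 := fun e => hε ⟨0, by rw [e, mul_zero]⟩
  have hsqimg : ∀ k : K, k ≠ 0 → IsSquare k → ∃ h, κ h = k := by
    intro k hk hks
    let Φ : H ⊕ H → {x : K // x ≠ 0} :=
      Sum.elim (fun h => ⟨κ h, hκ0 h⟩) (fun h => ⟨ε * κ h, mul_ne_zero hε0 (hκ0 h)⟩)
    have hΦ : Function.Injective Φ := by
      rintro (h | h) (h' | h') e <;> have e' := congrArg Subtype.val e <;> simp only [Φ, Sum.elim_inl, Sum.elim_inr] at e'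
      · rw [hκinj e']
      · exfalso
        refine hε ?_
        have := (hκsq h).div (hκsq h')
        rwa [e', mul_div_cancel_right₀ _ (hκ0 h')] at this
      · exfalso
        refine hε ?_
        have := (hκsq h').div (hκsq h)
        rwa [← e', mul_div_cancel_right₀ _ (hκ0 h)] at this
      · rw [hκinj (mul_left_cancel₀ hε0 e')]
    have hsurj : Function.Surjective Φ := by
      haveI := Fintype.ofFinite H
      refine ((Fintype.bijective_iff_injective_and_card Φ).2 ⟨hΦ, ?_⟩).2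
      rw [Fintype.card_sum, Fintype.card_subtype_compl, Fintype.card_subtype_eq, ← Nat.card_eq_fintype_card (α := H)]
      omega
    obtain ⟨h | h, he⟩ := hsurj ⟨k, hk⟩
    · exact ⟨h, congrArg Subtype.val he⟩
    · exfalso
      refine hε ?_
      have he' : ε * κ h = k := congrArg Subtype.val he
      have := hks.div (hκsq h)
      rwa [← he', mul_div_cancel_right₀ _ (hκ0 h)] at this
  exact ⟨K, fK, fintK, τ, κ, hchar, hcardK, τb, hadd, finj, fsurj, hone, fun h => ⟨hκ0 h, hκsq h⟩, hκ,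
    hsqimg⟩

/-- A group in such coordinates, with an element acting as `x ↦ -x⁻¹`, is `PSL(2, q)`. -/
theorem nonempty_psl_of_coord (hthree : ThreeFix G Ω) {a b c : Ω} (hab : a ≠ b) (hca : c ≠ a) (hcb : c ≠ b)
    {K : Type} [Field K] [Fintype K] (τ : K → G) (κ : ↥(stabilizer G a ⊓ stabilizer G b) → K)
    (τb : ∀ x, τ x • b = b) (hadd : ∀ x y, τ (x + y) = τ x * τ y)
    (finj : ∀ x y, τ x • a = τ y • a → x = y) (fsurj : ∀ z, z ≠ b → ∃ x, τ x • a = z) (hone : τ 1 • a = c)
    (hκsq' : ∀ h, κ h ≠ 0 ∧ IsSquare (κ h)) (hκ : ∀ h x, (h.1 : G) • τ x • a = τ (κ h * x) • a)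
    (s : G) (hsa : s • a = b) (hsb : s • b = a) (hsinv : ∀ x : K, x ≠ 0 → s • τ x • a = τ (-x⁻¹) • a) :
    Nonempty (G ≃* Matrix.ProjectiveSpecialLinearGroup (Fin 2) K) := by
  classical
  have hfa : ∀ {h : G}, h ∈ (stabilizer G a ⊓ stabilizer G b : Subgroup G) → h • a = a := fun hh => mem_stabilizer_iff.1 hh.1
  have hfb : ∀ {h : G}, h ∈ (stabilizer G a ⊓ stabilizer G b : Subgroup G) → h • b = b := fun hh => mem_stabilizer_iff.1 hh.2
  have hκ0 : ∀ h, κ h ≠ 0 := fun h => (hκsq' h).1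
  have hκsq : ∀ h, IsSquare (κ h) := fun h => (hκsq' h).2
  have hτ0 : τ 0 = 1 := mul_eq_left.mp ((hadd 0 0).symm.trans (by rw [add_zero]))
  have fne : ∀ x, τ x • a ≠ b := fun x e => hab (smul_left_cancel (τ x) (e.trans (τb x).symm))
  -- the projective line
  let f : OnePoint K → Ω := fun p => p.elim b fun x => τ x • a
  have hf : Function.Bijective f := by
    refine ⟨fun p q h => ?_, fun z => ?_⟩
    · induction p using OnePoint.rec with
      | infty =>
        induction q using OnePoint.rec with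
        | infty => rfl
        | coe y => exact absurd h.symm (fne y)
      | coe x =>
        induction q using OnePoint.rec with
        | infty => exact absurd h (fne x)
        | coe y => exact congrArg _ (finj x y h)
    · by_cases hz : z = b
      · exact ⟨∞, hz.symm⟩
      · obtain ⟨x, hx⟩ := fsurj z hz
        exact ⟨x, hx⟩
  let B := Equiv.ofBijective f hf
  let ρ : G →* Equiv.Perm (OnePoint K) :=
    (B.symm.permCongrHom).toMonoidHom.comp (MulAction.toPermHom G Ω)
  let Ψ : Matrix.SpecialLinearGroup (Fin 2) K →* Equiv.Perm (OnePoint K) :=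
    (MulAction.toPermHom (GL (Fin 2) K) (OnePoint K)).comp Matrix.SpecialLinearGroup.toGL
  have hrel : ∀ (g : G) (M : Matrix.SpecialLinearGroup (Fin 2) K),
      (∀ p, g • f p = f (Matrix.SpecialLinearGroup.toGL M • p)) → ρ g = Ψ M := fun g M h =>
    Equiv.ext fun p => by
      show B.symm (g • B p) = Matrix.SpecialLinearGroup.toGL M • p
      rw [Equiv.symm_apply_eq]
      exact h p
  have hρi : Function.Injective ρ := by
    rw [injective_iff_map_eq_one]
    intro g hg
    have hp : ∀ p, g • f p = f p := fun p => by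
      have h1 : B.symm (g • B p) = p := DFunLike.congr_fun hg p
      exact (Equiv.symm_apply_eq _).mp h1
    refine hthree g a b c hab hcb.symm hca.symm ?_ (hp ∞) ?_
    · have := hp ((0 : K) : OnePoint K)
      simpa [f, hτ0] using this
    · have := hp ((1 : K) : OnePoint K)
      simpa [f, hone] using this
  have hT : ∀ x : K, ρ (τ x) ∈ Ψ.range := by
    intro x
    refine ⟨⟨!![1, x; 0, 1], by simp [Matrix.det_fin_two]⟩, (hrel _ _ fun p => ?_).symm⟩
    induction p using OnePoint.rec with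
    | infty => rw [OnePoint.smul_infty_eq_ite]; simp [toGL_entry, f, τb]
    | coe y =>
      rw [OnePoint.smul_some_eq_ite]
      simp [toGL_entry, f, ← mul_smul, ← hadd, add_comm]
  have hD : ∀ h : (stabilizer G a ⊓ stabilizer G b : Subgroup G), ρ h ∈ Ψ.range := by
    intro h
    obtain ⟨u, hu⟩ := hκsq h
    have hu0 : u ≠ 0 := fun e => hκ0 h (by rw [hu, e, mul_zero])
    refine ⟨⟨!![u, 0; 0, u⁻¹], by simp [Matrix.det_fin_two, hu0]⟩, (hrel _ _ fun p => ?_).symm⟩
    induction p using OnePoint.rec with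
    | infty => rw [OnePoint.smul_infty_eq_ite]; simp [toGL_entry, f]; exact hfb h.2
    | coe y =>
      rw [OnePoint.smul_some_eq_ite]
      simp [toGL_entry, f, hu0, hκ, hu]
      congr 2
      ring
  have hdetW : (!![0, -1; 1, 0] : Matrix (Fin 2) (Fin 2) K).det = 1 := by
    simp [Matrix.det_fin_two]
  have hW : ρ s = Ψ ⟨!![0, -1; 1, 0], hdetW⟩ := hrel _ _ fun p => by
    induction p using OnePoint.rec with
    | infty => rw [OnePoint.smul_infty_eq_ite]; simp [toGL_entry, f, hsb, hτ0]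
    | coe y =>
      rw [OnePoint.smul_some_eq_ite]
      by_cases hy : y = 0
      · simp [toGL_entry, f, hy, hτ0, hsa]
      · simp [toGL_entry, f, hy, hsinv y hy]
        congr 2
        field_simp
  have hall : ∀ g, ρ g ∈ Ψ.range := by
    have hfix : ∀ g : G, g • b = b → ρ g ∈ Ψ.range := by
      intro g hgb
      obtain ⟨x, hx⟩ := fsurj (g • a) fun h => hab (smul_left_cancel g (h.trans hgb.symm))
      have hm : (τ x)⁻¹ * g ∈ (stabilizer G a ⊓ stabilizer G b : Subgroup G) := ⟨mem_stabilizer_iff.2 (by rw [mul_smul, ← hx, inv_smul_smul]),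
        mem_stabilizer_iff.2 (by rw [mul_smul, hgb, inv_smul_eq_iff, τb])⟩
      rw [show g = τ x * ((τ x)⁻¹ * g) by group, map_mul]
      exact mul_mem (hT x) (hD ⟨_, hm⟩)
    intro g
    by_cases hgb : g • b = b
    · exact hfix g hgb
    obtain ⟨x, hx⟩ := fsurj (g • b) hgb
    have hm := hfix ((τ x * s)⁻¹ * g) (by rw [mul_smul, inv_smul_eq_iff, mul_smul, hsb, hx])
    rw [show g = τ x * s * ((τ x * s)⁻¹ * g) by group, map_mul, map_mul]
    exact mul_mem (mul_mem (hT x) ⟨_, hW.symm⟩) hm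
  have hΨ : ∀ A, Ψ A ∈ ρ.range := by
    refine Linear.transvection_induction _ (fun i' j' hij z => ?_) (fun A A' hA hA' => by
      rw [map_mul]; exact mul_mem hA hA')
    have h00 : (Matrix.SpecialLinearGroup.toGL (Matrix.SpecialLinearGroup.transvection hij z)).1 =
        Matrix.transvection i' j' z := rfl
    fin_cases i' <;> fin_cases j'
    · exact absurd rfl hij
    · refine ⟨τ z, hrel _ _ fun p => ?_⟩
      induction p using OnePoint.rec with
      | infty =>
        rw [OnePoint.smul_infty_eq_ite]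
        simp [h00, Matrix.transvection, f, τb]
      | coe y =>
        rw [OnePoint.smul_some_eq_ite]
        simp [h00, Matrix.transvection, f, ← mul_smul, ← hadd, add_comm]
    · refine ⟨s * τ (-z) * s, hrel _ _ fun p => ?_⟩
      induction p using OnePoint.rec with
      | infty =>
        rw [OnePoint.smul_infty_eq_ite]
        simp [h00, Matrix.transvection]
        show (s * τ (-z) * s) • b = _
        rw [mul_smul, mul_smul, hsb]
        by_cases hz : z = 0
        · subst hz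
          rw [if_pos rfl, neg_zero, hτ0, one_smul, hsa]
          rfl
        · rw [if_neg hz, hsinv _ (neg_ne_zero.2 hz)]
          simp [f, inv_neg]
      | coe y =>
        rw [OnePoint.smul_some_eq_ite]
        simp [h00, Matrix.transvection]
        show (s * τ (-z) * s) • τ y • a = _
        rw [mul_smul, mul_smul]
        by_cases hy : y = 0
        · subst hy
          rw [hτ0, one_smul, hsa, τb, hsb]
          simp [f, hτ0]
        rw [hsinv y hy, ← mul_smul (τ (-z)), ← hadd]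
        by_cases hz : z + y⁻¹ = 0
        · rw [if_pos (by rw [show z * y + 1 = (z + y⁻¹) * y by field_simp, hz, zero_mul]),
            show -z + -y⁻¹ = 0 by linear_combination -hz, hτ0, one_smul, hsa]
          rfl
        · have hz' : z * y + 1 ≠ 0 := fun e => hz (by
            rw [show z + y⁻¹ = (z * y + 1) * y⁻¹ by field_simp, e, zero_mul])
          rw [if_neg hz', hsinv _ (fun e => hz (by linear_combination -e))]
          show τ _ • a = τ _ • a
          congr 2
          rw [show -z + -y⁻¹ = -((z * y + 1) / y) by field_simp; ring, inv_neg, neg_neg, inv_div]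
    · exact absurd rfl hij
  have hrange : ρ.range = Ψ.range := le_antisymm (by rintro _ ⟨g, rfl⟩; exact hall g)
    (by rintro _ ⟨M, rfl⟩; exact hΨ M)
  have hker : Ψ.ker = Subgroup.center (Matrix.SpecialLinearGroup (Fin 2) K) := by
    ext M
    rw [MonoidHom.mem_ker, Matrix.SpecialLinearGroup.mem_center_iff]
    constructor
    · intro hM
      have hp : ∀ p : OnePoint K, Matrix.SpecialLinearGroup.toGL M • p = p := fun p => DFunLike.congr_fun hM p
      have h10 : M.1 1 0 = 0 := OnePoint.smul_infty_eq_self_iff.1 (hp ∞)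
      have hdet := M.2
      rw [Matrix.det_fin_two, h10, mul_zero, sub_zero] at hdet
      have h11' : M.1 1 1 ≠ 0 := fun h => by rw [h, mul_zero] at hdet; exact zero_ne_one hdet
      have e0 := hp ((0 : K) : OnePoint K)
      have e1 := hp ((1 : K) : OnePoint K)
      rw [OnePoint.smul_some_eq_ite] at e0 e1
      simp [h10, h11'] at e0 e1
      rw [e0, add_zero, div_eq_one_iff_eq h11'] at e1
      refine ⟨M.1 0 0, by rw [Fintype.card_fin, sq]; nth_rewrite 2 [e1]; exact hdet, ?_⟩
      ext i' j'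
      fin_cases i' <;> fin_cases j' <;> simp [h10, e0, e1]
    · rintro ⟨r, hr, he⟩
      rw [Fintype.card_fin] at hr
      refine Equiv.ext fun p => ?_
      show Matrix.SpecialLinearGroup.toGL M • p = p
      have hr0 : r ≠ 0 := fun e => by rw [e] at hr; simp at hr
      have hM : (Matrix.SpecialLinearGroup.toGL M).1 = Matrix.scalar (Fin 2) r := he.symm
      induction p using OnePoint.rec with
      | infty => rw [OnePoint.smul_infty_eq_ite]; simp [hM]
      | coe y => rw [OnePoint.smul_some_eq_ite]; simp [hM, hr0]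
  exact ⟨(MonoidHom.ofInjective hρi).trans ((MulEquiv.subgroupCongr hrange).trans
    ((QuotientGroup.quotientKerEquivRange Ψ).symm.trans (QuotientGroup.quotientMulEquivOfEq hker)))⟩


/-- Recognition of `PSL(2, q)`. -/
theorem nonempty_psl_of_small (h2 : IsMultiplyPretransitive G Ω 2) (hthree : ThreeFix G Ω) {a b : Ω}
    (hab : a ≠ b) (heven : Even (Nat.card ↥(stabilizer G a ⊓ stabilizer G b)))
    (hsmall : 2 * Nat.card ↥(stabilizer G a ⊓ stabilizer G b) + 2 = Fintype.card Ω) :
    ∃ (K : Type) (_ : Field K) (_ : Fintype K), ringChar K ≠ 2 ∧ Fintype.card K + 1 = Fintype.card Ω ∧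
      Nonempty (G ≃* Matrix.ProjectiveSpecialLinearGroup (Fin 2) K) := by
  classical
  haveI : Fact (Nat.Prime 2) := ⟨Nat.prime_two⟩
  set H := stabilizer G a ⊓ stabilizer G b with hH
  have hfa : ∀ {h : G}, h ∈ H → h • a = a := fun hh => mem_stabilizer_iff.1 hh.1
  have hfb : ∀ {h : G}, h ∈ H → h • b = b := fun hh => mem_stabilizer_iff.1 hh.2
  have hd0 : 0 < Nat.card H := Nat.card_pos
  obtain ⟨t₀, ht₀⟩ := exists_prime_orderOf_dvd_card' (G := H) 2 (even_iff_two_dvd.1 heven)
  have ht2 : (t₀ : G) * t₀ = 1 := by rw [← sq, ← ht₀, ← Subgroup.orderOf_coe, pow_orderOf_eq_one]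
  have ht1 : (t₀ : G) ≠ 1 := fun e => by
    rw [← Subgroup.orderOf_coe, e, orderOf_one] at ht₀
    omega
  obtain ⟨s, hsa, hsb⟩ := is_two_pretransitive_iff.1 h2 hab hab.symm
  obtain ⟨hss, c, c', -, hca, hcb, hsc, -⟩ := interchange_involution h2 hthree hab heven hsmall.le hsa hsb
  have hsi : s⁻¹ = s := inv_eq_of_mul_eq_one_right hss
  have hinv : ∀ h ∈ H, s * h * s⁻¹ = h⁻¹ := by
    intro h hh
    obtain ⟨h1, -⟩ := interchange_involution h2 hthree hab heven hsmall.le (g := s * h)
      (by rw [mul_smul, hfa hh, hsa]) (by rw [mul_smul, hfb hh, hsb])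
    rw [hsi]
    exact eq_inv_of_mul_eq_one_left (by rw [← h1]; group)
  have hHc : ∀ x ∈ H, ∀ y ∈ H, x * y = y * x := by
    intro x hx y hy
    have h1 := hinv _ (mul_mem hx hy)
    rw [show s * (x * y) * s⁻¹ = (s * x * s⁻¹) * (s * y * s⁻¹) by group, hinv x hx, hinv y hy] at h1
    simpa [mul_inv_rev] using (congrArg Inv.inv h1).symm
  obtain ⟨F, hFb, hFn, hreg, hFcard⟩ := exists_frobenius_translations h2 hthree hab hca hcb ⟨t₀, t₀.2, ht1⟩
  have hne : ∀ {u : G}, u ∈ F → ∀ {y : Ω}, y ≠ b → u • y ≠ b := fun {u} hu {y} hy e =>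
    hy (smul_left_cancel u (e.trans (mem_stabilizer_iff.1 (hFb hu)).symm))
  have hu1 : ∀ u ∈ F, u • a = a → u = 1 := fun u hu e =>
    congrArg Subtype.val ((hreg a a hab hab).unique (y₁ := ⟨u, hu⟩) (y₂ := 1) e (one_smul G a))
  have hsemi : ∀ h ∈ H, ∀ u ∈ F, u ≠ 1 → h * u * h⁻¹ = u → h = 1 := by
    intro h hh u hu hu1' e
    refine hthree h a b (u • a) hab (hne hu hab).symm (fun e' => hu1' (hu1 u hu e'.symm)) (hfa hh) (hfb hh) ?_
    conv_rhs => rw [← e]
    rw [mul_smul, mul_smul, inv_smul_eq_iff.2 (hfa hh).symm]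
  have hFc : ∀ u ∈ F, ∀ v ∈ F, u * v = v * u := by
    have htm : ∀ {u : G}, u ∈ F → (t₀ : G) * u * (t₀ : G)⁻¹ ∈ F := fun {u} hu => hFn _ t₀.2.2 _ hu
    have hti : (t₀ : G)⁻¹ = t₀ := inv_eq_of_mul_eq_one_right ht2
    have hinvF : ∀ u ∈ F, (t₀ : G) * u * (t₀ : G)⁻¹ = u⁻¹ := by
      intro u hu
      have hinj : Function.Injective (fun v : F => (⟨(v : G)⁻¹ * ((t₀ : G) * v * (t₀ : G)⁻¹),
          mul_mem (inv_mem v.2) (htm v.2)⟩ : F)) := by
        intro v w e
        have e' : (v : G)⁻¹ * ((t₀ : G) * v * (t₀ : G)⁻¹) = (w : G)⁻¹ * ((t₀ : G) * w * (t₀ : G)⁻¹) :=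
          congrArg Subtype.val e
        by_contra hvw
        refine ht1 (hsemi _ t₀.2 ((v : G) * (w : G)⁻¹) (mul_mem v.2 (inv_mem w.2))
          (fun e1 => hvw (Subtype.ext (mul_inv_eq_one.1 e1))) ?_)
        calc (t₀ : G) * ((v : G) * (w : G)⁻¹) * (t₀ : G)⁻¹
            = (v : G) * ((v : G)⁻¹ * ((t₀ : G) * v * (t₀ : G)⁻¹)) * ((t₀ : G) * w * (t₀ : G)⁻¹)⁻¹ := by group
          _ = (v : G) * (w : G)⁻¹ := by rw [e']; group
      obtain ⟨v, hv⟩ := (Finite.injective_iff_surjective.1 hinj) ⟨u, hu⟩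
      have hv' : (v : G)⁻¹ * ((t₀ : G) * v * (t₀ : G)⁻¹) = u := congrArg Subtype.val hv
      rw [← hv', hti]
      calc (t₀ : G) * ((v : G)⁻¹ * ((t₀ : G) * v * t₀)) * t₀
          = (t₀ : G) * (v : G)⁻¹ * t₀ * v * (t₀ * t₀) := by group
        _ = _ := by rw [ht2, mul_one, mul_inv_rev, inv_inv, mul_inv_rev, mul_inv_rev, hti]; group
    intro u hu v hv
    have h1 := hinvF _ (mul_mem hu hv)
    rw [show (t₀ : G) * (u * v) * (t₀ : G)⁻¹ = (t₀ * u * (t₀ : G)⁻¹) * (t₀ * v * (t₀ : G)⁻¹) by group,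
      hinvF u hu, hinvF v hv] at h1
    simpa [mul_inv_rev] using (congrArg Inv.inv h1).symm
  obtain ⟨K, fK, fintK, τ, κ, hchar, hcardK, τb, hadd, finj, fsurj, hone, hκsq', hκ, hsqimg⟩ :=
    exists_half_field hthree hab hca hcb hHc hFb hFn hreg hFcard hFc hsmall
  have hτ0 : τ 0 = 1 := mul_eq_left.mp ((hadd 0 0).symm.trans (by rw [add_zero]))
  have fne : ∀ x, τ x • a ≠ b := fun x e => hab (smul_left_cancel (τ x) (e.trans (τb x).symm))
  have hκ0 : ∀ h, κ h ≠ 0 := fun h => (hκsq' h).1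
  have hκsq : ∀ h, IsSquare (κ h) := fun h => (hκsq' h).2
  have hκm : ∀ h h' : H, κ (h * h') = κ h * κ h' := fun h h' => finj _ _ (by
    have e1 := hκ (h * h') 1
    rw [mul_one] at e1
    rw [← e1, Subgroup.coe_mul, mul_smul, hκ, hκ, mul_one])
  have hκ1' : κ 1 = 1 := finj _ _ (by
    have e1 := hκ 1 1
    rw [mul_one, Subgroup.coe_one, one_smul] at e1
    exact e1.symm)
  obtain ⟨ε, hε⟩ := FiniteField.exists_nonsquare hchar
  have hε0 : ε ≠ 0 := fun e => hε ⟨0, by rw [e, mul_zero]⟩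
  have hm1 : IsSquare (-1 : K) := by
    rw [FiniteField.isSquare_neg_one_iff]
    obtain ⟨r, hr⟩ := heven
    omega
  -- the involution interchanging the two points
  have hsx : ∀ x : K, x ≠ 0 → ∃ y : K, y ≠ 0 ∧ s • τ x • a = τ y • a := by
    intro x hx
    obtain ⟨y, hy⟩ := fsurj (s • τ x • a) fun e => hx (finj x 0 (by
      rw [hτ0, one_smul]; exact smul_left_cancel s (e.trans hsa.symm)))
    refine ⟨y, fun e => fne x (smul_left_cancel s ?_), hy.symm⟩
    rw [← hy, e, hτ0, one_smul, hsb]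
  choose! φ hφ0 hφ using hsx
  have hφk : ∀ (h : H) (x : K), x ≠ 0 → φ (κ h * x) = (κ h)⁻¹ * φ x := by
    intro h x hx
    refine finj _ _ ?_
    have hi : κ h⁻¹ = (κ h)⁻¹ := eq_inv_of_mul_eq_one_left (by rw [← hκm, inv_mul_cancel, hκ1'])
    rw [← hφ _ (mul_ne_zero (hκ0 h) hx), ← hi, ← hκ, ← hκ, ← hφ x hx, Subgroup.coe_inv, ← mul_smul, ← mul_smul (h : G)⁻¹]
    congr 1
    rw [← hinv h h.2]
    group
  have hφ1 : φ 1 = 1 := finj _ _ (by rw [← hφ 1 one_ne_zero, hone, hsc])
  have hφsq : ∀ x, x ≠ 0 → IsSquare x → φ x = x⁻¹ := by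
    intro x hx hxs
    obtain ⟨h, rfl⟩ := hsqimg x hx hxs
    have := hφk h 1 one_ne_zero
    rwa [mul_one, hφ1, mul_one] at this
  set γ := ε * φ ε with hγdef
  have hnsprod : ∀ x y : K, ¬ IsSquare x → ¬ IsSquare y → IsSquare (x * y) := by
    intro x y hx hy
    have hx0 : x ≠ 0 := fun e => hx ⟨0, by rw [e, mul_zero]⟩
    have hy0 : y ≠ 0 := fun e => hy ⟨0, by rw [e, mul_zero]⟩
    rw [← quadraticChar_one_iff_isSquare (mul_ne_zero hx0 hy0), map_mul,
      quadraticChar_neg_one_iff_not_isSquare.2 hx, quadraticChar_neg_one_iff_not_isSquare.2 hy]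
    norm_num
  have hφns : ∀ x, ¬ IsSquare x → φ x = γ / x := by
    intro x hxs
    have hx : x ≠ 0 := fun e => hxs ⟨0, by rw [e, mul_zero]⟩
    obtain ⟨h, hh⟩ := hsqimg (x / ε) (div_ne_zero hx hε0) (by
      rw [show x / ε = x * ε * (ε⁻¹ * ε⁻¹) by
        rw [mul_assoc, ← mul_assoc ε, mul_inv_cancel₀ hε0, one_mul, div_eq_mul_inv]]
      exact (hnsprod x ε hxs hε).mul ⟨ε⁻¹, rfl⟩)
    have := hφk h ε hε0
    rw [hh, div_mul_cancel₀ _ hε0] at this
    rw [this, hγdef, inv_div]
    ring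
  have hγ : γ = 1 := by
    by_contra hne1
    refine squares_not_add_one_closed hchar hm1 fun x hx hy hxs => ?_
    by_contra hys
    obtain ⟨hn1, hhn1⟩ := hsqimg (-1) (neg_ne_zero.2 one_ne_zero) hm1
    have hsm1 : s • τ (-1) • a = τ (-1) • a := by
      rw [hφ _ (neg_ne_zero.2 one_ne_zero), hφsq _ (neg_ne_zero.2 one_ne_zero) hm1, inv_neg, inv_one]
    have hid : s * τ 1 * s = τ 1 * hn1 * s * τ 1 := by
      have key : (τ 1 * (hn1 : G) * s * τ 1)⁻¹ * (s * τ 1 * s) = 1 := by
        refine hthree _ a b (τ (-1) • a) hab (fne _).symm (fun e => ?_) ?_ ?_ ?_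
        · exact neg_ne_zero.2 one_ne_zero (finj (-1) 0 (by rw [hτ0, one_smul]; exact e.symm))
        · rw [mul_smul, inv_smul_eq_iff]
          simp only [mul_smul]
          rw [hsa, τb, hsb, hone, hsc, ← hone, hκ, mul_one, hhn1, ← mul_smul, ← hadd, add_neg_cancel, hτ0, one_smul]
        · rw [mul_smul, inv_smul_eq_iff]
          simp only [mul_smul]
          rw [hsb, hone, hsc, τb, hsb, hfa hn1.2, hone]
        · rw [mul_smul, inv_smul_eq_iff]
          simp only [mul_smul]
          rw [hsm1, ← mul_smul (τ 1), ← hadd, add_neg_cancel, hτ0, one_smul, hsa, hfb hn1.2, τb]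
      exact (inv_mul_eq_one.1 key).symm
    have h1 := congrArg (fun g : G => g • τ x • a) hid
    simp only [mul_smul] at h1
    have hz : 1 + x⁻¹ ≠ 0 := fun e => hy (by field_simp at e; linear_combination e)
    have hzs : ¬ IsSquare (1 + x⁻¹) := fun e => hys (by
      rw [show x + 1 = (1 + x⁻¹) * x by field_simp]
      exact e.mul hxs)
    rw [hφ x hx, hφsq x hx hxs, ← mul_smul (τ 1) (τ x⁻¹), ← hadd, hφ _ hz, hφns _ hzs,
      ← mul_smul (τ 1) (τ x), ← hadd, add_comm 1 x, hφ _ hy, hκ, hhn1, ← mul_smul, ← hadd, hφns _ hys] at h1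
    have h2 := finj _ _ h1
    field_simp at h2
    grind
  have hφinv : ∀ x, x ≠ 0 → φ x = x⁻¹ := fun x hx => by
    by_cases hxs : IsSquare x
    · exact hφsq x hx hxs
    · rw [hφns x hxs, hγ, one_div]
  have hsinv : ∀ x : K, x ≠ 0 → s • τ x • a = τ x⁻¹ • a := fun x hx => by rw [hφ x hx, hφinv x hx]
  obtain ⟨hn1, hhn1⟩ := hsqimg (-1) (neg_ne_zero.2 one_ne_zero) hm1
  refine ⟨K, fK, fintK, hchar, hcardK, nonempty_psl_of_coord hthree hab hca hcb τ κ τb hadd finj fsurj hone
    hκsq' hκ (s * hn1) (by rw [mul_smul, hfa hn1.2, hsa]) (by rw [mul_smul, hfb hn1.2, hsb]) fun x hx => ?_⟩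
  rw [mul_smul, hκ, hhn1, hsinv _ (mul_ne_zero (neg_ne_zero.2 one_ne_zero) hx), neg_one_mul, inv_neg]

end Cfsg.Agent.PermGroups
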