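import Cfsg.Agent.PermGroups.ZassenhausPSL

/-!
Recognition of `PSL(2, q)` for `q ≡ 3 (mod 4)`: two-point stabilisers of odd order `(q - 1) / 2`
inverted by the elements interchanging the two points.
-/

set_option autoImplicit false
set_option linter.style.haveILetI false
set_option linter.unusedSectionVars false

namespace Cfsg.Agent.PermGroups

open MulAction

variable {G Ω : Type*} [Group G] [Finite G] [MulAction G Ω] [Fintype Ω]

/-- Recognition of `PSL(2, q)`, `q ≡ 3 (mod 4)`. -/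
theorem nonempty_psl_of_small_odd (h2 : IsMultiplyPretransitive G Ω 2) (hthree : ThreeFix G Ω) {a b c : Ω}
    (hab : a ≠ b) (hca : c ≠ a) (hcb : c ≠ b) (hodd : Odd (Nat.card ↥(stabilizer G a ⊓ stabilizer G b)))
    (hinv : ∀ s : G, s • a = b → s • b = a → ∀ h ∈ stabilizer G a ⊓ stabilizer G b, s * h * s⁻¹ = h⁻¹)
    {F : Subgroup G} (hFb : F ≤ stabilizer G b) (hFn : ∀ g ∈ stabilizer G b, ∀ u ∈ F, g * u * g⁻¹ ∈ F)
    (hreg : ∀ y z : Ω, y ≠ b → z ≠ b → ∃! u : F, (u : G) • y = z) (hFcard : Nat.card F + 1 = Fintype.card Ω)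
    (hFc : ∀ u ∈ F, ∀ v ∈ F, u * v = v * u)
    (hsmall : 2 * Nat.card ↥(stabilizer G a ⊓ stabilizer G b) + 2 = Fintype.card Ω) :
    ∃ (K : Type) (_ : Field K) (_ : Fintype K), ringChar K ≠ 2 ∧ Fintype.card K + 1 = Fintype.card Ω ∧
      Nonempty (G ≃* Matrix.ProjectiveSpecialLinearGroup (Fin 2) K) := by
  classical
  have hfa : ∀ {h : G}, h ∈ stabilizer G a ⊓ stabilizer G b → h • a = a := fun hh => mem_stabilizer_iff.1 hh.1
  have hfb : ∀ {h : G}, h ∈ stabilizer G a ⊓ stabilizer G b → h • b = b := fun hh => mem_stabilizer_iff.1 hh.2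
  obtain ⟨s, hsa, hsb⟩ := is_two_pretransitive_iff.1 h2 hab hab.symm
  have hHc : ∀ x ∈ stabilizer G a ⊓ stabilizer G b, ∀ y ∈ stabilizer G a ⊓ stabilizer G b, x * y = y * x := by
    intro x hx y hy
    have h1 := hinv s hsa hsb _ (mul_mem hx hy)
    rw [show s * (x * y) * s⁻¹ = (s * x * s⁻¹) * (s * y * s⁻¹) by group, hinv s hsa hsb x hx,
      hinv s hsa hsb y hy] at h1
    simpa [mul_inv_rev] using (congrArg Inv.inv h1).symm
  -- the elements interchanging the two points are involutions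
  have hinvol : ∀ g : G, g • a = b → g • b = a → g * g = 1 := by
    intro g hga hgb
    have hg2 : g * g ∈ stabilizer G a ⊓ stabilizer G b :=
      ⟨mem_stabilizer_iff.2 (by rw [mul_smul, hga, hgb]), mem_stabilizer_iff.2 (by rw [mul_smul, hgb, hga])⟩
    have h1 := hinv g hga hgb _ hg2
    rw [show g * (g * g) * g⁻¹ = g * g by group] at h1
    have h3 : (g * g) ^ 2 = 1 := by rw [sq]; nth_rw 2 [h1]; exact mul_inv_cancel _
    have h4 : orderOf (g * g) = 1 :=
      ((Nat.dvd_prime Nat.prime_two).1 (orderOf_dvd_of_pow_eq_one h3)).resolve_right fun h =>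
        hodd.not_two_dvd_nat (h ▸ Subgroup.orderOf_dvd_natCard _ hg2)
    exact orderOf_eq_one_iff.1 h4
  obtain ⟨K, fK, fintK, τ, κ, hchar, hcardK, τb, hadd, finj, fsurj, hone, hκsq', hκ, hsqimg⟩ :=
    exists_half_field hthree hab hca hcb hHc hFb hFn hreg hFcard hFc hsmall
  have hτ0 : τ 0 = 1 := mul_eq_left.mp ((hadd 0 0).symm.trans (by rw [add_zero]))
  have fne : ∀ x, τ x • a ≠ b := fun x e => hab (smul_left_cancel (τ x) (e.trans (τb x).symm))
  have hm1 : ¬ IsSquare (-1 : K) := by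
    rw [FiniteField.isSquare_neg_one_iff]
    obtain ⟨r, hr⟩ := hodd
    omega
  have hprod : ∀ x y : K, ¬ IsSquare x → ¬ IsSquare y → IsSquare (x * y) := by
    intro x y hx hy
    have hx0 : x ≠ 0 := fun e => hx ⟨0, by rw [e, mul_zero]⟩
    have hy0 : y ≠ 0 := fun e => hy ⟨0, by rw [e, mul_zero]⟩
    rw [← quadraticChar_one_iff_isSquare (mul_ne_zero hx0 hy0), map_mul,
      quadraticChar_neg_one_iff_not_isSquare.2 hx, quadraticChar_neg_one_iff_not_isSquare.2 hy]
    norm_num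
  -- no point is fixed
  have hnofix : ∀ g : G, g • a = b → g • b = a → ∀ z : Ω, g • z ≠ z := by
    intro g hga hgb z hz
    have hg1 : g ≠ 1 := fun e => hab (by rw [← hga, e, one_smul])
    have hza : z ≠ a := fun e => hab (by rw [← hga, ← e, hz])
    have hzb : z ≠ b := fun e => hab (by rw [← hgb, ← e, hz])
    obtain ⟨x, rfl⟩ := fsurj z hzb
    -- the fixed points of an involution come in pairs, and no involution fixes two points
    have hfix2 : ∀ w, g • w = w → w = τ x • a := by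
      intro w hw
      by_contra hne
      obtain ⟨k, hk1, hk2⟩ := is_two_pretransitive_iff.1 h2 hne hab
      have hmem : k * g * k⁻¹ ∈ stabilizer G a ⊓ stabilizer G b := by
        refine ⟨mem_stabilizer_iff.2 ?_, mem_stabilizer_iff.2 ?_⟩ <;> rw [mul_smul, mul_smul]
        · rw [inv_smul_eq_iff.2 hk1.symm, hw, hk1]
        · rw [inv_smul_eq_iff.2 hk2.symm, hz, hk2]
      have ho : orderOf (k * g * k⁻¹) = 2 := by
        rw [← MulAut.conj_apply, MulEquiv.orderOf_eq]
        exact orderOf_eq_prime (by rw [sq, hinvol g hga hgb]) hg1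
      exact hodd.not_two_dvd_nat (ho ▸ Subgroup.orderOf_dvd_natCard _ hmem)
    have hset : ({z | g • z = z} : Set Ω).ncard = 1 := by
      rw [show ({z | g • z = z} : Set Ω) = {τ x • a} from Set.ext fun w =>
        ⟨hfix2 w, fun e => by rw [Set.mem_singleton_iff.1 e]; exact hz⟩, Set.ncard_singleton]
    have hP : IsPGroup 2 (Subgroup.zpowers g) := IsPGroup.of_card (n := 1) (by
      rw [Nat.card_zpowers, orderOf_eq_prime (by rw [sq, hinvol g hga hgb]) hg1, pow_one])
    haveI : Fact (Nat.Prime 2) := ⟨Nat.prime_two⟩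
    have hmod := hP.card_modEq_card_fixedPoints Ω
    rw [show (fixedPoints (Subgroup.zpowers g) Ω) = {z | g • z = z} from Set.ext fun w =>
      ⟨fun h => h ⟨g, Subgroup.mem_zpowers g⟩, fun h u => by
        obtain ⟨i, hi⟩ := Subgroup.mem_zpowers_iff.1 u.2
        show (u : G) • w = w
        rw [← hi]
        exact mem_stabilizer_iff.1 (zpow_mem (mem_stabilizer_iff.2 (h : g • w = w)) i)⟩,
      Nat.card_coe_set_eq, hset, Nat.card_eq_fintype_card] at hmod
    unfold Nat.ModEq at hmod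
    omega
  -- the action of an element interchanging the two points
  have hsx : ∀ x : K, x ≠ 0 → ∃ y : K, y ≠ 0 ∧ s • τ x • a = τ y • a := by
    intro x hx
    obtain ⟨y, hy⟩ := fsurj (s • τ x • a) fun e => hx (finj x 0 (by
      rw [hτ0, one_smul]; exact smul_left_cancel s (e.trans hsa.symm)))
    refine ⟨y, fun e => fne x (smul_left_cancel s ?_), hy.symm⟩
    rw [← hy, e, hτ0, one_smul, hsb]
  choose! φ hφ0 hφ using hsx
  have hφk : ∀ k : K, k ≠ 0 → IsSquare k → ∀ x : K, x ≠ 0 → φ (k * x) = k⁻¹ * φ x := by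
    intro k hk hks x hx
    obtain ⟨h, rfl⟩ := hsqimg k hk hks
    have hi : κ h⁻¹ = (κ h)⁻¹ := eq_inv_of_mul_eq_one_left (finj _ _ (by
      rw [← hκ, ← mul_one (κ h), ← hκ, Subgroup.coe_inv, inv_smul_smul]))
    refine finj _ _ ?_
    rw [← hφ _ (mul_ne_zero hk hx), ← hi, ← hκ, ← hκ, ← hφ x hx, Subgroup.coe_inv, ← mul_smul,
      ← mul_smul (h : G)⁻¹]
    congr 1
    rw [← hinv s hsa hsb h h.2]
    group
  set α := φ 1 with hα
  have hα0 : α ≠ 0 := hφ0 1 one_ne_zero
  have hφsq : ∀ x, x ≠ 0 → IsSquare x → φ x = α / x := fun x hx hxs => by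
    have h1 := hφk x hx hxs 1 one_ne_zero
    rw [mul_one] at h1
    rw [h1, div_eq_inv_mul]
  have hαns : ¬ IsSquare α := by
    rintro ⟨r, hr⟩
    have hr0 : r ≠ 0 := fun e => hα0 (by rw [hr, e, mul_zero])
    obtain ⟨w, hw, hws, hwr⟩ : ∃ w : K, w ≠ 0 ∧ IsSquare w ∧ w * w = α := by
      by_cases hrs : IsSquare r
      · exact ⟨r, hr0, hrs, hr.symm⟩
      · refine ⟨-r, neg_ne_zero.2 hr0, ?_, by rw [hr]; ring⟩
        rw [← neg_one_mul]
        exact hprod _ _ hm1 hrs
    refine hnofix s hsa hsb (τ w • a) ?_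
    rw [hφ w hw, hφsq w hw hws, ← hwr, mul_div_assoc, div_self hw, mul_one]
  have hφφ : φ α = 1 := finj _ _ (by
    rw [← hφ α hα0, hα, ← hφ 1 one_ne_zero, ← mul_smul s s, hinvol s hsa hsb, one_smul])
  have hφall : ∀ x, x ≠ 0 → φ x = α / x := by
    intro x hx
    by_cases hxs : IsSquare x
    · exact hφsq x hx hxs
    have hq : IsSquare (x / α) := by
      rw [show x / α = x * α * (α⁻¹ * α⁻¹) by field_simp]
      exact (hprod x α hxs hαns).mul ⟨α⁻¹, rfl⟩
    have h1 := hφk (x / α) (div_ne_zero hx hα0) hq α hα0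
    rw [div_mul_cancel₀ _ hα0, hφφ, mul_one, inv_div] at h1
    exact h1
  obtain ⟨k, hk⟩ := hsqimg (-α) (neg_ne_zero.2 hα0) (by rw [← neg_one_mul]; exact hprod _ _ hm1 hαns)
  refine ⟨K, fK, fintK, hchar, hcardK, nonempty_psl_of_coord hthree hab hca hcb τ κ τb hadd finj fsurj hone
    hκsq' hκ (s * k) (by rw [mul_smul, hfa k.2, hsa]) (by rw [mul_smul, hfb k.2, hsb]) fun x hx => ?_⟩
  rw [mul_smul, hκ, hk, hφ _ (mul_ne_zero (neg_ne_zero.2 hα0) hx), hφall _ (mul_ne_zero (neg_ne_zero.2 hα0) hx),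
    show α / (-α * x) = -x⁻¹ by field_simp]

end Cfsg.Agent.PermGroups
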