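import Cfsg.Agent.PermGroups.HomogeneousGroup

/-!
Regular normal subgroups of multiply primitive groups.
-/

namespace Cfsg.Agent.PermGroups

open MulAction
open scoped Pointwise

variable {G X : Type*} [Group G] [MulAction G X]

/-- In a primitive action of a pointwise stabiliser on the complement, a non-trivial block is
everything. -/
theorem mem_of_block_fixingSubgroup {s : Set X}
    (hprim : IsPreprimitive (fixingSubgroup G s) (SubMulAction.ofFixingSubgroup G s))
    {B : Set X} (hBs : ∀ x ∈ B, x ∉ s) {u v : X} (hu : u ∈ B) (hv : v ∈ B) (huv : u ≠ v)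
    (hblock : ∀ g ∈ fixingSubgroup G s, ∀ x ∈ B, g • x ∈ B → ∀ y ∈ B, g • y ∈ B)
    {z : X} (hz : z ∉ s) : z ∈ B := by
  set T : Set (SubMulAction.ofFixingSubgroup G s) := Subtype.val ⁻¹' B
  have hT : IsBlock (fixingSubgroup G s) T := by
    rw [isBlock_iff_smul_eq_of_mem]
    rintro ⟨g, hg⟩ x hx hgx
    have hgx' : g • (x : X) ∈ B := hgx
    have hx' : (x : X) ∈ B := hx
    ext y
    rw [Set.mem_smul_set_iff_inv_smul_mem]
    constructor
    · intro hy
      have hy' : g⁻¹ • (y : X) ∈ B := hy
      have := hblock g hg _ hx' hgx' _ hy'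
      rw [smul_inv_smul] at this
      exact this
    · intro hy
      exact hblock g⁻¹ (inv_mem hg) _ hgx' (by rwa [inv_smul_smul]) _ hy
  rcases hprim.isTrivialBlock_of_isBlock hT with h | h
  · exfalso
    have hus : u ∈ SubMulAction.ofFixingSubgroup G s := hBs u hu
    have hvs : v ∈ SubMulAction.ofFixingSubgroup G s := hBs v hv
    exact huv (congrArg Subtype.val
      (h (show (⟨u, hus⟩ : SubMulAction.ofFixingSubgroup G s) ∈ T from hu)
        (show (⟨v, hvs⟩ : SubMulAction.ofFixingSubgroup G s) ∈ T from hv)))
  · have hzs : z ∈ SubMulAction.ofFixingSubgroup G s := hz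
    exact (Set.eq_univ_iff_forall.mp h ⟨z, hzs⟩ : _)

theorem regular_smul_injective {N : Subgroup G} {a : X}
    (hreg : stabilizer N a = ⊥) : Function.Injective (fun n : N => (n : G) • a) := by
  intro n m h
  have h1 : m⁻¹ * n ∈ stabilizer N a := by
    rw [mem_stabilizer_iff, Subgroup.smul_def, Subgroup.coe_mul, Subgroup.coe_inv, mul_smul,
      show (n : G) • a = (m : G) • a from h, inv_smul_smul]
  rw [hreg, Subgroup.mem_bot] at h1
  exact (inv_mul_eq_one.mp h1).symm

/-- Conjugation by an element fixing `a`, seen through `n ↦ n • a`. -/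
theorem conj_smul_eq {g : G} {a : X} (hg : g • a = a) (n : G) :
    (g * n * g⁻¹) • a = g • n • a := by
  rw [mul_smul, mul_smul, inv_smul_eq_iff.mpr hg.symm]

/-- A regular normal subgroup of a finite doubly transitive group is elementary abelian. -/
theorem regular_normal_elementaryAbelian [Finite X] [Nontrivial X]
    (h2 : IsMultiplyPretransitive G X 2) (N : Subgroup G) [hN : N.Normal]
    (htrans : IsPretransitive N X) (hreg : ∀ x : X, stabilizer N x = ⊥) :
    ∃ p j : ℕ, p.Prime ∧ 1 ≤ j ∧ Nat.card N = p ^ j ∧ Nat.card X = p ^ j ∧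
      (∀ x y : N, x * y = y * x) ∧ ∀ x : N, x ^ p = 1 := by
  obtain ⟨a⟩ : Nonempty X := inferInstance
  have hinj := regular_smul_injective (hreg a)
  have hbij : Function.Bijective (fun n : N => (n : G) • a) :=
    ⟨hinj, fun x => htrans.exists_smul_eq a x⟩
  have : Finite N := Finite.of_injective _ hinj
  have : Nontrivial N := by
    obtain ⟨x, y, hxy⟩ := exists_pair_ne X
    obtain ⟨n, hn⟩ := hbij.2 x
    obtain ⟨m, hm⟩ := hbij.2 y
    exact ⟨n, m, fun e => hxy (by rw [← hn, ← hm, e])⟩
  obtain ⟨p, j, h1, h2', h3, h4, h5⟩ := elementaryAbelian_of_homogeneous (G := N) (fun x y hx hy => by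
    have hxa : a ≠ (x : G) • a := fun e => hx (hinj (show (x : G) • a = ((1 : N) : G) • a by
      rw [Subgroup.coe_one, one_smul]; exact e.symm))
    have hya : a ≠ (y : G) • a := fun e => hy (hinj (show (y : G) • a = ((1 : N) : G) • a by
      rw [Subgroup.coe_one, one_smul]; exact e.symm))
    rw [is_two_pretransitive_iff] at h2
    obtain ⟨g, hga, hgx⟩ := h2 hxa hya
    refine ⟨(MulAut.conjNormal g : MulAut N), hinj ?_⟩
    change ((MulAut.conjNormal g x : N) : G) • a = (y : G) • a
    rw [MulAut.conjNormal_apply, conj_smul_eq hga, hgx])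
  exact ⟨p, j, h1, h2', h3, (Nat.card_congr (Equiv.ofBijective _ hbij)).symm.trans h3, h4, h5⟩

/-- A doubly primitive group with a regular normal subgroup has degree three, or that subgroup is
an elementary abelian `2`-group. -/
theorem two_primitive_regular_normal [Finite X] (hX : 2 ≤ Nat.card X)
    (h2 : IsMultiplyPreprimitive G X 2) (N : Subgroup G) [hN : N.Normal]
    (htrans : IsPretransitive N X) (hreg : ∀ x : X, stabilizer N x = ⊥) :
    Nat.card X = 3 ∨ ((∀ x y : N, x * y = y * x) ∧ (∀ x : N, x ^ 2 = 1) ∧
      ∃ m : ℕ, Nat.card X = 2 ^ m) := by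
  have : Nontrivial X := Finite.one_lt_card_iff_nontrivial.mp hX
  obtain ⟨p, j, hp, hj, hcN, hcX, hcomm, hexp⟩ :=
    regular_normal_elementaryAbelian h2.isMultiplyPretransitive N htrans hreg
  rcases hp.eq_two_or_odd with rfl | hodd
  · exact Or.inr ⟨hcomm, hexp, j, hcX⟩
  left
  obtain ⟨a⟩ : Nonempty X := inferInstance
  have hinj := regular_smul_injective (hreg a)
  obtain ⟨b, hb⟩ := exists_ne a
  obtain ⟨n, hn⟩ := htrans.exists_smul_eq a b
  set c : X := ((n : G))⁻¹ • a with hc
  have hn2 : n ^ 2 ≠ 1 := by
    intro h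
    have h1 := orderOf_dvd_of_pow_eq_one h
    have h2' := orderOf_dvd_of_pow_eq_one (hexp n)
    have : orderOf n = 1 := Nat.dvd_one.mp (by
      have := Nat.dvd_gcd h1 h2'
      rwa [Nat.Coprime.gcd_eq_one ((Nat.coprime_primes Nat.prime_two hp).mpr (by omega))] at this)
    rw [orderOf_eq_one_iff] at this
    exact hb (by rw [← hn, this, one_smul])
  have hn' : (n : G) • a = b := hn
  have hbc : b ≠ c := by
    intro e
    apply hn2
    rw [pow_two, mul_eq_one_iff_eq_inv]
    exact hinj (show (n : G) • a = ((n⁻¹ : N) : G) • a by rw [Subgroup.coe_inv, hn']; exact e)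
  have hca : c ≠ a := by
    intro e
    apply hb
    rw [← hn']
    rw [hc, inv_smul_eq_iff] at e
    exact e.symm
  have hprim := h2.isPreprimitive_ofFixingSubgroup (M := G) (n := 2) (s := {a}) (by
    rw [Set.encard_singleton]; norm_num)
  have key : ∀ z, z ∉ ({a} : Set X) → z ∈ ({b, c} : Set X) := fun z hz => by
    refine mem_of_block_fixingSubgroup hprim (B := {b, c}) ?_ (u := b) (v := c) (by simp) (by simp)
      hbc ?_ hz
    · rintro x (rfl | rfl)
      · simpa using hb
      · simpa using hca
    · intro g hg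
      have hga : g • a = a := (mem_fixingSubgroup_iff G).mp hg a rfl
      set k : N := MulAut.conjNormal g n with hk
      have hgb : g • b = (k : G) • a := by
        rw [hk, MulAut.conjNormal_apply, conj_smul_eq hga, hn']
      have hgc : g • c = ((k⁻¹ : N) : G) • a := by
        rw [hk, ← map_inv, MulAut.conjNormal_apply, conj_smul_eq hga, Subgroup.coe_inv]
      have hk' : k = n ∨ k = n⁻¹ → ∀ y ∈ ({b, c} : Set X), g • y ∈ ({b, c} : Set X) := by
        rintro (e | e) y (rfl | rfl)
        · left; rw [hgb, e, hn']
        · right; rw [hgc, e, Subgroup.coe_inv, Set.mem_singleton_iff]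
        · right; rw [hgb, e, Subgroup.coe_inv, Set.mem_singleton_iff]
        · left; rw [hgc, e, inv_inv, hn']
      rintro x (rfl | rfl) hgx <;> refine hk' ?_
      · rcases hgx with e | e
        · exact Or.inl (hinj (show (k : G) • a = (n : G) • a by rw [← hgb, e, hn']))
        · exact Or.inr (hinj (show (k : G) • a = ((n⁻¹ : N) : G) • a by
            rw [← hgb, Subgroup.coe_inv]; exact e))
      · rcases hgx with e | e
        · exact Or.inr (inv_eq_iff_eq_inv.mp (hinj
            (show ((k⁻¹ : N) : G) • a = (n : G) • a by rw [← hgc, e, hn'])))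
        · exact Or.inl (inv_injective (hinj
            (show ((k⁻¹ : N) : G) • a = ((n⁻¹ : N) : G) • a by
              rw [← hgc]
              rw [Subgroup.coe_inv]
              exact e)))
  have hle : Nat.card X ≤ 3 := by
    have hu : (Set.univ : Set X) ⊆ {a, b, c} := fun z _ => by
      by_cases h : z = a
      · exact Or.inl h
      · exact Or.inr (key z h)
    have := Set.ncard_le_ncard hu (Set.toFinite _)
    rw [Set.ncard_univ] at this
    exact this.trans ((Set.ncard_insert_le _ _).trans (by
      have := Set.ncard_insert_le b ({c} : Set X)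
      rw [Set.ncard_singleton] at this
      omega))
  have hge : ({a, b, c} : Set X).ncard ≤ Nat.card X := by
    rw [← Set.ncard_univ]; exact Set.ncard_le_ncard (Set.subset_univ _) (Set.toFinite _)
  rw [Set.ncard_eq_three.mpr ⟨a, b, c, Ne.symm hb, Ne.symm hca, hbc, rfl⟩] at hge
  omega

/-- A triply primitive group with a regular normal subgroup has degree three or four. -/
theorem three_primitive_regular_normal [Finite X] (hX : 3 ≤ Nat.card X)
    (h3 : IsMultiplyPreprimitive G X 3) (N : Subgroup G) [hN : N.Normal]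
    (htrans : IsPretransitive N X) (hreg : ∀ x : X, stabilizer N x = ⊥) :
    Nat.card X = 3 ∨ Nat.card X = 4 := by
  have hX' : (3 : ℕ∞) ≤ ENat.card X := by
    rw [ENat.card_eq_coe_natCard]
    exact_mod_cast hX
  have h2 : IsMultiplyPreprimitive G X 2 := isMultiplyPreprimitive_of_le G X h3 (by norm_num) hX'
  rcases two_primitive_regular_normal (by omega) h2 N htrans hreg with h | ⟨hcomm, hexp, m, hm⟩
  · exact Or.inl h
  have : Nontrivial X := Finite.one_lt_card_iff_nontrivial.mp (by omega)
  obtain ⟨a⟩ : Nonempty X := inferInstance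
  have hinj : ∀ {n m : N}, (n : G) • a = (m : G) • a → n = m := fun h =>
    regular_smul_injective (hreg a) h
  obtain ⟨b, hb⟩ := exists_ne a
  obtain ⟨u, hu⟩ := htrans.exists_smul_eq a b
  have hu' : (u : G) • a = b := hu
  obtain ⟨c, hc⟩ : ∃ c, c ∉ ({a, b} : Set X) := by
    by_contra h
    push Not at h
    have := Set.ncard_le_ncard (fun z _ => h z : (Set.univ : Set X) ⊆ {a, b}) (Set.toFinite _)
    rw [Set.ncard_univ, Set.ncard_pair (Ne.symm hb)] at this
    omega
  obtain ⟨v, hv⟩ := htrans.exists_smul_eq a c
  have hv' : (v : G) • a = c := hv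
  set d : X := ((u * v : N) : G) • a with hd
  have hca : c ≠ a := fun e => hc (Or.inl e)
  have hcb : c ≠ b := fun e => hc (Or.inr e)
  have hdc : d ≠ c := fun e => hb (by
    rw [hd, ← hv'] at e
    rw [← hu', mul_eq_right.mp (hinj e), Subgroup.coe_one, one_smul])
  have hda : d ≠ a := fun e => hcb (by
    have h1 : u * v = 1 := hinj (show _ = ((1 : N) : G) • a by
      rw [Subgroup.coe_one, one_smul]; exact e)
    rw [← hv', ← hu', inv_eq_of_mul_eq_one_right h1 |>.symm, inv_eq_of_mul_eq_one_right
      (show u * u = 1 by rw [← pow_two]; exact hexp u)])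
  have hdb : d ≠ b := fun e => hca (by
    rw [hd, ← hu'] at e
    rw [← hv', mul_eq_left.mp (hinj e), Subgroup.coe_one, one_smul])
  have hprim := h3.isPreprimitive_ofFixingSubgroup (M := G) (n := 3) (s := {a, b}) (by
    rw [Set.encard_pair (Ne.symm hb)]; norm_num)
  have key : ∀ z, z ∉ ({a, b} : Set X) → z ∈ ({c, d} : Set X) := fun z hz => by
    refine mem_of_block_fixingSubgroup hprim (B := {c, d}) ?_ (u := c) (v := d) (by simp) (by simp)
      (Ne.symm hdc) ?_ hz
    · rintro x (rfl | rfl)
      · exact hc
      · rintro (e | e)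
        · exact hda e
        · exact hdb e
    · intro g hg
      have hga : g • a = a := (mem_fixingSubgroup_iff G).mp hg a (by simp)
      have hgb : g • b = b := (mem_fixingSubgroup_iff G).mp hg b (by simp)
      have hku : (MulAut.conjNormal g u : N) = u := hinj (by
        change ((MulAut.conjNormal g u : N) : G) • a = (u : G) • a
        rw [MulAut.conjNormal_apply, conj_smul_eq hga, hu', hgb])
      have hgc : g • c = ((MulAut.conjNormal g v : N) : G) • a := by
        rw [MulAut.conjNormal_apply, conj_smul_eq hga, hv']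
      have hgd : g • d = ((u * MulAut.conjNormal g v : N) : G) • a := by
        have h6 : (u * MulAut.conjNormal g v : N) = MulAut.conjNormal g (u * v) := by
          rw [map_mul, hku]
        rw [h6, MulAut.conjNormal_apply, conj_smul_eq hga]
      have huu : u * (u * v) = v := by
        rw [← mul_assoc, ← pow_two, hexp u, one_mul]
      have hk' : (MulAut.conjNormal g v : N) = v ∨ (MulAut.conjNormal g v : N) = u * v →
          ∀ y ∈ ({c, d} : Set X), g • y ∈ ({c, d} : Set X) := by
        rintro (e | e) y (rfl | rfl)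
        · left; rw [hgc, e, hv']
        · right; rw [hgd, e, Set.mem_singleton_iff]
        · right; rw [hgc, e, Set.mem_singleton_iff]
        · left; rw [hgd, e, huu, hv']
      rintro x (rfl | rfl) hgx <;> refine hk' ?_
      · rcases hgx with e | e
        · exact Or.inl (hinj (show _ = (v : G) • a by rw [← hgc, e, hv']))
        · exact Or.inr (hinj (show _ = ((u * v : N) : G) • a by rw [← hgc]; exact e))
      · rcases hgx with e | e
        · refine Or.inr ?_
          have h1 : u * MulAut.conjNormal g v = v := hinj (show _ = (v : G) • a by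
            rw [← hgd, e, hv'])
          refine mul_left_cancel (a := u) ?_
          rw [huu, h1]
        · exact Or.inl (mul_left_cancel (a := u) (hinj (show _ = ((u * v : N) : G) • a by
            rw [← hgd]; exact e)))
  have hu4 : (Set.univ : Set X) ⊆ {a, b, c, d} := fun z _ => by
    by_cases h : z ∈ ({a, b} : Set X)
    · rcases h with h | h
      · exact Or.inl h
      · exact Or.inr (Or.inl h)
    · exact Or.inr (Or.inr (key z h))
  have h4 := Set.ncard_le_ncard hu4 (Set.toFinite _)
  rw [Set.ncard_univ] at h4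
  have := Set.ncard_insert_le a ({b, c, d} : Set X)
  have := Set.ncard_insert_le b ({c, d} : Set X)
  have := Set.ncard_pair (Ne.symm hdc)
  omega

end Cfsg.Agent.PermGroups
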