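import Mathlib.GroupTheory.Perm.Cycle.Type
import Mathlib.GroupTheory.SpecificGroups.Alternating
import Mathlib.GroupTheory.Perm.Cycle.PossibleTypes

/-!
Element orders of alternating groups in terms of cycle types.
-/

set_option autoImplicit false

namespace Cfsg.Agent.PermGroups

open Equiv

theorem mem_range_orderOf_alternating {n k : ℕ} :
    k ∈ Set.range (orderOf : alternatingGroup (Fin n) → ℕ) ↔
      ∃ m : Multiset ℕ, (∀ a ∈ m, 2 ≤ a) ∧ m.sum ≤ n ∧ Even (m.sum + Multiset.card m) ∧ m.lcm = k := by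
  constructor
  · rintro ⟨⟨g, hg⟩, rfl⟩
    refine ⟨g.cycleType, fun a ha => Perm.two_le_of_mem_cycleType ha, ?_, ?_, ?_⟩
    · simpa using g.sum_cycleType_le
    · rw [Equiv.Perm.mem_alternatingGroup, Perm.sign_of_cycleType] at hg
      exact (neg_one_pow_eq_one_iff_even (by decide)).1 hg
    · rw [Perm.lcm_cycleType, ← Subgroup.orderOf_coe]
  · rintro ⟨m, h2, hsum, hev, rfl⟩
    obtain ⟨g, hg⟩ := (Perm.exists_with_cycleType_iff (Fin n) (m := m)).2
      ⟨by simpa using hsum, h2⟩
    refine ⟨⟨g, ?_⟩, ?_⟩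
    · rw [Equiv.Perm.mem_alternatingGroup, Perm.sign_of_cycleType, hg]
      exact hev.neg_one_pow
    · rw [← Subgroup.orderOf_coe, ← Perm.lcm_cycleType, hg]

theorem exists_mem_dvd_of_prime_dvd_lcm {m : Multiset ℕ} {r : ℕ} (hr : r.Prime) (h : r ∣ m.lcm) :
    ∃ a ∈ m, r ∣ a := by
  induction m using Multiset.induction_on with
  | empty => rw [Multiset.lcm_zero] at h; exact absurd (Nat.dvd_one.1 h) hr.ne_one
  | cons b m ih =>
    rw [Multiset.lcm_cons, lcm_eq_nat_lcm] at h
    rcases (Nat.Prime.dvd_mul hr).1 (h.trans (Nat.lcm_dvd_mul b m.lcm)) with h' | h'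
    · exact ⟨b, Multiset.mem_cons_self _ _, h'⟩
    · obtain ⟨a, ha, hd⟩ := ih h'
      exact ⟨a, Multiset.mem_cons_of_mem ha, hd⟩

theorem exists_second_even {m : Multiset ℕ} {b : ℕ} (hb : b ∈ m) (hbe : Even b)
    (hev : Even (m.sum + Multiset.card m)) : ∃ c ∈ m.erase b, Even c := by
  by_contra hcon
  push Not at hcon
  have hall : ∀ s : Multiset ℕ, (∀ c ∈ s, ¬ Even c) → Even (s.sum + Multiset.card s) := by
    intro s
    induction s using Multiset.induction_on with
    | empty => simp
    | cons d s ih =>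
      intro h
      have h1 : ¬ Even d := h d (Multiset.mem_cons_self _ _)
      have h2 := ih fun c hc => h c (Multiset.mem_cons_of_mem hc)
      rw [Multiset.sum_cons, Multiset.card_cons]
      rw [Nat.even_iff] at h1 h2 ⊢
      omega
  have h := hall (m.erase b) hcon
  rw [← Multiset.cons_erase hb, Multiset.sum_cons, Multiset.card_cons] at hev
  rw [Nat.even_iff] at hev h hbe
  omega

end Cfsg.Agent.PermGroups
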