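import Mathlib

/-!
Basic toolkit for permutation groups: stabilisers in primitive groups, bijections
from regular actions.
-/

namespace Cfsg.Agent.PermGroups

open MulAction

/-- A nontrivial group whose trivial subgroup is maximal is cyclic of prime order. -/
theorem isCyclic_and_prime_card_of_isCoatom_bot {G : Type*} [Group G]
    (h : IsCoatom (⊥ : Subgroup G)) : IsCyclic G ∧ (Nat.card G).Prime := by
  have hnt : Nontrivial G := by
    rcases subsingleton_or_nontrivial G with hs | hn
    · exact absurd (Subsingleton.elim (⊥ : Subgroup G) ⊤) h.1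
    · exact hn
  have hz : ∀ g : G, g ≠ 1 → Subgroup.zpowers g = ⊤ := fun g hg =>
    h.2 _ (bot_lt_iff_ne_bot.mpr (mt Subgroup.zpowers_eq_bot.mp hg))
  obtain ⟨g, hg⟩ := exists_ne (1 : G)
  have hc : IsCyclic G := isCyclic_iff_exists_zpowers_eq_top.mpr ⟨g, hz g hg⟩
  have hcomm : IsMulCommutative G := IsCyclic.isMulCommutative
  have : IsSimpleGroup G := ⟨fun H _ => or_iff_not_imp_left.mpr fun hH =>
    h.2 H (bot_lt_iff_ne_bot.mpr hH)⟩
  exact ⟨hc, Group.is_simple_iff_prime_card.mp this⟩

/-- In a faithful primitive action, if the stabiliser of a point is contained in that of a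
different point, all stabilisers are trivial and the group is cyclic of prime order equal to the
degree. -/
theorem regular_prime_of_stabilizer_le {G Ω : Type*} [Group G] [MulAction G Ω] [FaithfulSMul G Ω]
    [IsPreprimitive G Ω] {a b : Ω} (hab : a ≠ b) (hle : stabilizer G a ≤ stabilizer G b) :
    (∀ x : Ω, stabilizer G x = ⊥) ∧ IsCyclic G ∧ (Nat.card G).Prime ∧
      Nat.card Ω = Nat.card G := by
  have hnt : Nontrivial Ω := ⟨⟨a, b, hab⟩⟩
  have hca := (isCoatom_stabilizer_iff_preprimitive (G := G) a).mpr inferInstance
  have hcb := (isCoatom_stabilizer_iff_preprimitive (G := G) b).mpr inferInstance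
  have heq : stabilizer G a = stabilizer G b := by
    by_contra hne
    exact hcb.1 (hca.2 _ (lt_of_le_of_ne hle hne))
  set B : Set Ω := {x | stabilizer G x = stabilizer G a} with hB
  have hblock : IsBlock G B := by
    rw [isBlock_iff_smul_eq_of_mem]
    intro g x hx hgx
    have key : ∀ y : Ω, stabilizer G y = stabilizer G a → stabilizer G (g • y) = stabilizer G a := by
      intro y hy
      rw [stabilizer_smul_eq_stabilizer_map_conj, hy, ← hx,
        ← stabilizer_smul_eq_stabilizer_map_conj, hgx, hx]
    have key' : ∀ y : Ω, stabilizer G y = stabilizer G a → stabilizer G (g⁻¹ • y) = stabilizer G a := by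
      intro y hy
      rw [stabilizer_smul_eq_stabilizer_map_conj, hy, ← hgx,
        ← stabilizer_smul_eq_stabilizer_map_conj, inv_smul_smul, hx, hgx]
    ext y
    rw [Set.mem_smul_set_iff_inv_smul_mem]
    refine ⟨fun hy => ?_, key' y⟩
    have := key _ hy
    rwa [smul_inv_smul] at this
  have huniv : B = Set.univ := by
    rcases IsPreprimitive.isTrivialBlock_of_isBlock hblock with hs | hu
    · exact absurd (hs (show a ∈ B from rfl) (show b ∈ B from heq.symm)) hab
    · exact hu
  have hall : ∀ x : Ω, stabilizer G x = stabilizer G a := fun x =>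
    (huniv ▸ Set.mem_univ x : x ∈ B)
  have hbot : stabilizer G a = ⊥ := by
    rw [eq_bot_iff]
    intro g hg
    rw [Subgroup.mem_bot]
    apply FaithfulSMul.eq_of_smul_eq_smul (α := Ω)
    intro x
    rw [one_smul]
    rw [← hall x] at hg
    exact hg
  have hcard : Nat.card Ω = Nat.card G := by
    rw [← MulAction.index_stabilizer_of_transitive G a, hbot, Subgroup.index_bot]
  obtain ⟨h1, h2⟩ := isCyclic_and_prime_card_of_isCoatom_bot (hbot ▸ hca)
  exact ⟨fun x => (hall x).trans hbot, h1, h2, hcard⟩

end Cfsg.Agent.PermGroups
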