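import Cfsg.Agent.Chars.Orth
import Mathlib.LinearAlgebra.Trace
import Mathlib.LinearAlgebra.Eigenspace.Triangularizable
import Mathlib.LinearAlgebra.Eigenspace.Minpoly
import Mathlib.LinearAlgebra.Eigenspace.Zero
import Mathlib.RepresentationTheory.Invariants
import Mathlib.Algebra.DirectSum.LinearMap

/-!
The central projectors attached to irreducible characters, the centraliser ring of a
representation, and its commutativity.
-/

set_option autoImplicit false
set_option linter.style.haveILetI false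
set_option linter.unusedSectionVars false

namespace Cfsg.Agent.PermGroups

open Representation
open scoped ComplexConjugate

universe u v

variable {G : Type u} [Group G] [Fintype G] {V : Type v} [AddCommGroup V] [Module ℂ V]

/-- The projector of a representation onto the isotypic component of a character. -/
noncomputable def charProj (ρ : Representation ℂ G V) (χ : G → ℂ) : Module.End ℂ V :=
  (χ 1 * (Nat.card G : ℂ)⁻¹) • ∑ g, χ g • ρ g⁻¹

theorem charProj_commute (ρ : Representation ℂ G V) {χ : G → ℂ} (hχ : Cfsg.IsIrrCharacter G χ)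
    (h : G) : charProj ρ χ * ρ h = ρ h * charProj ρ χ := by
  rw [charProj, smul_mul_assoc, mul_smul_comm, Chars.weightedSum_commute ρ
    (Chars.isClassFunction_of_isCharacter (Chars.isCharacter_of_isIrr hχ)) h]

theorem charProj_sub_apply (ρ : Representation ℂ G V) (S : Subrepresentation ρ) (χ : G → ℂ)
    (x : S.toSubmodule) : ((charProj S.toRepresentation χ x : S.toSubmodule) : V) = charProj ρ χ x := by
  simp [charProj, LinearMap.sum_apply, Subrepresentation.toRepresentation]

theorem trace_charProj [FiniteDimensional ℂ V] (ρ : Representation ℂ G V) {χ : G → ℂ}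
    (hχ : Cfsg.IsIrrCharacter G χ) :
    LinearMap.trace ℂ V (charProj ρ χ) = χ 1 * classInner ρ.character χ := by
  rw [charProj, map_smul, map_sum, smul_eq_mul, mul_assoc]
  congr 1
  have h1 : classInner χ ρ.character = conj (classInner χ ρ.character) := by
    obtain ⟨n, hn⟩ := Chars.exists_classInner_eq_nat (Chars.isCharacter_of_isIrr hχ)
      (Chars.isCharacter_of_rep ρ)
    simp [hn]
  rw [← Chars.classInner_conj_symm χ ρ.character, ← h1, Chars.classInner_def]
  congr 1
  refine Finset.sum_congr rfl fun g _ => ?_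
  rw [map_smul, smul_eq_mul, ← Chars.char_inv_eq_conj (Chars.isCharacter_of_rep ρ)]
  rfl

/-- On an irreducible representation the projector is the identity or zero. -/
theorem charProj_irr [FiniteDimensional ℂ V] (ρ : Representation ℂ G V) [ρ.IsIrreducible]
    {χ : G → ℂ} (hχ : Cfsg.IsIrrCharacter G χ) :
    (ρ.character = χ → charProj ρ χ = 1) ∧ (ρ.character ≠ χ → charProj ρ χ = 0) := by
  obtain ⟨c, hc⟩ := Chars.scalar_of_commute ρ _ (charProj_commute ρ hχ)
  have htr := trace_charProj ρ hχ
  rw [hc, map_smul, LinearMap.trace_one, smul_eq_mul] at htr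
  have hn : (Module.finrank ℂ V : ℂ) ≠ 0 := by
    exact_mod_cast (Chars.finrank_pos_of_isIrreducible ρ).ne'
  refine ⟨fun h => ?_, fun h => ?_⟩
  · rw [h, Chars.classInner_self_irr hχ, mul_one, ← h, Representation.char_one] at htr
    rw [hc, mul_eq_right₀ hn |>.1 htr, one_smul]
  · rw [Chars.classInner_irr_of_ne (Chars.isIrrCharacter_of_rep ρ) hχ h, mul_zero] at htr
    rw [hc, (mul_eq_zero.1 htr).resolve_right hn, zero_smul]

/-- The projectors are orthogonal idempotents. -/
theorem charProj_mul [FiniteDimensional ℂ V] (ρ : Representation ℂ G V) {χ ψ : G → ℂ}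
    (hχ : Cfsg.IsIrrCharacter G χ) (hψ : Cfsg.IsIrrCharacter G ψ) :
    (χ = ψ → charProj ρ χ * charProj ρ ψ = charProj ρ χ) ∧
      (χ ≠ ψ → charProj ρ χ * charProj ρ ψ = 0) := by
  refine Chars.rep_induction (P := fun V _ _ ρ =>
    (χ = ψ → charProj ρ χ * charProj ρ ψ = charProj ρ χ) ∧
      (χ ≠ ψ → charProj ρ χ * charProj ρ ψ = 0)) ?_ ?_ ?_ V ρ
  · intro V _ _ ρ _
    exact ⟨fun _ => LinearMap.ext fun v => Subsingleton.elim _ _,
      fun _ => LinearMap.ext fun v => Subsingleton.elim _ _⟩
  · intro V _ _ _ ρ _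
    refine ⟨fun h => ?_, fun h => ?_⟩
    · subst h
      by_cases hρ : ρ.character = χ
      · rw [(charProj_irr ρ hχ).1 hρ, one_mul]
      · rw [(charProj_irr ρ hχ).2 hρ, zero_mul]
    · by_cases hρ : ρ.character = χ
      · rw [(charProj_irr ρ hψ).2 (hρ ▸ h), mul_zero]
      · rw [(charProj_irr ρ hχ).2 hρ, zero_mul]
  · intro V _ _ _ ρ S C hc hS hC
    have key : ∀ (S : Subrepresentation ρ),
        ((χ = ψ → charProj S.toRepresentation χ * charProj S.toRepresentation ψ =
          charProj S.toRepresentation χ) ∧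
        (χ ≠ ψ → charProj S.toRepresentation χ * charProj S.toRepresentation ψ = 0)) →
        ∀ x ∈ S.toSubmodule, (χ = ψ → charProj ρ χ (charProj ρ ψ x) = charProj ρ χ x) ∧
          (χ ≠ ψ → charProj ρ χ (charProj ρ ψ x) = 0) := by
      intro S hS x hx
      refine ⟨fun h => ?_, fun h => ?_⟩
      · have := congrArg (fun T => ((T ⟨x, hx⟩ : S.toSubmodule) : V)) (hS.1 h)
        simpa [charProj_sub_apply] using this
      · have := congrArg (fun T => ((T ⟨x, hx⟩ : S.toSubmodule) : V)) (hS.2 h)
        simpa [charProj_sub_apply] using this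
    refine ⟨fun h => LinearMap.ext fun v => ?_, fun h => LinearMap.ext fun v => ?_⟩ <;>
    · obtain ⟨a, ha, b, hb, rfl⟩ := Submodule.mem_sup.1
        (hc.sup_eq_top.symm ▸ Submodule.mem_top : v ∈ S.toSubmodule ⊔ C.toSubmodule)
      first
        | simp [(key S hS a ha).1 h, (key C hC b hb).1 h]
        | simp [(key S hS a ha).2 h, (key C hC b hb).2 h]

/-- The projectors add up to the identity. -/
theorem sum_charProj (ρ : Representation ℂ G V) :
    ∑ χ : Cfsg.IrrCharacter G, charProj ρ (χ : G → ℂ) = 1 := by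
  classical
  simp only [charProj, Finset.smul_sum, smul_smul]
  rw [Finset.sum_comm]
  simp only [← Finset.sum_smul]
  have h : ∀ g : G, ∑ χ : Cfsg.IrrCharacter G, (χ : G → ℂ) 1 * (Nat.card G : ℂ)⁻¹ * (χ : G → ℂ) g =
      if g = 1 then 1 else 0 := by
    intro g
    rw [show (∑ χ : Cfsg.IrrCharacter G, (χ : G → ℂ) 1 * (Nat.card G : ℂ)⁻¹ * (χ : G → ℂ) g) =
      (Nat.card G : ℂ)⁻¹ * ∑ χ : Cfsg.IrrCharacter G, (χ : G → ℂ) 1 * (χ : G → ℂ) g by
        rw [Finset.mul_sum]; exact Finset.sum_congr rfl fun χ _ => by ring,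
      Chars.sum_apply_one_mul]
    split_ifs
    · exact inv_mul_cancel₀ Chars.card_ne_zero
    · exact mul_zero _
  simp only [h, ite_smul, one_smul, zero_smul]
  simp

theorem charProj_eq_zero [FiniteDimensional ℂ V] (ρ : Representation ℂ G V) {χ : G → ℂ}
    (hχ : Cfsg.IsIrrCharacter G χ) (h : classInner ρ.character χ = 0) : charProj ρ χ = 0 := by
  have hidem : IsIdempotentElem (charProj ρ χ) := (charProj_mul ρ hχ hχ).1 rfl
  have hp : LinearMap.IsProj (LinearMap.range (charProj ρ χ)) (charProj ρ χ) :=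
    LinearMap.IsIdempotentElem.isProj_range _ hidem
  have htr := hp.trace
  rw [trace_charProj ρ hχ, h, mul_zero] at htr
  have h0 : Module.finrank ℂ (LinearMap.range (charProj ρ χ)) = 0 := by exact_mod_cast htr.symm
  exact LinearMap.range_eq_bot.1 (Submodule.finrank_eq_zero.1 h0)

theorem charProj_ne_zero [FiniteDimensional ℂ V] (ρ : Representation ℂ G V) {χ : G → ℂ}
    (hχ : Cfsg.IsIrrCharacter G χ) (h : classInner ρ.character χ ≠ 0) : charProj ρ χ ≠ 0 := by
  intro h0
  have := trace_charProj ρ hχ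
  rw [h0, map_zero] at this
  exact mul_ne_zero (Chars.irr_apply_one_ne_zero hχ) h this.symm

theorem mem_invariants_iff_commute (ρ : Representation ℂ G V) (T : V →ₗ[ℂ] V) :
    T ∈ (ρ.linHom ρ).invariants ↔ ∀ g, T ∘ₗ ρ g = ρ g ∘ₗ T := by
  rw [Representation.mem_invariants]
  refine ⟨fun h g => ?_, fun h g => ?_⟩
  · conv_rhs => rw [← h g⁻¹]
    ext v; simp
  · show ρ g ∘ₗ T ∘ₗ ρ g⁻¹ = T
    rw [h g⁻¹]
    ext v; simp

theorem finrank_invariants [FiniteDimensional ℂ V] (ρ : Representation ℂ G V) :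
    (Module.finrank ℂ (ρ.linHom ρ).invariants : ℂ) = classInner ρ.character ρ.character := by
  rw [Chars.classInner_rep ρ ρ]
  exact congrArg _ (LinearEquiv.finrank_eq (Representation.invariantsEquivIntertwiningMap ρ ρ))

/-- If the character is multiplicity free, the centraliser ring is spanned by the projectors. -/
theorem mem_span_charProj [FiniteDimensional ℂ V] (ρ : Representation ℂ G V)
    (hmf : ∀ χ : G → ℂ, Cfsg.IsIrrCharacter G χ →
      classInner ρ.character χ = 0 ∨ classInner ρ.character χ = 1)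
    {T : V →ₗ[ℂ] V} (hT : ∀ g, T ∘ₗ ρ g = ρ g ∘ₗ T) :
    ∃ c : Cfsg.IrrCharacter G → ℂ, T = ∑ χ : Cfsg.IrrCharacter G, c χ • charProj ρ (χ : G → ℂ) := by
  classical
  let s := {χ : Cfsg.IrrCharacter G // classInner ρ.character (χ : G → ℂ) ≠ 0}
  let b : s → (ρ.linHom ρ).invariants := fun χ =>
    ⟨charProj ρ (χ.1 : G → ℂ), (mem_invariants_iff_commute ρ _).2 fun g => charProj_commute ρ χ.1.2 g⟩
  have hli : LinearIndependent ℂ b := by
    rw [Fintype.linearIndependent_iff]
    intro c hc χ
    have h0 : ∑ ψ : s, c ψ • charProj ρ (ψ.1 : G → ℂ) = 0 := by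
      have := congrArg Subtype.val hc
      rw [AddSubmonoidClass.coe_finsetSum] at this
      exact this
    have h1 := congrArg (charProj ρ (χ.1 : G → ℂ) * ·) h0
    simp only [Finset.mul_sum, mul_smul_comm, mul_zero] at h1
    rw [Finset.sum_eq_single χ] at h1
    · rw [(charProj_mul ρ χ.1.2 χ.1.2).1 rfl] at h1
      exact (smul_eq_zero.1 h1).resolve_right (charProj_ne_zero ρ χ.1.2 χ.2)
    · intro ψ _ hne
      rw [(charProj_mul ρ χ.1.2 ψ.1.2).2 (fun h => hne (Subtype.ext (Subtype.ext h)).symm), smul_zero]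
    · simp
  have hcard : Fintype.card s = Module.finrank ℂ (ρ.linHom ρ).invariants := by
    have hc : (Fintype.card s : ℂ) = classInner ρ.character ρ.character := by
      rw [Chars.classInner_eq_sum
        (Chars.isClassFunction_of_isCharacter (Chars.isCharacter_of_rep ρ)),
        Fintype.card_subtype, ← Finset.sum_boole]
      refine Finset.sum_congr rfl fun χ _ => ?_
      rw [← Chars.classInner_conj_symm ρ.character (χ : G → ℂ)]
      rcases hmf _ χ.2 with h | h <;> simp [h]
    rw [← finrank_invariants] at hc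
    exact_mod_cast hc
  have hspan := hli.span_eq_top_of_card_eq_finrank' hcard
  have hmem : (⟨T, (mem_invariants_iff_commute ρ T).2 hT⟩ : (ρ.linHom ρ).invariants) ∈
      Submodule.span ℂ (Set.range b) := hspan ▸ Submodule.mem_top
  obtain ⟨c, hc⟩ := (Submodule.mem_span_range_iff_exists_fun ℂ).1 hmem
  refine ⟨fun χ => if h : classInner ρ.character (χ : G → ℂ) ≠ 0 then c ⟨χ, h⟩ else 0, ?_⟩
  have hc' := congrArg Subtype.val hc
  rw [AddSubmonoidClass.coe_finsetSum] at hc'
  refine hc'.symm.trans ?_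
  refine Finset.sum_bij_ne_zero (fun χ _ _ => χ.1) (fun χ _ _ => Finset.mem_univ _)
    (fun χ _ _ ψ _ _ h => Subtype.ext h) (fun χ _ hne => ?_) (fun χ _ _ => ?_)
  · by_cases h : classInner ρ.character (χ : G → ℂ) ≠ 0
    · refine ⟨⟨χ, h⟩, Finset.mem_univ _, fun h0 => hne ?_, rfl⟩
      simp only [dif_pos h]; exact h0
    · exact absurd (by simp only [dif_neg h, zero_smul]) hne
  · simp only [dif_pos χ.2]; rfl

/-- A multiplicity-free character has a commutative centraliser ring. -/
theorem commute_of_multiplicityFree [FiniteDimensional ℂ V] (ρ : Representation ℂ G V)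
    (hmf : ∀ χ : G → ℂ, Cfsg.IsIrrCharacter G χ →
      classInner ρ.character χ = 0 ∨ classInner ρ.character χ = 1)
    {S T : V →ₗ[ℂ] V} (hS : ∀ g, S ∘ₗ ρ g = ρ g ∘ₗ S) (hT : ∀ g, T ∘ₗ ρ g = ρ g ∘ₗ T) :
    S ∘ₗ T = T ∘ₗ S := by
  obtain ⟨a, rfl⟩ := mem_span_charProj ρ hmf hS
  obtain ⟨b, rfl⟩ := mem_span_charProj ρ hmf hT
  simp only [← Module.End.mul_eq_comp]
  have h : ∀ χ ψ : Cfsg.IrrCharacter G, charProj ρ (χ : G → ℂ) * charProj ρ (ψ : G → ℂ) =
      charProj ρ (ψ : G → ℂ) * charProj ρ (χ : G → ℂ) := by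
    intro χ ψ
    rcases eq_or_ne χ ψ with rfl | hne
    · rfl
    · rw [(charProj_mul ρ χ.2 ψ.2).2 (fun h => hne (Subtype.ext h)),
        (charProj_mul ρ ψ.2 χ.2).2 (fun h => hne (Subtype.ext h).symm)]
  simp only [Finset.sum_mul, Finset.mul_sum, smul_mul_smul_comm]
  rw [Finset.sum_comm]
  exact Finset.sum_congr rfl fun χ _ => Finset.sum_congr rfl fun ψ _ => by rw [h, mul_comm (a _)]

/-- A commutative centraliser ring forces a multiplicity-free character. -/
theorem multiplicityFree_of_commute [FiniteDimensional ℂ V] (ρ : Representation ℂ G V)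
    (hcomm : ∀ S T : V →ₗ[ℂ] V, (∀ g, S ∘ₗ ρ g = ρ g ∘ₗ S) → (∀ g, T ∘ₗ ρ g = ρ g ∘ₗ T) →
      S ∘ₗ T = T ∘ₗ S) {χ : G → ℂ} (hχ : Cfsg.IsIrrCharacter G χ) :
    classInner ρ.character χ = 0 ∨ classInner ρ.character χ = 1 := by
  revert hcomm
  refine Chars.rep_induction (P := fun V _ _ ρ =>
    (∀ S T : V →ₗ[ℂ] V, (∀ g, S ∘ₗ ρ g = ρ g ∘ₗ S) → (∀ g, T ∘ₗ ρ g = ρ g ∘ₗ T) →
      S ∘ₗ T = T ∘ₗ S) → classInner ρ.character χ = 0 ∨ classInner ρ.character χ = 1) ?_ ?_ ?_ V ρ
  · intro V _ _ ρ _ _
    left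
    have hz : ρ.character = 0 := by
      funext g
      show LinearMap.trace ℂ V (ρ g) = 0
      rw [Subsingleton.elim (ρ g) 0, map_zero]
    simp [hz, Chars.classInner_def]
  · intro V _ _ _ ρ _ _
    by_cases h : ρ.character = χ
    · exact Or.inr (by rw [h]; exact Chars.classInner_self_irr hχ)
    · exact Or.inl (Chars.classInner_irr_of_ne (Chars.isIrrCharacter_of_rep ρ) hχ h)
  · intro V _ _ _ ρ S C hc hS hC hcomm
    -- extension of operators on a summand by zero on the complement
    have key : ∀ (S C : Subrepresentation ρ), IsCompl S.toSubmodule C.toSubmodule →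
        ∃ p : V →ₗ[ℂ] S.toSubmodule, (∀ x : S.toSubmodule, p x = x) ∧ (∀ x ∈ C.toSubmodule, p x = 0) ∧
          ∀ g v, p (ρ g v) = S.toRepresentation g (p v) := by
      intro S C hc
      refine ⟨S.toSubmodule.projectionOnto C.toSubmodule hc,
        fun x => Submodule.projectionOnto_apply_left hc x,
        fun x hx => Submodule.projectionOnto_apply_right hc ⟨x, hx⟩, fun g v => ?_⟩
      obtain ⟨a, ha, b, hb, rfl⟩ := Submodule.mem_sup.1
        (hc.sup_eq_top.symm ▸ Submodule.mem_top : v ∈ S.toSubmodule ⊔ C.toSubmodule)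
      have h1 := Submodule.projectionOnto_apply_left hc ⟨a, ha⟩
      have h2 := Submodule.projectionOnto_apply_right hc ⟨b, hb⟩
      have h3 := Submodule.projectionOnto_apply_left hc ⟨ρ g a, S.apply_mem_toSubmodule g ha⟩
      have h4 := Submodule.projectionOnto_apply_right hc ⟨ρ g b, C.apply_mem_toSubmodule g hb⟩
      simp only at h1 h2 h3 h4
      rw [map_add, map_add, map_add, h1, h2, h3, h4, add_zero, add_zero]
      exact Subtype.ext rfl
    have hsub : ∀ (S C : Subrepresentation ρ), IsCompl S.toSubmodule C.toSubmodule →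
        ∀ A B : S.toSubmodule →ₗ[ℂ] S.toSubmodule,
        (∀ g, A ∘ₗ S.toRepresentation g = S.toRepresentation g ∘ₗ A) →
        (∀ g, B ∘ₗ S.toRepresentation g = S.toRepresentation g ∘ₗ B) → A ∘ₗ B = B ∘ₗ A := by
      intro S C hc A B hA hB
      obtain ⟨p, hp, -, hpg⟩ := key S C hc
      have hext : ∀ A : S.toSubmodule →ₗ[ℂ] S.toSubmodule,
          (∀ g, A ∘ₗ S.toRepresentation g = S.toRepresentation g ∘ₗ A) →
          ∀ g, (S.toSubmodule.subtype ∘ₗ A ∘ₗ p) ∘ₗ ρ g = ρ g ∘ₗ (S.toSubmodule.subtype ∘ₗ A ∘ₗ p) := by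
        intro A hA g
        refine LinearMap.ext fun v => ?_
        show ((A (p (ρ g v)) : S.toSubmodule) : V) = ρ g (A (p v) : S.toSubmodule)
        rw [hpg, show A (S.toRepresentation g (p v)) = S.toRepresentation g (A (p v)) from
          LinearMap.congr_fun (hA g) (p v)]
        rfl
      refine LinearMap.ext fun x => Subtype.ext ?_
      have h := LinearMap.congr_fun (hcomm _ _ (hext A hA) (hext B hB)) (x : V)
      simpa [hp] using h
    -- no non-zero intertwiner between complementary summands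
    have hzero : classInner S.toRepresentation.character C.toRepresentation.character = 0 := by
      rw [Chars.classInner_rep, Nat.cast_eq_zero, Module.finrank_zero_iff]
      obtain ⟨p, hp, hp0, hpg⟩ := key S C hc
      obtain ⟨q, hq, hq0, hqg⟩ := key C S hc.symm
      refine subsingleton_of_forall_eq 0 fun φ => ?_
      let P : V →ₗ[ℂ] V := S.toSubmodule.subtype ∘ₗ p
      let F : V →ₗ[ℂ] V := S.toSubmodule.subtype ∘ₗ φ.toLinearMap ∘ₗ q
      have hP : ∀ g, P ∘ₗ ρ g = ρ g ∘ₗ P := fun g => LinearMap.ext fun v => by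
        show ((p (ρ g v) : S.toSubmodule) : V) = ρ g (p v : S.toSubmodule)
        rw [hpg]; rfl
      have hF : ∀ g, F ∘ₗ ρ g = ρ g ∘ₗ F := fun g => LinearMap.ext fun v => by
        show ((φ.toLinearMap (q (ρ g v)) : S.toSubmodule) : V) = ρ g (φ.toLinearMap (q v) : S.toSubmodule)
        rw [hqg]
        exact congrArg Subtype.val (LinearMap.congr_fun (φ.isIntertwining' g) (q v))
      refine Representation.IntertwiningMap.ext (LinearMap.ext fun y => Subtype.ext ?_)
      have h := LinearMap.congr_fun (hcomm P F hP hF) (y : V)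
      have hy0 : p (y : V) = 0 := hp0 _ y.2
      simp [P, F, hp, hq, hy0] at h
      simpa using h
    have hm := Chars.classInner_eq_sum
      (Chars.isClassFunction_of_isCharacter (Chars.isCharacter_of_rep S.toRepresentation))
      C.toRepresentation.character
    rw [hzero] at hm
    rw [Chars.character_eq_add_of_isCompl ρ S C hc, Chars.classInner_add_left]
    rcases hS (hsub S C hc) with h1 | h1
    · rw [h1, zero_add]; exact hC (hsub C S hc.symm)
    rcases hC (hsub C S hc.symm) with h2 | h2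
    · exact Or.inr (by rw [h1, h2, add_zero])
    exfalso
    choose m hm' using fun ψ : Cfsg.IrrCharacter G => Chars.exists_classInner_eq_nat
      (Chars.isCharacter_of_rep S.toRepresentation) (Chars.irr_isCharacter ψ)
    choose k hk' using fun ψ : Cfsg.IrrCharacter G => Chars.exists_classInner_eq_nat
      (Chars.irr_isCharacter ψ) (Chars.isCharacter_of_rep C.toRepresentation)
    have h0 : (∑ ψ : Cfsg.IrrCharacter G, m ψ * k ψ) = 0 := by
      have : ((∑ ψ : Cfsg.IrrCharacter G, m ψ * k ψ : ℕ) : ℂ) = 0 := by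
        push_cast
        simp only [← hm', ← hk']
        exact hm.symm
      exact_mod_cast this
    have hz := (Finset.sum_eq_zero_iff.1 h0) ⟨χ, hχ⟩ (Finset.mem_univ _)
    rcases Nat.mul_eq_zero.1 hz with e | e
    · have := hm' ⟨χ, hχ⟩
      rw [show ((⟨χ, hχ⟩ : Cfsg.IrrCharacter G) : G → ℂ) = χ from rfl, h1, e] at this
      norm_num at this
    · have := hk' ⟨χ, hχ⟩
      rw [show ((⟨χ, hχ⟩ : Cfsg.IrrCharacter G) : G → ℂ) = χ from rfl,
        ← Chars.classInner_conj_symm C.toRepresentation.character χ, h2, e] at this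
      norm_num at this

/-- The trace of an integral commuting operator on an isotypic component. -/
theorem exists_integral_trace [FiniteDimensional ℂ V] (ρ : Representation ℂ G V) {χ : G → ℂ}
    (hχ : Cfsg.IsIrrCharacter G χ) (T : Module.End ℂ V) (hT : ∀ g, T * ρ g = ρ g * T)
    (hint : IsIntegral ℤ T) :
    ∃ x : ℂ, IsIntegral ℤ x ∧ LinearMap.trace ℂ V (T * charProj ρ χ) = χ 1 * x := by
  classical
  have hEmap : ∀ μ, Set.MapsTo (charProj ρ χ) (T.maxGenEigenspace μ : Submodule ℂ V) (T.maxGenEigenspace μ : Submodule ℂ V) := by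
    intro μ
    refine Module.End.mapsTo_maxGenEigenspace_of_comm ?_ μ
    simp only [Commute, SemiconjBy, charProj, mul_smul_comm, smul_mul_assoc, Finset.mul_sum,
      Finset.sum_mul, hT]
  have hTmap : ∀ μ, Set.MapsTo T (T.maxGenEigenspace μ : Submodule ℂ V) (T.maxGenEigenspace μ : Submodule ℂ V) :=
    fun μ => Module.End.mapsTo_maxGenEigenspace_of_comm (Commute.refl T) μ
  have hmap : ∀ μ, Set.MapsTo (T * charProj ρ χ : Module.End ℂ V) (T.maxGenEigenspace μ : Submodule ℂ V) (T.maxGenEigenspace μ : Submodule ℂ V) :=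
    fun μ => (hTmap μ).comp (hEmap μ)
  have hfin := Module.End.finite_hasEigenvalue T
  have hne : ∀ μ, T.maxGenEigenspace μ ≠ ⊥ → T.HasEigenvalue μ := fun μ h => by
    rw [Module.End.maxGenEigenspace_eq_genEigenspace_finrank] at h
    exact Module.End.hasEigenvalue_of_hasGenEigenvalue h
  have hterm : ∀ μ : ℂ, ∃ x : ℂ, IsIntegral ℤ x ∧
      LinearMap.trace ℂ _ ((T * charProj ρ χ).restrict (hmap μ)) = χ 1 * x := by
    intro μ
    by_cases hbot : T.maxGenEigenspace μ = ⊥
    · refine ⟨0, isIntegral_zero, ?_⟩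
      haveI : Subsingleton (T.maxGenEigenspace μ) := Submodule.subsingleton_iff_eq_bot.2 hbot
      rw [mul_zero, Subsingleton.elim ((T * charProj ρ χ).restrict (hmap μ)) 0, map_zero]
    obtain ⟨v, hv⟩ := (hne μ hbot).exists_hasEigenvector
    have hμ : IsIntegral ℤ μ := by
      obtain ⟨P, hP, hP0⟩ := hint
      refine ⟨P, hP, ?_⟩
      have h := Module.End.aeval_apply_of_hasEigenvector (p := P.map (algebraMap ℤ ℂ)) hv
      rw [Polynomial.aeval_map_algebraMap, show Polynomial.aeval T P = 0 from hP0,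
        LinearMap.zero_apply, Polynomial.eval_map] at h
      exact (smul_eq_zero.1 h.symm).resolve_right hv.2
    let S : Subrepresentation ρ :=
      ⟨T.maxGenEigenspace μ, fun g w hw => Module.End.mapsTo_maxGenEigenspace_of_comm (hT g) μ hw⟩
    obtain ⟨k, hk⟩ := Chars.exists_classInner_eq_nat (Chars.isCharacter_of_rep S.toRepresentation)
      (Chars.isCharacter_of_isIrr hχ)
    refine ⟨μ * k, hμ.mul (by exact_mod_cast (isIntegral_algebraMap (R := ℤ) (A := ℂ) (x := (k : ℤ)))), ?_⟩
    let A : Module.End ℂ S.toSubmodule := T.restrict (hTmap μ)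
    have hA : (T * charProj ρ χ).restrict (hmap μ) = A * charProj S.toRepresentation χ :=
      LinearMap.ext fun w => Subtype.ext (by
        show T (charProj ρ χ w) = T ((charProj S.toRepresentation χ w : S.toSubmodule) : V)
        rw [charProj_sub_apply])
    have hcommA : Commute (A - μ • 1) (charProj S.toRepresentation χ) := by
      refine Commute.sub_left ?_ ((Commute.one_left _).smul_left μ)
      refine LinearMap.ext fun w => Subtype.ext ?_
      show T ((charProj S.toRepresentation χ w : S.toSubmodule) : V) =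
        ((charProj S.toRepresentation χ (A w) : S.toSubmodule) : V)
      rw [charProj_sub_apply, charProj_sub_apply]
      show T (charProj ρ χ w) = charProj ρ χ (T w)
      simp only [charProj, LinearMap.smul_apply, LinearMap.sum_apply, map_smul, map_sum]
      congr 1
      refine Finset.sum_congr rfl fun g _ => ?_
      congr 1
      exact LinearMap.congr_fun (hT g⁻¹) (w : V)
    have hnil : IsNilpotent (A - μ • 1) := by
      obtain ⟨n, hn⟩ := Module.End.isNilpotent_restrict_maxGenEigenspace_sub_algebraMap T μ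
      refine ⟨n, ?_⟩
      rw [← hn]
      congr 1
    have h2 := LinearMap.isNilpotent_trace_of_isNilpotent (hcommA.isNilpotent_mul_right hnil)
    rw [isNilpotent_iff_eq_zero, sub_mul, map_sub, sub_eq_zero, smul_mul_assoc, one_mul, map_smul,
      smul_eq_mul] at h2
    rw [hA]
    refine h2.trans ?_
    rw [trace_charProj S.toRepresentation hχ, hk]
    ring
  choose x hx htr using hterm
  refine ⟨∑ μ ∈ hfin.toFinset, x μ, IsIntegral.sum _ fun μ _ => hx μ, ?_⟩
  rw [LinearMap.trace_eq_sum_trace_restrict'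
    (DirectSum.isInternal_submodule_of_iSupIndep_of_iSup_eq_top
      T.independent_maxGenEigenspace (Module.End.iSup_maxGenEigenspace_eq_top T))
    (hfin.subset fun μ h => hne μ h) hmap, Finset.mul_sum]
  refine (Finset.sum_subset ?_ ?_).trans (Finset.sum_congr rfl fun μ _ => htr μ)
  · intro μ hμ
    rw [Set.Finite.mem_toFinset] at hμ ⊢
    exact hne μ hμ
  · intro μ _ hμ
    rw [Set.Finite.mem_toFinset] at hμ
    have hbot : T.maxGenEigenspace μ = ⊥ := not_not.1 hμ
    haveI : Subsingleton (T.maxGenEigenspace μ) := Submodule.subsingleton_iff_eq_bot.2 hbot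
    rw [Subsingleton.elim ((T * charProj ρ χ).restrict (hmap μ)) 0, map_zero]

end Cfsg.Agent.PermGroups
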