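import Mathlib

/-!
Orbit counting with `Nat.card`, and the derangement subgroup of a transitive action.
-/

namespace Cfsg.Agent.PermGroups

open MulAction Finset

variable {G Ω : Type*} [Group G] [MulAction G Ω]

/-- Burnside's lemma with `Nat.card`. -/
theorem sum_natCard_fixedBy [Fintype G] [Finite Ω] :
    ∑ g : G, Nat.card (fixedBy Ω g) = Nat.card (orbitRel.Quotient G Ω) * Nat.card G := by
  classical
  have : Fintype Ω := Fintype.ofFinite Ω
  have : Fintype (orbitRel.Quotient G Ω) := Fintype.ofFinite _
  simp only [Nat.card_eq_fintype_card]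
  exact sum_card_fixedBy_eq_card_orbits_mul_card_group G Ω

theorem natCard_fixedBy_pi (j : ℕ) (g : G) :
    Nat.card (fixedBy (Fin j → Ω) g) = Nat.card (fixedBy Ω g) ^ j := by
  have e : fixedBy (Fin j → Ω) g ≃ (Fin j → fixedBy Ω g) :=
    { toFun := fun f i => ⟨f.1 i, congrFun f.2 i⟩
      invFun := fun f => ⟨fun i => (f i).1, funext fun i => (f i).2⟩
      left_inv := fun f => rfl
      right_inv := fun f => rfl }
  rw [Nat.card_congr e, Nat.card_fun]
  simp

theorem natCard_fixedBy_prod (g : G) :
    Nat.card (fixedBy (Ω × Ω) g) = Nat.card (fixedBy Ω g) * Nat.card (fixedBy Ω g) := by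
  have e : fixedBy (Ω × Ω) g ≃ fixedBy Ω g × fixedBy Ω g :=
    { toFun := fun f => (⟨f.1.1, congrArg Prod.fst f.2⟩, ⟨f.1.2, congrArg Prod.snd f.2⟩)
      invFun := fun f => ⟨(f.1.1, f.2.1), Prod.ext f.1.2 f.2.2⟩
      left_inv := fun f => rfl
      right_inv := fun f => rfl }
  rw [Nat.card_congr e, Nat.card_prod]

/-- Sum over `G` of the `j`-th power of the number of fixed points is divisible by `|G|`. -/
theorem natCard_dvd_sum_fixedBy_pow [Fintype G] [Finite Ω] (j : ℕ) :
    Nat.card G ∣ ∑ g : G, Nat.card (fixedBy Ω g) ^ j := by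
  simp only [← natCard_fixedBy_pi]
  rw [sum_natCard_fixedBy]
  exact dvd_mul_left _ _

/-- A transitive action has one orbit (none on the empty set). -/
theorem natCard_orbits_eq_one [IsPretransitive G Ω] [Nonempty Ω] :
    Nat.card (orbitRel.Quotient G Ω) = 1 := by
  rw [Nat.card_eq_one_iff_unique]
  refine ⟨⟨fun x y => ?_⟩, ⟨Quotient.mk'' (Classical.arbitrary Ω)⟩⟩
  induction x using Quotient.inductionOn' with
  | h a =>
    induction y using Quotient.inductionOn' with
    | h b => exact Quotient.sound' (exists_smul_eq G b a)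

theorem isPretransitive_of_natCard_orbits_le_one [Finite Ω]
    (h : Nat.card (orbitRel.Quotient G Ω) ≤ 1) : IsPretransitive G Ω := by
  refine ⟨fun a b => ?_⟩
  have : Subsingleton (orbitRel.Quotient G Ω) := Finite.card_le_one_iff_subsingleton.mp h
  exact Quotient.exact' (s₁ := orbitRel G Ω) (Subsingleton.elim
    (Quotient.mk'' b : orbitRel.Quotient G Ω) (Quotient.mk'' a))

section Derangements

variable (G Ω)

/-- The subgroup generated by the derangements. -/
def derangementSubgroup : Subgroup G := Subgroup.closure {g : G | ∀ ω : Ω, g • ω ≠ ω}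

variable {G Ω}

theorem one_le_fix_of_notMem [Finite Ω] {g : G} (hg : g ∉ derangementSubgroup G Ω) :
    1 ≤ Nat.card (fixedBy Ω g) := by
  have : ∃ ω : Ω, g • ω = ω := by
    by_contra h
    push Not at h
    exact hg (Subgroup.subset_closure h)
  obtain ⟨ω, hω⟩ := this
  have : Nonempty (fixedBy Ω g) := ⟨⟨ω, hω⟩⟩
  exact Nat.card_pos

theorem derangementSubgroup_normal : (derangementSubgroup G Ω).Normal := by
  refine ⟨fun n hn h => ?_⟩
  have hle : (derangementSubgroup G Ω).map (MulAut.conj h).toMonoidHom ≤ derangementSubgroup G Ω := by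
    rw [derangementSubgroup, MonoidHom.map_closure, Subgroup.closure_le]
    rintro _ ⟨g, hg, rfl⟩
    refine Subgroup.subset_closure fun ω hω => hg (h⁻¹ • ω) ?_
    have := congrArg (h⁻¹ • ·) hω
    simpa [mul_smul] using this
  exact hle ⟨n, hn, rfl⟩

/-- The derangement subgroup of a transitive group is transitive, and contains every element
fixing a number of points other than one. -/
theorem derangementSubgroup_transitive_and_fix [Finite G] [Finite Ω] [FaithfulSMul G Ω]
    [IsPretransitive G Ω] :
    IsPretransitive (derangementSubgroup G Ω) Ω ∧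
      ∀ g : G, g ∉ derangementSubgroup G Ω → Nat.card (fixedBy Ω g) = 1 := by
  classical
  rcases isEmpty_or_nonempty Ω with h | h
  · exact ⟨⟨fun a => isEmptyElim a⟩,
      fun g hg => absurd (Subgroup.subset_closure fun ω => isEmptyElim ω) hg⟩
  set D := derangementSubgroup G Ω with hD
  have : Fintype G := Fintype.ofFinite G
  have hGsum := sum_natCard_fixedBy (G := G) (Ω := Ω)
  rw [natCard_orbits_eq_one, one_mul] at hGsum
  have hDsum := sum_natCard_fixedBy (G := D) (Ω := Ω)
  have hsub : ∑ g : D, Nat.card (fixedBy Ω g) =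
      ∑ g ∈ Finset.univ.filter (· ∈ D), Nat.card (fixedBy Ω g) :=
    (Finset.sum_subtype (Finset.univ.filter (· ∈ D)) (p := (· ∈ D)) (by simp)
      (fun g => Nat.card (fixedBy Ω g))).symm
  rw [hsub] at hDsum
  have hsplit := Finset.sum_filter_add_sum_filter_not (Finset.univ : Finset G) (· ∈ D)
    (fun g => Nat.card (fixedBy Ω g))
  have hcards := Finset.card_filter_add_card_filter_not (s := (Finset.univ : Finset G)) (· ∈ D)
  have hDcard : (Finset.univ.filter (· ∈ D)).card = Nat.card D := by
    rw [Nat.card_eq_fintype_card]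
    exact (Fintype.card_subtype _).symm
  rw [Finset.card_univ, ← Nat.card_eq_fintype_card, hDcard] at hcards
  have hge : (Finset.univ.filter (· ∉ D)).card ≤
      ∑ g ∈ Finset.univ.filter (· ∉ D), Nat.card (fixedBy Ω g) := by
    rw [Finset.card_eq_sum_ones]
    exact Finset.sum_le_sum fun g hg => one_le_fix_of_notMem (by simpa using hg)
  have hDpos : 0 < Nat.card D := Nat.card_pos
  have hle : Nat.card (orbitRel.Quotient D Ω) ≤ 1 := by nlinarith
  have h1 : Nat.card (orbitRel.Quotient D Ω) = 1 := by
    have : Nonempty (orbitRel.Quotient D Ω) := ⟨Quotient.mk'' (Classical.arbitrary Ω)⟩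
    have := Nat.card_pos (α := orbitRel.Quotient D Ω)
    omega
  refine ⟨isPretransitive_of_natCard_orbits_le_one hle, fun g hg => ?_⟩
  rw [h1, one_mul] at hDsum
  have heq : ∑ g ∈ Finset.univ.filter (· ∉ D), Nat.card (fixedBy Ω g) =
      ∑ g ∈ Finset.univ.filter (· ∉ D), 1 := by
    rw [← Finset.card_eq_sum_ones]; omega
  exact ((Finset.sum_eq_sum_iff_of_le fun g hg =>
    one_le_fix_of_notMem (by simpa using hg)).mp heq.symm g (by simpa using hg)).symm

/-- A point stabiliser times the derangement subgroup is the whole group. -/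
theorem exists_mul_derangement [Finite G] [Finite Ω] [FaithfulSMul G Ω] [IsPretransitive G Ω]
    (a : Ω) (g : G) :
    ∃ d ∈ derangementSubgroup G Ω, ∃ h ∈ stabilizer G a, g = d * h := by
  obtain ⟨⟨d, hd⟩, e⟩ := (derangementSubgroup_transitive_and_fix (G := G)).1.exists_smul_eq a (g • a)
  refine ⟨d, hd, d⁻¹ * g, ?_, by simp⟩
  have e' : d • a = g • a := e
  rw [mem_stabilizer_iff, mul_smul, ← e', inv_smul_smul]

/-- Two distinct points: their common stabiliser lies in the derangement subgroup. -/
theorem stabilizer_inf_le_derangement [Finite G] [Finite Ω] [FaithfulSMul G Ω]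
    [IsPretransitive G Ω] {a b : Ω} (hab : a ≠ b) :
    stabilizer G a ⊓ stabilizer G b ≤ derangementSubgroup G Ω := by
  intro g hg
  by_contra hn
  have h1 := (derangementSubgroup_transitive_and_fix (G := G)).2 g hn
  have : Subsingleton (fixedBy Ω g) := (Nat.card_eq_one_iff_unique.mp h1).1
  exact hab (congrArg Subtype.val
    (Subsingleton.elim (⟨a, hg.1⟩ : fixedBy Ω g) ⟨b, hg.2⟩))

end Derangements

end Cfsg.Agent.PermGroups
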