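import Mathlib

/-!
Schur's theorem: a primitive group with a regular cyclic subgroup of composite order that is not a
prime power is doubly transitive.
-/

set_option autoImplicit false

namespace Cfsg.Agent.PermGroups.CyclicBGroup

open MulAction
open scoped Pointwise

variable {G Ω : Type*} [Group G] [MulAction G Ω] (C : Subgroup G) (a : Ω)

/-- The relation attached to a set of elements of an abelian regular subgroup. -/
def Rel (T : Set C) (u v : Ω) : Prop := ∃ t ∈ T, ((t : C) : G) • u = v

/-- A set of elements whose image of the base point is invariant under the stabilizer. -/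
def Inv (T : Set C) : Prop := ∀ h ∈ stabilizer G a, ∀ t ∈ T, ∃ t' ∈ T, h • ((t : G) • a) = ((t' : C) : G) • a

variable {C a}

theorem eq_of_smul_eq [Finite G] (hfree : ∀ x : Ω, stabilizer C x = ⊥) {s t : C} {u : Ω}
    (h : ((s : C) : G) • u = ((t : C) : G) • u) : s = t := by
  have : t⁻¹ * s ∈ stabilizer C u := by
    rw [mem_stabilizer_iff, mul_smul, Subgroup.smul_def, Subgroup.smul_def, h, ← mul_smul,
      Subgroup.coe_inv, inv_mul_cancel, one_smul]
  rw [hfree, Subgroup.mem_bot, inv_mul_eq_one] at this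
  exact this.symm

/-- An invariant set gives a relation preserved by the whole group. -/
theorem rel_smul (hcomm : IsMulCommutative C) (htr : ∀ x : Ω, ∃ c : C, (c : G) • a = x) {T : Set C}
    (hT : Inv C a T) (g : G) {u v : Ω} (h : Rel C T u v) : Rel C T (g • u) (g • v) := by
  obtain ⟨t, ht, rfl⟩ := h
  obtain ⟨x, rfl⟩ := htr u
  obtain ⟨x', hx'⟩ := htr (g • (x : G) • a)
  set h := ((x' : C) : G)⁻¹ * g * (x : G) with hh
  have hha : h ∈ stabilizer G a := by
    rw [mem_stabilizer_iff, hh, mul_smul, mul_smul, ← hx', inv_smul_smul]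
  obtain ⟨t', ht', e⟩ := hT h hha t ht
  refine ⟨t', ht', ?_⟩
  rw [← hx', ← mul_smul (t' : G)]
  have c1 : (t' : G) * (x' : G) = (x' : G) * t' := congrArg Subtype.val (hcomm.is_comm.comm t' x')
  have c2 : (t : G) * (x : G) = (x : G) * t := congrArg Subtype.val (hcomm.is_comm.comm t x)
  rw [c1, mul_smul, ← e, ← mul_smul (t : G), c2, ← mul_smul, ← mul_smul, ← mul_smul, hh]
  congr 1
  group

/-- In a primitive group an invariant subgroup of the regular subgroup is trivial or everything. -/
theorem subgroup_eq [Finite G] (hprim : IsPreprimitive G Ω) (hcomm : IsMulCommutative C)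
    (htr : ∀ x : Ω, ∃ c : C, (c : G) • a = x) (hfree : ∀ x : Ω, stabilizer C x = ⊥)
    {L : Subgroup C} (hL : Inv C a (L : Set C)) : L = ⊥ ∨ L = ⊤ := by
  set B : Set Ω := {v | Rel C (L : Set C) a v}
  have hB : IsBlock G B := by
    intro g g' hgg'
    rw [Set.disjoint_left]
    rintro _ ⟨v, hv, rfl⟩ ⟨w, hw, hwv⟩
    apply hgg'
    have key : ∀ g : G, g • B = {z | Rel C (L : Set C) (g • a) z} := by
      intro g
      ext z
      constructor
      · rintro ⟨y, hy, rfl⟩
        exact rel_smul hcomm htr hL g hy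
      · intro hz
        refine ⟨g⁻¹ • z, ?_, smul_inv_smul g z⟩
        have := rel_smul hcomm htr hL g⁻¹ hz
        rwa [inv_smul_smul] at this
    have hv' : g • v ∈ g • B := ⟨v, hv, rfl⟩
    have hw' : g' • w ∈ g' • B := ⟨w, hw, rfl⟩
    rw [key] at hv' hw'
    obtain ⟨l, hl, el⟩ := hv'
    obtain ⟨l', hl', el'⟩ := hw'
    have hwv' : g' • w = g • v := hwv
    rw [hwv', ← el] at el'
    have hbase : g' • a = ((l'⁻¹ * l : C) : G) • g • a := by
      rw [Subgroup.coe_mul, Subgroup.coe_inv, mul_smul, ← el', inv_smul_smul]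
    rw [key, key]
    ext z
    constructor
    · rintro ⟨m, hm, rfl⟩
      refine ⟨m * (l'⁻¹ * l)⁻¹, L.mul_mem hm (L.inv_mem (L.mul_mem (L.inv_mem hl') hl)), ?_⟩
      rw [hbase, ← mul_smul, ← Subgroup.coe_mul, inv_mul_cancel_right]
    · rintro ⟨m, hm, rfl⟩
      refine ⟨m * (l'⁻¹ * l), L.mul_mem hm (L.mul_mem (L.inv_mem hl') hl), ?_⟩
      rw [hbase, Subgroup.coe_mul, mul_smul]
  rcases hprim.isTrivialBlock_of_isBlock hB with h | h
  · left
    rw [eq_bot_iff]
    intro l hl
    have h1 : ((l : C) : G) • a = a := h ⟨l, hl, rfl⟩ ⟨1, L.one_mem, by simp⟩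
    exact Subgroup.mem_bot.2 (eq_of_smul_eq hfree (t := 1) (by simpa using h1))
  · right
    rw [eq_top_iff]
    intro c _
    have hm : ((c : G) • a) ∈ B := by rw [h]; exact Set.mem_univ _
    obtain ⟨l, hl, e⟩ := hm
    rwa [← eq_of_smul_eq hfree e]

/-- The translation matrices. -/
noncomputable def shift [DecidableEq Ω] [Fintype Ω] (p : ℕ) (hcomm : IsMulCommutative C) :
    C →* Matrix Ω Ω (ZMod p) where
  toFun t := Matrix.of fun u v => if (t : G) • u = v then 1 else 0
  map_one' := by ext u v; simp [Matrix.one_apply]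
  map_mul' s t := by
    ext u v
    simp only [Matrix.mul_apply, Matrix.of_apply, ite_mul, one_mul, zero_mul, Finset.sum_ite_eq, Finset.mem_univ, if_true]
    rw [hcomm.is_comm.comm s t, Subgroup.coe_mul, mul_smul]

theorem shift_sum_apply [Finite G] [DecidableEq Ω] [Fintype Ω] (p : ℕ) (hcomm : IsMulCommutative C)
    (hfree : ∀ x : Ω, stabilizer C x = ⊥) (s : Finset C) (e : C → C) (u v : Ω) :
    (∑ t ∈ s, shift (Ω := Ω) p hcomm (e t)) u v =
      (((s.filter fun t => ((e t : C) : G) • u = v).card : ℕ) : ZMod p) := by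
  rw [Matrix.sum_apply]
  simp only [shift, MonoidHom.coe_mk, OneHom.coe_mk, Matrix.of_apply]
  rw [Finset.sum_boole]

open scoped Classical in
/-- Schur's congruence: the invariant set of `p`-th powers. -/
theorem inv_powers [Finite G] [Fintype Ω] {p : ℕ} [Fact p.Prime] (hcomm : IsMulCommutative C)
    (htr : ∀ x : Ω, ∃ c : C, (c : G) • a = x) (hfree : ∀ x : Ω, stabilizer C x = ⊥) [Fintype C]
    {T : Set C} (hT : Inv C a T) :
    Inv C a {y : C | ((((Finset.univ : Finset C).filter fun t => t ∈ T ∧ t ^ p = y).card : ℕ) : ZMod p) ≠ 0} := by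
  letI : CommGroup C := { (inferInstance : Group C) with mul_comm := hcomm.is_comm.comm }
  set s := (Finset.univ : Finset C).filter fun t => t ∈ T
  set M : Matrix Ω Ω (ZMod p) := ∑ t ∈ s, shift p hcomm t with hM
  have hMe : ∀ u v : Ω, M u v = if Rel C T u v then 1 else 0 := by
    intro u v
    rw [hM]
    refine (shift_sum_apply p hcomm hfree s (fun t => t) u v).trans ?_
    by_cases h : Rel C T u v
    · obtain ⟨t, ht, e⟩ := h
      rw [if_pos ⟨t, ht, e⟩, show (s.filter fun t => ((t : C) : G) • u = v) = {t} from ?_, Finset.card_singleton,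
        Nat.cast_one]
      ext t'
      simp only [s, Finset.mem_filter, Finset.mem_univ, true_and, Finset.mem_singleton]
      exact ⟨fun h' => eq_of_smul_eq hfree (h'.2.trans e.symm), fun h' => h' ▸ ⟨ht, e⟩⟩
    · rw [if_neg h, show (s.filter fun t => ((t : C) : G) • u = v) = ∅ from ?_, Finset.card_empty, Nat.cast_zero]
      rw [Finset.filter_eq_empty_iff]
      exact fun t ht e => h ⟨t, (Finset.mem_filter.1 ht).2, e⟩
  have hinv : ∀ (g : G) (n : ℕ), (M ^ n).submatrix (fun u => g • u) (fun u => g • u) = M ^ n := by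
    intro g n
    induction n with
    | zero =>
      ext u v
      simp [Matrix.one_apply]
    | succ n ih =>
      have h1 : M.submatrix (fun u => g • u) (fun u => g • u) = M := by
        ext u v
        rw [Matrix.submatrix_apply, hMe, hMe]
        refine if_congr ⟨fun h => ?_, fun h => rel_smul hcomm htr hT g h⟩ rfl rfl
        have := rel_smul hcomm htr hT g⁻¹ h
        rwa [inv_smul_smul, inv_smul_smul] at this
      have := Matrix.submatrix_mul_equiv (M ^ n) M (fun u => g • u) (MulAction.toPerm g) (fun u => g • u)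
      rw [pow_succ, ← this]
      exact congrArg₂ (· * ·) ih h1
  -- the power
  let Φ : MonoidAlgebra (ZMod p) C →ₐ[ZMod p] Matrix Ω Ω (ZMod p) :=
    MonoidAlgebra.lift (ZMod p) (Matrix Ω Ω (ZMod p)) C (shift p hcomm)
  haveI : CharP (MonoidAlgebra (ZMod p) C) p :=
    charP_of_injective_algebraMap (algebraMap (ZMod p) (MonoidAlgebra (ZMod p) C)).injective p
  have hΦ : ∀ t : C, Φ (MonoidAlgebra.single t 1) = shift p hcomm t := fun t => by
    simp [Φ]
  have hpow : M ^ p = ∑ t ∈ s, shift p hcomm (t ^ p) := by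
    have e : M = Φ (∑ t ∈ s, MonoidAlgebra.single t 1) := by
      rw [map_sum, hM]; exact Finset.sum_congr rfl fun t _ => (hΦ t).symm
    rw [e, ← map_pow, sum_pow_char, map_sum]
    refine Finset.sum_congr rfl fun t _ => ?_
    rw [MonoidAlgebra.single_pow, one_pow, hΦ]
  refine fun h hh y hy => ?_
  obtain ⟨y', hy'⟩ := htr (h • ((y : G) • a))
  refine ⟨y', ?_, hy'.symm⟩
  have hent : ∀ z : C, (M ^ p) a ((z : G) • a) =
      ((((Finset.univ : Finset C).filter fun t => t ∈ T ∧ t ^ p = z).card : ℕ) : ZMod p) := by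
    intro z
    rw [hpow, shift_sum_apply p hcomm hfree s (fun t => t ^ p)]
    congr 2
    ext t
    simp only [s, Finset.mem_filter, Finset.mem_univ, true_and]
    exact and_congr_right fun _ => ⟨fun e => eq_of_smul_eq hfree e, fun e => by rw [e]⟩
  show ((((Finset.univ : Finset C).filter fun t => t ∈ T ∧ t ^ p = y').card : ℕ) : ZMod p) ≠ 0
  rw [← hent, hy']
  have := congrFun (congrFun (hinv h p) a) ((y : G) • a)
  rw [Matrix.submatrix_apply, MulAction.mem_stabilizer_iff.1 hh] at this
  rw [this, hent]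
  exact hy

/-- Away from the kernel, a suborbit is a union of cosets of the subgroup of order `p`. -/
theorem periodic [Finite G] [Fintype Ω] {p : ℕ} [hp : Fact p.Prime] (hprim : IsPreprimitive G Ω)
    (hcyc : IsCyclic C) (hdvd : p ∣ Nat.card C) (hlt : p < Nat.card C)
    (htr : ∀ x : Ω, ∃ c : C, (c : G) • a = x) (hfree : ∀ x : Ω, stabilizer C x = ⊥)
    {T : Set C} (hT : Inv C a T) {t z : C} (ht : t ∈ T) (htp : t ^ p ≠ 1) (hz : z ^ p = 1) : z * t ∈ T := by
  classical
  haveI := Fintype.ofFinite C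
  have hcomm : IsMulCommutative C := inferInstance
  have hc := hcomm.is_comm.comm
  letI : CommGroup C := { (inferInstance : Group C) with mul_comm := hc }
  set S := {y : C | ((((Finset.univ : Finset C).filter fun t => t ∈ T ∧ t ^ p = y).card : ℕ) : ZMod p) ≠ 0}
  have hS : Inv C a S := inv_powers hcomm htr hfree hT
  have hL : Inv C a (Subgroup.closure S : Set C) := by
    intro h hh l hl
    induction hl using Subgroup.closure_induction generalizing h with
    | mem y hy =>
      obtain ⟨y', hy', e⟩ := hS h hh y hy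
      exact ⟨y', Subgroup.subset_closure hy', e⟩
    | one => exact ⟨1, Subgroup.one_mem _, by simpa using MulAction.mem_stabilizer_iff.1 hh⟩
    | mul y w hy hw ihy ihw =>
      obtain ⟨w', hw', ew⟩ := ihw h hh
      obtain ⟨y', hy', ey⟩ := ihy (((w' : C) : G)⁻¹ * h * (w : G)) (by
        rw [MulAction.mem_stabilizer_iff, mul_smul, mul_smul, ew, inv_smul_smul])
      refine ⟨w' * y', Subgroup.mul_mem _ hw' hy', ?_⟩
      rw [mul_smul, mul_smul, inv_smul_eq_iff] at ey
      rw [hc y w, Subgroup.coe_mul, mul_smul, ey, Subgroup.coe_mul, mul_smul]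
    | inv y hy ihy =>
      obtain ⟨x, hx⟩ := htr (h • (((y⁻¹ : C) : G) • a))
      obtain ⟨y', hy', ey⟩ := ihy (((x : C) : G)⁻¹ * h * ((y⁻¹ : C) : G)) (by
        rw [MulAction.mem_stabilizer_iff, mul_smul, mul_smul, ← hx, inv_smul_smul])
      refine ⟨y'⁻¹, Subgroup.inv_mem _ hy', ?_⟩
      rw [Subgroup.coe_inv, mul_smul, mul_smul, inv_smul_smul, MulAction.mem_stabilizer_iff.1 hh] at ey
      rw [← hx]
      have hxy : x⁻¹ = y' := eq_of_smul_eq hfree (by rw [Subgroup.coe_inv]; exact ey)
      rw [← hxy, inv_inv]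
  have hsmall : Nat.card {x : C // x ^ p = 1} = p := by
    obtain ⟨m, hm⟩ := hdvd
    have hk := IsCyclic.card_powMonoidHom_ker (G := C) p
    rw [hm, Nat.gcd_mul_right_left] at hk
    exact (Nat.card_congr (Equiv.subtypeEquivRight fun x => Iff.rfl)).trans hk
  have hbot : Subgroup.closure S = ⊥ := by
    refine (subgroup_eq hprim hcomm htr hfree hL).resolve_right fun htop => ?_
    have hsurj : Function.Surjective (fun x : C => x ^ p) := by
      intro c
      have hle : Subgroup.closure S ≤ (powMonoidHom p : C →* C).range := (Subgroup.closure_le _).2 fun y hy => by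
        by_contra hy'
        refine hy ?_
        rw [show ((Finset.univ : Finset C).filter fun t => t ∈ T ∧ t ^ p = y) = ∅ from
          Finset.filter_eq_empty_iff.2 fun t _ ht' => hy' ⟨t, ht'.2⟩, Finset.card_empty, Nat.cast_zero]
      exact hle (htop ▸ Subgroup.mem_top c)
    have hinj := Finite.injective_iff_surjective.2 hsurj
    haveI : Subsingleton {x : C // x ^ p = 1} :=
      ⟨fun u v => Subtype.ext (hinj (u.2.trans v.2.symm))⟩
    have := (Finite.card_le_one_iff_subsingleton (α := {x : C // x ^ p = 1})).2 inferInstance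
    rw [hsmall] at this
    exact absurd hp.out.one_lt (not_lt.2 this)
  set F := (Finset.univ : Finset C).filter fun u => u ∈ T ∧ u ^ p = t ^ p
  have hF0 : ((F.card : ℕ) : ZMod p) = 0 := by
    by_contra hne
    have h1 : t ^ p ∈ Subgroup.closure S := Subgroup.subset_closure hne
    rw [hbot, Subgroup.mem_bot] at h1
    exact htp h1
  rw [ZMod.natCast_eq_zero_iff] at hF0
  set K := ((Finset.univ : Finset C).filter fun x => x ^ p = 1).image fun x => x * t
  have hKc : K.card = p := by
    rw [Finset.card_image_of_injective _ (mul_left_injective t), ← Fintype.card_subtype, ← Nat.card_eq_fintype_card]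
    exact hsmall
  have hFK : F ⊆ K := by
    intro u hu
    simp only [F, Finset.mem_filter, Finset.mem_univ, true_and] at hu
    refine Finset.mem_image.2 ⟨u * t⁻¹, Finset.mem_filter.2 ⟨Finset.mem_univ _, ?_⟩, inv_mul_cancel_right u t⟩
    rw [(show Commute u t⁻¹ from hc u t⁻¹).mul_pow, inv_pow, hu.2, mul_inv_cancel]
  have hFpos : 0 < F.card := Finset.card_pos.2 ⟨t, by simp [F, ht]⟩
  have hFeq : F = K := Finset.eq_of_subset_of_card_le hFK (by rw [hKc]; exact Nat.le_of_dvd hFpos hF0)
  have hzt : z * t ∈ K := Finset.mem_image.2 ⟨z, Finset.mem_filter.2 ⟨Finset.mem_univ _, hz⟩, rfl⟩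
  rw [← hFeq] at hzt
  exact (Finset.mem_filter.1 hzt).2.1

/-- Schur: doubly transitive. -/
theorem two_transitive [Finite G] [Finite Ω] (hprim : IsPreprimitive G Ω) (hcyc : IsCyclic C)
    (hC : IsPretransitive C Ω) (hfree : ∀ x : Ω, stabilizer C x = ⊥) (hn : 2 ≤ Nat.card Ω)
    (hnp : ¬ IsPrimePow (Nat.card Ω)) : IsMultiplyPretransitive G Ω 2 := by
  classical
  haveI := Fintype.ofFinite Ω
  haveI : Nonempty Ω := (Nat.card_pos_iff.1 (by omega)).1
  set a : Ω := Classical.arbitrary Ω
  have htr : ∀ x : Ω, ∃ c : C, (c : G) • a = x := fun x => MulAction.exists_smul_eq C a x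
  have hcard : Nat.card C = Nat.card Ω := by
    rw [← MulAction.index_stabilizer_of_transitive C a, hfree, Subgroup.index_bot]
  -- two primes
  set p := (Nat.card Ω).minFac
  have hp : p.Prime := Nat.minFac_prime (by omega)
  obtain ⟨q, hq, hqd, hqp⟩ : ∃ q, q.Prime ∧ q ∣ Nat.card Ω ∧ q ≠ p := by
    by_contra hcon
    push Not at hcon
    exact hnp (isPrimePow_iff_unique_prime_dvd.2 ⟨p, ⟨hp, Nat.minFac_dvd _⟩, fun r hr => hcon r hr.1 hr.2⟩)
  haveI := Fact.mk hp
  haveI := Fact.mk hq
  have hltp : p < Nat.card C := by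
    rw [hcard]
    exact lt_of_le_of_ne (Nat.minFac_le (by omega)) fun e => hnp (e ▸ hp.isPrimePow)
  have hltq : q < Nat.card C := by
    rw [hcard]
    exact lt_of_le_of_ne (Nat.le_of_dvd (by omega) hqd) fun e => hnp (e ▸ hq.isPrimePow)
  have hdp : p ∣ Nat.card C := hcard ▸ Nat.minFac_dvd _
  have hdq : q ∣ Nat.card C := hcard ▸ hqd
  obtain ⟨z, hz⟩ := exists_prime_orderOf_dvd_card' p hdp
  have hz1 : z ^ p = 1 := hz ▸ pow_orderOf_eq_one z
  have hzne : z ≠ 1 := fun e => hp.one_lt.ne (by rw [← hz, e, orderOf_one])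
  have hc := (inferInstance : IsMulCommutative C).is_comm.comm
  -- every suborbit contains every element of order `q`
  have main : ∀ T : Set C, Inv C a T → T.Nonempty → (1 : C) ∉ T →
      ∀ s : C, s ^ q = 1 → s ≠ 1 → s ∈ T := by
    intro T hT hne h1 s hs hs1
    obtain ⟨t, ht, htp⟩ : ∃ t ∈ T, t ^ p = 1 := by
      by_contra hcon
      push Not at hcon
      set L : Subgroup C :=
        { carrier := {l | ∀ t, t ∈ T ↔ l * t ∈ T}
          one_mem' := fun t => by rw [one_mul]
          mul_mem' := fun {u v} hu hv t => by rw [hv t, hu (v * t), mul_assoc]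
          inv_mem' := fun {u} hu t => by rw [hu (u⁻¹ * t), mul_inv_cancel_left] }
      have hN : ∀ l : C, l ∈ L ↔ ∀ v : Ω, Rel C T (((l : C) : G) • a) v ↔ Rel C T a v := by
        intro l
        constructor
        · intro hl v
          constructor
          · rintro ⟨t, ht, rfl⟩
            exact ⟨l * t, (hl t).1 ht, by rw [hc l t, Subgroup.coe_mul, mul_smul]⟩
          · rintro ⟨t, ht, rfl⟩
            exact ⟨l⁻¹ * t, (L.inv_mem hl t).1 ht, by rw [← mul_smul, ← Subgroup.coe_mul, hc (l⁻¹ * t) l, mul_inv_cancel_left]⟩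
        · intro hl t
          have e := hl (((l * t : C) : G) • a)
          constructor
          · intro hts
            obtain ⟨t', ht', e'⟩ := e.1 ⟨t, hts, by rw [← mul_smul, ← Subgroup.coe_mul, hc t l]⟩
            rwa [← eq_of_smul_eq hfree e']
          · intro hts
            obtain ⟨t', ht', e'⟩ := e.2 ⟨l * t, hts, rfl⟩
            rw [← mul_smul, ← Subgroup.coe_mul, hc t' l] at e'
            rwa [← mul_left_cancel (eq_of_smul_eq hfree e')]
      have hrel : ∀ (g : G) (u v : Ω), Rel C T (g • u) (g • v) ↔ Rel C T u v := fun g u v =>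
        ⟨fun h => by simpa using rel_smul inferInstance htr hT g⁻¹ h, rel_smul inferInstance htr hT g⟩
      have hL : Inv C a (L : Set C) := by
        intro g hg l hl
        obtain ⟨x, hx⟩ := htr (g • ((l : C) : G) • a)
        refine ⟨x, (hN x).2 fun v => ?_, hx.symm⟩
        have hga := MulAction.mem_stabilizer_iff.1 hg
        obtain ⟨w, rfl⟩ : ∃ w, g • w = v := ⟨g⁻¹ • v, smul_inv_smul g v⟩
        rw [hx, hrel, (hN l).1 hl w]
        conv_rhs => rw [← hga, hrel]
      rcases subgroup_eq hprim inferInstance htr hfree hL with hb | ht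
      · refine hzne ?_
        have hzL : z ∈ L := fun t => ⟨fun ht => periodic hprim hcyc hdp hltp htr hfree hT ht (hcon t ht) hz1, fun ht => by
          have := periodic hprim hcyc hdp hltp htr hfree hT ht (hcon _ ht) (z := z⁻¹) (by rw [inv_pow, hz1, inv_one])
          rwa [inv_mul_cancel_left] at this⟩
        rwa [hb, Subgroup.mem_bot] at hzL
      · obtain ⟨t, hts⟩ := hne
        refine h1 ?_
        have : t⁻¹ ∈ L := ht ▸ Subgroup.mem_top _
        simpa using (this t).1 hts
    have hts : s * t ∈ T := by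
      refine periodic hprim hcyc hdq hltq htr hfree hT ht (fun e => ?_) hs
      have ho1 := orderOf_dvd_of_pow_eq_one e
      have ho2 := orderOf_dvd_of_pow_eq_one htp
      exact h1 (orderOf_eq_one_iff.1 (Nat.eq_one_of_dvd_coprimes ((Nat.coprime_primes hq hp).2 hqp) ho1 ho2) ▸ ht)
    have := periodic hprim hcyc hdp hltp htr hfree hT hts (z := t⁻¹) (fun e => ?_) (by rw [inv_pow, htp, inv_one])
    · rwa [hc s t, inv_mul_cancel_left] at this
    · rw [(show Commute s t from hc s t).mul_pow, htp, mul_one] at e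
      exact hs1 (orderOf_eq_one_iff.1 (Nat.eq_one_of_dvd_coprimes ((Nat.coprime_primes hq hp).2 hqp)
        (orderOf_dvd_of_pow_eq_one hs) (orderOf_dvd_of_pow_eq_one e)))
  haveI := hprim.toIsPretransitive
  rw [SubMulAction.ofStabilizer.isMultiplyPretransitive (a := a), is_one_pretransitive_iff]
  refine ⟨fun u v => ?_⟩
  obtain ⟨c, hcc⟩ := htr u
  obtain ⟨d, hdd⟩ := htr v
  obtain ⟨s, hso⟩ := exists_prime_orderOf_dvd_card' q hdq
  have hs : s ^ q = 1 := hso ▸ pow_orderOf_eq_one s
  have hs1 : s ≠ 1 := fun e => hq.one_lt.ne (by rw [← hso, e, orderOf_one])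
  -- suborbits
  have horb : ∀ w : Ω, w ≠ a → ∃ g ∈ stabilizer G a, g • w = ((s : C) : G) • a := by
    intro w hw
    set T : Set C := {t | ∃ g ∈ stabilizer G a, g • w = ((t : C) : G) • a}
    have hT : Inv C a T := by
      rintro g hg t ⟨g', hg', e⟩
      obtain ⟨t', ht'⟩ := htr (g • ((t : C) : G) • a)
      exact ⟨t', ⟨g * g', Subgroup.mul_mem _ hg hg', by rw [mul_smul, e, ht']⟩, ht'.symm⟩
    obtain ⟨t0, ht0⟩ := htr w
    refine main T hT ⟨t0, 1, Subgroup.one_mem _, by rw [one_smul, ht0]⟩ ?_ s hs hs1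
    rintro ⟨g, hg, e⟩
    rw [Subgroup.coe_one, one_smul] at e
    exact hw ((smul_left_cancel g (e.trans (MulAction.mem_stabilizer_iff.1 hg).symm)))
  obtain ⟨g1, h1, e1⟩ := horb u u.2
  obtain ⟨g2, h2, e2⟩ := horb v v.2
  refine ⟨⟨g2⁻¹ * g1, Subgroup.mul_mem _ (Subgroup.inv_mem _ h2) h1⟩, Subtype.ext ?_⟩
  show (g2⁻¹ * g1) • (u : Ω) = v
  rw [mul_smul, e1, ← e2, inv_smul_smul]

end Cfsg.Agent.PermGroups.CyclicBGroup
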