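import Cfsg.Agent.PermGroups.DegreeSeven

/-!
Orders of non-solvable transitive groups of even permutations of degree eleven: 660 or 7920.
-/

set_option autoImplicit false
set_option linter.unusedSectionVars false

namespace Cfsg.Agent.PermGroups.DegreeEleven

open MulAction Equiv SmallDegree

variable {α : Type*} [Fintype α] [DecidableEq α]

theorem isPreprimitive (hα : Fintype.card α = 11) (G : Subgroup (Perm α)) [IsPretransitive G α] :
    IsPreprimitive G α :=
  IsPreprimitive.of_prime_card (by rw [Nat.card_eq_fintype_card, hα]; norm_num)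

/-- No cycles of prime length at most eight. -/
theorem no_cycle (hα : Fintype.card α = 11) (G : Subgroup (Perm α)) [IsPretransitive G α]
    (hA : ¬ alternatingGroup α ≤ G) {g : Perm α} (hg : g ∈ G) {r : ℕ} (hr : r.Prime) (hr8 : r ≤ 8)
    (hgr : orderOf g = r) : g.support.card ≠ r := fun h =>
  hA (alternating_le_of_prime_cycle G (isPreprimitive hα G) hr (by omega)
    (isCycle_of_support_card hr hgr h) h hg)

/-- An element of order five moves ten points. -/
theorem five_support (hα : Fintype.card α = 11) (G : Subgroup (Perm α)) [IsPretransitive G α]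
    (hA : ¬ alternatingGroup α ≤ G) {g : Perm α} (hg : g ∈ G) (hgr : orderOf g = 5) :
    g.support.card = 10 := by
  have h1 := no_cycle hα G hA hg (by norm_num : Nat.Prime 5) (by norm_num) hgr
  have h2 := prime_dvd_support_card (by norm_num : Nat.Prime 5) (pow_eq_one_of_orderOf hgr)
  have h3 := support_card_pos (by norm_num : Nat.Prime 5) hgr
  have h4 := Finset.card_le_univ g.support
  omega

theorem not_dvd_seven (hα : Fintype.card α = 11) (G : Subgroup (Perm α)) [IsPretransitive G α]
    (hA : ¬ alternatingGroup α ≤ G) : ¬ 7 ∣ Nat.card G := by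
  intro h
  haveI : Fact (Nat.Prime 7) := ⟨by norm_num⟩
  obtain ⟨g, hg⟩ := exists_prime_orderOf_dvd_card' (G := G) 7 h
  have hgo : orderOf (g : Perm α) = 7 := by rw [Subgroup.orderOf_coe, hg]
  have h1 := no_cycle hα G hA g.2 (by norm_num : Nat.Prime 7) (by norm_num) hgo
  have h2 := prime_dvd_support_card (by norm_num : Nat.Prime 7) (pow_eq_one_of_orderOf hgo)
  have h3 := support_card_pos (by norm_num : Nat.Prime 7) hgo
  have h4 := Finset.card_le_univ (g : Perm α).support
  omega

theorem factorial_eleven_five : (Nat.factorial 11).factorization 5 = 2 := by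
  rw [show Nat.factorial 11 = 1596672 * 5 ^ 2 by rfl,
    Nat.factorization_mul (by norm_num) (by norm_num), Finsupp.add_apply, Nat.factorization_pow,
    Finsupp.smul_apply, (show Nat.Prime 5 by norm_num).factorization_self,
    Nat.factorization_eq_zero_of_not_dvd (by norm_num : ¬ 5 ∣ 1596672)]
  rfl

theorem factorial_eleven_three : (Nat.factorial 11).factorization 3 = 4 := by
  rw [show Nat.factorial 11 = 492800 * 3 ^ 4 by rfl,
    Nat.factorization_mul (by norm_num) (by norm_num), Finsupp.add_apply, Nat.factorization_pow,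
    Finsupp.smul_apply, Nat.prime_three.factorization_self,
    Nat.factorization_eq_zero_of_not_dvd (by norm_num : ¬ 3 ∣ 492800)]
  rfl

theorem not_dvd_sq_five (hα : Fintype.card α = 11) (G : Subgroup (Perm α)) [IsPretransitive G α]
    (hA : ¬ alternatingGroup α ≤ G) : ¬ 5 ^ 2 ∣ Nat.card G := by
  intro h
  obtain ⟨g, hg, hc, hs⟩ := exists_cycle_of_pow_dvd (by norm_num : Nat.Prime 5) (by omega)
    (by rw [hα]; exact factorial_eleven_five) G h
  exact hA (alternating_le_of_prime_cycle G (isPreprimitive hα G) (by norm_num) (by omega) hc hs hg)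

theorem not_dvd_pow_three (hα : Fintype.card α = 11) (G : Subgroup (Perm α)) [IsPretransitive G α]
    (hA : ¬ alternatingGroup α ≤ G) : ¬ 3 ^ 4 ∣ Nat.card G := by
  intro h
  obtain ⟨g, hg, hc, hs⟩ := exists_cycle_of_pow_dvd Nat.prime_three (by omega)
    (by rw [hα]; exact factorial_eleven_three) G h
  exact hA (alternating_le_of_prime_cycle G (isPreprimitive hα G) Nat.prime_three (by omega) hc hs hg)

theorem sign_of_support_two_mod_four {g : Perm α} (hg : g ^ 2 = 1) (hs : g.support.card % 4 = 2) :
    Perm.sign g = -1 := by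
  have hne : g ≠ 1 := by rintro rfl; simp at hs
  haveI : Fact (Nat.Prime 2) := ⟨Nat.prime_two⟩
  have ho : orderOf g = 2 := orderOf_eq_prime hg hne
  obtain ⟨n, hn⟩ := Perm.cycleType_prime_order (σ := g) (by rw [ho]; exact Nat.prime_two)
  rw [ho] at hn
  have hsum := Perm.sum_cycleType g
  rw [hn, Multiset.sum_replicate, smul_eq_mul] at hsum
  rw [Perm.sign_of_cycleType, hn, Multiset.sum_replicate, Multiset.card_replicate, smul_eq_mul]
  have hodd : Odd ((n + 1) * 2 + (n + 1)) := by rw [Nat.odd_iff]; omega
  rw [hodd.neg_one_pow]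

theorem sign_of_support_zero_mod_four {g : Perm α} (hg : g ^ 2 = 1) (hs : g.support.card % 4 = 0) :
    Perm.sign g = 1 := by
  by_cases hne : g = 1
  · rw [hne, map_one]
  haveI : Fact (Nat.Prime 2) := ⟨Nat.prime_two⟩
  have ho : orderOf g = 2 := orderOf_eq_prime hg hne
  obtain ⟨n, hn⟩ := Perm.cycleType_prime_order (σ := g) (by rw [ho]; exact Nat.prime_two)
  rw [ho] at hn
  have hsum := Perm.sum_cycleType g
  rw [hn, Multiset.sum_replicate, smul_eq_mul] at hsum
  rw [Perm.sign_of_cycleType, hn, Multiset.sum_replicate, Multiset.card_replicate, smul_eq_mul]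
  have hev : Even ((n + 1) * 2 + (n + 1)) := by rw [Nat.even_iff]; omega
  rw [hev.neg_one_pow]

theorem even_involution_support (hα : Fintype.card α = 11) {g : Perm α} (hg : orderOf g = 2)
    (hev : Perm.sign g = 1) : g.support.card = 4 ∨ g.support.card = 8 := by
  have h1 := prime_dvd_support_card Nat.prime_two (pow_eq_one_of_orderOf hg)
  have h2 := support_card_pos Nat.prime_two hg
  have h3 := Finset.card_le_univ g.support
  by_contra h
  have h4 := sign_of_support_two_mod_four (pow_eq_one_of_orderOf hg) (by omega)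
  rw [hev] at h4
  exact absurd h4 (by decide)

/-- The centraliser of an element of order five. -/
theorem commute_five (hα : Fintype.card α = 11) (G : Subgroup (Perm α)) [IsPretransitive G α]
    (hA : ¬ alternatingGroup α ≤ G) (hev : G ≤ alternatingGroup α) {y g : Perm α} (hy : y ∈ G)
    (hyo : orderOf y = 5) (hg : g ∈ G) (hcomm : Commute g y) {r : ℕ} (hr : r.Prime)
    (hgr : orderOf g = r) : r = 5 := by
  by_contra hr5
  have hys := five_support hα G hA hy hyo
  obtain ⟨c, hc⟩ := Finset.card_eq_one.1 (show y.supportᶜ.card = 1 by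
    rw [Finset.card_compl, hys, hα])
  have hyfix : ∀ z, y z = z → z = c := fun z hz => by
    have : z ∈ y.supportᶜ := by rw [Finset.mem_compl, Perm.notMem_support]; exact hz
    rwa [hc, Finset.mem_singleton] at this
  have hyc : y c = c := by
    rw [← Perm.notMem_support, ← Finset.mem_compl, hc]
    exact Finset.mem_singleton_self c
  have hgc : g c = c := hyfix _ (by rw [← Perm.mul_apply, ← hcomm.eq, Perm.mul_apply, hyc])
  have hnc : c ∉ g.support := Perm.notMem_support.2 hgc
  have h5 := dvd_card_invariant (by norm_num : Nat.Prime 5) (pow_eq_one_of_orderOf hyo) g.support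
    (support_invariant hcomm) (fun z hz hyz => hnc (hyfix z hyz ▸ hz))
  have h6 : g.support.card ≤ 10 := by
    have : g.support ⊆ ({c} : Finset α)ᶜ := fun z hz => by
      rw [Finset.mem_compl, Finset.mem_singleton]
      rintro rfl
      exact hnc hz
    have := Finset.card_le_card this
    rw [Finset.card_compl, Finset.card_singleton, hα] at this
    omega
  have h7 := support_card_pos hr hgr
  have h8 := prime_dvd_support_card hr (pow_eq_one_of_orderOf hgr)
  have hle : r ≤ 10 := (Nat.le_of_dvd h7 h8).trans h6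
  have hne5 := no_cycle hα G hA hg hr
  rcases (show g.support.card = 5 ∨ g.support.card = 10 by omega) with e | e <;> rw [e] at h8
  · exact hr5 ((Nat.prime_dvd_prime_iff_eq hr (by norm_num)).1 h8)
  · have hr2 : r = 2 := by
      interval_cases r <;> first | omega | (exact absurd hr (by norm_num))
    subst hr2
    have hsg : Perm.sign g = 1 := Perm.mem_alternatingGroup.1 (hev hg)
    rw [sign_of_support_two_mod_four (pow_eq_one_of_orderOf hgr) (by omega)] at hsg
    exact absurd hsg (by decide)

/-- An element of order five centralised in `G` by its powers only. -/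
theorem commute_five_mem (hα : Fintype.card α = 11) (G : Subgroup (Perm α)) [IsPretransitive G α]
    (hA : ¬ alternatingGroup α ≤ G) (hev : G ≤ alternatingGroup α) {y g : Perm α} (hy : y ∈ G)
    (hyo : orderOf y = 5) (hg : g ∈ G) (hcomm : Commute g y) : g ^ 5 = 1 := by
  by_contra h
  have hne : orderOf (g ^ 5) ≠ 1 := by rwa [Ne, orderOf_eq_one_iff]
  obtain ⟨r, hr, hrd⟩ := Nat.exists_prime_and_dvd hne
  have hrd' : r ∣ orderOf g := hrd.trans (orderOf_pow_dvd 5)
  have h5 := commute_five hα G hA hev hy hyo (pow_mem hg (orderOf g / r))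
    (hcomm.pow_left _) hr (orderOf_pow_orderOf_div (orderOf_pos g).ne' hrd')
  subst h5
  apply not_dvd_sq_five hα G hA
  have hgd : orderOf (⟨g, hg⟩ : G) = orderOf g := Subgroup.orderOf_mk g hg
  refine dvd_trans ?_ (hgd ▸ orderOf_dvd_natCard (⟨g, hg⟩ : G))
  have h55 : orderOf (g ^ 5) = orderOf g / 5 := by
    rw [orderOf_pow, Nat.gcd_eq_right hrd']
  rw [h55] at hrd
  rw [sq]
  exact (Nat.dvd_div_iff_mul_dvd hrd').1 hrd

/-- Orders in degree eleven. -/
theorem natCard_even_part (hα : Fintype.card α = 11) (G : Subgroup (Perm α)) [IsPretransitive G α]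
    (hev : G ≤ alternatingGroup α) (hG : ¬ Group.IsSolvable G) (hA : ¬ alternatingGroup α ≤ G) :
    (Nat.card G = 660 ∨ Nat.card G = 7920) ∧ IsSimpleGroup G := by
  classical
  haveI : Fact (Nat.Prime 11) := ⟨by norm_num⟩
  haveI : Fact (Nat.Prime 5) := ⟨by norm_num⟩
  obtain ⟨P⟩ : Nonempty (Sylow 11 G) := inferInstance
  obtain ⟨m, hm, hN⟩ := exists_natCard_normalizer hα G P
  have hodd := odd_normalizer (by norm_num) hα G hev P
  rw [hN, Nat.odd_mul] at hodd
  have hm1 : m ≠ 1 := by
    rintro rfl
    rw [mul_one] at hN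
    have h11 := natCard_eq_prime_of_normalizer hα G P hN
    haveI : IsCyclic G := isCyclic_of_prime_card h11
    letI : CommGroup G := IsCyclic.commGroup
    exact hG inferInstance
  have hm5 : m = 5 := by
    have h10 : m ≤ 10 := Nat.le_of_dvd (by norm_num) hm
    have := hodd.2
    interval_cases m <;> first | rfl | omega | (exact absurd this (by decide)) | norm_num at hm
  subst hm5
  have hsimp := isSimpleGroup_of_normalizer hα G hG (by norm_num : Nat.Prime 5) P hN
  refine ⟨?_, hsimp⟩
  have hmul := natCard_sylow_mul P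
  rw [hN] at hmul
  have hmod : Nat.card (Sylow 11 G) % 11 = 1 := card_sylow_modEq_one 11 G
  set n := Nat.card (Sylow 11 G) with hn
  have hdvd : 2 * Nat.card G ∣ Nat.factorial 11 := by
    rw [← DegreeSeven.natCard_alternating hα (by norm_num)]
    exact Nat.mul_dvd_mul_left 2 (Subgroup.card_dvd_of_le hev)
  have hn1 : n ∣ 2 ^ 7 * (3 ^ 4 * 35) := by
    rw [← hmul, show Nat.factorial 11 = (2 ^ 7 * (3 ^ 4 * 35)) * (2 * (11 * 5)) by rfl] at hdvd
    refine Nat.dvd_of_mul_dvd_mul_right (by norm_num : 0 < 2 * (11 * 5)) ?_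
    calc n * (2 * (11 * 5)) = 2 * (n * (11 * 5)) := by ring
      _ ∣ _ := hdvd
  have hdn : n ∣ Nat.card G := ⟨11 * 5, hmul.symm⟩
  have hn2 : n ∣ 2 ^ 7 * 3 ^ 4 := by
    refine (Nat.Coprime.dvd_mul_right (k := n) (n := 35) ?_).1 (by rwa [mul_assoc])
    rw [Nat.coprime_comm, show (35 : ℕ) = 5 * 7 by norm_num]
    refine Nat.Coprime.mul_left ((Nat.Prime.coprime_iff_not_dvd (by norm_num)).2 fun h => ?_)
      ((Nat.Prime.coprime_iff_not_dvd (by norm_num)).2 fun h =>
        not_dvd_seven hα G hA (h.trans hdn))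
    apply not_dvd_sq_five hα G hA
    rw [← hmul]
    obtain ⟨c, hc⟩ := h
    exact ⟨c * 11, by rw [hc]; ring⟩
  obtain ⟨d₁, d₂, h₁, h₂, h12⟩ := exists_dvd_and_dvd_of_dvd_mul hn2
  obtain ⟨i, hi, rfl⟩ := (Nat.dvd_prime_pow Nat.prime_two).1 h₁
  obtain ⟨j, hj, rfl⟩ := (Nat.dvd_prime_pow Nat.prime_three).1 h₂
  have hj3 : j ≤ 3 := by
    by_contra h
    apply not_dvd_pow_three hα G hA
    refine dvd_trans ?_ hdn
    rw [h12]
    exact Dvd.dvd.mul_left (pow_dvd_pow 3 (by omega)) _
  have hn' : n = 1 ∨ n = 12 ∨ n = 144 ∨ n = 1728 := by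
    rw [h12] at hmod ⊢
    revert hmod
    interval_cases i <;> interval_cases j <;> norm_num
  rcases hn' with h | h | h | h <;> rw [h] at hmul
  · exfalso
    apply hG (isSolvable_of_normalizer_eq_top hα G P ?_)
    exact Subgroup.eq_top_of_card_eq _ (by rw [hN, ← hmul, one_mul])
  · omega
  · omega
  · exfalso
    have hGc : Nat.card G = 95040 := by omega
    obtain ⟨y, hy⟩ := exists_prime_orderOf_dvd_card' (G := G) 5 (by rw [hGc]; norm_num)
    let Q : Sylow 5 G := Sylow.ofCard (Subgroup.zpowers y) (by
      rw [Nat.card_zpowers, hy, hGc, show (95040 : ℕ) = 19008 * 5 by norm_num,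
        Nat.factorization_mul (by norm_num) (by norm_num), Finsupp.add_apply,
        (show Nat.Prime 5 by norm_num).factorization_self,
        Nat.factorization_eq_zero_of_not_dvd (by norm_num : ¬ 5 ∣ 19008)]
      norm_num)
    have hQ : Nat.card Q = 5 := by
      show Nat.card (Subgroup.zpowers y) = 5
      rw [Nat.card_zpowers, hy]
    obtain ⟨-, k, hk, hNk⟩ := centralizer_normalizer_prime (q := 5) (not_dvd_sq_five hα G hA) Q hQ
      (by
        intro g hg r hr hgr
        have hcomm : Commute (g : Perm α) (y : Perm α) := by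
          have := Subgroup.mem_centralizer_iff.1 hg y (Subgroup.mem_zpowers y)
          exact (congrArg (fun z : G => (z : Perm α)) this).symm
        exact commute_five hα G hA hev y.2 (by rw [Subgroup.orderOf_coe, hy]) g.2 hcomm hr
          (by rw [Subgroup.orderOf_coe, hgr]))
    have hmul5 := natCard_sylow_mul Q
    rw [hNk, hGc] at hmul5
    have hmod5 : Nat.card (Sylow 5 G) % 5 = 1 := card_sylow_modEq_one 5 G
    have hk4 : k ≤ 4 := Nat.le_of_dvd (by norm_num) hk
    interval_cases k <;> first | omega | norm_num at hk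

end Cfsg.Agent.PermGroups.DegreeEleven
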