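import Cfsg.Agent.PermGroups.DegreeElevenThree

/-!
Order 7920 in degree eleven: the group is sharply four-transitive.
-/

set_option autoImplicit false
set_option linter.unusedSectionVars false

namespace Cfsg.Agent.PermGroups.DegreeEleven

open MulAction Equiv SmallDegree

variable {α : Type*} [Fintype α] [DecidableEq α] (G : Subgroup (Perm α))

theorem sum_fixed_pairs (hα : Fintype.card α = 11) (h2 : IsMultiplyPretransitive G α 2)
    [Fintype G] :
    ∑ g : G, ((Finset.univ : Finset α).offDiag.filter
      fun p : α × α => (g : Perm α) p.1 = p.1 ∧ (g : Perm α) p.2 = p.2).card = Nat.card G := by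
  classical
  simp only [Finset.card_filter]
  rw [Finset.sum_comm]
  have hpair : ∀ p ∈ (Finset.univ : Finset α).offDiag,
      110 * (∑ g : G, if (g : Perm α) p.1 = p.1 ∧ (g : Perm α) p.2 = p.2 then 1 else 0) =
        Nat.card G := by
    intro p hp
    rw [Finset.mem_offDiag] at hp
    rw [← natCard_two_point G h2 hp.2.2, hα, ← Finset.card_filter, ← Nat.card_eq_finsetCard]
    congr 1
    refine Nat.card_congr ⟨fun g => ⟨g.1.1, ⟨g.1.2, (Finset.mem_filter.1 g.2).2.1⟩,
      (Finset.mem_filter.1 g.2).2.2⟩, fun g => ⟨⟨g.1, g.2.1.1⟩,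
      Finset.mem_filter.2 ⟨Finset.mem_univ _, g.2.1.2, g.2.2⟩⟩, fun g => rfl, fun g => rfl⟩
  have h := Finset.sum_congr rfl hpair
  rw [← Finset.mul_sum, Finset.sum_const, Finset.offDiag_card, Finset.card_univ, hα,
    smul_eq_mul] at h
  exact Nat.eq_of_mul_eq_mul_left (by norm_num : 0 < 11 * 11 - 11) h

/-- No double transpositions. -/
theorem two_fix (hα : Fintype.card α = 11) [IsPretransitive G α]
    (hev : G ≤ alternatingGroup α) (hA : ¬ alternatingGroup α ≤ G)
    (h2 : IsMultiplyPretransitive G α 2) (hc : Nat.card G = 7920)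
    {x : Perm α} (hx : x ∈ G) (hxo : orderOf x = 2) : x.support.card = 8 := by
  classical
  refine (even_involution_support hα hxo (Perm.mem_alternatingGroup.1 (hev hx))).resolve_left
    fun h4 => ?_
  haveI := Fintype.ofFinite G
  set xg : G := ⟨x, hx⟩ with hxg
  set C : Subgroup G := Subgroup.centralizer {xg} with hC
  have hcomm : ∀ g ∈ C, Commute (g : Perm α) x := fun g hg => by
    exact (congrArg (fun z : G => (z : Perm α))
      (Subgroup.mem_centralizer_iff.1 hg xg rfl)).symm
  have hxx : ∀ w, x (x w) = w := fun w => by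
    rw [← Perm.mul_apply, ← sq, pow_eq_one_of_orderOf hxo]; rfl
  have hCp : ∀ r : ℕ, r.Prime → r ∣ Nat.card C → r = 2 := by
    intro r hr hd
    haveI : Fact r.Prime := ⟨hr⟩
    obtain ⟨g, hg⟩ := exists_prime_orderOf_dvd_card' (G := C) r hd
    have hgo : orderOf ((g : G) : Perm α) = r := by
      rw [Subgroup.orderOf_coe, Subgroup.orderOf_coe, hg]
    have hgc := hcomm g g.2
    have hinv := support_invariant hgc.symm
    have hr_dvd : r ∣ 2 ^ 4 * (3 ^ 2 * (5 * 11)) := by
      have := orderOf_dvd_natCard (g : G)
      rwa [hc, Subgroup.orderOf_coe, hg, show (7920 : ℕ) = 2 ^ 4 * (3 ^ 2 * (5 * 11)) by norm_num]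
        at this
    rcases hr.dvd_mul.1 hr_dvd with h | h
    · exact (Nat.prime_dvd_prime_iff_eq hr Nat.prime_two).1 (hr.dvd_of_dvd_pow h)
    exfalso
    rcases hr.dvd_mul.1 h with h | h
    · obtain rfl := (Nat.prime_dvd_prime_iff_eq hr Nat.prime_three).1 (hr.dvd_of_dvd_pow h)
      have h9 := three_fix G hα hev hA h2 hc (g : G).2 hgo
      set S := x.support ∩ ((g : G) : Perm α).support with hS
      have hS3 := dvd_card_invariant Nat.prime_three (pow_eq_one_of_orderOf hgo) S
        (fun z hz => by
          rw [hS, Finset.mem_inter] at hz ⊢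
          exact ⟨hinv z hz.1, Perm.apply_mem_support.2 hz.2⟩)
        (fun z hz => Perm.mem_support.1 (Finset.mem_inter.1 hz).2)
      have hSle : S.card ≤ 4 := h4 ▸ Finset.card_le_card Finset.inter_subset_left
      have hfix2 : (((g : G) : Perm α).supportᶜ).card = 2 := by
        rw [Finset.card_compl, h9, hα]
      have hsplit := Finset.card_inter_add_card_sdiff x.support ((g : G) : Perm α).support
      rw [← hS, h4] at hsplit
      have hD : x.support \ ((g : G) : Perm α).support ⊆ ((g : G) : Perm α).supportᶜ := fun z hz =>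
        Finset.mem_compl.2 (Finset.mem_sdiff.1 hz).2
      have hDle := Finset.card_le_card hD
      rw [hfix2] at hDle
      -- exactly one fixed point of `g` is moved by `x`
      obtain ⟨s, hs⟩ := Finset.card_eq_one.1
        (show (x.support \ ((g : G) : Perm α).support).card = 1 by omega)
      have hsm : s ∈ x.support \ ((g : G) : Perm α).support := hs ▸ Finset.mem_singleton_self s
      rw [Finset.mem_sdiff, Perm.notMem_support] at hsm
      have hxs : x s ∈ x.support \ ((g : G) : Perm α).support := by
        rw [Finset.mem_sdiff, Perm.notMem_support, ← Perm.mul_apply, hgc.eq, Perm.mul_apply, hsm.2]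
        exact ⟨Perm.apply_mem_support.2 hsm.1, rfl⟩
      rw [hs, Finset.mem_singleton] at hxs
      exact Perm.mem_support.1 hsm.1 hxs
    rcases hr.dvd_mul.1 h with h | h
    · obtain rfl := (Nat.prime_dvd_prime_iff_eq hr (by norm_num : Nat.Prime 5)).1 h
      have h5 := commute_five_mem hα G hA hev (g : G).2 hgo hx hgc.symm
      have := orderOf_dvd_of_pow_eq_one h5
      rw [hxo] at this
      norm_num at this
    · obtain rfl := (Nat.prime_dvd_prime_iff_eq hr (by norm_num : Nat.Prime 11)).1 h
      have hfree : ((g : G) : Perm α).support = Finset.univ := by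
        have h1 := prime_dvd_support_card hr (pow_eq_one_of_orderOf hgo)
        have h2' := support_card_pos hr hgo
        have h3 := Finset.card_le_univ ((g : G) : Perm α).support
        exact Finset.eq_univ_of_card _ (by omega)
      have := dvd_card_invariant hr (pow_eq_one_of_orderOf hgo) x.support hinv
        (fun z _ => Perm.mem_support.1 (hfree ▸ Finset.mem_univ z))
      rw [h4] at this
      norm_num at this
  have hC16 : Nat.card C ≤ 16 := by
    have hpow := Nat.eq_prime_pow_of_unique_prime_dvd (n := Nat.card C) (p := 2) Nat.card_pos.ne'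
      (fun {r} hr hd => hCp r hr hd)
    set k := (Nat.card C).primeFactorsList.length
    have hd := Subgroup.card_subgroup_dvd_card C
    rw [hc, hpow] at hd
    rw [hpow]
    have : 2 ^ k ∣ 2 ^ 4 := by
      refine (Nat.Coprime.dvd_mul_right (k := 2 ^ k) (n := 495) ?_).1 (by
        rwa [show (2 : ℕ) ^ 4 * 495 = 7920 by norm_num])
      exact Nat.Coprime.pow_left k (by norm_num)
    exact Nat.le_of_dvd (by norm_num) this
  -- conjugates
  set f : G → G := fun g => g * xg * g⁻¹ with hf
  have himg : 7920 ≤ 16 * (Finset.univ.image f).card := by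
    rw [← hc, Nat.card_eq_fintype_card, ← Finset.card_univ]
    refine Finset.card_le_mul_card_image _ _ fun b hb => le_trans ?_ hC16
    obtain ⟨g0, -, rfl⟩ := Finset.mem_image.1 hb
    rw [← Nat.card_eq_finsetCard]
    refine Nat.card_le_card_of_injective (fun g => (⟨g0⁻¹ * g.1, ?_⟩ : C)) ?_
    · rw [hC, Subgroup.mem_centralizer_iff]
      rintro h rfl
      have hg : g.1 * xg * g.1⁻¹ = g0 * xg * g0⁻¹ := (Finset.mem_filter.1 g.2).2
      calc xg * (g0⁻¹ * g.1) = g0⁻¹ * (g0 * xg * g0⁻¹) * g.1 := by group
        _ = g0⁻¹ * (g.1 * xg * g.1⁻¹) * g.1 := by rw [hg]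
        _ = g0⁻¹ * g.1 * xg := by group
    · intro g g' h
      exact Subtype.ext (mul_left_cancel (congrArg Subtype.val h))
  have hsum := sum_fixed_pairs G hα h2
  have hge : ∑ g ∈ Finset.univ.image f, ((Finset.univ : Finset α).offDiag.filter
      fun p : α × α => (g : Perm α) p.1 = p.1 ∧ (g : Perm α) p.2 = p.2).card ≤ Nat.card G :=
    hsum ▸ Finset.sum_le_sum_of_subset (Finset.subset_univ _)
  have h42 : ∀ g ∈ Finset.univ.image f, ((Finset.univ : Finset α).offDiag.filter
      fun p : α × α => (g : Perm α) p.1 = p.1 ∧ (g : Perm α) p.2 = p.2).card = 42 := by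
    intro g hg
    obtain ⟨g0, -, rfl⟩ := Finset.mem_image.1 hg
    have hs : ((f g0 : G) : Perm α).support.card = 4 := by
      rw [← h4]; exact Perm.card_support_conj
    have : (Finset.univ : Finset α).offDiag.filter
        (fun p : α × α => ((f g0 : G) : Perm α) p.1 = p.1 ∧ ((f g0 : G) : Perm α) p.2 = p.2) =
        ((f g0 : G) : Perm α).supportᶜ.offDiag := by
      ext p
      simp only [Finset.mem_filter, Finset.mem_offDiag, Finset.mem_univ, true_and,
        Finset.mem_compl, Perm.notMem_support]
      tauto
    rw [this, Finset.offDiag_card, Finset.card_compl, hs, hα]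
  rw [Finset.sum_congr rfl h42, Finset.sum_const, smul_eq_mul, hc] at hge
  omega

/-- Four fixed points only for the identity. -/
theorem stabilizer_four (hα : Fintype.card α = 11) [IsPretransitive G α]
    (hev : G ≤ alternatingGroup α) (hA : ¬ alternatingGroup α ≤ G)
    (h2 : IsMultiplyPretransitive G α 2) (hc : Nat.card G = 7920) (x : Fin 4 ↪ α) :
    stabilizer G x = ⊥ := by
  classical
  by_contra h
  have hcard : Nat.card (stabilizer G x) ≠ 1 := fun h1 => h (Subgroup.card_eq_one.1 h1)
  obtain ⟨r, hr, hrd⟩ := Nat.exists_prime_and_dvd hcard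
  haveI : Fact r.Prime := ⟨hr⟩
  obtain ⟨g, hg⟩ := exists_prime_orderOf_dvd_card' (G := stabilizer G x) r hrd
  have hgo : orderOf ((g : G) : Perm α) = r := by
    rw [Subgroup.orderOf_coe, Subgroup.orderOf_coe, hg]
  have hle : ((g : G) : Perm α).support.card ≤ 7 := by
    have hsub : ((g : G) : Perm α).support ⊆ (Finset.univ.map x)ᶜ := by
      intro w hw
      rw [Finset.mem_compl, Finset.mem_map]
      rintro ⟨i, -, rfl⟩
      exact Perm.mem_support.1 hw (congrArg (fun e : Fin 4 ↪ α => e i) g.2)
    have := Finset.card_le_card hsub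
    rw [Finset.card_compl, Finset.card_map, Finset.card_univ, Fintype.card_fin, hα] at this
    omega
  have h1 := prime_dvd_support_card hr (pow_eq_one_of_orderOf hgo)
  have h0 := support_card_pos hr hgo
  have hr7 : r ≤ 7 := (Nat.le_of_dvd h0 h1).trans hle
  have hnc := no_cycle hα G hA (g : G).2 hr (by omega) hgo
  rcases (show r = 2 ∨ r = 3 ∨ r = 5 ∨ r = 7 by
    interval_cases r <;> first | omega | (exact absurd hr (by norm_num))) with rfl | rfl | rfl | rfl
  · have := two_fix G hα hev hA h2 hc (g : G).2 hgo; omega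
  · have := three_fix G hα hev hA h2 hc (g : G).2 hgo; omega
  · have := five_support hα G hA (g : G).2 hgo; omega
  · omega

/-- The group is four-transitive. -/
theorem four_transitive (hα : Fintype.card α = 11) [IsPretransitive G α]
    (hev : G ≤ alternatingGroup α) (hA : ¬ alternatingGroup α ≤ G)
    (h2 : IsMultiplyPretransitive G α 2) (hc : Nat.card G = 7920) :
    IsMultiplyPretransitive G α 4 := by
  classical
  refine ⟨fun x y => ?_⟩
  have hinj : Function.Injective (fun g : G => g • x) := by
    intro g g' h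
    have : g'⁻¹ * g ∈ stabilizer G x := by
      have h' : g • x = g' • x := h
      rw [mem_stabilizer_iff, mul_smul]
      exact (congrArg (g'⁻¹ • ·) h').trans (inv_smul_smul g' x)
    rw [stabilizer_four G hα hev hA h2 hc x, Subgroup.mem_bot] at this
    exact (inv_mul_eq_one.1 this).symm
  have hbij := (Nat.bijective_iff_injective_and_card (fun g : G => g • x)).2
    ⟨hinj, by rw [hc, Nat.card_eq_fintype_card, Fintype.card_embedding_eq, Fintype.card_fin, hα]; rfl⟩
  exact hbij.2 y

end Cfsg.Agent.PermGroups.DegreeEleven
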