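import Cfsg.Agent.PermGroups.DegreeElevenOrders

/-!
Order 7920 in degree eleven: elements of order three fix at most two points.
-/

set_option autoImplicit false
set_option linter.unusedSectionVars false

namespace Cfsg.Agent.PermGroups.DegreeEleven

open MulAction Equiv SmallDegree

variable {α : Type*} [Fintype α] [DecidableEq α]

/-- Transport to three points. -/
theorem three_facts (O : Finset α) (hO : O.card = 3) {c d : Perm α} (hc : ∀ z ∈ O, c z ∈ O)
    (hd : ∀ z ∈ O, d z ∈ O) :
    ((c ^ 9 = 1 → ∀ z ∈ O, (c ^ 3) z = z)) ∧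
    (c ^ 3 = 1 → d ^ 3 = 1 → ∀ z ∈ O, c (d z) = d (c z)) ∧
    (c ^ 3 = 1 → d ^ 2 = 1 → (∃ z ∈ O, d z ≠ z) → ∀ z ∈ O, d (c (d z)) = c (c z)) := by
  have hiff : ∀ {e : Perm α}, (∀ z ∈ O, e z ∈ O) → ∀ z, e z ∈ O ↔ z ∈ O := by
    intro e he z
    refine ⟨fun h => ?_, he z⟩
    have hmap : O.map e.toEmbedding = O := Finset.eq_of_subset_of_card_le
      (fun w hw => by
        obtain ⟨u, hu, rfl⟩ := Finset.mem_map.1 hw
        exact he u hu) (by rw [Finset.card_map])
    rw [← hmap, Finset.mem_map] at h
    obtain ⟨u, hu, hue⟩ := h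
    rwa [← e.injective hue]
  set φ := (Fintype.equivFinOfCardEq (show Fintype.card {z // z ∈ O} = 3 by
    rw [Fintype.card_coe, hO])).permCongrHom with hφ
  set C := φ (c.subtypePerm (hiff hc)) with hC
  set D := φ (d.subtypePerm (hiff hd)) with hD
  have k1 : ∀ C : Perm (Fin 3), C ^ 9 = 1 → C ^ 3 = 1 := by decide +kernel
  have k2 : ∀ C D : Perm (Fin 3), C ^ 3 = 1 → D ^ 3 = 1 → C * D = D * C := by decide +kernel
  have k3 : ∀ C D : Perm (Fin 3), C ^ 3 = 1 → D ^ 2 = 1 → D ≠ 1 → D * C * D = C * C := by decide
  have hp : ∀ {e : Perm α} (he : ∀ z ∈ O, e z ∈ O) (n : ℕ), e ^ n = 1 →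
      (φ (e.subtypePerm (hiff he))) ^ n = 1 := by
    intro e he n hn
    rw [← map_pow, Perm.subtypePerm_pow]
    have : ((e ^ n).subtypePerm (fun z => by rw [hn]; rfl) : Perm {z // z ∈ O}) = 1 := by
      ext z; simp [hn]
    rw [← map_one φ]
    congr 1
  refine ⟨fun h z hz => ?_, fun h h' z hz => ?_, fun h h' hne z hz => ?_⟩
  · have := k1 C (hp hc 9 h)
    rw [hC, ← map_pow, ← map_one φ] at this
    have := φ.injective this
    rw [Perm.subtypePerm_pow] at this
    exact congrArg Subtype.val (congrArg (fun σ : Perm {w // w ∈ O} => σ ⟨z, hz⟩) this)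
  · have := k2 C D (hp hc 3 h) (hp hd 3 h')
    rw [hC, hD, ← map_mul, ← map_mul] at this
    have := φ.injective this
    exact congrArg Subtype.val (congrArg (fun σ : Perm {w // w ∈ O} => σ ⟨z, hz⟩) this)
  · have := k3 C D (hp hc 3 h) (hp hd 2 h') (fun h1 => by
      obtain ⟨w, hw, hw'⟩ := hne
      rw [hD, ← map_one φ] at h1
      exact hw' (congrArg Subtype.val (congrArg (fun σ : Perm {u // u ∈ O} => σ ⟨w, hw⟩)
        (φ.injective h1))))
    rw [hC, hD, ← map_mul, ← map_mul, ← map_mul] at this
    have := φ.injective this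
    exact congrArg Subtype.val (congrArg (fun σ : Perm {u // u ∈ O} => σ ⟨z, hz⟩) this)

variable (G : Subgroup (Perm α))

/-- In degree eleven an element of order three moves six or nine points. -/
theorem three_support (hα : Fintype.card α = 11) [IsPretransitive G α]
    (hA : ¬ alternatingGroup α ≤ G) {g : Perm α} (hg : g ∈ G) (hgr : orderOf g = 3) :
    g.support.card = 6 ∨ g.support.card = 9 := by
  have h1 := no_cycle hα G hA hg Nat.prime_three (by norm_num) hgr
  have h2 := prime_dvd_support_card Nat.prime_three (pow_eq_one_of_orderOf hgr)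
  have h3 := support_card_pos Nat.prime_three hgr
  have h4 := Finset.card_le_univ g.support
  omega

/-- A subgroup of order nine with an element fixing five points: two fixed points and three
orbits of size three. -/
theorem nine_structure (hα : Fintype.card α = 11) [IsPretransitive G α]
    (hA : ¬ alternatingGroup α ≤ G) (Q : Subgroup (Perm α)) (hQG : Q ≤ G) (hQ : Nat.card Q = 9)
    {z : Perm α} (hzQ : z ∈ Q) (hz : z.support.card = 6) :
    (∀ q ∈ Q, q ^ 3 = 1) ∧
    ∃ (a b : α) (O : α → Finset α), a ≠ b ∧ (∀ x, (∀ q ∈ Q, q x = x) ↔ (x = a ∨ x = b)) ∧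
      (∀ x, x ∈ O x) ∧ (∀ x y, y ∈ O x ↔ ∃ q ∈ Q, q x = y) ∧
      (∀ x y, y ∈ O x → O y = O x) ∧ (∀ x, x ≠ a → x ≠ b → (O x).card = 3) := by
  classical
  haveI : Fact (Nat.Prime 3) := ⟨Nat.prime_three⟩
  have hcomm : ∀ p ∈ Q, ∀ q ∈ Q, p * q = q * p := by
    intro p hp q hq
    exact congrArg Subtype.val (IsPGroup.commutative_of_card_eq_prime_sq (p := 3)
      (by rw [hQ]; norm_num) (⟨p, hp⟩ : Q) ⟨q, hq⟩)
  set O : α → Finset α := fun x => Finset.univ.filter fun y => ∃ q ∈ Q, q x = y with hOd
  have hmem : ∀ x y, y ∈ O x ↔ ∃ q ∈ Q, q x = y := fun x y => by simp [hOd]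
  have hself : ∀ x, x ∈ O x := fun x => (hmem x x).2 ⟨1, one_mem _, rfl⟩
  have hsame : ∀ x y, y ∈ O x → O y = O x := by
    intro x y hy
    obtain ⟨q, hq, rfl⟩ := (hmem x y).1 hy
    ext w
    rw [hmem, hmem]
    constructor
    · rintro ⟨r, hr, rfl⟩; exact ⟨r * q, mul_mem hr hq, rfl⟩
    · rintro ⟨r, hr, rfl⟩
      exact ⟨r * q⁻¹, mul_mem hr (inv_mem hq), by simp⟩
  have horb : ∀ x, (O x).card = Nat.card (orbit Q x) := fun x => by
    rw [← Nat.card_eq_finsetCard]
    refine Nat.card_congr (Equiv.subtypeEquivRight fun y => ?_)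
    rw [hmem]
    constructor
    · rintro ⟨q, hq, rfl⟩; exact ⟨⟨q, hq⟩, rfl⟩
    · rintro ⟨q, rfl⟩; exact ⟨q.1, q.2, rfl⟩
  have hmul : ∀ x, (O x).card * Nat.card (stabilizer Q x) = 9 := fun x => by
    rw [horb, Nat.card_coe_set_eq, ← index_stabilizer, Subgroup.index_mul_card, hQ]
  have hdvd : ∀ x, (O x).card = 1 ∨ (O x).card = 3 ∨ (O x).card = 9 := by
    intro x
    obtain ⟨i, hi, hie⟩ := (Nat.dvd_prime_pow Nat.prime_three).1
      (⟨_, (hmul x).symm⟩ : (O x).card ∣ 3 ^ 2)
    interval_cases i <;> simp_all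
  have hsmall : ∀ x, (O x).card = 1 ∨ (O x).card = 3 := by
    intro x
    rcases hdvd x with h | h | h
    · exact Or.inl h
    · exact Or.inr h
    exfalso
    obtain ⟨w, hwO, hwz⟩ : ∃ w ∈ O x, w ∉ z.support := by
      by_contra hall
      push Not at hall
      have := Finset.card_le_card (show O x ⊆ z.support from hall)
      omega
    rw [Perm.notMem_support] at hwz
    have h1 := hmul w
    rw [hsame x w hwO, h] at h1
    have hst : stabilizer Q w = ⊥ := Subgroup.card_eq_one.1 (by omega)
    have : (⟨z, hzQ⟩ : Q) = 1 := by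
      rw [← Subgroup.mem_bot, ← hst]
      exact hwz
    have hz1 : z = 1 := congrArg Subtype.val this
    rw [hz1] at hz
    simp at hz
  have hpres : ∀ x, ∀ q ∈ Q, ∀ y ∈ O x, q y ∈ O x := by
    intro x q hq y hy
    rw [← hsame x y hy, hmem]
    exact ⟨q, hq, rfl⟩
  have hone : ∀ x, (O x).card = 1 → ∀ q ∈ Q, q x = x := fun x h q hq =>
    Finset.card_le_one.1 h.le _ (hpres x q hq x (hself x)) _ (hself x)
  have hexp : ∀ q ∈ Q, q ^ 3 = 1 := by
    intro q hq
    ext x
    rcases hsmall x with h | h
    · exact hone x h _ (pow_mem hq 3)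
    · have h9 : q ^ 9 = 1 := by
        have h' := congrArg Subtype.val (pow_card_eq_one' (x := (⟨q, hq⟩ : Q)))
        rw [hQ] at h'
        simpa using h'
      exact (three_facts (O x) h (hpres x q hq) (hpres x q hq)).1 h9 x (hself x)
  refine ⟨hexp, ?_⟩
  set F : Finset α := Finset.univ.filter fun x => ∀ q ∈ Q, q x = x with hFd
  have hmemF : ∀ x, x ∈ F ↔ ∀ q ∈ Q, q x = x := fun x => by simp [hFd]
  have hFmod : F.card % 3 = 2 := by
    have hp := (IsPGroup.of_card (p := 3) (n := 2) (G := Q)
      (by rw [hQ]; norm_num)).card_modEq_card_fixedPoints α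
    have hfix : Nat.card (fixedPoints Q α) = F.card := by
      rw [← Nat.card_eq_finsetCard]
      refine Nat.card_congr (Equiv.subtypeEquivRight fun x => ?_)
      rw [hmemF]
      exact ⟨fun h g hg => h ⟨g, hg⟩, fun h g => h g.1 g.2⟩
    rw [hfix, Nat.card_eq_fintype_card, hα] at hp
    exact hp.symm
  have hFz : F ⊆ z.supportᶜ := fun x hx => by
    rw [Finset.mem_compl, Perm.notMem_support]
    exact (hmemF x).1 hx z hzQ
  have hF5 : F.card ≤ 5 := by
    have := Finset.card_le_card hFz
    rw [Finset.card_compl, hα, hz] at this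
    exact this
  have hF2 : F.card = 2 := by
    by_contra hne
    have hF : F = z.supportᶜ := Finset.eq_of_subset_of_card_le hFz (by
      rw [Finset.card_compl, hα, hz]; omega)
    obtain ⟨x, hx⟩ : z.support.Nonempty := Finset.card_pos.1 (by omega)
    have hx3 : (O x).card = 3 := (hsmall x).resolve_left fun h =>
      Perm.mem_support.1 hx (hone x h z hzQ)
    have h1 := hmul x
    rw [hx3] at h1
    haveI : Nontrivial (stabilizer Q x) := Finite.one_lt_card_iff_nontrivial.1 (by omega)
    obtain ⟨u, hu1⟩ := exists_ne (1 : stabilizer Q x)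
    set v : Perm α := ((u : Q) : Perm α) with hv
    have hvQ : v ∈ Q := u.1.2
    have hvx : v x = x := u.2
    have hv1 : v ≠ 1 := fun h => hu1 (Subtype.ext (Subtype.ext h))
    have hvo : orderOf v = 3 := orderOf_eq_prime (hexp v hvQ) hv1
    have hsub : v.support ⊆ (F ∪ O x)ᶜ := by
      intro w hw
      rw [Finset.mem_compl, Finset.mem_union]
      rintro (h | h)
      · exact Perm.mem_support.1 hw ((hmemF w).1 h v hvQ)
      · obtain ⟨q, hq, rfl⟩ := (hmem x w).1 h
        apply Perm.mem_support.1 hw
        rw [← Perm.mul_apply, hcomm v hvQ q hq, Perm.mul_apply, hvx]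
    have hdis : Disjoint F (O x) := by
      rw [Finset.disjoint_left]
      intro w hw hwO
      have : O x = O w := (hsame x w hwO).symm
      have hwc : (O w).card ≤ 1 := Finset.card_le_one.2 (by
        intro a ha b hb
        obtain ⟨q, hq, rfl⟩ := (hmem w a).1 ha
        obtain ⟨r, hr, rfl⟩ := (hmem w b).1 hb
        rw [(hmemF w).1 hw q hq, (hmemF w).1 hw r hr])
      rw [← this] at hwc
      omega
    have hle := Finset.card_le_card hsub
    rw [Finset.card_compl, Finset.card_union_of_disjoint hdis, hα, hx3] at hle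
    have := three_support G hα hA (hQG hvQ) hvo
    omega
  obtain ⟨a, b, hab, hFab⟩ := Finset.card_eq_two.1 hF2
  have hfixiff : ∀ x, (∀ q ∈ Q, q x = x) ↔ (x = a ∨ x = b) := fun x => by
    rw [← hmemF, hFab]
    simp
  refine ⟨a, b, O, hab, hfixiff, hself, hmem, hsame, fun x hxa hxb => ?_⟩
  refine (hsmall x).resolve_left fun h => ?_
  rcases (hfixiff x).1 (hone x h) with e | e
  · exact hxa e
  · exact hxb e

theorem conj_support (g z : Perm α) : (g * z * g⁻¹).support.card = z.support.card :=
  Perm.card_support_conj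

set_option maxHeartbeats 1600000 in
/-- No element of order three fixes five points. -/
theorem three_fix (hα : Fintype.card α = 11) [IsPretransitive G α]
    (hev : G ≤ alternatingGroup α) (hA : ¬ alternatingGroup α ≤ G)
    (h2 : IsMultiplyPretransitive G α 2) (hc : Nat.card G = 7920)
    {z : Perm α} (hz : z ∈ G) (hzo : orderOf z = 3) : z.support.card = 9 := by
  classical
  haveI : Fact (Nat.Prime 3) := ⟨Nat.prime_three⟩
  by_contra hne
  have hz6 : z.support.card = 6 := (three_support G hα hA hz hzo).resolve_right hne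
  -- a Sylow subgroup through `z`
  have hfac : (7920 : ℕ).factorization 3 = 2 := by
    rw [show (7920 : ℕ) = 880 * 3 ^ 2 by rfl, Nat.factorization_mul (by norm_num) (by norm_num),
      Finsupp.add_apply, Nat.factorization_pow, Finsupp.smul_apply,
      Nat.prime_three.factorization_self,
      Nat.factorization_eq_zero_of_not_dvd (by norm_num : ¬ 3 ∣ 880)]
    rfl
  obtain ⟨R, hR⟩ := (IsPGroup.of_card (n := 1) (p := 3) (G := Subgroup.zpowers (⟨z, hz⟩ : G))
    (by rw [Nat.card_zpowers, Subgroup.orderOf_mk, hzo, pow_one])).exists_le_sylow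
  set Q : Subgroup (Perm α) := (R : Subgroup G).map G.subtype with hQd
  have hQG : Q ≤ G := by
    rintro _ ⟨w, -, rfl⟩; exact w.2
  have hQ : Nat.card Q = 9 := by
    rw [hQd, Subgroup.card_map_of_injective G.subtype_injective, R.card_eq_multiplicity, hc, hfac]
    norm_num
  have hzQ : z ∈ Q := ⟨⟨z, hz⟩, hR (Subgroup.mem_zpowers _), rfl⟩
  obtain ⟨hexp, a, b, O, hab, hfix, hself, hmem, hsame, hO3⟩ :=
    nine_structure G hα hA Q hQG hQ hzQ hz6
  set K : Subgroup (Perm α) := G ⊓ stabilizer (Perm α) a ⊓ stabilizer (Perm α) b with hKd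
  have hKc : Nat.card K = 72 := by
    have := natCard_two_point G h2 hab
    rw [hα, hc] at this
    simp only [hKd]
    omega
  have hQK : Q ≤ K := fun q hq =>
    ⟨⟨hQG hq, (hfix a).2 (Or.inl rfl) q hq⟩, (hfix b).2 (Or.inr rfl) q hq⟩
  have hfac72 : (72 : ℕ).factorization 3 = 2 := by
    rw [show (72 : ℕ) = 8 * 3 ^ 2 by rfl, Nat.factorization_mul (by norm_num) (by norm_num),
      Finsupp.add_apply, Nat.factorization_pow, Finsupp.smul_apply,
      Nat.prime_three.factorization_self,
      Nat.factorization_eq_zero_of_not_dvd (by norm_num : ¬ 3 ∣ 8)]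
    rfl
  -- `Q` is not normal in `K`
  have hnot : ¬ ∀ g ∈ K, ∀ q ∈ Q, g * q * g⁻¹ ∈ Q := by
    intro hnorm
    haveI : Fact (Nat.Prime 2) := ⟨Nat.prime_two⟩
    obtain ⟨S, hS⟩ := Sylow.exists_subgroup_card_pow_prime 2 (G := K)
      (show 2 ^ 3 ∣ Nat.card K by rw [hKc]; norm_num)
    set T : Subgroup (Perm α) := S.map K.subtype with hTd
    have hT : Nat.card T = 8 := by
      rw [hTd, Subgroup.card_map_of_injective K.subtype_injective, hS]; norm_num
    have hTK : T ≤ K := by
      rintro _ ⟨w, -, rfl⟩; exact w.2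
    have hOmap : ∀ g ∈ T, ∀ x y, y ∈ O x → g y ∈ O (g x) := by
      intro g hg x y hy
      obtain ⟨q, hq, rfl⟩ := (hmem x y).1 hy
      exact (hmem _ _).2 ⟨g * q * g⁻¹, hnorm g (hTK hg) q hq, by simp⟩
    -- a third fixed point of `T`
    obtain ⟨x1, hx1a, hx1b, hx1⟩ : ∃ x1, x1 ≠ a ∧ x1 ≠ b ∧ ∀ g ∈ T, g x1 = x1 := by
      set F : Finset α := Finset.univ.filter fun x => ∀ g ∈ T, g x = x with hFd
      have hp := (IsPGroup.of_card (p := 2) (n := 3) (G := T)
        (by rw [hT]; norm_num)).card_modEq_card_fixedPoints α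
      have hf : Nat.card (fixedPoints T α) = F.card := by
        rw [← Nat.card_eq_finsetCard]
        refine Nat.card_congr (Equiv.subtypeEquivRight fun x => ?_)
        simp only [hFd, Finset.mem_filter, Finset.mem_univ, true_and]
        exact ⟨fun h g hg => h ⟨g, hg⟩, fun h g => h g.1 g.2⟩
      rw [hf, Nat.card_eq_fintype_card, hα] at hp
      have hodd : F.card % 2 = 1 := hp.symm
      have hsub : ({a, b} : Finset α) ⊆ F := by
        intro x hx
        simp only [Finset.mem_insert, Finset.mem_singleton] at hx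
        simp only [hFd, Finset.mem_filter, Finset.mem_univ, true_and]
        rcases hx with rfl | rfl
        · exact fun g hg => (hTK hg).1.2
        · exact fun g hg => (hTK hg).2
      have hne2 : ({a, b} : Finset α) ≠ F := fun h => by
        rw [← h, Finset.card_pair hab] at hodd
        omega
      obtain ⟨x, hxF, hx⟩ := Finset.exists_of_ssubset (hsub.ssubset_of_ne hne2)
      simp only [Finset.mem_insert, Finset.mem_singleton, not_or] at hx
      simp only [hFd, Finset.mem_filter, Finset.mem_univ, true_and] at hxF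
      exact ⟨x, hx.1, hx.2, hxF⟩
    obtain ⟨x2, hx2⟩ : ∃ x2, x2 ∉ insert a (insert b (O x1)) := by
      by_contra h
      push Not at h
      have := Finset.card_le_card (show Finset.univ ⊆ insert a (insert b (O x1)) from fun x _ => h x)
      have := Finset.card_insert_le a (insert b (O x1))
      have := Finset.card_insert_le b (O x1)
      have := hO3 x1 hx1a hx1b
      simp only [Finset.card_univ, hα] at *
      omega
    simp only [Finset.mem_insert, not_or] at hx2
    -- an involution of `T` fixing `x2`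
    obtain ⟨g, hgT, hgx2, hgo⟩ : ∃ g ∈ T, g x2 = x2 ∧ orderOf g = 2 := by
      have horb : Nat.card (orbit T x2) ≤ 6 := by
        have hsub : orbit T x2 ⊆ ((insert a (insert b (O x1)))ᶜ : Finset α) := by
          rintro _ ⟨g, rfl⟩
          rw [Finset.mem_coe, Finset.mem_compl, Finset.mem_insert, Finset.mem_insert]
          change ¬ ((g : Perm α) x2 = a ∨ (g : Perm α) x2 = b ∨ (g : Perm α) x2 ∈ O x1)
          rintro (h | h | h)
          · exact hx2.1 ((g : Perm α).injective (h.trans (hTK g.2).1.2.symm))
          · exact hx2.2.1 ((g : Perm α).injective (h.trans (hTK g.2).2.symm))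
          · have h' := hOmap _ (inv_mem g.2) x1 _ h
            rw [hx1 _ (inv_mem g.2), ← Perm.mul_apply, inv_mul_cancel, Perm.one_apply] at h'
            exact hx2.2.2 h'
        rw [Nat.card_coe_set_eq]
        refine (Set.ncard_le_ncard hsub).trans ?_
        have hd : (insert a (insert b (O x1))).card = 5 := by
          rw [Finset.card_insert_of_notMem, Finset.card_insert_of_notMem, hO3 x1 hx1a hx1b]
          · intro h
            have := (hsame x1 b h)
            have h1 : (O b).card = 1 := Finset.card_eq_one.2 ⟨b, by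
              ext w
              rw [hmem, Finset.mem_singleton]
              exact ⟨fun ⟨q, hq, e⟩ => by rw [← e, (hfix b).2 (Or.inr rfl) q hq],
                fun e => ⟨1, one_mem _, e.symm⟩⟩⟩
            rw [this, hO3 x1 hx1a hx1b] at h1
            omega
          · rw [Finset.mem_insert]
            rintro (h | h)
            · exact hab h
            · have := (hsame x1 a h)
              have h1 : (O a).card = 1 := Finset.card_eq_one.2 ⟨a, by
                ext w
                rw [hmem, Finset.mem_singleton]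
                exact ⟨fun ⟨q, hq, e⟩ => by rw [← e, (hfix a).2 (Or.inl rfl) q hq],
                  fun e => ⟨1, one_mem _, e.symm⟩⟩⟩
              rw [this, hO3 x1 hx1a hx1b] at h1
              omega
        rw [Set.ncard_coe_finset, Finset.card_compl, hd, hα]
      have h1 : Nat.card (orbit T x2) * Nat.card (stabilizer T x2) = 8 := by
        rw [Nat.card_coe_set_eq, ← index_stabilizer, Subgroup.index_mul_card, hT]
      have h2 : 2 ∣ Nat.card (stabilizer T x2) := by
        obtain ⟨i, hi, hie⟩ := (Nat.dvd_prime_pow Nat.prime_two).1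
          (⟨_, (mul_comm _ _).trans h1 |>.symm⟩ : Nat.card (stabilizer T x2) ∣ 2 ^ 3)
        rcases Nat.eq_zero_or_pos i with rfl | hi0
        · rw [hie] at h1; omega
        · exact hie ▸ dvd_pow_self 2 hi0.ne'
      obtain ⟨g, hg⟩ := exists_prime_orderOf_dvd_card' (G := stabilizer T x2) 2 h2
      exact ⟨((g : T) : Perm α), g.1.2, g.2, by rw [Subgroup.orderOf_coe, Subgroup.orderOf_coe, hg]⟩
    have hgK := hTK hgT
    have hga : g a = a := hgK.1.2
    have hgb : g b = b := hgK.2
    have hgx1 := hx1 g hgT
    have hg2 := pow_eq_one_of_orderOf hgo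
    have hgg : ∀ x, g (g x) = x := fun x => by
      rw [← Perm.mul_apply, ← sq, hg2]; rfl
    -- the support has four points
    have hsupp : g.support.card = 4 := by
      rcases even_involution_support hα hgo (Perm.mem_alternatingGroup.1 (hev hgK.1.1)) with h | h
      · exact h
      exfalso
      have : g.support ⊆ ({a, b, x1, x2} : Finset α)ᶜ := fun w hw => by
        rw [Finset.mem_compl]
        simp only [Finset.mem_insert, Finset.mem_singleton]
        rw [Perm.mem_support] at hw
        rintro (rfl | rfl | rfl | rfl)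
        · exact hw hga
        · exact hw hgb
        · exact hw hgx1
        · exact hw hgx2
      have := Finset.card_le_card this
      have hx12 : x1 ≠ x2 := fun e => hx2.2.2 (e ▸ hself x1)
      rw [Finset.card_compl, Finset.card_insert_of_notMem (by simp [hab, Ne.symm hx1a, Ne.symm hx2.1]),
        Finset.card_insert_of_notMem (by simp [Ne.symm hx1b, Ne.symm hx2.2.1]),
        Finset.card_pair hx12, hα] at this
      omega
    -- the third orbit
    set O1 := O x1 with hO1
    set O2 := O x2 with hO2
    have hOfix : ∀ x, x ≠ a → x ≠ b → a ∉ O x ∧ b ∉ O x := by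
      intro x hxa hxb
      constructor <;> intro h
      · obtain ⟨q, hq, he⟩ := (hmem x a).1 h
        exact hxa (q.injective (he.trans ((hfix a).2 (Or.inl rfl) q hq).symm))
      · obtain ⟨q, hq, he⟩ := (hmem x b).1 h
        exact hxb (q.injective (he.trans ((hfix b).2 (Or.inr rfl) q hq).symm))
    obtain ⟨x3, hx3⟩ : ∃ x3, x3 ∉ insert a (insert b (O1 ∪ O2)) := by
      by_contra h
      push Not at h
      have := Finset.card_le_card (show Finset.univ ⊆ insert a (insert b (O1 ∪ O2)) from fun x _ => h x)
      have := Finset.card_insert_le a (insert b (O1 ∪ O2))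
      have := Finset.card_insert_le b (O1 ∪ O2)
      have := Finset.card_union_le O1 O2
      have h31 : O1.card = 3 := hO3 x1 hx1a hx1b
      have h32 : O2.card = 3 := hO3 x2 hx2.1 hx2.2.1
      simp only [Finset.card_univ, hα] at *
      omega
    simp only [Finset.mem_insert, Finset.mem_union, not_or] at hx3
    set O3 := O x3 with hO3d
    have hdisj : ∀ x y, y ∉ O x → Disjoint (O x) (O y) := by
      intro x y hy
      rw [Finset.disjoint_left]
      intro w hw hw'
      exact hy (((hsame y w hw').symm.trans (hsame x w hw)) ▸ hself y)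
    have hd12 : Disjoint O1 O2 := hdisj x1 x2 hx2.2.2
    have hd13 : Disjoint O1 O3 := hdisj x1 x3 hx3.2.2.1
    have hd23 : Disjoint O2 O3 := hdisj x2 x3 hx3.2.2.2
    have hcover : ∀ x, x = a ∨ x = b ∨ x ∈ O1 ∪ O2 ∪ O3 := by
      have h9 : (O1 ∪ O2 ∪ O3).card = 9 := by
        rw [Finset.card_union_of_disjoint (Finset.disjoint_union_left.2 ⟨hd13, hd23⟩),
          Finset.card_union_of_disjoint hd12, hO1, hO2, hO3d, hO3 x1 hx1a hx1b,
          hO3 x2 hx2.1 hx2.2.1, hO3 x3 hx3.1 hx3.2.1]
      have hu : insert a (insert b (O1 ∪ O2 ∪ O3)) = Finset.univ := by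
        apply Finset.eq_univ_of_card
        rw [Finset.card_insert_of_notMem, Finset.card_insert_of_notMem, h9, hα]
        · simp only [Finset.mem_union, not_or]
          exact ⟨⟨(hOfix x1 hx1a hx1b).2, (hOfix x2 hx2.1 hx2.2.1).2⟩, (hOfix x3 hx3.1 hx3.2.1).2⟩
        · simp only [Finset.mem_insert, Finset.mem_union, not_or]
          exact ⟨hab, ⟨(hOfix x1 hx1a hx1b).1, (hOfix x2 hx2.1 hx2.2.1).1⟩,
            (hOfix x3 hx3.1 hx3.2.1).1⟩
      intro x
      have := hu ▸ Finset.mem_univ x
      simpa [Finset.mem_insert] using this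
    have hg1 : ∀ w ∈ O1, g w ∈ O1 := fun w hw => by
      have := hOmap g hgT x1 w hw
      rwa [hgx1] at this
    have hg2' : ∀ w ∈ O2, g w ∈ O2 := fun w hw => by
      have := hOmap g hgT x2 w hw
      rwa [hgx2] at this
    have hg3 : ∀ w ∈ O3, g w ∈ O3 := fun w hw => by
      rcases hcover (g w) with h | h | h
      · exact absurd hw ((g.injective (h.trans hga.symm)) ▸ (hOfix x3 hx3.1 hx3.2.1).1)
      · exact absurd hw ((g.injective (h.trans hgb.symm)) ▸ (hOfix x3 hx3.1 hx3.2.1).2)
      simp only [Finset.mem_union] at h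
      rcases h with (h | h) | h
      · have := hg1 _ h; rw [hgg] at this
        exact absurd hw (Finset.disjoint_left.1 hd13 this)
      · have := hg2' _ h; rw [hgg] at this
        exact absurd hw (Finset.disjoint_left.1 hd23 this)
      · exact h
    -- one orbit is fixed pointwise
    have hpart : ∀ x, x ≠ a → x ≠ b → (∀ w ∈ O x, g w ∈ O x) →
        (g.support ∩ O x).card = 0 ∨ (g.support ∩ O x).card = 2 := by
      intro x hxa hxb hinv
      have h1 := dvd_card_invariant Nat.prime_two hg2 (g.support ∩ O x) (fun w hw => by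
        rw [Finset.mem_inter] at hw ⊢
        exact ⟨Perm.apply_mem_support.2 hw.1, hinv w hw.2⟩)
        (fun w hw => Perm.mem_support.1 (Finset.mem_inter.1 hw).1)
      have h2 := Finset.card_le_card (Finset.inter_subset_right : g.support ∩ O x ⊆ O x)
      rw [hO3 x hxa hxb] at h2
      omega
    have hp1 : (g.support ∩ O1).card = 0 ∨ (g.support ∩ O1).card = 2 := hpart x1 hx1a hx1b hg1
    have hp2 : (g.support ∩ O2).card = 0 ∨ (g.support ∩ O2).card = 2 := hpart x2 hx2.1 hx2.2.1 hg2'
    have hp3 : (g.support ∩ O3).card = 0 ∨ (g.support ∩ O3).card = 2 := hpart x3 hx3.1 hx3.2.1 hg3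
    have hsum : (g.support ∩ O1).card + (g.support ∩ O2).card + (g.support ∩ O3).card = 4 := by
      rw [← hsupp, ← Finset.card_union_of_disjoint, ← Finset.card_union_of_disjoint]
      · congr 1
        ext w
        simp only [Finset.mem_union, Finset.mem_inter]
        constructor
        · rintro ((⟨h, -⟩ | ⟨h, -⟩) | ⟨h, -⟩) <;> exact h
        · intro hw
          rcases hcover w with rfl | rfl | h
          · exact absurd hga (Perm.mem_support.1 hw)
          · exact absurd hgb (Perm.mem_support.1 hw)
          simp only [Finset.mem_union] at h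
          tauto
      · exact Finset.disjoint_union_left.2 ⟨hd13.mono Finset.inter_subset_right
          Finset.inter_subset_right, hd23.mono Finset.inter_subset_right Finset.inter_subset_right⟩
      · exact hd12.mono Finset.inter_subset_right Finset.inter_subset_right
    -- conclude from a pointwise fixed orbit
    have finish : ∀ y, y ≠ a → y ≠ b → (g.support ∩ O y).card = 0 →
        (∀ x, x ∉ O y → x ≠ a → x ≠ b → (∀ w ∈ O x, g w ∈ O x) ∧ (g.support ∩ O x).card = 2) →
        False := by
      intro y hya hyb hy0 hrest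
      obtain ⟨q, hq, hqy⟩ : ∃ q ∈ Q, q y ≠ y := by
        by_contra h
        push Not at h
        rcases (hfix y).1 h with e | e
        · exact hya e
        · exact hyb e
      set r := q * (g * q * g⁻¹) with hr
      have hrQ : r ∈ Q := mul_mem hq (hnorm g hgK q hq)
      have hginv : ∀ w, g⁻¹ w = g w := fun w => by rw [Perm.inv_eq_iff_eq, hgg]
      have hq3 := hexp q hq
      have hqqq : ∀ w, q (q (q w)) = w := fun w => by
        rw [← Perm.mul_apply, ← Perm.mul_apply, ← pow_two, ← pow_succ, hq3]; rfl
      have hfix0 : ∀ w ∈ O y, g w = w := by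
        intro w hw
        by_contra h
        rw [Finset.card_eq_zero] at hy0
        have : w ∈ g.support ∩ O y := Finset.mem_inter.2 ⟨Perm.mem_support.2 h, hw⟩
        rw [hy0] at this
        exact Finset.notMem_empty w this
      have hry : r y ≠ y := by
        intro h
        apply hqy
        have hqy' : g (q y) = q y := hfix0 _ ((hmem y _).2 ⟨q, hq, rfl⟩)
        rw [hr, Perm.mul_apply, Perm.mul_apply, Perm.mul_apply, hginv, hfix0 y (hself y), hqy'] at h
        calc q y = q (q (q y)) := by rw [h]
          _ = y := hqqq y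
      have hsub : r.support ⊆ O y := by
        intro w hw
        by_contra hwy
        rw [Perm.mem_support] at hw
        have hwa : w ≠ a := fun e => hw (by rw [e]; exact (hfix a).2 (Or.inl rfl) r hrQ)
        have hwb : w ≠ b := fun e => hw (by rw [e]; exact (hfix b).2 (Or.inr rfl) r hrQ)
        obtain ⟨hinv, h2c⟩ := hrest w hwy hwa hwb
        obtain ⟨v, hv⟩ := Finset.card_pos.1 (show 0 < (g.support ∩ O w).card by omega)
        rw [Finset.mem_inter, Perm.mem_support] at hv
        have hqinv : ∀ u ∈ O w, q u ∈ O w := fun u hu => by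
          rw [← hsame w u hu, hmem]; exact ⟨q, hq, rfl⟩
        have h3 := (three_facts (O w) (hO3 w hwa hwb) hqinv hinv).2.2 hq3 hg2 ⟨v, hv.2, hv.1⟩ w
          (hself w)
        apply hw
        rw [hr, Perm.mul_apply, Perm.mul_apply, Perm.mul_apply, hginv, h3, hqqq]
      have h3le := Finset.card_le_card hsub
      rw [hO3 y hya hyb] at h3le
      have hr1 : r ≠ 1 := fun e => hry (by rw [e]; rfl)
      have := three_support G hα hA (hQG hrQ) (orderOf_eq_prime (hexp r hrQ) hr1)
      omega
    have hwhich : ∀ x, x ≠ a → x ≠ b → O x = O1 ∨ O x = O2 ∨ O x = O3 := by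
      intro x hxa hxb
      rcases hcover x with e | e | h
      · exact absurd e hxa
      · exact absurd e hxb
      simp only [Finset.mem_union] at h
      rcases h with (h | h) | h
      · exact Or.inl (hsame x1 x h)
      · exact Or.inr (Or.inl (hsame x2 x h))
      · exact Or.inr (Or.inr (hsame x3 x h))
    rcases hp1 with e1 | e1
    · refine finish x1 hx1a hx1b e1 fun x hx hxa hxb => ?_
      rcases hwhich x hxa hxb with h | h | h <;> rw [h]
      · exact absurd (show x ∈ O x1 by rw [← hO1, ← h]; exact hself x) hx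
      · exact ⟨hg2', by omega⟩
      · exact ⟨hg3, by omega⟩
    · rcases hp2 with e2 | e2
      · refine finish x2 hx2.1 hx2.2.1 e2 fun x hx hxa hxb => ?_
        rcases hwhich x hxa hxb with h | h | h <;> rw [h]
        · exact ⟨hg1, e1⟩
        · exact absurd (show x ∈ O x2 by rw [← hO2, ← h]; exact hself x) hx
        · exact ⟨hg3, by omega⟩
      · refine finish x3 hx3.1 hx3.2.1 (by rw [← hO3d]; omega) fun x hx hxa hxb => ?_
        rcases hwhich x hxa hxb with h | h | h <;> rw [h]
        · exact ⟨hg1, e1⟩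
        · exact ⟨hg2', e2⟩
        · exact absurd (show x ∈ O x3 by rw [← hO3d, ← h]; exact hself x) hx
  -- four Sylow subgroups of `K`
  let QK : Sylow 3 K := Sylow.ofCard (Q.subgroupOf K) (by
    rw [Nat.card_congr (Subgroup.subgroupOfEquivOfLe hQK).toEquiv, hQ, hKc, hfac72]
    norm_num)
  have hQKmem : ∀ w : K, w ∈ (QK : Subgroup K) ↔ (w : Perm α) ∈ Q := fun w => Iff.rfl
  have hn4 : Nat.card (Sylow 3 K) = 4 := by
    have hmod : Nat.card (Sylow 3 K) % 3 = 1 := card_sylow_modEq_one 3 K
    have hd : Nat.card (Sylow 3 K) ∣ (QK : Subgroup K).index := QK.card_dvd_index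
    have hidx : (QK : Subgroup K).index = 8 := by
      have h := (QK : Subgroup K).index_mul_card
      rw [hKc, show Nat.card (QK : Subgroup K) = 9 from
        (Nat.card_congr (Subgroup.subgroupOfEquivOfLe hQK).toEquiv).trans hQ] at h
      omega
    rw [hidx] at hd
    have hle := Nat.le_of_dvd (by norm_num) hd
    have hne1 : Nat.card (Sylow 3 K) ≠ 1 := by
      intro h1
      haveI : Subsingleton (Sylow 3 K) := (Nat.card_eq_one_iff_unique.1 h1).1
      have hn := QK.normal_of_subsingleton
      apply hnot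
      intro g hg q hq
      exact (hQKmem _).1 (hn.conj_mem ⟨q, hQK hq⟩ hq ⟨g, hg⟩)
    interval_cases (Nat.card (Sylow 3 K)) <;> omega
  obtain ⟨u, huQ, hu1, huall⟩ : ∃ u : K, u ∈ (QK : Subgroup K) ∧ u ≠ 1 ∧
      ∀ R : Sylow 3 K, u • R = R := by
    by_contra h
    push Not at h
    haveI := Fintype.ofFinite (Sylow 3 K)
    have hinj : Function.Injective
        ((MulAction.toPermHom K (Sylow 3 K)).comp (QK : Subgroup K).subtype) := by
      rw [injective_iff_map_eq_one]
      intro u hu
      by_contra hu1
      obtain ⟨R, hR⟩ := h u.1 u.2 (fun e => hu1 (Subtype.ext e))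
      exact hR (congrArg (fun σ : Perm (Sylow 3 K) => σ R) hu)
    have h9 := Subgroup.card_dvd_of_injective _ hinj
    rw [Nat.card_perm, hn4, show Nat.card (QK : Subgroup K) = 9 from
      (Nat.card_congr (Subgroup.subgroupOfEquivOfLe hQK).toEquiv).trans hQ] at h9
    norm_num [Nat.factorial] at h9
  obtain ⟨R', hR'⟩ : ∃ R' : Sylow 3 K, R' ≠ QK := by
    by_contra h
    push Not at h
    haveI : Subsingleton (Sylow 3 K) := ⟨fun x y => (h x).trans (h y).symm⟩
    have : Nat.card (Sylow 3 K) ≤ 1 := Finite.card_le_one_iff_subsingleton.2 this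
    omega
  -- `u` lies in every Sylow subgroup
  have huR : u ∈ (R' : Subgroup K) := by
    have hz3 : IsPGroup 3 (Subgroup.zpowers u) := IsPGroup.of_card (n := 1) (by
      rw [Nat.card_zpowers, pow_one]
      exact orderOf_eq_prime (Subtype.ext (hexp _ huQ)) hu1)
    have hle : Subgroup.zpowers u ≤ Subgroup.normalizer ((R' : Subgroup K) : Set K) := by
      rw [Subgroup.zpowers_le]
      exact Sylow.smul_eq_iff_mem_normalizer.1 (huall R')
    have h := hz3.inf_normalizer_sylow R'
    have hm : u ∈ Subgroup.zpowers u ⊓ Subgroup.normalizer ((R' : Subgroup K) : Set K) :=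
      ⟨Subgroup.mem_zpowers u, hle (Subgroup.mem_zpowers u)⟩
    exact (h.le hm).2
  set Q' : Subgroup (Perm α) := (R' : Subgroup K).map K.subtype with hQ'd
  have hQ'K : Q' ≤ K := by
    rintro _ ⟨w, -, rfl⟩; exact w.2
  have hQ' : Nat.card Q' = 9 := by
    rw [hQ'd, Subgroup.card_map_of_injective K.subtype_injective, R'.card_eq_multiplicity, hKc,
      hfac72]
    norm_num
  obtain ⟨g, hg⟩ := exists_smul_eq K QK R'
  have hz'Q' : (g : Perm α) * z * (g : Perm α)⁻¹ ∈ Q' := by
    refine ⟨g * ⟨z, hQK hzQ⟩ * g⁻¹, ?_, rfl⟩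
    rw [← hg, Sylow.coe_subgroup_smul]
    exact Subgroup.smul_mem_pointwise_smul (⟨z, hQK hzQ⟩ : K) (MulAut.conj g) _
      ((hQKmem _).2 hzQ)
  obtain ⟨hexp', a', b', O', ha'b', hfix', hself', hmem', hsame', hO3'⟩ :=
    nine_structure G hα hA Q' (hQ'K.trans (inf_le_left.trans inf_le_left)) hQ' hz'Q'
      (by rw [conj_support, hz6])
  have huQ' : (u : Perm α) ∈ Q' := ⟨u, huR, rfl⟩
  have hab' : ∀ x, (x = a' ∨ x = b') ↔ (x = a ∨ x = b) := by
    have ha := (hfix' a).1 fun q hq => (hQ'K hq).1.2
    have hb := (hfix' b).1 fun q hq => (hQ'K hq).2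
    intro x
    constructor
    · rintro (rfl | rfl)
      · rcases ha with h | h
        · exact Or.inl h.symm
        · rcases hb with h' | h'
          · exact Or.inr h'.symm
          · exact absurd (h.trans h'.symm) hab
      · rcases ha with h | h
        · rcases hb with h' | h'
          · exact absurd (h.trans h'.symm) hab
          · exact Or.inr h'.symm
        · exact Or.inl h.symm
    · rintro (rfl | rfl)
      · exact ha
      · exact hb
  have hu3 : (u : Perm α) ^ 3 = 1 := hexp _ huQ
  have hcommQ : ∀ (S : Subgroup (Perm α)), Nat.card S = 9 → ∀ p ∈ S, ∀ q ∈ S, p * q = q * p := by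
    intro S hS p hp q hq
    exact congrArg Subtype.val (IsPGroup.commutative_of_card_eq_prime_sq (p := 3)
      (by rw [hS]; norm_num) (⟨p, hp⟩ : S) ⟨q, hq⟩)
  have hOeq : ∀ x, x ≠ a → x ≠ b → O x = O' x := by
    intro x hxa hxb
    have hxa' : ¬ (x = a' ∨ x = b') := fun h => ((hab' x).1 h).elim hxa hxb
    rw [not_or] at hxa'
    have hc3 := hO3 x hxa hxb
    have hc3' := hO3' x hxa'.1 hxa'.2
    by_cases hux : (u : Perm α) x = x
    · -- the three further fixed points of `u`
      set T : Finset α := ((u : Perm α).supportᶜ.erase a).erase b with hT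
      have hsix : (u : Perm α).support.card = 6 := by
        refine (three_support G hα hA (hQG huQ) (orderOf_eq_prime hu3
          (fun e => hu1 (Subtype.ext e)))).resolve_right fun (h9 : (u : Perm α).support.card = 9) => ?_
        have hsub : (u : Perm α).support ⊆ ({a, b, x} : Finset α)ᶜ := fun w hw => by
          rw [Finset.mem_compl]
          simp only [Finset.mem_insert, Finset.mem_singleton]
          rw [Perm.mem_support] at hw
          rintro (rfl | rfl | rfl)
          · exact hw u.2.1.2
          · exact hw u.2.2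
          · exact hw hux
        have := Finset.card_le_card hsub
        rw [Finset.card_compl, Finset.card_insert_of_notMem (by simp [hab, Ne.symm hxa]),
          Finset.card_pair (Ne.symm hxb), hα] at this
        omega
      have hTc : T.card = 3 := by
        rw [hT, Finset.card_erase_of_mem, Finset.card_erase_of_mem, Finset.card_compl, hsix, hα]
        · rw [Finset.mem_compl, Perm.notMem_support]; exact u.2.1.2
        · rw [Finset.mem_erase]
          exact ⟨hab.symm, by rw [Finset.mem_compl, Perm.notMem_support]; exact u.2.2⟩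
      have hsubT : ∀ (S : Subgroup (Perm α)), S ≤ K → Nat.card S = 9 → (u : Perm α) ∈ S →
          ∀ q ∈ S, q x ∈ T := by
        intro S hSK hS huS q hq
        rw [hT, Finset.mem_erase, Finset.mem_erase, Finset.mem_compl, Perm.notMem_support]
        refine ⟨fun h => hxb (q.injective (h.trans (hSK hq).2.symm)),
          fun h => hxa (q.injective (h.trans (hSK hq).1.2.symm)), ?_⟩
        rw [← Perm.mul_apply, hcommQ S hS _ huS q hq, Perm.mul_apply, hux]
      have h1 : O x = T := Finset.eq_of_subset_of_card_le (fun w hw => by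
        obtain ⟨q, hq, rfl⟩ := (hmem x w).1 hw
        exact hsubT Q hQK hQ huQ q hq) (by rw [hTc, hc3])
      have h2 : O' x = T := Finset.eq_of_subset_of_card_le (fun w hw => by
        obtain ⟨q, hq, rfl⟩ := (hmem' x w).1 hw
        exact hsubT Q' hQ'K hQ' huQ' q hq) (by rw [hTc, hc3'])
      rw [h1, h2]
    · set v : Perm α := (u : Perm α)
      have hvvv : ∀ w, v (v (v w)) = w := fun w => by
        rw [← Perm.mul_apply, ← Perm.mul_apply, ← pow_two, ← pow_succ, hu3]; rfl
      have hcard : ({x, v x, v (v x)} : Finset α).card = 3 := by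
        rw [Finset.card_insert_of_notMem, Finset.card_pair]
        · exact fun h => hux (v.injective h.symm)
        · simp only [Finset.mem_insert, Finset.mem_singleton, not_or]
          refine ⟨fun h => hux h.symm, fun h => hux ?_⟩
          calc v x = v (v (v x)) := by rw [← h]
            _ = x := hvvv x
      have h1 : O x = {x, v x, v (v x)} := (Finset.eq_of_subset_of_card_le (fun w hw => by
        simp only [Finset.mem_insert, Finset.mem_singleton] at hw
        rw [hmem]
        rcases hw with rfl | rfl | rfl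
        · exact ⟨1, one_mem _, rfl⟩
        · exact ⟨v, huQ, rfl⟩
        · exact ⟨v * v, mul_mem huQ huQ, rfl⟩) (by rw [hcard, hc3])).symm
      have h2 : O' x = {x, v x, v (v x)} := (Finset.eq_of_subset_of_card_le (fun w hw => by
        simp only [Finset.mem_insert, Finset.mem_singleton] at hw
        rw [hmem']
        rcases hw with rfl | rfl | rfl
        · exact ⟨1, one_mem _, rfl⟩
        · exact ⟨v, huQ', rfl⟩
        · exact ⟨v * v, mul_mem huQ' huQ', rfl⟩) (by rw [hcard, hc3'])).symm
      rw [h1, h2]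
  -- hence the two Sylow subgroups commute
  have hle : (R' : Subgroup K) ≤ Subgroup.normalizer ((QK : Subgroup K) : Set K) := by
    intro w hw
    have hwQ' : (w : Perm α) ∈ Q' := ⟨w, hw, rfl⟩
    refine Subgroup.centralizer_le_normalizer _ (Subgroup.mem_centralizer_iff.2 fun q hq => ?_)
    have hqQ : (q : Perm α) ∈ Q := (hQKmem q).1 hq
    refine Subtype.ext (Perm.ext fun x => ?_)
    show (q : Perm α) ((w : Perm α) x) = (w : Perm α) ((q : Perm α) x)
    by_cases hx : x = a ∨ x = b
    · rcases hx with rfl | rfl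
      · rw [show (w : Perm α) x = x from w.2.1.2, show (q : Perm α) x = x from q.2.1.2,
          show (w : Perm α) x = x from w.2.1.2]
      · rw [show (w : Perm α) x = x from w.2.2, show (q : Perm α) x = x from q.2.2,
          show (w : Perm α) x = x from w.2.2]
    · rw [not_or] at hx
      refine (three_facts (O x) (hO3 x hx.1 hx.2) (fun y hy => ?_) (fun y hy => ?_)).2.1
        (hexp _ hqQ) (hexp' _ hwQ') x (hself x)
      · rw [← hsame x y hy, hmem]; exact ⟨_, hqQ, rfl⟩
      · rw [hOeq x hx.1 hx.2] at hy ⊢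
        rw [← hsame' x y hy, hmem']; exact ⟨_, hwQ', rfl⟩
  apply hR'
  have h := R'.2.inf_normalizer_sylow QK
  have hle' : (R' : Subgroup K) ≤ QK := fun w hw => (h.le ⟨hw, hle hw⟩).2
  exact (Sylow.ext (R'.3 QK.2 hle')).symm

end Cfsg.Agent.PermGroups.DegreeEleven
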