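import Cfsg.Agent.PermGroups.PrimeDegreeSmall

/-!
A non-solvable transitive group of degree seven not containing the alternating group is simple of
order 168.
-/

set_option autoImplicit false
set_option linter.unusedSectionVars false

namespace Cfsg.Agent.PermGroups.DegreeSeven

open MulAction Equiv SmallDegree

variable {α : Type*} [Fintype α] [DecidableEq α]

theorem natCard_alternating {n : ℕ} (hα : Fintype.card α = n) (hn : 2 ≤ n) :
    2 * Nat.card (alternatingGroup α) = n.factorial := by
  haveI : Nontrivial α := Fintype.one_lt_card_iff_nontrivial.1 (by omega)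
  rw [Nat.card_eq_fintype_card, two_mul_card_alternatingGroup, Fintype.card_perm, hα]

/-- Orders in degree seven. -/
theorem natCard_even_part (hα : Fintype.card α = 7) (G : Subgroup (Perm α)) [IsPretransitive G α]
    (hev : G ≤ alternatingGroup α) (hG : ¬ Group.IsSolvable G) (hA : ¬ alternatingGroup α ≤ G) :
    Nat.card G = 168 ∧ IsSimpleGroup G := by
  classical
  haveI : Fact (Nat.Prime 7) := ⟨by norm_num⟩
  obtain ⟨P⟩ : Nonempty (Sylow 7 G) := inferInstance
  obtain ⟨m, hm, hN⟩ := exists_natCard_normalizer hα G P
  have hodd := odd_normalizer (by norm_num) hα G hev P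
  rw [hN, Nat.odd_mul] at hodd
  have hm6 : m ≤ 6 := Nat.le_of_dvd (by norm_num) hm
  have hm1 : m ≠ 1 := by
    rintro rfl
    rw [mul_one] at hN
    have h7 := natCard_eq_prime_of_normalizer hα G P hN
    haveI : IsCyclic G := isCyclic_of_prime_card h7
    letI : CommGroup G := IsCyclic.commGroup
    exact hG inferInstance
  have hm3 : m = 3 := by
    have := hodd.2
    interval_cases m <;> first | rfl | omega | (exact absurd this (by decide)) | norm_num at hm
  subst hm3
  have hsimp := isSimpleGroup_of_normalizer hα G hG Nat.prime_three P hN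
  refine ⟨?_, hsimp⟩
  have hmul := natCard_sylow_mul P
  rw [hN] at hmul
  have hmod : Nat.card (Sylow 7 G) % 7 = 1 := card_sylow_modEq_one 7 G
  have hAc : Nat.card (alternatingGroup α) = 2520 := by
    have := natCard_alternating hα (by norm_num)
    simp only [Nat.factorial] at this
    omega
  have hdvd : Nat.card G ∣ 2520 := hAc ▸ Subgroup.card_dvd_of_le hev
  have hlt : Nat.card G ≠ 2520 := fun h =>
    hA (Subgroup.eq_of_le_of_card_ge hev (by rw [hAc, h])).ge
  set n := Nat.card (Sylow 7 G) with hn
  have hn0 : 0 < n := Nat.card_pos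
  have hn120 : n ∣ 120 := by
    rw [← hmul] at hdvd
    exact Nat.dvd_of_mul_dvd_mul_right (by norm_num : 0 < 7 * 3) hdvd
  have hn_le : n ≤ 120 := Nat.le_of_dvd (by norm_num) hn120
  have hn' : n = 1 ∨ n = 8 ∨ n = 15 ∨ n = 120 := by
    interval_cases n <;> first | omega | (norm_num at hn120)
  rcases hn' with h | h | h | h <;> rw [h] at hmul
  · exfalso
    apply hG (isSolvable_of_normalizer_eq_top hα G P ?_)
    exact Subgroup.eq_top_of_card_eq _ (by rw [hN, ← hmul, one_mul])
  · omega
  · exfalso
    haveI : Fact (Nat.Prime 5) := ⟨by norm_num⟩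
    obtain ⟨y, hy⟩ := exists_prime_orderOf_dvd_card' (G := G) 5 (by rw [← hmul]; norm_num)
    have hGc : Nat.card G = 315 := by omega
    let Q : Sylow 5 G := Sylow.ofCard (Subgroup.zpowers y) (by
      rw [Nat.card_zpowers, hy, hGc, show (315 : ℕ) = 63 * 5 by norm_num,
        Nat.factorization_mul (by norm_num) (by norm_num), Finsupp.add_apply,
        (show Nat.Prime 5 by norm_num).factorization_self,
        Nat.factorization_eq_zero_of_not_dvd (by norm_num : ¬ 5 ∣ 63)]
      norm_num)
    have hQ : Nat.card Q = 5 := by
      show Nat.card (Subgroup.zpowers y) = 5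
      rw [Nat.card_zpowers, hy]
    have hy' : orderOf (y : Perm α) = 5 := by rw [Subgroup.orderOf_coe, hy]
    have hsupp : (y : Perm α).support.card = 5 := by
      have h1 := prime_dvd_support_card (by norm_num) (pow_eq_one_of_orderOf hy')
      have h2 := support_card_pos (by norm_num : Nat.Prime 5) hy'
      have h3 := Finset.card_le_univ (y : Perm α).support
      omega
    obtain ⟨a, b, hab, hfix⟩ := Finset.card_eq_two.1 (show (y : Perm α).supportᶜ.card = 2 by
      rw [Finset.card_compl, hsupp, hα])
    obtain ⟨-, k, hk, hNk⟩ := centralizer_normalizer_prime (q := 5) (by rw [hGc]; norm_num) Q hQ (by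
      intro g hg r hr hgr
      by_contra hr5
      have hcomm : Commute (g : Perm α) (y : Perm α) := by
        have := Subgroup.mem_centralizer_iff.1 hg y (Subgroup.mem_zpowers y)
        exact (congrArg (fun z : G => (z : Perm α)) this).symm
      have hgo : orderOf (g : Perm α) = r := by rw [Subgroup.orderOf_coe, hgr]
      have hrd : r ∣ 315 := hGc ▸ hgr ▸ orderOf_dvd_natCard g
      have hrodd : Odd r := by
        rcases hr.eq_two_or_odd' with rfl | h2
        · norm_num at hrd
        · exact h2
      have hpair : ∀ z, z = a ∨ z = b → (g : Perm α) z = a ∨ (g : Perm α) z = b := by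
        intro z hz
        have hz' : z ∈ (y : Perm α).supportᶜ := by rw [hfix]; simp [hz]
        rw [Finset.mem_compl, Perm.notMem_support] at hz'
        have : (g : Perm α) z ∈ (y : Perm α).supportᶜ := by
          rw [Finset.mem_compl, Perm.notMem_support, ← Perm.mul_apply, ← hcomm.eq, Perm.mul_apply,
            hz']
        rw [hfix] at this
        simpa using this
      obtain ⟨ha, hb⟩ := fix_of_pair hrodd (pow_eq_one_of_orderOf hgo) (hpair a (Or.inl rfl))
        (hpair b (Or.inr rfl))
      have h5 := dvd_card_invariant (by norm_num : Nat.Prime 5) (pow_eq_one_of_orderOf hy')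
        (g : Perm α).support (support_invariant hcomm) (fun z hz hyz => by
          have : z ∈ (y : Perm α).supportᶜ := by
            rw [Finset.mem_compl, Perm.notMem_support]; exact hyz
          rw [hfix, Finset.mem_insert, Finset.mem_singleton] at this
          rw [Perm.mem_support] at hz
          rcases this with rfl | rfl
          · exact hz ha
          · exact hz hb)
      have h6 : (g : Perm α).support.card ≤ 5 := by
        rw [← hsupp]
        refine Finset.card_le_card fun z hz => ?_
        by_contra hz'
        have : z ∈ (y : Perm α).supportᶜ := Finset.mem_compl.2 hz'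
        rw [hfix, Finset.mem_insert, Finset.mem_singleton] at this
        rw [Perm.mem_support] at hz
        rcases this with rfl | rfl
        · exact hz ha
        · exact hz hb
      have h7 := support_card_pos hr hgo
      have h8 := prime_dvd_support_card hr (pow_eq_one_of_orderOf hgo)
      rw [show (g : Perm α).support.card = 5 by omega, Nat.prime_dvd_prime_iff_eq hr (by norm_num)]
        at h8
      exact hr5 h8)
    have hmul5 := natCard_sylow_mul Q
    rw [hNk, hGc] at hmul5
    have hmod5 : Nat.card (Sylow 5 G) % 5 = 1 := card_sylow_modEq_one 5 G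
    have hk4 : k ≤ 4 := Nat.le_of_dvd (by norm_num) hk
    interval_cases k <;> omega
  · exact absurd hmul.symm (by omega)

/-- Degree seven. -/
theorem main (hα : Fintype.card α = 7) (G : Subgroup (Perm α)) [IsPretransitive G α]
    (hG : ¬ Group.IsSolvable G) (hA : ¬ alternatingGroup α ≤ G) :
    Nat.card G = 168 ∧ IsSimpleGroup G := by
  classical
  haveI : Fact (Nat.Prime 7) := ⟨by norm_num⟩
  set G0 : Subgroup (Perm α) := G ⊓ alternatingGroup α with hG0
  haveI hT0 : IsPretransitive G0 α := isPretransitive_inf_alternating (by norm_num) hα G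
  have hns : ¬ Group.IsSolvable G0 := not_isSolvable_inf_alternating G hG
  obtain ⟨hc0, hs0⟩ := natCard_even_part hα G0 inf_le_right hns (fun h => hA (h.trans inf_le_left))
  have h20 : IsMultiplyPretransitive G0 α 2 :=
    (prime_degree_solvable_or_two_transitive hα G0).resolve_left hns
  have h2 : IsMultiplyPretransitive G α 2 :=
    (prime_degree_solvable_or_two_transitive hα G).resolve_left hG
  set K : α → α → Subgroup (Perm α) :=
    fun a b => G0 ⊓ stabilizer (Perm α) a ⊓ stabilizer (Perm α) b with hK
  have hKc : ∀ a b, a ≠ b → Nat.card (K a b) = 4 := by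
    intro a b hab
    have := natCard_two_point G0 h20 hab
    rw [hα, hc0] at this
    simp only [hK]
    omega
  set F : α → α → Finset α :=
    fun a b => Finset.univ.filter fun x => ∀ g ∈ K a b, g x = x with hF
  have hmemF : ∀ {a b x : α}, x ∈ F a b ↔ ∀ g ∈ K a b, g x = x := fun {a b x} => by simp [hF]
  have hFl : ∀ a b, a ∈ F a b ∧ b ∈ F a b := fun a b =>
    ⟨hmemF.2 fun g hg => hg.1.2, hmemF.2 fun g hg => hg.2⟩
  have hFc : ∀ a b, a ≠ b → (F a b).card = 3 := by
    intro a b hab
    haveI : Fact (Nat.Prime 2) := ⟨Nat.prime_two⟩
    have hp := (IsPGroup.of_card (p := 2) (n := 2) (G := K a b)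
      (by rw [hKc a b hab]; norm_num)).card_modEq_card_fixedPoints α
    have hfix : Nat.card (fixedPoints (K a b) α) = (F a b).card := by
      rw [← Nat.card_eq_finsetCard]
      refine Nat.card_congr (Equiv.subtypeEquivRight fun x => ?_)
      rw [hmemF]
      exact ⟨fun h g hg => h ⟨g, hg⟩, fun h g => h g.1 g.2⟩
    rw [hfix, Nat.card_eq_fintype_card, hα] at hp
    have hge : 2 ≤ (F a b).card := by
      have : ({a, b} : Finset α) ⊆ F a b := by
        rintro x hx
        simp only [Finset.mem_insert, Finset.mem_singleton] at hx
        rcases hx with rfl | rfl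
        · exact (hFl x b).1
        · exact (hFl a x).2
      have := Finset.card_le_card this
      rwa [Finset.card_pair hab] at this
    by_contra hne
    have h5 : 5 ≤ (F a b).card := by
      have h1 : 7 % 2 = (F a b).card % 2 := hp
      omega
    have hbot : K a b = ⊥ := by
      rw [Subgroup.eq_bot_iff_forall]
      intro g hg
      have hs : g.support.card ≤ 2 := by
        have : g.support ⊆ (F a b)ᶜ := fun x hx => by
          rw [Finset.mem_compl]
          intro hxF
          exact Perm.mem_support.1 hx (hmemF.1 hxF g hg)
        have := Finset.card_le_card this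
        rw [Finset.card_compl, hα] at this
        omega
      by_contra hg1
      have h1 : g.support.card ≠ 1 := Perm.card_support_ne_one g
      have h0 : g.support.card ≠ 0 := by
        rw [Ne, Finset.card_eq_zero, Perm.support_eq_empty_iff]
        exact hg1
      have hsw : g.IsSwap := Perm.card_support_eq_two.1 (by omega)
      have hsg : Perm.sign g = 1 := Perm.mem_alternatingGroup.1 hg.1.1.2
      rw [hsw.sign_eq] at hsg
      exact absurd hsg (by decide)
    have := hKc a b hab
    rw [hbot, Subgroup.card_bot] at this
    omega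
  have hFeq : ∀ a b x y, a ≠ b → x ∈ F a b → y ∈ F a b → x ≠ y → F x y = F a b := by
    intro a b x y hab hx hy hxy
    have hle : K a b ≤ K x y := fun g hg => ⟨⟨hg.1.1, hmemF.1 hx g hg⟩, hmemF.1 hy g hg⟩
    have := Subgroup.eq_of_le_of_card_ge hle (by rw [hKc a b hab, hKc x y hxy])
    simp only [hF, this]
  have hfixF : ∀ a b, a ≠ b → ∀ g ∈ G, g a = a → g b = b → ∀ x ∈ F a b, g x = x := by
    intro a b hab g hg ha hb x hx
    have hgx : g x ∈ F a b := by
      rw [hmemF]
      intro k hk
      have hk' : g⁻¹ * k * g ∈ K a b := by
        refine ⟨⟨⟨G.mul_mem (G.mul_mem (G.inv_mem hg) hk.1.1.1) hg, ?_⟩, ?_⟩, ?_⟩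
        · exact Perm.mem_alternatingGroup.2 (by
            have hksg : Perm.sign k = 1 := Perm.mem_alternatingGroup.1 hk.1.1.2
            simp [map_mul, hksg])
        · show (g⁻¹ * k * g) a = a
          rw [Perm.mul_apply, Perm.mul_apply, ha, show k a = a from hk.1.2,
            Perm.inv_eq_iff_eq, ha]
        · show (g⁻¹ * k * g) b = b
          rw [Perm.mul_apply, Perm.mul_apply, hb, show k b = b from hk.2,
            Perm.inv_eq_iff_eq, hb]
      have := hmemF.1 hx _ hk'
      rw [Perm.mul_apply, Perm.mul_apply, Perm.inv_eq_iff_eq] at this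
      exact this
    by_contra hgne
    have hxa : x ≠ a := fun h => hgne (by rw [h, ha])
    have hxb : x ≠ b := fun h => hgne (by rw [h, hb])
    have hsub : ({a, b, x, g x} : Finset α) ⊆ F a b := by
      intro z hz
      simp only [Finset.mem_insert, Finset.mem_singleton] at hz
      rcases hz with rfl | rfl | rfl | rfl
      · exact (hFl _ b).1
      · exact (hFl a _).2
      · exact hx
      · exact hgx
    have h4 := Finset.card_le_card hsub
    rw [hFc a b hab] at h4
    have hga : g x ≠ a := fun h => hxa (g.injective (h.trans ha.symm))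
    have hgb : g x ≠ b := fun h => hxb (g.injective (h.trans hb.symm))
    rw [Finset.card_insert_of_notMem (by simp [hab, hxa.symm, hga.symm]),
      Finset.card_insert_of_notMem (by simp [hxb.symm, hgb.symm]),
      Finset.card_pair (Ne.symm hgne)] at h4
    omega
  have hle : Nat.card G ≤ 168 := by
    obtain ⟨a, b, hab⟩ := Fintype.exists_pair_of_one_lt_card (α := α) (by omega)
    have h42 := natCard_two_point G h2 hab
    rw [hα] at h42
    have h4 : Nat.card (G ⊓ stabilizer (Perm α) a ⊓ stabilizer (Perm α) b : Subgroup (Perm α)) ≤ 4 := by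
      obtain ⟨d, hd⟩ : ∃ d, d ∉ F a b := by
        by_contra h
        push Not at h
        have : (F a b).card = Fintype.card α := by rw [Finset.eq_univ_iff_forall.2 h, Finset.card_univ]
        rw [hFc a b hab, hα] at this
        omega
      have htriv : ∀ g ∈ G, g a = a → g b = b → g d = d → g = 1 := by
        intro g hg ha hb hd'
        have hFf := hfixF a b hab g hg ha hb
        have hxd : ∀ x ∈ F a b, x ≠ d := fun x hx h => hd (h ▸ hx)
        have hdisj : ((F a b : Finset α) : Set α).PairwiseDisjoint fun x => (F x d).erase d := by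
          intro x hx x' hx' hne
          simp only [Function.onFun]
          rw [Finset.disjoint_left]
          intro z hz hz'
          rw [Finset.mem_erase] at hz hz'
          have e1 := hFeq x d z d (hxd x hx) hz.2 (hFl x d).2 hz.1
          have e2 := hFeq x' d z d (hxd x' hx') hz'.2 (hFl x' d).2 hz'.1
          have hx'F : x' ∈ F x d := by rw [← e1, e2]; exact (hFl x' d).1
          have e3 := hFeq x d x x' (hxd x hx) (hFl x d).1 hx'F hne
          rw [hFeq a b x x' hab hx hx' hne] at e3
          exact hd (e3 ▸ (hFl x d).2)
        set U := insert d ((F a b).biUnion fun x => (F x d).erase d) with hU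
        have hUc : U.card = 7 := by
          rw [hU, Finset.card_insert_of_notMem (by simp), Finset.card_biUnion hdisj,
            Finset.sum_congr rfl fun x hx => by
              rw [Finset.card_erase_of_mem (hFl x d).2, hFc x d (hxd x hx)]]
          simp [hFc a b hab]
        have hall : U = Finset.univ := Finset.eq_univ_of_card U (by rw [hUc, hα])
        ext z
        have hz : z ∈ U := hall ▸ Finset.mem_univ z
        rw [hU, Finset.mem_insert, Finset.mem_biUnion] at hz
        rcases hz with rfl | ⟨x, hx, hz⟩
        · exact hd'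
        · exact hfixF x d (hxd x hx) g hg (hFf x hx) hd' z (Finset.mem_of_mem_erase hz)
      have hinto : ∀ g : (G ⊓ stabilizer (Perm α) a ⊓ stabilizer (Perm α) b : Subgroup (Perm α)),
          (g : Perm α) d ∈ (F a b)ᶜ := by
        intro g
        rw [Finset.mem_compl]
        intro h
        have := hfixF a b hab g.1 g.2.1.1 g.2.1.2 g.2.2 _ h
        exact hd (g.1.injective this ▸ h)
      have := Nat.card_le_card_of_injective (fun g => (⟨_, hinto g⟩ : ((F a b)ᶜ : Finset α))) (by
        intro g g' h
        have h' := congrArg Subtype.val h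
        simp only at h'
        have h1 := htriv (g'.1⁻¹ * g.1) (mul_mem (inv_mem g'.2.1.1) g.2.1.1)
          (by rw [Perm.mul_apply, show g.1 a = a from g.2.1.2, Perm.inv_eq_iff_eq, show g'.1 a = a from g'.2.1.2])
          (by rw [Perm.mul_apply, show g.1 b = b from g.2.2, Perm.inv_eq_iff_eq, show g'.1 b = b from g'.2.2])
          (by rw [Perm.mul_apply, h', Perm.inv_eq_iff_eq])
        exact (Subtype.ext (inv_mul_eq_one.1 h1)).symm)
      rw [Nat.card_eq_finsetCard, Finset.card_compl, hFc a b hab, hα] at this
      omega
    omega
  have heq : G0 = G := Subgroup.eq_of_le_of_card_ge inf_le_left (by rw [hc0]; exact hle)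
  rw [heq] at hc0 hs0
  exact ⟨hc0, hs0⟩

end Cfsg.Agent.PermGroups.DegreeSeven
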