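import Cfsg.Agent.PermGroups.ZassenhausSimple

/-!
Transitive groups of degree `p + 1` and order `(p + 1) p d` with `d < p`.
-/

set_option autoImplicit false
set_option linter.unusedSectionVars false

namespace Cfsg.Agent.PermGroups

open MulAction

variable {α : Type*} [Fintype α] [DecidableEq α]

/-- The structure of a point stabiliser. -/
theorem degree_succ_setup {p d : ℕ} (hp : p.Prime) (hα : Fintype.card α = p + 1)
    (G : Subgroup (Equiv.Perm α)) [IsPretransitive G α] (hG : Nat.card G = (p + 1) * p * d)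
    (hd : d < p) :
    IsMultiplyPretransitive G α 2 ∧ ThreeFix G α ∧
    (∀ a : α, Nat.card ↥(stabilizer G a) = p * d ∧
      ∃ P : Subgroup G, P ≤ stabilizer G a ∧ (∀ g ∈ stabilizer G a, ∀ u ∈ P, g * u * g⁻¹ ∈ P) ∧
        Nat.card P = p ∧ IsMulCommutative P ∧
        ∀ y z : α, y ≠ a → z ≠ a → ∃! u : P, (u : G) • y = z) ∧
    (∀ a b : α, a ≠ b → Nat.card ↥(stabilizer G a ⊓ stabilizer G b) = d) ∧ d ∣ p - 1 := by
  classical
  have : Fact p.Prime := ⟨hp⟩
  have hd0 : 0 < d := Nat.pos_of_ne_zero fun h => by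
    rw [h, mul_zero] at hG
    exact Nat.card_pos.ne' hG
  have hcard : ∀ a : α, Nat.card ↥(stabilizer G a) = p * d := by
    intro a
    have h := (stabilizer G a).index_mul_card
    rw [index_stabilizer_of_transitive, Nat.card_eq_fintype_card (α := α), hα, hG, mul_assoc] at h
    exact Nat.eq_of_mul_eq_mul_left (Nat.succ_pos p) h
  have hstruct : ∀ a : α, ∃ P : Subgroup G, P ≤ stabilizer G a ∧
      (∀ g ∈ stabilizer G a, ∀ u ∈ P, g * u * g⁻¹ ∈ P) ∧ Nat.card P = p ∧ IsMulCommutative P ∧
        ∀ y z : α, y ≠ a → z ≠ a → ∃! u : P, (u : G) • y = z := by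
    intro a
    set A := stabilizer G a with hA
    have hpA : p ∣ Nat.card A := by rw [hcard a]; exact dvd_mul_right p d
    obtain ⟨u, hu⟩ := exists_prime_orderOf_dvd_card' p hpA
    set Q : Subgroup A := Subgroup.zpowers u with hQ
    have hQp : Nat.card Q = p := by rw [hQ, Nat.card_zpowers, hu]
    let S : Sylow p A := Sylow.ofCard Q (by
      rw [hQp, hcard a, Nat.factorization_mul hp.ne_zero hd0.ne', Finsupp.add_apply,
        hp.factorization_self, Nat.factorization_eq_zero_of_not_dvd (fun h =>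
          absurd (Nat.le_of_dvd hd0 h) (by omega)), pow_one])
    have hQn : Q.Normal := by
      have hone : Nat.card (Sylow p A) = 1 := by
        have h1 : Nat.card (Sylow p A) ∣ Q.index := S.card_dvd_index
        have h2 : Q.index = d := by
          have h := Q.index_mul_card
          rw [hQp, hcard a, mul_comm p d] at h
          exact Nat.eq_of_mul_eq_mul_right hp.pos h
        rw [h2] at h1
        have h3 : Nat.card (Sylow p A) % p = 1 % p := card_sylow_modEq_one p A
        rw [Nat.one_mod_eq_one.2 hp.one_lt.ne', Nat.mod_eq_of_lt (lt_of_le_of_lt (Nat.le_of_dvd hd0 h1) hd)] at h3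
        exact h3
      haveI : Subsingleton (Sylow p A) := (Nat.card_eq_one_iff_unique.1 hone).1
      exact S.normal_of_subsingleton
    set P := Q.map A.subtype with hP
    have hPA : P ≤ A := Subgroup.map_subtype_le Q
    have hPp : Nat.card P = p := by
      rw [hP, Subgroup.card_map_of_injective A.subtype_injective, hQp]
    haveI hcyc : IsCyclic P := isCyclic_of_prime_card hPp
    -- `u` moves a point
    have hu1 : (u : G) ≠ 1 := fun e => hp.one_lt.ne' (by
      rw [← hu, orderOf_eq_one_iff]; exact Subtype.ext e)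
    obtain ⟨y₀, hy₀⟩ : ∃ y : α, (u : G) • y ≠ y := by
      by_contra h
      push Not at h
      exact hu1 (eq_of_smul_eq_smul (α := α) fun y => by rw [one_smul]; exact h y)
    have hy₀a : y₀ ≠ a := fun e => hy₀ (e ▸ mem_stabilizer_iff.1 u.2)
    have huP : (u : G) ∈ P := ⟨u, Subgroup.mem_zpowers u, rfl⟩
    have horb : Nat.card (orbit P y₀) = p := by
      have h1 : Nat.card (orbit P y₀) ∣ p := hPp ▸ (by
        rw [Nat.card_coe_set_eq, ← index_stabilizer]
        exact Subgroup.index_dvd_card _)
      rcases (Nat.dvd_prime hp).1 h1 with h | h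
      · exfalso
        obtain ⟨hs⟩ := (Nat.card_eq_one_iff_unique.1 h).1
        exact hy₀ (congrArg Subtype.val (hs ⟨(u : G) • y₀, ⟨⟨u, huP⟩, rfl⟩⟩ ⟨y₀, mem_orbit_self y₀⟩))
      · exact h
    have horbeq : orbit P y₀ = {y : α | y ≠ a} := by
      refine Set.eq_of_subset_of_ncard_le ?_ ?_ (Set.toFinite _)
      · rintro _ ⟨v, rfl⟩ e
        exact hy₀a (smul_left_cancel (v : G) (e.trans (mem_stabilizer_iff.1 (hPA v.2)).symm))
      · rw [← Nat.card_coe_set_eq, ← Nat.card_coe_set_eq, horb, Nat.card_eq_fintype_card]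
        refine le_of_eq ?_
        show Fintype.card {y : α // y ≠ a} = p
        rw [Fintype.card_subtype_compl, Fintype.card_subtype_eq, hα]
        rfl
    refine ⟨P, hPA, fun g hg v hv => ?_, hPp, ⟨⟨fun v w => IsCyclic.commutative.is_comm.comm v w⟩⟩,
      fun y z hy hz => ?_⟩
    · obtain ⟨v', hv', rfl⟩ := hv
      exact ⟨_, hQn.conj_mem v' hv' ⟨g, hg⟩, rfl⟩
    · have hinj : Function.Injective (fun v : P => (⟨(v : G) • y, fun e => hy (smul_left_cancel (v : G)
          (e.trans (mem_stabilizer_iff.1 (hPA v.2)).symm))⟩ : {w : α // w ≠ a})) ∧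
          Function.Surjective (fun v : P => (⟨(v : G) • y, fun e => hy (smul_left_cancel (v : G)
          (e.trans (mem_stabilizer_iff.1 (hPA v.2)).symm))⟩ : {w : α // w ≠ a})) := by
        refine (Nat.bijective_iff_surjective_and_card _).2 ⟨fun w => ?_, ?_⟩
        · obtain ⟨v, hv⟩ : w.1 ∈ orbit P y₀ := horbeq.ge w.2
          obtain ⟨v', hv'⟩ : y ∈ orbit P y₀ := horbeq.ge hy
          refine ⟨v * v'⁻¹, Subtype.ext ?_⟩
          show (v * v'⁻¹ : P) • y = w.1
          rw [mul_smul, ← hv', inv_smul_smul]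
          exact hv
        · rw [hPp, Nat.card_eq_fintype_card, Fintype.card_subtype_compl, Fintype.card_subtype_eq, hα]
          rfl
      obtain ⟨v, hv⟩ := hinj.2 ⟨z, hz⟩
      exact ⟨v, congrArg Subtype.val hv, fun v' hv' => hinj.1 ((Subtype.ext hv').trans hv.symm)⟩
  have h2 : IsMultiplyPretransitive G α 2 := by
    rw [is_two_pretransitive_iff]
    intro a b c e hab hce
    obtain ⟨g, hg⟩ := exists_smul_eq G a c
    obtain ⟨P, hPle, -, -, -, hreg⟩ := hstruct c
    have hgb : g • b ≠ c := fun h => hab (smul_left_cancel g (hg.trans h.symm))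
    obtain ⟨v, hv, -⟩ := hreg (g • b) e hgb hce.symm
    refine ⟨(v : G) * g, ?_, ?_⟩
    · rw [mul_smul, hg]; exact mem_stabilizer_iff.1 (hPle v.2)
    · rw [mul_smul]; exact hv
  have hthree : ThreeFix G α := by
    intro g x y z hxy hyz hxz hgx hgy hgz
    obtain ⟨P, hPle, hPn, hPp, hPc, hreg⟩ := hstruct x
    obtain ⟨w, hw, hwuniq⟩ := hreg y z hxy.symm hxz.symm
    have hconj : g * w * g⁻¹ ∈ P := hPn g (mem_stabilizer_iff.2 hgx) w w.2
    have hgw : g * w * g⁻¹ = w := congrArg Subtype.val (hwuniq ⟨_, hconj⟩ (by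
      show (g * (w : G) * g⁻¹) • y = z
      rw [mul_smul, mul_smul, inv_smul_eq_iff.2 hgy.symm, hw, hgz]))
    have hw1 : w ≠ 1 := fun e => hyz (by rw [← hw, e]; exact (one_smul G y).symm)
    have hgen : ∀ v : P, v ∈ Subgroup.zpowers w := fun v =>
      mem_zpowers_of_prime_card hPp hw1
    have hfixall : ∀ v : P, g * v = v * g := by
      intro v
      obtain ⟨k, hk⟩ := Subgroup.mem_zpowers_iff.1 (hgen v)
      have hc : Commute g (w : G) := mul_inv_eq_iff_eq_mul.1 hgw
      rw [← hk, SubgroupClass.coe_zpow]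
      exact hc.zpow_right k
    refine eq_of_smul_eq_smul (α := α) fun t => ?_
    rw [one_smul]
    by_cases ht : t = x
    · rw [ht]; exact hgx
    obtain ⟨v, hv, -⟩ := hreg y t hxy.symm ht
    rw [← hv, ← mul_smul, hfixall, mul_smul, hgy]
  have hH : ∀ a b : α, a ≠ b → Nat.card ↥(stabilizer G a ⊓ stabilizer G b) = d := by
    intro a b hab
    have h : ((stabilizer G a ⊓ stabilizer G b).subgroupOf (stabilizer G a)).index * Nat.card ↥(stabilizer G a ⊓ stabilizer G b) = p * d := by
      rw [← hcard a, ← Nat.card_congr (Subgroup.subgroupOfEquivOfLe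
        (inf_le_left : stabilizer G a ⊓ stabilizer G b ≤ stabilizer G a)).toEquiv]
      exact Subgroup.index_mul_card _
    have hidx : ((stabilizer G a ⊓ stabilizer G b).subgroupOf (stabilizer G a)).index = p := by
      rw [show (stabilizer G a ⊓ stabilizer G b).subgroupOf (stabilizer G a) =
        stabilizer (stabilizer G a) b from ?_, index_stabilizer,
        show orbit (stabilizer G a) b = {y : α | y ≠ a} from ?_]
      · rw [← Nat.card_coe_set_eq, Nat.card_eq_fintype_card]
        show Fintype.card {y : α // y ≠ a} = p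
        rw [Fintype.card_subtype_compl, Fintype.card_subtype_eq, hα]
        rfl
      · ext y
        constructor
        · rintro ⟨v, rfl⟩ e
          exact hab.symm (smul_left_cancel (v : G) (e.trans (mem_stabilizer_iff.1 v.2).symm))
        · intro hy
          obtain ⟨P, hPle, -, -, -, hreg⟩ := hstruct a
          obtain ⟨v, hv, -⟩ := hreg b y hab.symm hy
          exact ⟨⟨v, hPle v.2⟩, hv⟩
      · ext v
        simp [Subgroup.mem_subgroupOf, MulAction.mem_stabilizer_iff, Subgroup.smul_def]
    rw [hidx] at h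
    exact Nat.eq_of_mul_eq_mul_left hp.pos h
  refine ⟨h2, hthree, fun a => ⟨hcard a, hstruct a⟩, hH, ?_⟩
  obtain ⟨a, b, hab⟩ := Fintype.exists_pair_of_one_lt_card (show 1 < Fintype.card α by
    have := hp.two_le; omega)
  have := card_twoStabilizer_dvd hthree hab
  rw [hH a b hab, hα] at this
  rwa [show p + 1 - 2 = p - 1 by omega] at this

end Cfsg.Agent.PermGroups
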