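import Cfsg.Prelude.Def_Perm
import Mathlib.FieldTheory.Finite.GaloisField
import Mathlib.FieldTheory.Galois.Basic
import Mathlib.RingTheory.IntegralDomain
import Mathlib.GroupTheory.GroupAction.MultipleTransitivity

/-!
Groups of degree `2 ^ q` with a regular normal subgroup and a point stabiliser having a
commutative normal subgroup regular on the other points are semi-affine.
-/

set_option autoImplicit false
set_option linter.style.haveILetI false

namespace Cfsg.Agent.PermGroups

open MulAction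

/-- Number of ring automorphisms of a finite field with `2 ^ q` elements. -/
theorem natCard_ringEquiv_galoisField {q : ℕ} (hq : q ≠ 0) :
    Nat.card (GaloisField 2 q ≃+* GaloisField 2 q) = q := by
  let e : (GaloisField 2 q ≃ₐ[ZMod 2] GaloisField 2 q) ≃ (GaloisField 2 q ≃+* GaloisField 2 q) :=
    { toFun := fun f => f.toRingEquiv
      invFun := fun f => AlgEquiv.ofRingEquiv (f := f) (fun c =>
        DFunLike.congr_fun (Subsingleton.elim
          ((f : GaloisField 2 q →+* GaloisField 2 q).comp (algebraMap (ZMod 2) (GaloisField 2 q)))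
          (algebraMap (ZMod 2) (GaloisField 2 q))) c)
      left_inv := fun f => AlgEquiv.ext fun _ => rfl
      right_inv := fun f => RingEquiv.ext fun _ => rfl }
  rw [← Nat.card_congr e, IsGalois.card_aut_eq_finrank, GaloisField.finrank 2 hq]

variable {α : Type*} [Fintype α] [DecidableEq α]

set_option maxHeartbeats 1000000 in
/-- The semi-affine coordinates. -/
theorem exists_semiaffine_coordinates (G : Subgroup (Equiv.Perm α)) {q : ℕ} (hq : q ≠ 0)
    (hα : Fintype.card α = 2 ^ q) (N : Subgroup G) [hN : N.Normal]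
    (hNc : ∀ x y : N, x * y = y * x) (hNt : IsPretransitive N α)
    (hNr : ∀ x : α, stabilizer N x = ⊥) (a : α) (P : Subgroup G) (hPa : P ≤ stabilizer G a)
    (hPn : ∀ g ∈ stabilizer G a, ∀ u ∈ P, g * u * g⁻¹ ∈ P) (hPc : IsMulCommutative P)
    (hPreg : ∀ y z : α, y ≠ a → z ≠ a → ∃! u : P, (u : G) • y = z) (b : α) (hba : b ≠ a) :
    (∃ m : ℕ, m ∣ q ∧ Nat.card ↥(stabilizer G a) ∣ Nat.card P * m) ∧
      ∃ e : α ≃ GaloisField 2 q,
        ∀ g : G, (e.symm.trans (((g : Equiv.Perm α)).trans e)) ∈ Cfsg.semiaffineGroup (GaloisField 2 q) := by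
  classical
  letI : CommGroup N := { (inferInstance : Group N) with mul_comm := hNc }
  let V := Additive N
  -- points and translations
  let pt : V → α := fun v => (v.toMul : G) • a
  have hpt : Function.Bijective pt := by
    refine ⟨fun v w e => ?_, fun x => ?_⟩
    · have h : (w.toMul)⁻¹ * v.toMul ∈ stabilizer N a := by
        rw [mem_stabilizer_iff, mul_smul]
        exact inv_smul_eq_iff.2 e
      rw [hNr a, Subgroup.mem_bot, inv_mul_eq_one] at h
      exact Additive.toMul.injective h.symm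
    · obtain ⟨n, hn⟩ := hNt.exists_smul_eq a x
      exact ⟨Additive.ofMul n, hn⟩
  -- the action of the stabiliser
  let cj : stabilizer G a → AddMonoid.End V := fun g =>
    { toFun := fun v => Additive.ofMul ⟨(g : G) * v.toMul.1 * (g : G)⁻¹, hN.conj_mem _ v.toMul.2 _⟩
      map_zero' := congrArg Additive.ofMul (Subtype.ext (by
        show (g : G) * 1 * (g : G)⁻¹ = 1
        group))
      map_add' := fun v w => congrArg Additive.ofMul (Subtype.ext (by
        show (g : G) * (v.toMul.1 * w.toMul.1) * (g : G)⁻¹ =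
          (g : G) * v.toMul.1 * (g : G)⁻¹ * ((g : G) * w.toMul.1 * (g : G)⁻¹)
        group)) }
  have hcj : ∀ g v, ((cj g v).toMul : G) = (g : G) * v.toMul.1 * (g : G)⁻¹ := fun g v => rfl
  have hcjmul : ∀ g h, cj (g * h) = cj g * cj h := fun g h => AddMonoidHom.ext fun v =>
    Additive.toMul.injective (Subtype.ext (by
      show ((g : G) * (h : G)) * v.toMul.1 * ((g : G) * (h : G))⁻¹ =
        (g : G) * ((h : G) * v.toMul.1 * (h : G)⁻¹) * (g : G)⁻¹
      group))
  have hcj1 : cj 1 = 1 := AddMonoidHom.ext fun v => Additive.toMul.injective (Subtype.ext (by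
    show (1 : G) * v.toMul.1 * (1 : G)⁻¹ = v.toMul.1
    group))
  have hptc : ∀ g v, pt (cj g v) = (g : G) • pt v := by
    intro g v
    show ((g : G) * v.toMul.1 * (g : G)⁻¹) • a = (g : G) • v.toMul.1 • a
    rw [mul_smul, mul_smul, inv_smul_eq_iff.2 (mem_stabilizer_iff.1 g.2).symm]
  have hpt0 : pt 0 = a := one_smul G a
  -- the regular abelian subgroup of the stabiliser
  let ρ : P → AddMonoid.End V := fun u => cj ⟨u, hPa u.2⟩
  have hρmul : ∀ u v, ρ (u * v) = ρ u * ρ v := fun u v => hcjmul ⟨u, hPa u.2⟩ ⟨v, hPa v.2⟩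
  have hρcomm : ∀ u v, ρ u * ρ v = ρ v * ρ u := fun u v => by
    rw [← hρmul, ← hρmul, hPc.is_comm.comm]
  have hρtrans : ∀ v w : V, v ≠ 0 → w ≠ 0 → ∃ u, ρ u v = w := by
    intro v w hv hw
    obtain ⟨u, hu, -⟩ := hPreg (pt v) (pt w) (fun e => hv (hpt.1 (e.trans hpt0.symm)))
      (fun e => hw (hpt.1 (e.trans hpt0.symm)))
    exact ⟨u, hpt.1 ((hptc _ v).trans hu)⟩
  let A : Subring (AddMonoid.End V) := Subring.closure (Set.range ρ)
  have hρA : ∀ u, ρ u ∈ A := fun u => Subring.subset_closure ⟨u, rfl⟩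
  have hAρ : ∀ r ∈ A, ∀ u, r * ρ u = ρ u * r := by
    intro r hr u
    induction hr using Subring.closure_induction with
    | mem x hx => obtain ⟨v, rfl⟩ := hx; exact hρcomm v u
    | zero => rw [zero_mul, mul_zero]
    | one => rw [one_mul, mul_one]
    | add x y _ _ hx hy => rw [add_mul, mul_add, hx, hy]
    | neg x _ hx => exact (neg_mul _ _).trans ((congrArg Neg.neg hx).trans (mul_neg _ _).symm)
    | mul x y _ _ hx hy => rw [mul_assoc, hy, ← mul_assoc, hx, mul_assoc]
  have hAcomm : ∀ r ∈ A, ∀ s ∈ A, r * s = s * r := by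
    intro r hr s hs
    induction hs using Subring.closure_induction with
    | mem x hx => obtain ⟨v, rfl⟩ := hx; exact hAρ r hr v
    | zero => rw [zero_mul, mul_zero]
    | one => rw [one_mul, mul_one]
    | add x y _ _ hx hy => rw [add_mul, mul_add, hx, hy]
    | neg x _ hx => exact (mul_neg _ _).trans ((congrArg Neg.neg hx).trans (neg_mul _ _).symm)
    | mul x y _ _ hx hy => rw [← mul_assoc, hx, mul_assoc, hy, mul_assoc]
  obtain ⟨v₀, hv₀⟩ := hpt.2 b
  have hv₀0 : v₀ ≠ 0 := fun e => hba (by rw [← hv₀, e, hpt0])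
  -- evaluation at a base vector
  have hev : Function.Bijective (fun r : A => (r : AddMonoid.End V) v₀) := by
    refine ⟨fun r s e => ?_, fun w => ?_⟩
    · apply Subtype.ext
      refine AddMonoidHom.ext fun w => ?_
      by_cases hw : w = 0
      · rw [hw]; exact (map_zero _).trans (map_zero _).symm
      obtain ⟨u, rfl⟩ := hρtrans v₀ w hv₀0 hw
      show ((r : AddMonoid.End V) * ρ u) v₀ = ((s : AddMonoid.End V) * ρ u) v₀
      rw [hAρ r r.2, hAρ s s.2]
      exact congrArg (ρ u) e
    · by_cases hw : w = 0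
      · exact ⟨0, hw.symm⟩
      obtain ⟨u, hu⟩ := hρtrans v₀ w hv₀0 hw
      exact ⟨⟨ρ u, hρA u⟩, hu⟩
  haveI : Finite V := inferInstanceAs (Finite (Additive N))
  haveI : Finite A := Finite.of_equiv V (Equiv.ofBijective _ hev).symm
  haveI : Fintype A := Fintype.ofFinite A
  haveI : Nontrivial A := by
    refine ⟨⟨1, 0, fun e => hv₀0 ?_⟩⟩
    exact DFunLike.congr_fun (congrArg Subtype.val e) v₀
  haveI : NoZeroDivisors A := ⟨fun {r s} h => by
    by_contra hcon
    push Not at hcon
    obtain ⟨hr, hs⟩ := hcon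
    have hw : (s : AddMonoid.End V) v₀ ≠ 0 := fun e => hs (hev.1 (e.trans (DFunLike.congr_fun
      (show ((0 : A) : AddMonoid.End V) = 0 from rfl) v₀).symm))
    obtain ⟨u, hu⟩ := hρtrans _ _ hw hv₀0
    refine hr (hev.1 ?_)
    show (r : AddMonoid.End V) v₀ = 0
    rw [← hu]
    show ((r : AddMonoid.End V) * ρ u) ((s : AddMonoid.End V) v₀) = 0
    rw [hAρ r r.2]
    show ρ u (((r * s : A) : AddMonoid.End V) v₀) = 0
    rw [h]
    exact map_zero _⟩
  haveI : IsDomain A := NoZeroDivisors.to_isDomain A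
  letI : Fintype (GaloisField 2 q) := Fintype.ofFinite _
  have hcardA : Fintype.card A = Fintype.card (GaloisField 2 q) := by
    rw [← Nat.card_eq_fintype_card, ← Nat.card_eq_fintype_card,
      Nat.card_congr ((Equiv.ofBijective _ hev).trans (Equiv.ofBijective pt hpt)),
      GaloisField.card 2 q hq, Nat.card_eq_fintype_card, hα]
  obtain ⟨ψ⟩ : Nonempty (A ≃+* GaloisField 2 q) := by
    letI : CommRing A :=
      { (inferInstance : Ring A) with
        mul_comm := fun r s => Subtype.ext (hAcomm r r.2 s s.2) }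
    letI : Field A := (Finite.isField_of_domain A).toField
    exact ⟨FiniteField.ringEquivOfCardEq hcardA⟩
  -- automorphisms induced by the stabiliser
  have hconjA : ∀ g : stabilizer G a, ∀ r ∈ A, cj g * r * cj g⁻¹ ∈ A := by
    intro g r hr
    have hgg : cj g⁻¹ * cj g = 1 := by rw [← hcjmul, inv_mul_cancel, hcj1]
    have hgg' : cj g * cj g⁻¹ = 1 := by rw [← hcjmul, mul_inv_cancel, hcj1]
    induction hr using Subring.closure_induction with
    | mem x hx =>
      obtain ⟨u, rfl⟩ := hx
      have : cj g * ρ u * cj g⁻¹ = ρ ⟨(g : G) * u * (g : G)⁻¹, hPn g g.2 u u.2⟩ := by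
        show cj g * cj ⟨u, hPa u.2⟩ * cj g⁻¹ = cj _
        rw [← hcjmul, ← hcjmul]
        rfl
      rw [this]
      exact hρA _
    | zero => rw [mul_zero, zero_mul]; exact zero_mem A
    | one => rw [mul_one, hgg']; exact one_mem A
    | add x y _ _ hx hy => rw [mul_add, add_mul]; exact add_mem hx hy
    | neg x _ hx =>
      have := neg_mem hx
      convert this using 1
      exact (congrArg (· * cj g⁻¹) (mul_neg _ _)).trans (neg_mul _ _)
    | mul x y _ _ hx hy =>
      have : cj g * (x * y) * cj g⁻¹ = cj g * x * cj g⁻¹ * (cj g * y * cj g⁻¹) := by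
        simp only [mul_assoc]
        rw [← mul_assoc (cj g⁻¹) (cj g), hgg, one_mul]
      rw [this]
      exact mul_mem hx hy
  let φ : stabilizer G a → (A ≃+* A) := fun g =>
    { toFun := fun r => ⟨cj g * r * cj g⁻¹, hconjA g r r.2⟩
      invFun := fun r => ⟨cj g⁻¹ * r * cj g, by simpa using hconjA g⁻¹ r r.2⟩
      left_inv := fun r => Subtype.ext (by
        show cj g⁻¹ * (cj g * (r : AddMonoid.End V) * cj g⁻¹) * cj g = (r : AddMonoid.End V)
        have hgg : cj g⁻¹ * cj g = 1 := by rw [← hcjmul, inv_mul_cancel, hcj1]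
        simp only [mul_assoc, hgg, mul_one]
        rw [← mul_assoc, hgg, one_mul])
      right_inv := fun r => Subtype.ext (by
        show cj g * (cj g⁻¹ * (r : AddMonoid.End V) * cj g) * cj g⁻¹ = (r : AddMonoid.End V)
        have hgg : cj g * cj g⁻¹ = 1 := by rw [← hcjmul, mul_inv_cancel, hcj1]
        simp only [mul_assoc, hgg, mul_one]
        rw [← mul_assoc, hgg, one_mul])
      map_mul' := fun r s => Subtype.ext (by
        show cj g * ((r : AddMonoid.End V) * s) * cj g⁻¹ =
          cj g * r * cj g⁻¹ * (cj g * s * cj g⁻¹)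
        have hgg : cj g⁻¹ * cj g = 1 := by rw [← hcjmul, inv_mul_cancel, hcj1]
        simp only [mul_assoc]
        rw [← mul_assoc (cj g⁻¹) (cj g), hgg, one_mul])
      map_add' := fun r s => Subtype.ext (by
        show cj g * ((r : AddMonoid.End V) + s) * cj g⁻¹ = _
        rw [mul_add, add_mul]
        rfl) }
  have hφ : ∀ g (r : A), cj g ((r : AddMonoid.End V) v₀) = (φ g r : AddMonoid.End V) (cj g v₀) := by
    intro g r
    show cj g ((r : AddMonoid.End V) v₀) = cj g ((r : AddMonoid.End V) (cj g⁻¹ (cj g v₀)))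
    have : cj g⁻¹ (cj g v₀) = v₀ := by
      show (cj g⁻¹ * cj g) v₀ = v₀
      rw [← hcjmul, inv_mul_cancel, hcj1]
      rfl
    rw [this]
  refine ⟨⟨q, dvd_rfl, ?_⟩, ?_⟩
  · -- the stabiliser modulo `P` embeds in the automorphism group of the field
    let Φ : stabilizer G a →* RingAut A := MonoidHom.mk' φ (fun g h => RingEquiv.ext fun r =>
      Subtype.ext (by
        show cj (g * h) * (r : AddMonoid.End V) * cj (g * h)⁻¹ =
          cj g * (cj h * r * cj h⁻¹) * cj g⁻¹
        rw [mul_inv_rev, hcjmul, hcjmul]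
        simp only [mul_assoc]))
    let ι : RingAut A ≃* RingAut (GaloisField 2 q) :=
      { toFun := fun f => (ψ.symm.trans f).trans ψ
        invFun := fun f => (ψ.trans f).trans ψ.symm
        left_inv := fun f => RingEquiv.ext fun x => by simp
        right_inv := fun f => RingEquiv.ext fun x => by simp
        map_mul' := fun f f' => RingEquiv.ext fun x => by
          show ψ (f (f' (ψ.symm x))) = ψ (f (ψ.symm (ψ (f' (ψ.symm x)))))
          rw [RingEquiv.symm_apply_apply] }
    haveI : Finite (RingAut A) := Finite.of_injective (fun f => (f : A → A)) DFunLike.coe_injective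
    have hker : Φ.ker ≤ P.subgroupOf (stabilizer G a) := by
      intro g hg
      rw [Subgroup.mem_subgroupOf]
      have hbg : (g : G) • b ≠ a := fun e => hba (smul_left_cancel (g : G)
        (e.trans (mem_stabilizer_iff.1 g.2).symm))
      obtain ⟨u, hu, -⟩ := hPreg b ((g : G) • b) hba hbg
      suffices (g : G) = u by rw [this]; exact u.2
      apply eq_of_smul_eq_smul (α := α)
      intro x
      obtain ⟨v, rfl⟩ := hpt.2 x
      obtain ⟨r, rfl⟩ := hev.2 v
      rw [← hptc g, hφ]
      have hgr : φ g r = r := RingEquiv.congr_fun (MonoidHom.mem_ker.1 hg) r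
      have hgv : cj g v₀ = ρ u v₀ := hpt.1 (by rw [hptc, hptc, hv₀]; exact hu.symm)
      rw [hgr, hgv]
      refine Eq.trans ?_ (hptc ⟨u, hPa u.2⟩ _)
      congr 1
      exact DFunLike.congr_fun (hAρ r r.2 u) v₀
    have hrange : Nat.card Φ.range ∣ q := by
      have h := Subgroup.card_subgroup_dvd_card Φ.range
      rwa [Nat.card_congr ι.toEquiv, show Nat.card (RingAut (GaloisField 2 q)) = q from
        natCard_ringEquiv_galoisField hq] at h
    have hA : Nat.card ↥(stabilizer G a) = Nat.card Φ.ker * Nat.card Φ.range := by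
      rw [← Subgroup.index_ker, Subgroup.card_mul_index]
    rw [hA]
    exact Nat.mul_dvd_mul ((Subgroup.card_dvd_of_le hker).trans
      (dvd_of_eq (Nat.card_congr (Subgroup.subgroupOfEquivOfLe hPa).toEquiv))) hrange
  · let ev : A ≃ V := Equiv.ofBijective _ hev
    let P' : V ≃ α := Equiv.ofBijective pt hpt
    let e : α ≃ GaloisField 2 q := (P'.symm.trans ev.symm).trans ψ.toEquiv
    have hev' : ∀ r : A, ev r = (r : AddMonoid.End V) v₀ := fun r => rfl
    have he : ∀ r : A, e (pt ((r : AddMonoid.End V) v₀)) = ψ r := by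
      intro r
      show ψ (ev.symm (P'.symm (P' (ev r)))) = ψ r
      rw [Equiv.symm_apply_apply, Equiv.symm_apply_apply]
    refine ⟨e, ?_⟩
    have key : ∀ g : G, (∃ (k : (GaloisField 2 q)ˣ) (c : GaloisField 2 q)
        (σ : GaloisField 2 q ≃+* GaloisField 2 q),
        ∀ x : α, e ((g : Equiv.Perm α) x) = (k : GaloisField 2 q) * σ (e x) + c) →
        (e.symm.trans (((g : Equiv.Perm α)).trans e)) ∈ Cfsg.semiaffineGroup (GaloisField 2 q) := by
      rintro g ⟨k, c, σ, h⟩
      refine ⟨k, c, σ, fun x => ?_⟩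
      show e ((g : Equiv.Perm α) (e.symm x)) = _
      rw [h, Equiv.apply_symm_apply]
    have hstab : ∀ g : stabilizer G a, ∃ (k : (GaloisField 2 q)ˣ)
        (σ : GaloisField 2 q ≃+* GaloisField 2 q),
        ∀ x : α, e (((g : G) : Equiv.Perm α) x) = (k : GaloisField 2 q) * σ (e x) := by
      intro g
      obtain ⟨s, hs⟩ := hev.2 (cj g v₀)
      have hs0 : ψ s ≠ 0 := by
        intro h0
        have h1 : s = 0 := ψ.injective (h0.trans (map_zero ψ).symm)
        rw [h1] at hs
        apply hv₀0
        have : cj g⁻¹ (cj g v₀) = v₀ := by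
          show (cj g⁻¹ * cj g) v₀ = v₀
          rw [← hcjmul, inv_mul_cancel, hcj1]
          rfl
        rw [← this, ← hs]
        exact map_zero _
      refine ⟨Units.mk0 _ hs0, (ψ.symm.trans (φ g)).trans ψ, fun x => ?_⟩
      obtain ⟨v, rfl⟩ := hpt.2 x
      obtain ⟨r, rfl⟩ := hev.2 v
      have h1 : ((g : G) : Equiv.Perm α) (pt ((r : AddMonoid.End V) v₀)) =
          pt (((φ g r * s : A) : AddMonoid.End V) v₀) := by
        show (g : G) • pt ((r : AddMonoid.End V) v₀) = _
        rw [← hptc, hφ]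
        exact congrArg (fun w => pt ((φ g r : AddMonoid.End V) w)) hs.symm
      rw [h1, he, he]
      show ψ (φ g r * s) = ψ s * ψ (φ g (ψ.symm (ψ r)))
      rw [RingEquiv.symm_apply_apply, map_mul]
      exact mul_comm _ _
    intro g
    apply key
    obtain ⟨v, hv⟩ := hpt.2 (g • a)
    obtain ⟨r, hr⟩ := hev.2 v
    have hmem : (v.toMul : G)⁻¹ * g ∈ stabilizer G a := by
      rw [mem_stabilizer_iff, mul_smul, inv_smul_eq_iff]
      exact hv.symm
    obtain ⟨k, σ, hk⟩ := hstab ⟨_, hmem⟩
    refine ⟨k, ψ r, σ, fun x => ?_⟩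
    rw [← hk x]
    obtain ⟨w, hw⟩ := hpt.2 ((((v.toMul : G)⁻¹ * g : G) : Equiv.Perm α) x)
    obtain ⟨r', hr'⟩ := hev.2 w
    rw [show (((⟨_, hmem⟩ : stabilizer G a) : G) : Equiv.Perm α) x = pt w from hw.symm, ← hr', he]
    have h2 : (g : Equiv.Perm α) x = pt (((r' + r : A) : AddMonoid.End V) v₀) := by
      have e1 : ((r' + r : A) : AddMonoid.End V) v₀ =
          (r' : AddMonoid.End V) v₀ + (r : AddMonoid.End V) v₀ := rfl
      rw [e1, show (r' : AddMonoid.End V) v₀ = w from hr', show (r : AddMonoid.End V) v₀ = v from hr,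
        add_comm]
      show g • x = ((v.toMul : G) * (w.toMul : G)) • a
      rw [mul_smul]
      show g • x = (v.toMul : G) • pt w
      rw [hw]
      show g • x = (v.toMul : G) • ((v.toMul : G)⁻¹ * g) • x
      rw [smul_smul, mul_inv_cancel_left]
    rw [h2, he, map_add]

end Cfsg.Agent.PermGroups
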