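import Cfsg.Agent.PermGroups.Counting

/-!
The index of the derangement subgroup divides the length of every suborbit.
-/

namespace Cfsg.Agent.PermGroups

open MulAction

theorem natCard_eq_sum_orbits {H X : Type*} [Group H] [MulAction H X] [Finite X] :
    ∃ (R : Finset X), Nat.card X = ∑ x ∈ R, Nat.card (orbit H x) := by
  classical
  have : Fintype X := Fintype.ofFinite X
  have : Fintype (orbitRel.Quotient H X) := Fintype.ofFinite _
  refine ⟨Finset.univ.image (fun q : orbitRel.Quotient H X => q.out), ?_⟩
  rw [Finset.sum_image (fun q _ r _ h => by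
    rw [← Quotient.out_eq q, ← Quotient.out_eq r]; exact congrArg _ h)]
  rw [Nat.card_congr (selfEquivSigmaOrbits H X), Nat.card_sigma]

/-- A number dividing all orbit lengths inside an invariant set divides its cardinality. -/
theorem dvd_natCard_of_invariant {H X : Type*} [Group H] [MulAction H X] [Finite X]
    (S : Set X) (hS : ∀ h : H, ∀ x ∈ S, h • x ∈ S) (k : ℕ)
    (hk : ∀ x ∈ S, k ∣ Nat.card (orbit H x)) : k ∣ Nat.card S := by
  let T : SubMulAction H X := ⟨S, fun h x hx => hS h x hx⟩
  obtain ⟨R, hR⟩ := natCard_eq_sum_orbits (H := H) (X := T)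
  change k ∣ Nat.card T
  rw [hR]
  refine Finset.dvd_sum fun x _ => ?_
  have : orbit H (x : X) = Subtype.val '' orbit H x := (SubMulAction.val_image_orbit x).symm
  have h2 : Nat.card (orbit H x) = Nat.card (orbit H (x : X)) := by
    rw [this, Nat.card_image_of_injective Subtype.val_injective]
  rw [h2]
  exact hk _ x.2

variable {G Ω : Type*} [Group G] [MulAction G Ω] [Finite G] [Finite Ω] [FaithfulSMul G Ω]
  [IsPretransitive G Ω]

theorem derangement_index_eq_relIndex (a : Ω) :
    (derangementSubgroup G Ω).index = (derangementSubgroup G Ω).relIndex (stabilizer G a) := by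
  have := derangementSubgroup_normal (G := G) (Ω := Ω)
  rw [← Subgroup.relIndex_sup_right, ← Subgroup.relIndex_top_right]
  congr 1
  rw [eq_comm, eq_top_iff]
  intro g _
  obtain ⟨d, hd, h, hh, rfl⟩ := exists_mul_derangement (G := G) a g
  exact Subgroup.mul_mem _ (Subgroup.mem_sup_right hd) (Subgroup.mem_sup_left hh)

omit [Finite G] [Finite Ω] [FaithfulSMul G Ω] [IsPretransitive G Ω] in
theorem natCard_suborbit (a b : Ω) :
    Nat.card (orbit (stabilizer G a) b) = (stabilizer G b).relIndex (stabilizer G a) := by
  rw [Nat.card_coe_set_eq, ← index_stabilizer]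
  rfl

theorem derangement_index_dvd_suborbit {a b : Ω} (hab : a ≠ b) :
    (derangementSubgroup G Ω).index ∣ Nat.card (orbit (stabilizer G a) b) := by
  rw [derangement_index_eq_relIndex a, natCard_suborbit, ← Subgroup.inf_relIndex_right
    (stabilizer G b)]
  exact Subgroup.relIndex_dvd_of_le_left _
    (inf_comm (stabilizer G a) (stabilizer G b) ▸ stabilizer_inf_le_derangement hab)

theorem derangement_index_dvd_invariant (a : Ω) (S : Set Ω) (ha : a ∉ S)
    (hS : ∀ h ∈ stabilizer G a, ∀ x ∈ S, h • x ∈ S) :
    (derangementSubgroup G Ω).index ∣ Nat.card S :=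
  dvd_natCard_of_invariant (H := stabilizer G a) S (fun h x hx => hS h h.2 x hx) _
    fun x hx => derangement_index_dvd_suborbit fun e => ha (e ▸ hx)

theorem derangement_index_dvd_pred (a : Ω) :
    (derangementSubgroup G Ω).index ∣ Nat.card Ω - 1 := by
  have h := derangement_index_dvd_invariant (G := G) a ({a}ᶜ) (by simp) (fun h hh x hx e => hx (by
    have := congrArg (h⁻¹ • ·) (Set.mem_singleton_iff.mp e)
    simp only [inv_smul_smul] at this
    rw [this]
    exact inv_mem hh))
  rwa [Nat.card_coe_set_eq, Set.ncard_compl, Set.ncard_singleton] at h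

end Cfsg.Agent.PermGroups
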