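import Mathlib

/-!
Centralisers of transitive subgroups of a permutation group, transitive minimal normal subgroups.
-/

set_option autoImplicit false

namespace Cfsg.Agent.PermGroups

variable {α : Type*} {G : Subgroup (Equiv.Perm α)}

/-- A permutation centralising a transitive subgroup and fixing a point is trivial. -/
theorem eq_one_of_centralizes_transitive {M : Subgroup G} (hM : MulAction.IsPretransitive M α)
    {c : Equiv.Perm α} (hc : ∀ x ∈ M, (x : Equiv.Perm α) * c = c * (x : Equiv.Perm α)) {a : α}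
    (ha : c a = a) : c = 1 := by
  refine Equiv.ext fun b => ?_
  obtain ⟨⟨x, hx⟩, rfl⟩ := hM.exists_smul_eq a b
  show c ((x : Equiv.Perm α) a) = (x : Equiv.Perm α) a
  rw [← Equiv.Perm.mul_apply, ← hc x hx, Equiv.Perm.mul_apply, ha]

theorem nonempty_of_ne_bot {M : Subgroup G} (hM : M ≠ ⊥) : Nonempty α := by
  by_contra h
  rw [not_nonempty_iff] at h
  exact hM ((Subgroup.eq_bot_iff_forall M).2 fun x _ => Subtype.ext (Subsingleton.elim _ _))

/-- If `N` is transitive and centralises the transitive `M`, it is the whole centraliser. -/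
theorem centralizer_map_eq {M N : Subgroup G} [Nonempty α] (hM : MulAction.IsPretransitive M α)
    (hN : MulAction.IsPretransitive N α) (hcomm : ∀ x ∈ M, ∀ y ∈ N, x * y = y * x) :
    Subgroup.centralizer ((M.map G.subtype : Subgroup (Equiv.Perm α)) : Set (Equiv.Perm α)) =
      N.map G.subtype := by
  obtain ⟨a⟩ := ‹Nonempty α›
  refine le_antisymm (fun c hc => ?_) ?_
  · obtain ⟨⟨y, hy⟩, hya⟩ := hN.exists_smul_eq a (c a)
    have hya' : (y : Equiv.Perm α) a = c a := hya
    have h : (y : Equiv.Perm α)⁻¹ * c = 1 := by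
      refine eq_one_of_centralizes_transitive hM (fun x hx => ?_) (a := a) ?_
      · have e1 : (x : Equiv.Perm α) * c = c * x :=
          Subgroup.mem_centralizer_iff.1 hc _ ⟨x, hx, rfl⟩
        have e2 : (x : Equiv.Perm α) * (y : Equiv.Perm α) = (y : Equiv.Perm α) * x :=
          congrArg Subtype.val (hcomm x hx y hy)
        rw [← mul_assoc, (Commute.inv_right e2).eq, mul_assoc, e1, mul_assoc]
      · rw [Equiv.Perm.mul_apply, ← hya']
        exact (y : Equiv.Perm α).symm_apply_apply a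
    rw [inv_mul_eq_one] at h
    exact ⟨y, hy, h⟩
  · rintro _ ⟨y, hy, rfl⟩ _ ⟨x, hx, rfl⟩
    exact congrArg Subtype.val (hcomm x hx y hy)

/-- A transitive subgroup centralised by a transitive subgroup is regular. -/
theorem stabilizer_eq_bot_of_centralizes {M N : Subgroup G} (hN : MulAction.IsPretransitive N α)
    (hcomm : ∀ x ∈ M, ∀ y ∈ N, x * y = y * x) (a : α) : MulAction.stabilizer M a = ⊥ := by
  rw [Subgroup.eq_bot_iff_forall]
  rintro ⟨x, hx⟩ hxa
  have := eq_one_of_centralizes_transitive hN (c := (x : Equiv.Perm α))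
    (fun y hy => (congrArg Subtype.val (hcomm x hx y hy)).symm) (a := a) hxa
  exact Subtype.ext (Subtype.ext this)

/-- Distinct minimal normal subgroups commute elementwise. -/
theorem commute_of_minimal {H : Type*} [Group H] {M L : Subgroup H} [M.Normal] [L.Normal]
    (hM : M ≠ ⊥) (hMmin : ∀ K : Subgroup H, K.Normal → K ≤ M → K = ⊥ ∨ K = M)
    (hLmin : ∀ K : Subgroup H, K.Normal → K ≤ L → K = ⊥ ∨ K = L) (hne : M ≠ L) :
    ∀ x ∈ M, ∀ y ∈ L, x * y = y * x := by
  intro x hx y hy
  rcases hMmin (M ⊓ L) inferInstance inf_le_left with h | h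
  · exact Subgroup.commute_of_normal_of_disjoint M L ‹_› ‹_› (disjoint_iff.2 h) x y hx hy
  · rcases hLmin M ‹_› (inf_eq_left.1 h) with h' | h'
    · exact absurd h' hM
    · exact absurd h' hne

/-- Two regular subgroups centralising each other are isomorphic. -/
theorem nonempty_mulEquiv_of_regular {M N : Subgroup G} [Nonempty α]
    (hMt : MulAction.IsPretransitive M α) (hNt : MulAction.IsPretransitive N α)
    (hM : ∀ a : α, MulAction.stabilizer M a = ⊥) (hN : ∀ a : α, MulAction.stabilizer N a = ⊥)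
    (hcomm : ∀ x ∈ M, ∀ y ∈ N, x * y = y * x) : Nonempty (M ≃* N) := by
  obtain ⟨a⟩ := ‹Nonempty α›
  have inj : ∀ {K : Subgroup G}, (∀ b : α, MulAction.stabilizer K b = ⊥) →
      ∀ x y : K, x • a = y • a → x = y := by
    intro K hK x y e
    have : y⁻¹ * x ∈ MulAction.stabilizer K a := by
      rw [MulAction.mem_stabilizer_iff, mul_smul, e, inv_smul_smul]
    rw [hK a, Subgroup.mem_bot, inv_mul_eq_one] at this
    exact this.symm
  choose ψ hψ using fun m : M => hNt.exists_smul_eq a (m⁻¹ • a)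
  have hmul : ∀ m m' : M, ψ (m * m') = ψ m * ψ m' := by
    intro m m'
    apply inj hN
    rw [hψ, mul_inv_rev, mul_smul, ← hψ, mul_smul, hψ m']
    show ((m'⁻¹ : M) : G) • ((ψ m : N) : G) • a = ((ψ m : N) : G) • ((m'⁻¹ : M) : G) • a
    rw [smul_smul, smul_smul, hcomm _ (m'⁻¹).2 _ (ψ m).2]
  refine ⟨MulEquiv.ofBijective (MonoidHom.mk' ψ hmul) ⟨fun m m' e => ?_, fun n => ?_⟩⟩
  · refine inv_injective (inj hM _ _ ?_)
    rw [← hψ, ← hψ, show ψ m = ψ m' from e]
  · obtain ⟨m, hm⟩ := hMt.exists_smul_eq a (n • a)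
    exact ⟨m⁻¹, inj hN _ _ (by rw [show MonoidHom.mk' ψ hmul m⁻¹ = ψ m⁻¹ from rfl, hψ, inv_inv, hm])⟩

end Cfsg.Agent.PermGroups
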