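import Mathlib
import Cfsg.Prelude.Def_Perm
import Cfsg.Agent.PermGroups.FrobeniusKernel
import Cfsg.Agent.PermGroups.RegularNormal
import Cfsg.Agent.PermGroups.TransitiveMinNormal

/-!
Sharply doubly transitive groups: the regular normal subgroup and the near-field.
-/

set_option autoImplicit false

namespace Cfsg.Agent.PermGroups

open MulAction
open scoped Pointwise

variable {α : Type*} [Fintype α] [DecidableEq α] {G : Subgroup (Equiv.Perm α)}

theorem eq_one_of_two_fixed (hsharp : ∀ x : Fin 2 ↪ α, stabilizer G x = ⊥) {g : G} {a b : α}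
    (hab : a ≠ b) (ha : g • a = a) (hb : g • b = b) : g = 1 := by
  let x : Fin 2 ↪ α := ⟨![a, b], fun i j e => by fin_cases i <;> fin_cases j <;> simp_all⟩
  have h : g ∈ stabilizer G x := by
    rw [mem_stabilizer_iff]
    refine Function.Embedding.ext fun i => ?_
    fin_cases i
    · exact ha
    · exact hb
  rwa [hsharp x, Subgroup.mem_bot] at h

/-- The regular normal subgroup of a sharply doubly transitive group. -/
theorem exists_regular_kernel (h2t : IsMultiplyPretransitive G α 2)
    (hsharp : ∀ x : Fin 2 ↪ α, stabilizer G x = ⊥) (h2 : 2 ≤ Fintype.card α) :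
    ∃ (p j : ℕ) (K : Subgroup G), p.Prime ∧ 1 ≤ j ∧ Fintype.card α = p ^ j ∧ K.Normal ∧
      (∀ x y : K, x * y = y * x) ∧ (∀ x : K, x ^ p = 1) ∧ IsPretransitive K α ∧
      (∀ a : α, stabilizer K a = ⊥) ∧ Nat.card K = p ^ j ∧ ¬ p ∣ K.index ∧
      ∀ g : G, g ∈ K ↔ g = 1 ∨ ∀ a : α, g • a ≠ a := by
  classical
  haveI : Nontrivial α := Fintype.one_lt_card_iff_nontrivial.1 (by omega)
  haveI htr : IsPretransitive G α := (isPreprimitive_of_is_two_pretransitive h2t).toIsPretransitive
  obtain ⟨a, b, hab⟩ := exists_pair_ne α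
  -- the stabiliser is regular on the other points
  have hstab : Nat.card (stabilizer G a) + 1 = Fintype.card α := by
    have hbij : Function.Bijective fun h : stabilizer G a =>
        (⟨(h : G) • b, fun e => hab (smul_left_cancel (h : G)
          ((mem_stabilizer_iff.1 h.2).trans (Set.mem_singleton_iff.1 e).symm))⟩ : ({a}ᶜ : Set α)) := by
      constructor
      · intro h h' e
        have e' : (h : G) • b = (h' : G) • b := congrArg Subtype.val e
        refine Subtype.ext (inv_mul_eq_one.1 (eq_one_of_two_fixed hsharp hab ?_ ?_)).symm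
        · rw [mul_smul, mem_stabilizer_iff.1 h.2, inv_smul_eq_iff, mem_stabilizer_iff.1 h'.2]
        · rw [mul_smul, e', inv_smul_smul]
      · rintro ⟨c, hc⟩
        obtain ⟨g, g1, g2⟩ := is_two_pretransitive_iff.1 h2t hab (Ne.symm (show c ≠ a from hc))
        exact ⟨⟨g, g1⟩, Subtype.ext g2⟩
    rw [Nat.card_congr (Equiv.ofBijective _ hbij), Nat.card_coe_set_eq, Set.ncard_compl,
      Set.ncard_singleton, Nat.card_eq_fintype_card]
    omega
  have hidx : (stabilizer G a).index = Fintype.card α := by
    rw [index_stabilizer_of_transitive, Nat.card_eq_fintype_card]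
  have hconj : ∀ g : G, g • a ≠ a → stabilizer G a ⊓ MulAut.conj g • stabilizer G a = ⊥ := by
    intro g hg
    rw [Subgroup.eq_bot_iff_forall]
    intro x hx
    obtain ⟨hx1, hx2⟩ := Subgroup.mem_inf.1 hx
    rw [mem_conj_smul, mem_stabilizer_iff, mul_smul, mul_smul, inv_smul_eq_iff] at hx2
    exact eq_one_of_two_fixed hsharp (Ne.symm hg) hx1 hx2
  obtain ⟨K, hKn, hKmem⟩ : ∃ K : Subgroup G, K.Normal ∧
      ∀ g : G, g ∈ K ↔ g = 1 ∨ ∀ x : α, g • x ≠ x := by
    by_cases hH : stabilizer G a = ⊥
    · refine ⟨⊤, inferInstance, fun g => ⟨fun _ => or_iff_not_imp_left.2 fun hg x hx => hg ?_,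
        fun _ => Subgroup.mem_top g⟩⟩
      obtain ⟨t, rfl⟩ := exists_smul_eq G a x
      have : t⁻¹ * g * t ∈ stabilizer G a := by
        rw [mem_stabilizer_iff, mul_smul, mul_smul, hx, inv_smul_smul]
      rw [hH, Subgroup.mem_bot] at this
      calc g = t * (t⁻¹ * g * t) * t⁻¹ := by group
        _ = 1 := by rw [this]; group
    · have hF : Cfsg.IsFrobeniusComplement (stabilizer G a) :=
        ⟨hH, fun e => by rw [e, Subgroup.index_top] at hidx; omega, fun g hg => hconj g hg⟩
      obtain ⟨K, hK, hKn, -⟩ := Frobenius.exists_kernel hF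
      refine ⟨K, hKn, fun g => ?_⟩
      rw [← SetLike.mem_coe, hK, mem_frobeniusKernel]
      refine or_congr_right ⟨fun h x hx => ?_, fun h t ht => ?_⟩
      · obtain ⟨t, rfl⟩ := exists_smul_eq G a x
        exact h t (by rw [mem_stabilizer_iff, mul_smul, mul_smul, hx, inv_smul_smul])
      · rw [mem_stabilizer_iff, mul_smul, mul_smul, inv_smul_eq_iff] at ht
        exact h _ ht
  -- two points define an element of `K` moving one to the other
  have hsemi : ∀ x : α, stabilizer K x = ⊥ := fun x => by
    rw [Subgroup.eq_bot_iff_forall]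
    rintro ⟨g, hg⟩ hgx
    rcases (hKmem g).1 hg with h | h
    · exact Subtype.ext h
    · exact absurd hgx (h x)
  have hKne : K ≠ ⊥ := by
    obtain ⟨g, g1, g2⟩ := is_two_pretransitive_iff.1 h2t hab hab.symm
    by_cases hfree : ∀ x : α, g • x ≠ x
    · intro e
      have hg : g ∈ K := (hKmem g).2 (Or.inr hfree)
      rw [e, Subgroup.mem_bot] at hg
      exact hfree a (by rw [hg, one_smul])
    · intro e
      -- all non-identity elements fix a point: impossible by counting
      have hall : ∀ h : G, h ≠ 1 → ∃ x : α, h • x = x := fun h hh => by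
        by_contra hc
        push Not at hc
        have hm : h ∈ K := (hKmem h).2 (Or.inr hc)
        exact hh (Subgroup.mem_bot.1 (e ▸ hm))
      haveI := Fintype.ofFinite G
      have hle : ∀ h : G, h ≠ 1 → (Finset.univ.filter fun x : α => h • x = x).card = 1 := by
        intro h hh
        obtain ⟨x, hx⟩ := hall h hh
        rw [Finset.card_eq_one]
        refine ⟨x, Finset.ext fun y => ?_⟩
        simp only [Finset.mem_filter, Finset.mem_univ, true_and, Finset.mem_singleton]
        exact ⟨fun hy => by_contra fun hne => hh (eq_one_of_two_fixed hsharp hne hy hx), fun hy => hy ▸ hx⟩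
      have hb : ∑ h : G, (Finset.univ.filter fun x : α => h • x = x).card =
          Fintype.card α * Nat.card (stabilizer G a) := by
        simp only [Finset.card_filter]
        rw [Finset.sum_comm]
        have h4 : ∀ x ∈ (Finset.univ : Finset α),
            (∑ h : G, if h • x = x then 1 else 0) = Nat.card (stabilizer G a) := by
          intro x _
          rw [← Finset.card_filter]
          have h5 := Subgroup.card_mul_index (stabilizer G x)
          rw [index_stabilizer_of_transitive, Nat.card_eq_fintype_card (α := α),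
            ← Subgroup.card_mul_index (stabilizer G a), hidx] at h5
          rw [← Nat.eq_of_mul_eq_mul_right (by omega) h5, Nat.card_eq_fintype_card,
            ← Fintype.card_subtype]
          exact Fintype.card_congr (Equiv.subtypeEquivRight fun h => mem_stabilizer_iff.symm)
        rw [Finset.sum_congr rfl h4, Finset.sum_const, Finset.card_univ, smul_eq_mul]
      have hG := Subgroup.card_mul_index (stabilizer G a)
      rw [hidx, Nat.card_eq_fintype_card (α := G)] at hG
      rw [← Finset.add_sum_erase _ _ (Finset.mem_univ (1 : G)),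
        Finset.sum_congr rfl fun h hh => hle h (Finset.ne_of_mem_erase hh), Finset.sum_const,
        Finset.card_erase_of_mem (Finset.mem_univ _), Finset.card_univ, smul_eq_mul, mul_one] at hb
      simp only [one_smul, Finset.filter_true, Finset.card_univ] at hb
      have hpos : 0 < Fintype.card G := Fintype.card_pos
      rw [mul_comm] at hG
      omega
  haveI := hKn
  haveI hKt : IsPretransitive K α := by
    haveI := isPreprimitive_of_is_two_pretransitive h2t
    refine IsQuasiPreprimitive.isPretransitive_of_normal fun e => hKne ?_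
    refine (Subgroup.eq_bot_iff_forall K).2 fun g hg => Subtype.ext (Equiv.ext fun x => ?_)
    exact Set.eq_univ_iff_forall.1 e x ⟨g, hg⟩
  obtain ⟨p, j, hp, hj, hcK, hcX, hcomm, hexp⟩ :=
    regular_normal_elementaryAbelian h2t K hKt hsemi
  rw [Nat.card_eq_fintype_card] at hcX
  refine ⟨p, j, K, hp, hj, hcX, hKn, hcomm, hexp, hKt, hsemi, hcK, ?_, hKmem⟩
  have hKidx : K.index = Nat.card (stabilizer G a) := by
    have h1 := K.index_mul_card
    rw [← Subgroup.card_mul_index (stabilizer G a), hidx, hcK, hcX] at h1
    exact Nat.eq_of_mul_eq_mul_right (pow_pos hp.pos j) h1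
  rw [hKidx]
  intro hd
  have h1 : p ∣ Nat.card (stabilizer G a) + 1 := hstab ▸ hcX ▸ dvd_pow_self p (by omega)
  exact hp.ne_one (Nat.dvd_one.1 ((Nat.dvd_add_right hd).1 h1))

/-- The near-field of a sharply doubly transitive group. -/
theorem exists_nearField (h2t : IsMultiplyPretransitive G α 2)
    (hsharp : ∀ x : Fin 2 ↪ α, stabilizer G x = ⊥) (h2 : 2 ≤ Fintype.card α) :
    ∃ _ : Cfsg.NearField α, ∀ σ : Equiv.Perm α, σ ∈ G ↔ ∃ a b : α, a ≠ 0 ∧ ∀ x : α, σ x = x * a + b := by
  classical
  obtain ⟨p, j, K, hp, -, -, hKn, hcomm, -, hKt, hsemi, -, -, -⟩ := exists_regular_kernel h2t hsharp h2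
  haveI : Nontrivial α := Fintype.one_lt_card_iff_nontrivial.1 (by omega)
  obtain ⟨o, e, hoe⟩ := exists_pair_ne α
  choose k hk using fun x => hKt.exists_smul_eq o x
  have kinj : ∀ (u : K) (x : α), u • o = x → u = k x := by
    intro u x h
    have hm : (k x)⁻¹ * u ∈ stabilizer K o := by
      rw [mem_stabilizer_iff, mul_smul, h, inv_smul_eq_iff, hk]
    rw [hsemi o, Subgroup.mem_bot, inv_mul_eq_one] at hm
    exact hm.symm
  have hex : ∀ c : α, c ≠ o → ∃ g : G, g • o = o ∧ g • e = c := fun c hc =>
    is_two_pretransitive_iff.1 h2t hoe (Ne.symm hc)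
  choose! h hh1 hh2 using hex
  have huniq : ∀ (g : G) (c : α), c ≠ o → g • o = o → g • e = c → g = h c := by
    intro g c hc g1 g2
    refine (inv_mul_eq_one.1 (eq_one_of_two_fixed hsharp hoe ?_ ?_)).symm
    · rw [mul_smul, g1, inv_smul_eq_iff, hh1 c hc]
    · rw [mul_smul, g2, inv_smul_eq_iff, hh2 c hc]
  have hfix : ∀ (g : G) (x : α), g • o = o → g • x = o → x = o := fun g x g1 g2 =>
    smul_left_cancel g (g2.trans g1.symm)
  have hkhom : ∀ (g : G) (x y : α), g • o = o → g • (k x • y) = k (g • x) • (g • y) := by
    intro g x y g1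
    have hu : (⟨g * (k x : G) * g⁻¹, hKn.conj_mem _ (k x).2 g⟩ : K) = k (g • x) := by
      refine kinj _ _ ?_
      show (g * (k x : G) * g⁻¹) • o = g • x
      rw [mul_smul, mul_smul, inv_smul_eq_iff.2 g1.symm]
      exact congrArg (g • ·) (hk x)
    rw [← hu]
    show g • ((k x : G) • y) = (g * (k x : G) * g⁻¹) • g • y
    rw [mul_smul, mul_smul, inv_smul_smul]
  let NF : Cfsg.NearField α :=
    { add := fun x y => k x • y
      zero := o
      neg := fun x => (k x)⁻¹ • o
      add_assoc := fun x y z => by
        show k (k x • y) • z = k x • (k y • z)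
        rw [smul_smul, ← kinj (k x * k y) (k x • y) (by rw [mul_smul, hk])]
      zero_add := fun x => by
        show k o • x = x
        rw [← kinj 1 o (one_smul _ _), one_smul]
      add_zero := fun x => hk x
      neg_add_cancel := fun x => by
        show k ((k x)⁻¹ • o) • x = o
        rw [← kinj (k x)⁻¹ _ rfl, inv_smul_eq_iff, hk]
      nsmul := @nsmulRec α ⟨o⟩ ⟨fun x y => k x • y⟩
      zsmul := @zsmulRec α ⟨o⟩ ⟨fun x y => k x • y⟩ ⟨fun x => (k x)⁻¹ • o⟩ (@nsmulRec α ⟨o⟩ ⟨fun x y => k x • y⟩)
      mul := fun x c => if c = o then o else h c • x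
      one := e
      mul_assoc := fun x c d => by
        show (if d = o then o else h d • (if c = o then o else h c • x)) =
          if (if d = o then o else h d • c) = o then o else h (if d = o then o else h d • c) • x
        by_cases hd : d = o
        · simp [hd]
        by_cases hc : c = o
        · simp [hd, hc, hh1 d hd]
        have hdc : h d • c ≠ o := fun e' => hc (hfix _ _ (hh1 d hd) e')
        rw [if_neg hd, if_neg hc, if_neg hd, if_neg hdc, smul_smul,
          huniq (h d * h c) _ hdc (by rw [mul_smul, hh1 c hc, hh1 d hd])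
            (by rw [mul_smul, hh2 c hc])]
      one_mul := fun c => by
        show (if c = o then o else h c • e) = c
        split_ifs with hc
        · exact hc.symm
        · exact hh2 c hc
      mul_one := fun x => by
        show (if e = o then o else h e • x) = x
        rw [if_neg hoe.symm, ← huniq 1 e hoe.symm (one_smul _ _) (one_smul _ _), one_smul]
      right_distrib := fun x y c => by
        show (if c = o then o else h c • (k x • y)) =
          k (if c = o then o else h c • x) • (if c = o then o else h c • y)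
        split_ifs with hc
        · rw [← kinj 1 o (one_smul _ _), one_smul]
        · exact hkhom _ x y (hh1 c hc)
      mul_zero := fun x => if_pos rfl
      zero_ne_one := hoe
      exists_inv := fun c hc => by
        have hc' : c ≠ o := hc
        have hb : (h c)⁻¹ • e ≠ o := fun e' => hoe.symm (by rw [inv_smul_eq_iff, hh1 c hc'] at e'; exact e')
        have hb' : (h c)⁻¹ = h ((h c)⁻¹ • e) := huniq _ _ hb (by
          rw [inv_smul_eq_iff, hh1 c hc']) rfl
        refine ⟨(h c)⁻¹ • e, ?_, ?_⟩
        · show (if (h c)⁻¹ • e = o then o else h ((h c)⁻¹ • e) • c) = e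
          rw [if_neg hb, ← hb', inv_smul_eq_iff, hh2 c hc']
        · show (if c = o then o else h c • ((h c)⁻¹ • e)) = e
          rw [if_neg hc', smul_inv_smul] }
  refine ⟨NF, fun σ => ⟨fun hσ => ?_, fun ⟨c, b, hc, hx⟩ => ?_⟩⟩
  · set g : G := ⟨σ, hσ⟩
    set b := g • o
    set g' : G := (k b : G)⁻¹ * g
    have g'o : g' • o = o := by
      show ((k b : G)⁻¹ * g) • o = o
      rw [mul_smul, inv_smul_eq_iff]
      exact (hk b).symm
    have hc : g' • e ≠ o := fun e' => hoe.symm (hfix g' e g'o e')
    refine ⟨g' • e, b, hc, fun x => ?_⟩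
    show σ x = k (if g' • e = o then o else h (g' • e) • x) • b
    rw [if_neg hc, ← huniq g' _ hc g'o rfl]
    -- commutativity of the regular subgroup
    have e1 : k (g' • x) • b = k b • (g' • x) := by
      conv_lhs => rw [← hk b]
      conv_rhs => rw [← hk (g' • x)]
      rw [smul_smul, smul_smul, hcomm]
    rw [e1]
    show g • x = (k b : G) • (((k b : G)⁻¹ * g) • x)
    rw [mul_smul, smul_inv_smul]
  · have hc' : c ≠ o := hc
    have e1 : σ = (((k b : G) * h c : G) : Equiv.Perm α) := by
      refine Equiv.ext fun x => ?_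
      rw [hx x]
      show k (if c = o then o else h c • x) • b = ((k b : G) * h c) • x
      rw [if_neg hc', mul_smul]
      conv_lhs => rw [← hk b]
      show k (h c • x) • k b • o = k b • (h c • x)
      conv_rhs => rw [← hk (h c • x)]
      rw [smul_smul, smul_smul, hcomm]
    rw [e1]
    exact SetLike.coe_mem _

end Cfsg.Agent.PermGroups
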