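import Mathlib
import Cfsg.Agent.PermGroups.RegularNormal
import Cfsg.Agent.PermGroups.SharplyTwo

/-!
Normal subgroups of multiply primitive groups are multiply transitive.
-/

set_option autoImplicit false

namespace Cfsg.Agent.PermGroups

open MulAction

universe u v

theorem pretransitive_of_normal {G : Type u} [Group G] {α : Type v} [MulAction G α] [FaithfulSMul G α]
    [IsPreprimitive G α] (H : Subgroup G) [H.Normal] (hH : H ≠ ⊥) : IsPretransitive H α := by
  refine IsQuasiPreprimitive.isPretransitive_of_normal fun e => hH ?_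
  exact (Subgroup.eq_bot_iff_forall H).2 fun v hv => eq_of_smul_eq_smul (α := α) fun p => by
    rw [one_smul]; exact Set.eq_univ_iff_forall.1 e p ⟨v, hv⟩

theorem faithful_ofStabilizer {G : Type u} [Group G] {α : Type v} [MulAction G α]
    [FaithfulSMul G α] (a : α) :
    FaithfulSMul (stabilizer G a) (SubMulAction.ofStabilizer G a) := by
  refine ⟨fun {g h} e => Subtype.ext (eq_of_smul_eq_smul (α := α) fun x => ?_)⟩
  by_cases hx : x = a
  · rw [hx, mem_stabilizer_iff.1 g.2, mem_stabilizer_iff.1 h.2]
  · exact congrArg Subtype.val (e ⟨x, hx⟩)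

/-- Multiple transitivity of a subgroup from that of its point stabiliser inside the group. -/
theorem multiplyPretransitive_succ_of_subgroupOf {G : Type u} [Group G] {α : Type v} [MulAction G α]
    (H : Subgroup G) [IsPretransitive H α] (a : α) {n : ℕ}
    (h : IsMultiplyPretransitive (H.subgroupOf (stabilizer G a)) (SubMulAction.ofStabilizer G a) n) :
    IsMultiplyPretransitive H α (n + 1) := by
  rw [SubMulAction.ofStabilizer.isMultiplyPretransitive (a := a)]
  refine ⟨fun x y => ?_⟩
  let x' : Fin n ↪ SubMulAction.ofStabilizer G a :=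
    ⟨fun i => ⟨(x i : α), (x i).2⟩, fun i j e => x.injective (Subtype.ext (congrArg Subtype.val e :))⟩
  let y' : Fin n ↪ SubMulAction.ofStabilizer G a :=
    ⟨fun i => ⟨(y i : α), (y i).2⟩, fun i j e => y.injective (Subtype.ext (congrArg Subtype.val e :))⟩
  obtain ⟨g, hg⟩ := h.exists_smul_eq x' y'
  refine ⟨⟨⟨(g : stabilizer G a), g.2⟩, (g : stabilizer G a).2⟩, Function.Embedding.ext fun i => Subtype.ext ?_⟩
  exact congrArg Subtype.val (congrArg (fun f : Fin n ↪ SubMulAction.ofStabilizer G a => f i) hg)

/-- A non-regular normal subgroup of a `k`-primitive group other than the symmetric group is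
`k`-transitive. -/
theorem normal_multiplyPretransitive : ∀ k : ℕ, 1 ≤ k → ∀ {G : Type u} [Group G] [Finite G]
    {α : Type v} [MulAction G α] [FaithfulSMul G α] [Finite α], k ≤ Nat.card α →
    IsMultiplyPreprimitive G α k → ¬ IsMultiplyPretransitive G α (Nat.card α - 1) →
    ∀ H : Subgroup G, H.Normal → H ≠ ⊥ → (∃ a : α, stabilizer H a ≠ ⊥) →
    IsMultiplyPretransitive H α k := by
  intro k
  induction k with
  | zero => intro h; exact absurd h (by omega)
  | succ k ih =>
    intro _ G _ _ α _ _ _ hkn hG hfull H hHn hH hnr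
    haveI := hHn
    haveI hprim : IsPreprimitive G α :=
      (is_one_preprimitive_iff _ _).1 (isMultiplyPreprimitive_of_le G α hG (by omega) (by
        rw [ENat.card_eq_coe_natCard]; exact_mod_cast hkn))
    haveI hHt : IsPretransitive H α := pretransitive_of_normal H hH
    rcases Nat.eq_zero_or_pos k with rfl | hk
    · rw [zero_add, is_one_pretransitive_iff]; exact hHt
    obtain ⟨a, ha⟩ := hnr
    haveI := faithful_ofStabilizer (G := G) a
    have hGa : IsMultiplyPreprimitive (stabilizer G a) (SubMulAction.ofStabilizer G a) k :=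
      (isMultiplyPreprimitive_succ_iff_ofStabilizer G (α := α) hk).1 hG
    have hcard := SubMulAction.nat_card_ofStabilizer_add_one_eq G a
    have hfull' : ¬ IsMultiplyPretransitive (stabilizer G a) (SubMulAction.ofStabilizer G a)
        (Nat.card (SubMulAction.ofStabilizer G a) - 1) := fun h => hfull (by
      rw [show Nat.card α - 1 = Nat.card (SubMulAction.ofStabilizer G a) - 1 + 1 by omega,
        SubMulAction.ofStabilizer.isMultiplyPretransitive (a := a)]
      exact h)
    set Ha := H.subgroupOf (stabilizer G a) with hHa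
    have hHa0 : Ha ≠ ⊥ := by
      obtain ⟨g, hg, hg1⟩ := (Subgroup.bot_or_exists_ne_one _).resolve_left ha
      intro e
      have : (⟨(g : G), hg⟩ : stabilizer G a) ∈ Ha := g.2
      rw [e, Subgroup.mem_bot] at this
      exact hg1 (Subtype.ext (congrArg Subtype.val this : (g : G) = 1))
    by_cases hreg : ∃ x : SubMulAction.ofStabilizer G a, stabilizer Ha x ≠ ⊥
    · exact multiplyPretransitive_succ_of_subgroupOf H a
        (ih hk (by omega) hGa hfull' Ha inferInstance hHa0 hreg)
    push Not at hreg
    haveI hGa1 : IsPreprimitive (stabilizer G a) (SubMulAction.ofStabilizer G a) :=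
      (is_one_preprimitive_iff _ _).1 (isMultiplyPreprimitive_of_le _ _ hGa (by omega) (by
        rw [ENat.card_eq_coe_natCard]; exact_mod_cast (show k ≤ Nat.card (SubMulAction.ofStabilizer G a) by omega)))
    have h2H : IsMultiplyPretransitive H α 2 := by
      apply multiplyPretransitive_succ_of_subgroupOf H a
      rw [is_one_pretransitive_iff]
      exact pretransitive_of_normal Ha hHa0
    rcases Nat.lt_or_ge k 2 with hk2 | hk2
    · obtain rfl : k = 1 := by omega
      exact h2H
    exfalso
    -- `H` is sharply doubly transitive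
    classical
    haveI := Fintype.ofFinite α
    let f : G →* Equiv.Perm α := toPermHom G α
    have hf : Function.Injective f := fun g g' e =>
      eq_of_smul_eq_smul (α := α) fun x => DFunLike.congr_fun e x
    let M : Subgroup (Equiv.Perm α) := H.map f
    have hM2 : IsMultiplyPretransitive M α 2 := by
      refine is_two_pretransitive_iff.2 fun {p q r s} hpq hrs => ?_
      obtain ⟨h, h1, h2⟩ := is_two_pretransitive_iff.1 h2H hpq hrs
      exact ⟨⟨f (h : G), h, h.2, rfl⟩, h1, h2⟩
    have hsharp : ∀ x : Fin 2 ↪ α, stabilizer M x = ⊥ := by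
      intro x
      rw [Subgroup.eq_bot_iff_forall]
      rintro ⟨_, h, hh, rfl⟩ hx
      have h0 : h • x 0 = x 0 := congrArg (fun e : Fin 2 ↪ α => e 0) (mem_stabilizer_iff.1 hx)
      have h1 : h • x 1 = x 1 := congrArg (fun e : Fin 2 ↪ α => e 1) (mem_stabilizer_iff.1 hx)
      obtain ⟨t, ht⟩ := exists_smul_eq H (x 0) a
      have ht' : (t : G) • x 0 = a := ht
      set c := (t : G) * h * (t : G)⁻¹ with hc
      have hca : c • a = a := by rw [← ht', hc, mul_smul, mul_smul, inv_smul_smul, h0]
      have hne : (t : G) • x 1 ≠ a := fun e => by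
        have e' := x.injective (smul_left_cancel (t : G) (e.trans ht'.symm))
        exact absurd e' (by decide)
      have hmem : (⟨⟨c, hca⟩, H.mul_mem (H.mul_mem t.2 hh) (H.inv_mem t.2)⟩ : Ha) ∈
          stabilizer Ha (⟨(t : G) • x 1, hne⟩ : SubMulAction.ofStabilizer G a) := by
        rw [mem_stabilizer_iff]
        apply Subtype.ext
        show c • (t : G) • x 1 = (t : G) • x 1
        rw [hc, mul_smul, mul_smul, inv_smul_smul, h1]
      rw [hreg, Subgroup.mem_bot] at hmem
      have hc1 : c = 1 := congrArg (fun z : Ha => ((z : stabilizer G a) : G)) hmem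
      have hh1 : h = 1 := by
        calc h = (t : G)⁻¹ * c * t := by rw [hc]; group
          _ = 1 := by rw [hc1]; group
      subst hh1
      exact Subtype.ext (map_one f)
    obtain ⟨p, j, K, -, -, -, -, -, -, hKt, hKsemi, -, -, hKmem⟩ :=
      exists_regular_kernel hM2 hsharp (by rw [← Nat.card_eq_fintype_card]; omega)
    let K' : Subgroup G := (K.map M.subtype).comap f
    have hK'mem : ∀ g : G, g ∈ K' ↔ g ∈ H ∧ (g = 1 ∨ ∀ x : α, g • x ≠ x) := by
      intro g
      constructor
      · rintro ⟨⟨_, h, hh, rfl⟩, hm, e⟩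
        have e' : h = g := hf e
        subst e'
        refine ⟨hh, ((hKmem _).1 hm).imp_left fun e1 => hf ?_⟩
        rw [map_one]
        exact congrArg Subtype.val e1
      · rintro ⟨hg, hor⟩
        refine ⟨⟨f g, g, hg, rfl⟩, (hKmem _).2 (hor.imp_left fun e1 => Subtype.ext ?_), rfl⟩
        show f g = 1
        rw [e1, map_one]
    haveI : K'.Normal := by
      refine ⟨fun g hg t => ?_⟩
      obtain ⟨hgH, hor⟩ := (hK'mem g).1 hg
      refine (hK'mem _).2 ⟨hHn.conj_mem g hgH t, ?_⟩
      rcases hor with rfl | hder
      · exact Or.inl (by simp)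
      · refine Or.inr fun x e => hder (t⁻¹ • x) ?_
        rw [eq_inv_smul_iff, smul_smul, smul_smul, e]
    have hK't : IsPretransitive K' α := by
      refine ⟨fun x y => ?_⟩
      obtain ⟨⟨m, hm⟩, hxy⟩ := hKt.exists_smul_eq x y
      obtain ⟨_, g, hg, rfl⟩ := m
      exact ⟨⟨g, ⟨⟨f g, g, hg, rfl⟩, hm, rfl⟩⟩, hxy⟩
    have hK'semi : ∀ x : α, stabilizer K' x = ⊥ := by
      intro x
      rw [Subgroup.eq_bot_iff_forall]
      rintro ⟨g, hg⟩ hx
      rcases ((hK'mem g).1 hg).2 with h | h
      · exact Subtype.ext h
      · exact absurd hx (h x)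
    have h3 : IsMultiplyPreprimitive G α 3 := isMultiplyPreprimitive_of_le G α hG (by omega) (by
      rw [ENat.card_eq_coe_natCard]; exact_mod_cast hkn)
    apply hfull
    have h3t : IsMultiplyPretransitive G α 3 := by
      have := h3; exact IsMultiplyPreprimitive.isMultiplyPretransitive ..
    rcases three_primitive_regular_normal (by omega) h3 K' hK't hK'semi with h | h
    · rw [h]
      exact isMultiplyPretransitive_of_le (n := 3) (by omega) (by omega)
    · rw [h]
      exact h3t

end Cfsg.Agent.PermGroups
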