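import Mathlib
import Cfsg.Agent.PermGroups.TransitiveMinNormal

/-!
Centralisers of transitive subgroups for a faithful action.
-/

set_option autoImplicit false

namespace Cfsg.Agent.PermGroups

variable {G Ω : Type*} [Group G] [MulAction G Ω] [FaithfulSMul G Ω]

/-- An element centralising a transitive subgroup and fixing a point is trivial. -/
theorem eq_one_of_centralizes {M : Subgroup G} (hM : MulAction.IsPretransitive M Ω) {c : G}
    (hc : ∀ x ∈ M, x * c = c * x) {a : Ω} (ha : c • a = a) : c = 1 := by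
  refine eq_of_smul_eq_smul (α := Ω) fun b => ?_
  obtain ⟨⟨x, hx⟩, rfl⟩ := hM.exists_smul_eq a b
  show c • x • a = (1 : G) • x • a
  rw [one_smul, smul_smul, ← hc x hx, ← smul_smul, ha]

theorem stabilizer_eq_bot_of_centralizes' {M N : Subgroup G} (hN : MulAction.IsPretransitive N Ω)
    (hcomm : ∀ x ∈ M, ∀ y ∈ N, x * y = y * x) (a : Ω) : MulAction.stabilizer M a = ⊥ := by
  rw [Subgroup.eq_bot_iff_forall]
  rintro ⟨x, hx⟩ hxa
  exact Subtype.ext (eq_one_of_centralizes hN (fun y hy => (hcomm x hx y hy).symm) hxa)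

theorem le_of_centralizes [Nonempty Ω] {M N L : Subgroup G} (hM : MulAction.IsPretransitive M Ω)
    (hN : MulAction.IsPretransitive N Ω) (hMN : ∀ x ∈ M, ∀ y ∈ N, x * y = y * x)
    (hML : ∀ x ∈ M, ∀ y ∈ L, x * y = y * x) : L ≤ N := by
  obtain ⟨a⟩ := ‹Nonempty Ω›
  intro c hc
  obtain ⟨⟨y, hy⟩, hya⟩ := hN.exists_smul_eq a (c • a)
  have h : y⁻¹ * c = 1 := eq_one_of_centralizes hM (fun x hx => by
    have e2 : x * y = y * x := hMN x hx y hy
    rw [← mul_assoc, (Commute.inv_right e2).eq, mul_assoc, hML x hx c hc, mul_assoc]) (a := a) (by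
      rw [mul_smul, ← hya]; exact inv_smul_smul y a)
  rw [inv_mul_eq_one] at h
  exact h ▸ hy

theorem nonempty_mulEquiv_of_centralizes [Nonempty Ω] {M N : Subgroup G}
    (hMt : MulAction.IsPretransitive M Ω) (hNt : MulAction.IsPretransitive N Ω)
    (hcomm : ∀ x ∈ M, ∀ y ∈ N, x * y = y * x) : Nonempty (M ≃* N) := by
  obtain ⟨a⟩ := ‹Nonempty Ω›
  have hM := stabilizer_eq_bot_of_centralizes' hNt hcomm
  have hN := stabilizer_eq_bot_of_centralizes' hMt fun y hy x hx => (hcomm x hx y hy).symm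
  have inj : ∀ {K : Subgroup G}, (∀ b : Ω, MulAction.stabilizer K b = ⊥) →
      ∀ x y : K, x • a = y • a → x = y := by
    intro K hK x y e
    have : y⁻¹ * x ∈ MulAction.stabilizer K a := by
      rw [MulAction.mem_stabilizer_iff, mul_smul, e, inv_smul_smul]
    rw [hK a, Subgroup.mem_bot, inv_mul_eq_one] at this
    exact this.symm
  choose ψ hψ using fun m : M => hNt.exists_smul_eq a (m⁻¹ • a)
  have hmul : ∀ m m' : M, ψ (m * m') = ψ m * ψ m' := by
    intro m m'
    apply inj hN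
    rw [hψ, mul_inv_rev, mul_smul, ← hψ, mul_smul, hψ m']
    show ((m'⁻¹ : M) : G) • ((ψ m : N) : G) • a = ((ψ m : N) : G) • ((m'⁻¹ : M) : G) • a
    rw [smul_smul, smul_smul, hcomm _ (m'⁻¹).2 _ (ψ m).2]
  refine ⟨MulEquiv.ofBijective (MonoidHom.mk' ψ hmul) ⟨fun m m' e => ?_, fun n => ?_⟩⟩
  · refine inv_injective (inj hM _ _ ?_)
    rw [← hψ, ← hψ, show ψ m = ψ m' from e]
  · obtain ⟨m, hm⟩ := hMt.exists_smul_eq a (n • a)
    exact ⟨m⁻¹, inj hN _ _ (by rw [show MonoidHom.mk' ψ hmul m⁻¹ = ψ m⁻¹ from rfl, hψ, inv_inv, hm])⟩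

omit [MulAction G Ω] [FaithfulSMul G Ω] in
/-- The join of two commuting disjoint subgroups is their product. -/
theorem nonempty_sup_mulEquiv_prod {M N : Subgroup G} (hcomm : ∀ x ∈ M, ∀ y ∈ N, x * y = y * x)
    (hdisj : M ⊓ N = ⊥) : Nonempty ((M ⊔ N : Subgroup G) ≃* M × N) := by
  have hc : ∀ (x : M) (y : N), Commute (M.subtype x) (N.subtype y) :=
    fun x y => hcomm x x.2 y y.2
  let f : M × N →* G := M.subtype.noncommCoprod N.subtype hc
  have hf : Function.Injective f := by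
    rw [injective_iff_map_eq_one]
    rintro ⟨⟨x, hx⟩, ⟨y, hy⟩⟩ h
    have h' : x * y = 1 := h
    have hx' : x ∈ M ⊓ N := ⟨hx, eq_inv_of_mul_eq_one_left h' ▸ N.inv_mem hy⟩
    rw [hdisj, Subgroup.mem_bot] at hx'
    subst hx'
    rw [one_mul] at h'
    subst h'
    rfl
  have hrange : f.range = M ⊔ N := by
    rw [show f = M.subtype.noncommCoprod N.subtype hc from rfl,
      MonoidHom.noncommCoprod_range, Subgroup.range_subtype, Subgroup.range_subtype]
  exact ⟨(MulEquiv.subgroupCongr hrange.symm).trans (MonoidHom.ofInjective hf).symm⟩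

/-- `(Fin m → T) × (Fin n → T) ≃* (Fin (m + n) → T)`. -/
theorem nonempty_prod_pi_mulEquiv (T : Type*) [Group T] (m n : ℕ) :
    Nonempty ((Fin m → T) × (Fin n → T) ≃* (Fin (m + n) → T)) :=
  ⟨{ Fin.appendEquiv m n with
     map_mul' := fun a b => funext fun i => by
       refine Fin.addCases (fun j => ?_) (fun j => ?_) i <;> simp }⟩

end Cfsg.Agent.PermGroups
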