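import Cfsg.Agent.PermGroups.Counting
import Cfsg.Agent.PermGroups.PrimitiveSocle
import Cfsg.Agent.PermGroups.NormalTransitive
import Cfsg.Agent.PermGroups.RegularNormal

/-!
Primitive groups all of whose derangements have prime power order.
-/

set_option autoImplicit false

namespace Cfsg.Agent.PermGroups

open MulAction

/-- A finite group is not covered by the conjugates of a proper subgroup. -/
theorem eq_top_of_forall_conj_mem {G : Type*} [Group G] [Finite G] (H : Subgroup G)
    (h : ∀ g : G, ∃ x : G, x⁻¹ * g * x ∈ H) : H = ⊤ := by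
  classical
  by_contra hne
  have : Fintype G := Fintype.ofFinite G
  have hidx : 2 ≤ H.index := by
    have h1 : H.index ≠ 1 := fun e => hne (Subgroup.index_eq_one.mp e)
    have h0 : H.index ≠ 0 := Subgroup.index_ne_zero_of_finite
    omega
  have hs := sum_natCard_fixedBy (G := G) (Ω := G ⧸ H)
  rw [natCard_orbits_eq_one, one_mul, Nat.card_eq_fintype_card, Fintype.card] at hs
  have hlt : ∑ _g : G, 1 < ∑ g : G, Nat.card (fixedBy (G ⧸ H) g) := by
    refine Finset.sum_lt_sum (fun g _ => ?_) ⟨1, Finset.mem_univ _, ?_⟩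
    · obtain ⟨x, hx⟩ := h g
      have : Nonempty (fixedBy (G ⧸ H) g) := ⟨⟨(x : G ⧸ H), by
        show g • (x : G ⧸ H) = (x : G ⧸ H)
        rw [MulAction.Quotient.smul_coe, smul_eq_mul]
        exact (QuotientGroup.eq.mpr (by simpa [mul_assoc] using hx)).symm⟩⟩
      exact Nat.card_pos
    · rw [show fixedBy (G ⧸ H) (1 : G) = Set.univ from fixedBy_one_eq_univ _ _, Nat.card_univ]
      change 1 < H.index
      omega
  rw [hs] at hlt
  simp at hlt

/-- A group generated by normal abelian subgroups that commute with each other is abelian;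
stated for the conjugates of a subgroup. -/
theorem isMulCommutative_iSup {G : Type*} [Group G] {ι : Sort*} (K : ι → Subgroup G)
    (h : ∀ i j, ∀ x ∈ K i, ∀ y ∈ K j, x * y = y * x) :
    ∀ x ∈ (⨆ i, K i), ∀ y ∈ (⨆ i, K i), x * y = y * x := by
  intro x hx
  have hxc : ∀ j, ∀ y ∈ K j, y * x = x * y := by
    intro j y hy
    have hle : (⨆ i, K i) ≤ Subgroup.centralizer {y} := iSup_le fun i z hz => by
      rw [Subgroup.mem_centralizer_iff]
      intro w hw
      rw [Set.mem_singleton_iff.1 hw]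
      exact (h i j z hz y hy).symm
    exact (Subgroup.mem_centralizer_iff.1 (hle hx)) y rfl
  intro y hy
  have hle : (⨆ i, K i) ≤ Subgroup.centralizer {x} := iSup_le fun i z hz => by
    rw [Subgroup.mem_centralizer_iff]
    intro w hw
    rw [Set.mem_singleton_iff.1 hw]
    exact (hxc i z hz).symm
  exact (Subgroup.mem_centralizer_iff.1 (hle hy)) x rfl

variable {G Ω : Type*} [Group G] [Finite G] [MulAction G Ω] [FaithfulSMul G Ω] [Finite Ω]

/-- Under the hypothesis that derangements have `p`-power order, a minimal normal subgroup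
`N` of a primitive group is abelian and regular, or simple with trivial centralizer. -/
theorem minimalNormal_of_prime_power_derangements [IsPreprimitive G Ω] (hΩ : 2 ≤ Nat.card Ω)
    (p : ℕ) (hp : p.Prime) (hder : ∀ g : G, (∀ ω : Ω, g • ω ≠ ω) → ∃ k : ℕ, orderOf g = p ^ k)
    (N : Subgroup G) [hN : N.Normal] (hNne : N ≠ ⊥)
    (hmin : ∀ K : Subgroup G, K.Normal → K ≤ N → K = ⊥ ∨ K = N)
    (hnab : ¬ ∀ x ∈ N, ∀ y ∈ N, x * y = y * x) :
    IsSimpleGroup N ∧ Subgroup.centralizer (N : Set G) = ⊥ := by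
  classical
  have : Nontrivial Ω := Finite.one_lt_card_iff_nontrivial.mp hΩ
  obtain ⟨a⟩ : Nonempty Ω := inferInstance
  have hNt : IsPretransitive N Ω := pretransitive_of_normal N hNne
  have hNnab : ∀ A : Subgroup N, (∀ B : Subgroup G, A.map N.subtype = B → B.Normal) → A ≠ ⊥ →
      (∀ x ∈ A, ∀ y ∈ A, x * y = y * x) → False := by
    intro A hA hAne hAc
    have hAn := hA _ rfl
    have hle : A.map N.subtype ≤ N := Subgroup.map_subtype_le A
    rcases hmin _ hAn hle with h | h
    · exact hAne ((Subgroup.map_eq_bot_iff_of_injective A N.subtype_injective).mp h)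
    · apply hnab
      intro x hx y hy
      rw [← h] at hx hy
      obtain ⟨x', hx', rfl⟩ := hx
      obtain ⟨y', hy', rfl⟩ := hy
      exact congrArg Subtype.val (hAc x' hx' y' hy')
  -- the centre of `N` is trivial and `N` is not a `p`-group
  have hZ : Subgroup.center N = ⊥ := by
    by_contra hZ
    refine hNnab (Subgroup.center N) ?_ hZ (fun x hx y _ => (Subgroup.mem_center_iff.1 hx y).symm)
    rintro _ rfl
    infer_instance
  have hNp : ¬ IsPGroup p N := by
    intro hP
    have : Fact p.Prime := ⟨hp⟩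
    have : Nontrivial N := (Subgroup.nontrivial_iff_ne_bot N).2 hNne
    have := hP.center_nontrivial
    exact absurd hZ ((Subgroup.nontrivial_iff_ne_bot _).1 this)
  -- trivial centralizer
  have hC : Subgroup.centralizer (N : Set G) = ⊥ := by
    by_contra hC
    have hCn : (Subgroup.centralizer (N : Set G)).Normal := inferInstance
    have hCt : IsPretransitive (Subgroup.centralizer (N : Set G)) Ω := pretransitive_of_normal _ hC
    have hreg := stabilizer_eq_bot_of_centralizes' (M := N) hCt (fun x hx y hy =>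
      (Subgroup.mem_centralizer_iff.1 hy x hx))
    apply hNp
    intro x
    by_cases hx1 : x = 1
    · exact ⟨0, by rw [hx1, pow_zero, pow_one]⟩
    obtain ⟨k, hk⟩ := hder (x : G) (fun ω hω => hx1 (by
      have : x ∈ stabilizer N ω := mem_stabilizer_iff.2 hω
      rwa [hreg ω, Subgroup.mem_bot] at this))
    exact ⟨k, Subtype.ext (by rw [SubmonoidClass.coe_pow, ← hk, pow_orderOf_eq_one]; rfl)⟩
  refine ⟨?_, hC⟩
  -- a minimal normal subgroup of `N`
  have hNnt : Nontrivial N := (Subgroup.nontrivial_iff_ne_bot N).2 hNne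
  obtain ⟨T₀, ⟨hT₀n, hT₀ne⟩, hT₀min⟩ : ∃ T : Subgroup N, Minimal (fun K => K.Normal ∧ K ≠ ⊥) T := by
    obtain ⟨T, hT⟩ := (Set.toFinite {K : Subgroup N | K.Normal ∧ K ≠ ⊥}).exists_minimal
      ⟨⊤, inferInstance, top_ne_bot⟩
    exact ⟨T, hT⟩
  refine ⟨fun H hH => ?_⟩
  by_cases hHne : H = ⊥
  · exact Or.inl hHne
  right
  suffices hT₀top : T₀ = ⊤ by
    have : T₀ ≤ H := hT₀top ▸ (show (⊤ : Subgroup N) ≤ H from hT₀top ▸ hT₀min ⟨hH, hHne⟩ (hT₀top ▸ le_top))
    exact top_le_iff.1 (hT₀top ▸ this)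
  by_contra hT₀top
  set T : Subgroup G := T₀.map N.subtype with hTdef
  have hTN : T ≤ N := Subgroup.map_subtype_le T₀
  have hTne : T ≠ ⊥ := fun e =>
    hT₀ne ((Subgroup.map_eq_bot_iff_of_injective T₀ N.subtype_injective).mp e)
  -- `T` is normalised by `N` and minimal for this
  have hTnorm : ∀ n ∈ N, ∀ t ∈ T, n * t * n⁻¹ ∈ T := by
    rintro n hn _ ⟨t, ht, rfl⟩
    exact ⟨⟨n, hn⟩ * t * ⟨n, hn⟩⁻¹, hT₀n.conj_mem t ht ⟨n, hn⟩, rfl⟩
  have hTmin : ∀ K : Subgroup G, K ≤ T → (∀ n ∈ N, ∀ t ∈ K, n * t * n⁻¹ ∈ K) → K = ⊥ ∨ K = T := by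
    intro K hK hKn
    by_cases hK0 : K = ⊥
    · exact Or.inl hK0
    right
    refine le_antisymm hK ?_
    have hKN : K ≤ N := hK.trans hTN
    have h1 : T₀ ≤ K.subgroupOf N := hT₀min ⟨⟨fun x hx g => hKn g g.2 x hx⟩, fun e => hK0 (by
        rw [Subgroup.subgroupOf_eq_bot, disjoint_iff, inf_eq_left.2 hKN] at e; exact e)⟩
      (fun x hx => by
        obtain ⟨y, hy, hyx⟩ := hK (Subgroup.mem_subgroupOf.1 hx)
        rwa [show x = y from Subtype.ext hyx.symm])
    rintro _ ⟨t, ht, rfl⟩
    exact h1 ht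
  -- conjugates
  set c : G → Subgroup G := fun g => T.map (MulAut.conj g).toMonoidHom with hcdef
  have hmem : ∀ g x, x ∈ c g ↔ g⁻¹ * x * g ∈ T := by
    intro g x
    rw [hcdef]
    show x ∈ T.map (MulAut.conj g).toMonoidHom ↔ _
    rw [Subgroup.mem_map_equiv, MulAut.conj_symm_apply]
  have hcN : ∀ g, c g ≤ N := by
    intro g x hx
    have := hN.conj_mem _ (hTN ((hmem g x).1 hx)) g
    simpa [mul_assoc] using this
  have hcnorm : ∀ g, ∀ n ∈ N, ∀ t ∈ c g, n * t * n⁻¹ ∈ c g := by
    intro g n hn t ht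
    rw [hmem] at ht ⊢
    have hn' : g⁻¹ * n * g ∈ N := by simpa using hN.conj_mem n hn g⁻¹
    convert hTnorm _ hn' _ ht using 1
    group
  have hsup : (⨆ g, c g) = N := by
    have hle : (⨆ g, c g) ≤ N := iSup_le hcN
    have hnormal : (⨆ g, c g).Normal := by
      refine ⟨fun x hx h => ?_⟩
      have hmap : (⨆ g, c g).map (MulAut.conj h).toMonoidHom ≤ ⨆ g, c g := by
        rw [Subgroup.map_iSup]
        refine iSup_le fun g y hy => Subgroup.mem_iSup_of_mem (h * g) ?_
        rw [Subgroup.mem_map_equiv, MulAut.conj_symm_apply, hmem] at hy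
        rw [hmem]
        convert hy using 1
        group
      exact hmap ⟨x, hx, rfl⟩
    have hne : (⨆ g, c g) ≠ ⊥ := by
      intro e
      apply hTne
      rw [eq_bot_iff, ← e]
      intro x hx
      exact Subgroup.mem_iSup_of_mem 1 ((hmem 1 x).2 (by simpa using hx))
    exact (hmin _ hnormal hle).resolve_left hne
  -- a conjugate different from `T` commutes with `T`
  have hcomm : ∀ g, c g ≠ T → ∀ x ∈ T, ∀ y ∈ c g, x * y = y * x := by
    intro g hg x hx y hy
    rcases hTmin (T ⊓ c g) inf_le_left (fun n hn t ht =>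
      ⟨hTnorm n hn t ht.1, hcnorm g n hn t ht.2⟩) with h | h
    · have h1 : x * y * x⁻¹ * y⁻¹ ∈ T ⊓ c g := by
        refine ⟨?_, ?_⟩
        · have := T.mul_mem hx (hTnorm y (hcN g hy) _ (T.inv_mem hx))
          simpa [mul_assoc] using this
        · exact (c g).mul_mem (hcnorm g x (hTN hx) y hy) ((c g).inv_mem hy)
      rw [h, Subgroup.mem_bot, mul_inv_eq_one, mul_inv_eq_iff_eq_mul] at h1
      exact h1
    · exfalso
      apply hg
      refine (Subgroup.eq_of_le_of_card_ge (inf_eq_left.1 h) ?_).symm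
      rw [hcdef]
      exact le_of_eq (Nat.card_congr (T.equivMapOfInjective _ (MulAut.conj g).injective).toEquiv).symm
  -- some conjugate differs from `T`
  obtain ⟨g₁, hg₁⟩ : ∃ g, c g ≠ T := by
    by_contra hall
    push Not at hall
    apply hT₀top
    rw [eq_top_iff]
    intro x _
    have hx : (x : G) ∈ T := by
      have : (x : G) ∈ ⨆ g, c g := by rw [hsup]; exact x.2
      exact (iSup_le fun g => (hall g).le : (⨆ g, c g) ≤ T) this
    obtain ⟨y, hy, hyx⟩ := hx
    rwa [show x = y from Subtype.ext hyx.symm]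
  -- `T` is not abelian
  have hTc : ∀ x ∈ T, (∀ y ∈ T, x * y = y * x) → x = 1 := by
    intro x₀ hx₀ hc₀
    set Z : Subgroup G := T ⊓ Subgroup.centralizer (T : Set G) with hZdef
    have hx₀Z : x₀ ∈ Z := ⟨hx₀, Subgroup.mem_centralizer_iff.2 fun y hy => (hc₀ y hy).symm⟩
    rcases hTmin Z inf_le_left (fun n hn t ht => ⟨hTnorm n hn t ht.1,
      Subgroup.mem_centralizer_iff.2 fun y hy => by
        have h2 := Subgroup.mem_centralizer_iff.1 ht.2 _ (hTnorm n⁻¹ (N.inv_mem hn) y hy)
        rw [inv_inv] at h2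
        calc y * (n * t * n⁻¹) = n * ((n⁻¹ * y * n) * t) * n⁻¹ := by group
          _ = n * (t * (n⁻¹ * y * n)) * n⁻¹ := by rw [h2]
          _ = n * t * n⁻¹ * y := by group⟩) with h | h
    · rwa [h, Subgroup.mem_bot] at hx₀Z
    · exfalso
      have hab : ∀ x ∈ T, ∀ y ∈ T, x * y = y * x := fun x hx y hy =>
        (Subgroup.mem_centralizer_iff.1 (h.ge hx).2 y hy).symm
      apply hnab
      rw [← hsup]
      refine isMulCommutative_iSup c fun i j x hx y hy => ?_
      have hx' : i⁻¹ * x * i ∈ T := (hmem i x).1 hx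
      have hy' : i⁻¹ * y * i ∈ c (i⁻¹ * j) := by
        rw [hmem]
        have := (hmem j y).1 hy
        convert this using 1
        group
      have key : (i⁻¹ * x * i) * (i⁻¹ * y * i) = (i⁻¹ * y * i) * (i⁻¹ * x * i) := by
        by_cases he : c (i⁻¹ * j) = T
        · exact hab _ hx' _ (he ▸ hy')
        · exact hcomm _ he _ hx' _ hy'
      calc x * y = i * ((i⁻¹ * x * i) * (i⁻¹ * y * i)) * i⁻¹ := by group
        _ = i * ((i⁻¹ * y * i) * (i⁻¹ * x * i)) * i⁻¹ := by rw [key]
        _ = y * x := by group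
  -- every element of `T` fixes a point
  have hfix : ∀ t ∈ T, ∃ ω : Ω, t • ω = ω := by
    intro t ht
    by_contra hno
    push Not at hno
    obtain ⟨k, hk⟩ := hder t hno
    have hTp : ¬ IsPGroup p T := by
      intro hP
      have : Fact p.Prime := ⟨hp⟩
      have : Nontrivial T := (Subgroup.nontrivial_iff_ne_bot T).2 hTne
      have := hP.center_nontrivial
      obtain ⟨z, hz1⟩ := exists_ne (1 : Subgroup.center T)
      refine hz1 (Subtype.ext (Subtype.ext (hTc _ (z : T).2 fun y hy => ?_)))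
      exact (congrArg Subtype.val (Subgroup.mem_center_iff.1 z.2 ⟨y, hy⟩)).symm
    obtain ⟨r, hr, s₀, hs₀, hrp⟩ : ∃ r : ℕ, r.Prime ∧ ∃ s₀ : T, orderOf s₀ = r ∧ r ≠ p := by
      by_contra hcon
      push Not at hcon
      apply hTp
      have : Fact p.Prime := ⟨hp⟩
      rw [IsPGroup.iff_card]
      refine ⟨_, Nat.eq_prime_pow_of_unique_prime_dvd Nat.card_pos.ne' fun {d} hd hdvd => ?_⟩
      have : Fact d.Prime := ⟨hd⟩
      obtain ⟨s, hs⟩ := exists_prime_orderOf_dvd_card' d hdvd
      exact hcon d hd s hs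
    set s : G := g₁ * (s₀ : G) * g₁⁻¹ with hsdef
    have hs : s ∈ c g₁ := by
      rw [hmem, hsdef]
      convert s₀.2 using 1
      group
    have hsr : orderOf s = r := by
      rw [hsdef, ← hs₀, ← orderOf_injective T.subtype T.subtype_injective s₀]
      exact orderOf_injective (MulAut.conj g₁).toMonoidHom (MulAut.conj g₁).injective _
    have hts : Commute t s := hcomm g₁ hg₁ t ht s hs
    have hcop : Nat.Coprime (orderOf t) (orderOf s) := by
      rw [hk, hsr]
      exact Nat.Coprime.pow_left _ ((Nat.coprime_primes hp hr).2 hrp.symm)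
    have hord : orderOf (t * s) = p ^ k * r := by
      rw [hts.orderOf_mul_eq_mul_orderOf_of_coprime hcop, hk, hsr]
    obtain ⟨ω, hω⟩ : ∃ ω : Ω, (t * s) • ω = ω := by
      by_contra hno'
      push Not at hno'
      obtain ⟨l, hl⟩ := hder _ hno'
      rw [hord] at hl
      have : r ∣ p ^ l := hl ▸ Dvd.intro_left _ rfl
      exact hrp ((Nat.prime_dvd_prime_iff_eq hr hp).1 (hr.dvd_of_dvd_pow this))
    have h1 : (t * s) ^ r ∈ stabilizer G ω := Subgroup.pow_mem _ (mem_stabilizer_iff.2 hω) r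
    rw [hts.mul_pow, ← hsr, pow_orderOf_eq_one, mul_one, hsr] at h1
    have hco : Nat.Coprime (orderOf t) r := hsr ▸ hcop
    obtain ⟨m, hm⟩ := exists_pow_eq_self_of_coprime (x := t) hco.symm
    have h2 := Subgroup.pow_mem _ h1 m
    rw [hm] at h2
    exact hno ω h2
  -- `N` is the product of `T` and its centralizer in `N`
  set C : Subgroup G := N ⊓ Subgroup.centralizer (T : Set G) with hCdef
  have hprod : ∀ n ∈ N, ∃ t ∈ T, ∃ u ∈ C, n = t * u := by
    intro n hn
    have hle : (⨆ g, c g) ≤ T ⊔ C := iSup_le fun g => by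
      by_cases he : c g = T
      · exact he.le.trans le_sup_left
      · exact le_trans (show c g ≤ C from fun y hy => Subgroup.mem_inf.2 ⟨hcN g hy,
          Subgroup.mem_centralizer_iff.2 fun x hx => hcomm g he x hx y hy⟩) le_sup_right
    have hn' : n ∈ T ⊔ C := hle (by rw [hsup]; exact hn)
    rw [← SetLike.mem_coe, Subgroup.coe_mul_of_right_le_normalizer_left T C (fun y hy => by
      rw [Subgroup.mem_normalizer_iff]
      intro x
      constructor
      · exact hTnorm y hy.1 x
      · intro hx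
        have := hTnorm y⁻¹ (N.inv_mem hy.1) _ hx
        simpa [mul_assoc] using this)] at hn'
    obtain ⟨t, ht, u, hu, rfl⟩ := Set.mem_mul.1 hn'
    exact ⟨t, ht, u, hu, rfl⟩
  -- Jordan
  have htop : (stabilizer G a).subgroupOf T = ⊤ := by
    apply eq_top_of_forall_conj_mem
    intro s
    obtain ⟨ω, hω⟩ := hfix s s.2
    obtain ⟨⟨n, hn⟩, hna⟩ := hNt.exists_smul_eq a ω
    obtain ⟨t, ht, u, hu, rfl⟩ := hprod n hn
    refine ⟨⟨t, ht⟩, ?_⟩
    rw [Subgroup.mem_subgroupOf, mem_stabilizer_iff]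
    show (t⁻¹ * (s : G) * t) • a = a
    have hω' : (s : G) • (t * u) • a = (t * u) • a := by
      have : (t * u) • a = ω := hna
      rw [this]; exact hω
    have hcom : u * (t⁻¹ * (s : G) * t) = (t⁻¹ * (s : G) * t) * u :=
      (Subgroup.mem_centralizer_iff.1 hu.2 _ (T.mul_mem (T.mul_mem (T.inv_mem ht) s.2) ht)).symm
    have h3 : (u * (t⁻¹ * (s : G) * t)) • a = u • a := by
      rw [hcom]
      rw [smul_smul] at hω'
      calc (t⁻¹ * (s : G) * t * u) • a = t⁻¹ • ((s : G) * (t * u)) • a := by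
            rw [smul_smul]; congr 1; group
        _ = t⁻¹ • (t * u) • a := by rw [hω']
        _ = u • a := by rw [smul_smul]; congr 1; group
    rw [mul_smul] at h3
    exact smul_left_cancel u h3
  apply hTne
  rw [Subgroup.eq_bot_iff_forall]
  intro x hx
  refine eq_of_smul_eq_smul (α := Ω) fun ω => ?_
  rw [one_smul]
  obtain ⟨⟨n, hn⟩, rfl⟩ := hNt.exists_smul_eq a ω
  show x • n • a = n • a
  have hx' : n⁻¹ * x * n ∈ T := by simpa using hTnorm n⁻¹ (N.inv_mem hn) x hx
  have h4 : (⟨_, hx'⟩ : T) ∈ (stabilizer G a).subgroupOf T := by rw [htop]; trivial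
  rw [Subgroup.mem_subgroupOf, mem_stabilizer_iff] at h4
  have h5 : (n⁻¹ * x * n) • a = a := h4
  rw [mul_smul, mul_smul, inv_smul_eq_iff] at h5
  exact h5

end Cfsg.Agent.PermGroups
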