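/-
Groups of characteristic 2 type in the early sense: trivial cores of involution centralizers, and, when all
maximal 2-locals have cyclic `Z(O₂)`, Sylow 2-subgroups with nontrivial meet share their central involutions.
-/
import Cfsg.Agent.LocalEven.CharTwoLocals
import Cfsg.Agent.Components.SFT.Equivariant
import Cfsg.Agent.Transfer.PGroupNormal
import Cfsg.Prelude.Def_OddOrderLocal

set_option autoImplicit false
set_option linter.style.haveILetI false
set_option linter.unusedSectionVars false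

open Cfsg

namespace Cfsg.Agent.PermGroups.EarlyCharTwo

variable {G : Type*} [Group G] [Finite G]

abbrev th (x : G) : Subgroup G := Cfsg.centralizerPPrimeCore 2 x

theorem th_le (x : G) : th x ≤ Subgroup.centralizer ({x} : Set G) := Subgroup.map_subtype_le _

theorem th_comm {x k : G} (hk : k ∈ th x) : k * x = x * k :=
  Subgroup.mem_centralizer_singleton_iff.mp (th_le x hk)

theorem th_odd (x : G) : Odd (Nat.card (th x)) :=
  Nat.coprime_two_right.mp (Components.SFT.card_pcore' (t := 2) (Subgroup.centralizer ({x} : Set G)))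

theorem th_conj {x k : G} (g : G) (hk : k ∈ th x) : g * k * g⁻¹ ∈ th (g * x * g⁻¹) := by
  haveI : Fact (Nat.Prime 2) := ⟨Nat.prime_two⟩
  exact Components.SFT.map_centralizerPPrimeCore_le x g ⟨k, hk, by simp⟩

theorem th_conj_of_comm {x g k : G} (h : g * x = x * g) (hk : k ∈ th x) : g * k * g⁻¹ ∈ th x := by
  have := th_conj g hk
  rwa [show g * x * g⁻¹ = x by rw [h, mul_inv_cancel_right]] at this

theorem sq_eq_one {t : G} (ht : orderOf t = 2) : t * t = 1 := by
  rw [← pow_two, ← ht, pow_orderOf_eq_one]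

theorem inv_self {t : G} (h : t * t = 1) : t⁻¹ = t := inv_eq_of_mul_eq_one_right h

theorem isPGroup_zpowers {t : G} (ht : orderOf t = 2) : IsPGroup 2 (Subgroup.zpowers t) :=
  IsPGroup.of_card (n := 1) (by rw [Nat.card_zpowers, ht, pow_one])

theorem normalizer_zpowers_eq {t : G} (ht : orderOf t = 2) :
    Subgroup.normalizer (Subgroup.zpowers t : Set G) = Subgroup.centralizer ({t} : Set G) := by
  have ht1 : t ≠ 1 := fun h => by simp [h] at ht
  apply le_antisymm
  · intro g hg
    obtain ⟨k, hk⟩ := (Subgroup.mem_normalizer_iff.mp hg t).mp (Subgroup.mem_zpowers t)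
    have hk' : g * t * g⁻¹ = 1 ∨ g * t * g⁻¹ = t := by
      rcases Int.even_or_odd' k with ⟨j, rfl | rfl⟩
      · left
        rw [← hk]
        change t ^ (2 * j) = 1
        rw [zpow_mul, zpow_ofNat, ← ht, pow_orderOf_eq_one, one_zpow]
      · right
        rw [← hk]
        change t ^ (2 * j + 1) = t
        rw [zpow_add, zpow_mul, zpow_ofNat, ← ht, pow_orderOf_eq_one, one_zpow, one_mul, zpow_one]
    rcases hk' with h | h
    · exact absurd (conj_eq_one_iff.mp h) ht1
    · exact Subgroup.mem_centralizer_singleton_iff.mpr (mul_inv_eq_iff_eq_mul.mp h)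
  · rw [← Subgroup.centralizer_closure, ← Subgroup.zpowers_eq_closure]
    exact Subgroup.centralizer_le_normalizer _

/-- All 2-local subgroups are 2-constrained. -/
def LocalsConstrained (G : Type*) [Group G] : Prop :=
  ∀ T : Subgroup G, IsPGroup 2 ↥T → T ≠ ⊥ → Cfsg.IsPConstrained 2 ↥(Subgroup.normalizer (T : Set G))

theorem constrained_centralizer (hcon : LocalsConstrained G) {t : G} (ht : orderOf t = 2) :
    Cfsg.IsPConstrained 2 ↥(Subgroup.centralizer ({t} : Set G)) := by
  have ht1 : t ≠ 1 := fun h => by simp [h] at ht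
  have h := hcon _ (isPGroup_zpowers ht) (Subgroup.zpowers_ne_bot.mpr ht1)
  rwa [normalizer_zpowers_eq ht] at h

/-- Balance. -/
theorem balance (hcon : LocalsConstrained G) {a b : G} (ha : orderOf a = 2) (hb : orderOf b = 2)
    (hab : a * b = b * a) {k : G} (hk : k ∈ th a) (hkb : k * b = b * k) : k ∈ th b := by
  haveI : Fact (Nat.Prime 2) := ⟨Nat.prime_two⟩
  set X := Subgroup.centralizer ({b} : Set G) with hXdef
  have haX : a ∈ X := Subgroup.mem_centralizer_singleton_iff.mpr hab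
  set P : Subgroup ↥X := Subgroup.zpowers ⟨a, haX⟩ with hP
  set W : Subgroup ↥X := (th a).subgroupOf X with hW
  have hL := (Components.isPConstrained_iff_pLayer_eq_bot 2).mp (constrained_centralizer hcon hb)
  have hPp : IsPGroup 2 P := IsPGroup.of_card (n := 1) (by
    rw [hP, Nat.card_zpowers, Subgroup.orderOf_mk, ha, pow_one])
  have hWC : W ≤ Subgroup.centralizer (P : Set ↥X) := by
    intro w hw
    rw [hP, Subgroup.zpowers_eq_closure, Subgroup.centralizer_closure, Subgroup.mem_centralizer_singleton_iff]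
    exact Subtype.ext (th_comm (Subgroup.mem_subgroupOf.mp hw))
  have hWp : (Nat.card W).Coprime 2 := by
    refine Nat.Coprime.coprime_dvd_left ?_ (Nat.coprime_two_right.mpr (th_odd a))
    exact Subgroup.card_comap_dvd_of_injective (th a) X.subtype X.subtype_injective
  have hn : Subgroup.centralizer (P : Set ↥X) ≤ Subgroup.normalizer (W : Set ↥X) := by
    intro c hc
    refine Coprime.mem_normalizer_of_conj_mem fun w hw => ?_
    rw [hW, Subgroup.mem_subgroupOf] at hw ⊢
    have hca := Subgroup.mem_centralizer_iff.mp hc _ (Subgroup.mem_zpowers (⟨a, haX⟩ : ↥X))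
    exact th_conj_of_comm (congrArg Subtype.val hca).symm hw
  have hle := Components.le_pPrimeCore_of_local hL hPp hWC hWp hn
  exact ⟨⟨k, Subgroup.mem_centralizer_singleton_iff.mpr hkb⟩, hle hk, rfl⟩

/-- The explicit four-group `{1, a, b, ab}`. -/
def four {a b : G} (ha : a * a = 1) (hb : b * b = 1) (hab : a * b = b * a) : Subgroup G where
  carrier := {1, a, b, a * b}
  one_mem' := by simp
  inv_mem' := by
    have hia := inv_self ha
    have hib := inv_self hb
    rintro x (rfl | rfl | rfl | rfl) <;> simp [hia, hib, mul_inv_rev, ← hab]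
  mul_mem' := by
    have e1 : ∀ x, a * (a * x) = x := fun x => by rw [← mul_assoc, ha, one_mul]
    have e2 : ∀ x, b * (b * x) = x := fun x => by rw [← mul_assoc, hb, one_mul]
    have e3 : ∀ x, b * (a * x) = a * (b * x) := fun x => by rw [← mul_assoc, ← hab, mul_assoc]
    rintro x y (rfl | rfl | rfl | rfl) (rfl | rfl | rfl | rfl) <;>
      simp [mul_assoc, ha, hb, e1, e2, e3, ← hab]

structure Elem8 (S : Sylow 2 G) (V : Subgroup G) : Prop where
  le : V ≤ (S : Subgroup G)
  norm : ∀ s ∈ (S : Subgroup G), ∀ v ∈ V, s * v * s⁻¹ ∈ V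
  sq : ∀ v ∈ V, v * v = 1
  card : Nat.card V = 8

variable {S : Sylow 2 G} {V : Subgroup G}

theorem Elem8.comm (hV : Elem8 S V) {a b : G} (ha : a ∈ V) (hb : b ∈ V) : a * b = b * a := by
  have h := hV.sq _ (mul_mem ha hb)
  have h1 : a * b = (a * b)⁻¹ := (inv_self h).symm
  rw [h1, mul_inv_rev, inv_self (hV.sq a ha), inv_self (hV.sq b hb)]

theorem Elem8.order (hV : Elem8 S V) {a : G} (ha : a ∈ V) (ha1 : a ≠ 1) : orderOf a = 2 :=
  haveI : Fact (Nat.Prime 2) := ⟨Nat.prime_two⟩
  orderOf_eq_prime (by rw [pow_two]; exact hV.sq a ha) ha1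

theorem Elem8.exists_center (hV : Elem8 S V) :
    ∃ z ∈ V, z ≠ 1 ∧ ∀ s ∈ (S : Subgroup G), s * z = z * s := by
  haveI : Fact (Nat.Prime 2) := ⟨Nat.prime_two⟩
  set Vs := V.subgroupOf (S : Subgroup G)
  haveI : Vs.Normal := ⟨fun v hv s => hV.norm s s.2 v hv⟩
  have hne : Vs ≠ ⊥ := by
    intro h
    have h1 := Nat.card_congr (Subgroup.subgroupOfEquivOfLe hV.le).toEquiv
    rw [show Nat.card (V.subgroupOf (S : Subgroup G)) = 1 by
      change Nat.card Vs = 1; rw [h, Subgroup.card_bot], hV.card] at h1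
    omega
  haveI := S.isPGroup'.isNilpotent
  obtain ⟨z, hz, hz1, hzc⟩ := OddLocal.exists_ne_one_mem_center_of_normal Vs hne
  exact ⟨z, hz, fun h => hz1 (Subtype.ext h),
    fun s hs => congrArg Subtype.val (Subgroup.mem_center_iff.mp hzc ⟨s, hs⟩)⟩

theorem odd_of_comm_gens {s : Set G} (hc : ∀ x ∈ s, ∀ y ∈ s, x * y = y * x)
    (ho : ∀ x ∈ s, Odd (orderOf x)) : Odd (Nat.card (Subgroup.closure s)) := by
  have h1 : Subgroup.closure s ≤ Subgroup.centralizer s := by
    rw [Subgroup.closure_le]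
    exact fun x hx => Subgroup.mem_centralizer_iff.mpr fun y hy => hc y hy x hx
  have h2 : Subgroup.closure s ≤ Subgroup.centralizer (Subgroup.closure s : Set G) := by
    rwa [Subgroup.centralizer_closure]
  have hord : ∀ x ∈ Subgroup.closure s, Odd (orderOf x) := by
    intro x hx
    induction hx using Subgroup.closure_induction with
    | mem y hy => exact ho y hy
    | one => simp
    | mul a b ha hb iha ihb =>
      have hab : Commute a b := Subgroup.mem_centralizer_iff.mp (h2 hb) a ha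
      exact (iha.mul ihb).of_dvd_nat hab.orderOf_mul_dvd_mul_orderOf
    | inv a ha iha => rwa [orderOf_inv]
  rw [← Nat.not_even_iff_odd, even_iff_two_dvd]
  intro hd
  haveI : Fact (Nat.Prime 2) := ⟨Nat.prime_two⟩
  obtain ⟨w, hw⟩ := exists_prime_orderOf_dvd_card' 2 hd
  have h := hord (w : G) w.2
  rw [Subgroup.orderOf_coe, hw] at h
  exact absurd h (by decide)

theorem inverts {X : Subgroup G} {t : G} (htt : t * t = 1) (htX : ∀ x ∈ X, t * x * t⁻¹ ∈ X)
    (hfix : ∀ x ∈ X, t * x = x * t → x = 1) : ∀ x ∈ X, t * x * t⁻¹ = x⁻¹ := by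
  rw [inv_self htt] at htX ⊢
  exact LocalEven.CharTwoLocals.inverts_of_fixed_eq_one htt htX hfix

section Cores

variable (hcon : LocalsConstrained G)
  (hinv : ∀ X : Subgroup G, Odd (Nat.card ↥X) → (S : Subgroup G) ≤ Subgroup.normalizer (X : Set G) → X = ⊥)
  (hV : Elem8 S V)

include hcon hinv hV

theorem th_eq_bot_of_mem {a : G} (haV : a ∈ V) (ha1 : a ≠ 1) : th a = ⊥ := by
  obtain ⟨z, hzV, hz1, hzS⟩ := hV.exists_center
  have hzth : th z = ⊥ := hinv _ (th_odd z) fun s hs =>
    Coprime.mem_normalizer_of_conj_mem fun k hk => th_conj_of_comm (hzS s hs) hk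
  have hbal : ∀ {x y k : G}, x ∈ V → x ≠ 1 → y ∈ V → y ≠ 1 → k ∈ th x → k * y = y * k → k ∈ th y :=
    fun hx hx1 hy hy1 hk hky => balance hcon (hV.order hx hx1) (hV.order hy hy1) (hV.comm hx hy) hk hky
  have hzinv : ∀ x ∈ V, x ≠ 1 → ∀ k ∈ th x, z * k * z⁻¹ = k⁻¹ := by
    intro x hx hx1
    refine inverts (hV.sq z hzV) (fun k hk => th_conj_of_comm (hV.comm hzV hx) hk) fun k hk hc => ?_
    exact Subgroup.mem_bot.mp (hzth ▸ hbal hx hx1 hzV hz1 hk hc.symm)
  have habel : ∀ x ∈ V, x ≠ 1 → ∀ k ∈ th x, ∀ l ∈ th x, k * l = l * k := by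
    intro x hx hx1 k hk l hl
    have h := hzinv x hx hx1
    have e : k⁻¹ * l⁻¹ = (k * l)⁻¹ := by
      rw [← h k hk, ← h l hl, ← h _ (mul_mem hk hl)]; group
    have := congrArg (·⁻¹) e
    simp only [mul_inv_rev, inv_inv] at this
    exact this.symm
  let Gs : Set G := {g | ∃ x y, x ∈ V ∧ y ∈ V ∧ x ≠ 1 ∧ y ≠ 1 ∧ x ≠ y ∧ g ∈ th x ∧ g * y = y * g}
  have hcomm : ∀ g ∈ Gs, ∀ g' ∈ Gs, g * g' = g' * g := by
    rintro g ⟨x, y, hx, hy, hx1, hy1, hxy, hg, hgy⟩ g' ⟨x', y', hx', hy', hx1', hy1', hxy', hg', hgy'⟩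
    have hall : ∀ {x y g : G}, x ∈ V → y ∈ V → x ≠ 1 → y ≠ 1 → x ≠ y → g ∈ th x → g * y = y * g →
        ∀ c ∈ ({1, x, y, x * y} : Set G), c ≠ 1 → g ∈ th c := by
      intro x y g hx hy hx1 hy1 hxy hg hgy c hc hc1
      rcases hc with rfl | rfl | rfl | rfl
      · exact absurd rfl hc1
      · exact hg
      · exact hbal hx hx1 hy hy1 hg hgy
      · exact hbal hx hx1 (mul_mem hx hy) hc1 hg (by
          rw [← mul_assoc, th_comm hg, mul_assoc, hgy, ← mul_assoc])
    set H := four (hV.sq x hx) (hV.sq y hy) (hV.comm hx hy)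
    set H' := four (hV.sq x' hx') (hV.sq y' hy') (hV.comm hx' hy')
    have hcard : ∀ {x y : G} (hx : x ∈ V) (hy : y ∈ V), x ≠ 1 → y ≠ 1 → x ≠ y →
        Nat.card (four (hV.sq x hx) (hV.sq y hy) (hV.comm hx hy)) = 4 := by
      intro x y hx hy hx1 hy1 hxy
      have hxy1 : x * y ≠ 1 := fun h => hxy (by
        rw [← inv_self (hV.sq y hy)]; exact mul_eq_one_iff_eq_inv.mp h)
      show Nat.card ↥({1, x, y, x * y} : Set G) = 4
      rw [Nat.card_coe_set_eq, Set.ncard_insert_of_notMem, Set.ncard_insert_of_notMem,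
        Set.ncard_insert_of_notMem, Set.ncard_singleton]
      · simp [hx1]
      · simp [hxy, hy1]
      · simp [Ne.symm hx1, Ne.symm hy1, Ne.symm hxy1]
    have hsub : ∀ {x y : G} (hx : x ∈ V) (hy : y ∈ V),
        four (hV.sq x hx) (hV.sq y hy) (hV.comm hx hy) ≤ V := by
      rintro x y hx hy c (rfl | rfl | rfl | rfl)
      exacts [one_mem V, hx, hy, mul_mem hx hy]
    obtain ⟨c, hcH, hcH', hc1⟩ : ∃ c, c ∈ H ∧ c ∈ H' ∧ c ≠ 1 := by
      by_contra hcon'
      push Not at hcon'
      have hinj : Function.Injective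
          (fun p : ↥H × ↥H' => (⟨p.1.1 * p.2.1, mul_mem (hsub hx hy p.1.2) (hsub hx' hy' p.2.2)⟩ : ↥V)) := by
        rintro ⟨p, q⟩ ⟨p', q'⟩ he
        have he' : (p : G) * q = p' * q' := congrArg Subtype.val he
        have h1 : (p' : G)⁻¹ * p = q' * (q : G)⁻¹ := by
          calc (p' : G)⁻¹ * p = (p' : G)⁻¹ * ((p : G) * q) * (q : G)⁻¹ := by group
            _ = _ := by rw [he']; group
        have h2 := hcon' _ (mul_mem (inv_mem p'.2) p.2) (h1 ▸ mul_mem q'.2 (inv_mem q.2))
        have hp : p = p' := Subtype.ext (inv_mul_eq_one.mp h2).symm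
        subst hp
        exact Prod.ext rfl (Subtype.ext (mul_left_cancel he'))
      have := Nat.card_le_card_of_injective _ hinj
      rw [Nat.card_prod, hcard hx hy hx1 hy1 hxy, hcard hx' hy' hx1' hy1' hxy', hV.card] at this
      omega
    exact habel c (hsub hx hy hcH) hc1 g (hall hx hy hx1 hy1 hxy hg hgy c hcH hc1) g'
      (hall hx' hy' hx1' hy1' hxy' hg' hgy' c hcH' hc1)
  have hW : Subgroup.closure Gs = ⊥ := by
    refine hinv _ (odd_of_comm_gens hcomm ?_) ?_
    · rintro g ⟨x, _, -, -, -, -, -, hg, -⟩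
      exact (th_odd x).of_dvd_nat (Subgroup.orderOf_dvd_natCard _ hg)
    · intro s hs
      refine Coprime.mem_normalizer_of_conj_mem fun w hw => ?_
      have h : (Subgroup.closure Gs).map (MulAut.conj s).toMonoidHom ≤ Subgroup.closure Gs := by
        rw [MonoidHom.map_closure]
        refine Subgroup.closure_mono ?_
        rintro _ ⟨g, ⟨x, y, hx, hy, hx1, hy1, hxy, hg, hgy⟩, rfl⟩
        refine ⟨s * x * s⁻¹, s * y * s⁻¹, hV.norm s hs x hx, hV.norm s hs y hy,
          fun h => hx1 (conj_eq_one_iff.mp h), fun h => hy1 (conj_eq_one_iff.mp h),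
          fun h => hxy (mul_left_cancel (mul_right_cancel h)), ?_, ?_⟩
        · simpa using th_conj s hg
        · simp only [MulEquiv.coe_toMonoidHom, MulAut.conj_apply]
          calc s * g * s⁻¹ * (s * y * s⁻¹) = s * (g * y) * s⁻¹ := by group
            _ = _ := by rw [hgy]; group
      exact h ⟨w, hw, by simp⟩
  have hGs : ∀ g ∈ Gs, g = 1 := fun g hg => Subgroup.mem_bot.mp (hW ▸ Subgroup.subset_closure hg)
  by_cases haz : a = z
  · rw [haz]; exact hzth
  obtain ⟨b, hbV, hb⟩ : ∃ b ∈ V, b ∉ ({1, a, z, a * z} : Set G) := by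
    by_contra hcon'
    push Not at hcon'
    have h1 : Nat.card V ≤ ({1, a, z, a * z} : Set G).ncard := by
      rw [← SetLike.coe_sort_coe, Nat.card_coe_set_eq]
      exact Set.ncard_le_ncard hcon'
    have h2 : ({1, a, z, a * z} : Set G).ncard ≤ 4 := by
      have e1 := Set.ncard_insert_le (1 : G) {a, z, a * z}
      have e2 := Set.ncard_insert_le a {z, a * z}
      have e3 := Set.ncard_insert_le z {a * z}
      rw [Set.ncard_singleton] at e3
      omega
    rw [hV.card] at h1
    omega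
  simp only [Set.mem_insert_iff, Set.mem_singleton_iff, not_or] at hb
  obtain ⟨hb1, hba, hbz, hbaz⟩ := hb
  rw [Subgroup.eq_bot_iff_forall]
  intro k hk
  have hkb : b * k * b⁻¹ ∈ th a := th_conj_of_comm (hV.comm hbV haV) hk
  have hm : k * (b * k * b⁻¹) = 1 := by
    refine hGs _ ⟨a, b, haV, hbV, ha1, hb1, Ne.symm hba, mul_mem hk hkb, ?_⟩
    have hbb := hV.sq b hbV
    rw [inv_self hbb]
    calc k * (b * k * b) * b = k * b * k * (b * b) := by group
      _ = (b * b) * (k * b * k) := by rw [hbb, mul_one, one_mul]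
      _ = b * ((b * k * b) * k) := by group
      _ = b * (k * (b * k * b)) := by
          rw [habel a haV ha1 (b * k * b) (by rwa [inv_self hbb] at hkb) k hk]
  have hkinv : b * k * b⁻¹ = k⁻¹ := eq_inv_of_mul_eq_one_right hm
  have hzk := hzinv a haV ha1 k hk
  refine hGs _ ⟨a, b * z, haV, mul_mem hbV hzV, ha1, ?_, ?_, hk, ?_⟩
  · intro h
    exact hbz (by rw [← inv_self (hV.sq z hzV)]; exact mul_eq_one_iff_eq_inv.mp h)
  · intro h
    exact hbaz (by rw [h, mul_assoc, hV.sq z hzV, mul_one])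
  · have e : (b * z) * k * (b * z)⁻¹ = k := by
      calc (b * z) * k * (b * z)⁻¹ = b * (z * k * z⁻¹) * b⁻¹ := by group
        _ = (b * k * b⁻¹)⁻¹ := by rw [hzk]; group
        _ = k := by rw [hkinv, inv_inv]
    exact (mul_inv_eq_iff_eq_mul.mp e).symm

theorem th_eq_bot {t : G} (ht : orderOf t = 2) : th t = ⊥ := by
  haveI : Fact (Nat.Prime 2) := ⟨Nat.prime_two⟩
  obtain ⟨P, hP⟩ := (isPGroup_zpowers ht).exists_le_sylow
  obtain ⟨g, hg⟩ := MulAction.exists_smul_eq G P S
  set w := g * t * g⁻¹ with hwdef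
  have hwS : w ∈ (S : Subgroup G) := by
    rw [← hg, Sylow.coe_subgroup_smul]
    exact ⟨t, hP (Subgroup.mem_zpowers t), by simp [hwdef]⟩
  suffices hw : th w = ⊥ by
    rw [Subgroup.eq_bot_iff_forall]
    intro k hk
    have := th_conj g hk
    rw [hw, Subgroup.mem_bot] at this
    exact conj_eq_one_iff.mp this
  have hw2 : orderOf w = 2 := by
    rw [hwdef, ← MulAut.conj_apply, MulEquiv.orderOf_eq, ht]
  have hww := sq_eq_one hw2
  let φ : ↥V →* ↥V :=
    { toFun := fun v => ⟨v * (w * v * w⁻¹), mul_mem v.2 (hV.norm w hwS v v.2)⟩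
      map_one' := by simp
      map_mul' := fun u v => by
        refine Subtype.ext ?_
        simp only [Subgroup.coe_mul]
        calc (u : G) * v * (w * (u * v) * w⁻¹) = u * (v * (w * u * w⁻¹)) * (w * v * w⁻¹) := by group
          _ = u * ((w * u * w⁻¹) * v) * (w * v * w⁻¹) := by rw [hV.comm v.2 (hV.norm w hwS u u.2)]
          _ = _ := by group }
  have hker : ∀ v ∈ φ.ker, w * (v : G) = v * w := by
    intro v hv
    have h : (v : G) * (w * v * w⁻¹) = 1 := congrArg Subtype.val (MonoidHom.mem_ker.mp hv)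
    have h1 : w * v * w⁻¹ = (v : G) := by
      rw [eq_inv_of_mul_eq_one_right h, inv_self (hV.sq v v.2)]
    exact mul_inv_eq_iff_eq_mul.mp h1
  have hrk : φ.range ≤ φ.ker := by
    rintro _ ⟨v, rfl⟩
    refine MonoidHom.mem_ker.mpr (Subtype.ext ?_)
    show (v : G) * (w * v * w⁻¹) * (w * (v * (w * v * w⁻¹)) * w⁻¹) = 1
    rw [inv_self hww]
    calc (v : G) * (w * v * w) * (w * (v * (w * v * w)) * w)
        = (v : G) * (w * v) * (w * w) * (v * (w * v)) * (w * w) := by group
      _ = (v : G) * w * ((v : G) * v) * w * v := by rw [hww]; group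
      _ = (v : G) * (w * w) * v := by rw [hV.sq v v.2]; group
      _ = 1 := by rw [hww, mul_one, hV.sq v v.2]
  have hk3 : 3 ≤ Nat.card φ.ker := by
    have h1 := φ.ker.card_mul_index
    rw [Subgroup.index_ker, hV.card] at h1
    have h2 := Subgroup.card_le_of_le hrk
    by_contra h3
    have h4 : Nat.card φ.ker ≤ 2 := by omega
    have := Nat.mul_le_mul h4 (h2.trans h4)
    omega
  obtain ⟨a, ha, ha1, b, hb, hb1, hab⟩ : ∃ a ∈ φ.ker, a ≠ 1 ∧ ∃ b ∈ φ.ker, b ≠ 1 ∧ a ≠ b := by
    have h : 1 < ((φ.ker : Set ↥V) \ {1}).ncard := by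
      rw [Set.ncard_diff_singleton_of_mem (one_mem _), ← Nat.card_coe_set_eq]
      change 1 < Nat.card φ.ker - 1
      omega
    obtain ⟨a, ha, b, hb, hab⟩ := (Set.one_lt_ncard (Set.toFinite _)).mp h
    exact ⟨a, ha.1, ha.2, b, hb.1, hb.2, hab⟩
  have key : ∀ v : ↥V, v ≠ 1 → v ∈ φ.ker → ∀ k ∈ th w, (v : G) * k = k * v → k = 1 := by
    intro v hv1 hv k hk hkv
    have hv1' : (v : G) ≠ 1 := fun h => hv1 (Subtype.ext h)
    exact Subgroup.mem_bot.mp (th_eq_bot_of_mem hcon hinv hV v.2 hv1' ▸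
      balance hcon hw2 (hV.order v.2 hv1') (hker v hv) hk hkv.symm)
  have inv : ∀ v : ↥V, v ≠ 1 → v ∈ φ.ker → ∀ k ∈ th w, (v : G) * k * (v : G)⁻¹ = k⁻¹ := fun v hv1 hv =>
    inverts (hV.sq v v.2) (fun k hk => th_conj_of_comm (hker v hv).symm hk) (key v hv1 hv)
  rw [Subgroup.eq_bot_iff_forall]
  intro k hk
  refine key (a * b) ?_ (mul_mem ha hb) k hk ?_
  · intro h
    refine hab (Subtype.ext ?_)
    have h' : (a : G) * b = 1 := congrArg Subtype.val h
    rw [← inv_self (hV.sq b b.2)]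
    exact mul_eq_one_iff_eq_inv.mp h'
  · refine mul_inv_eq_iff_eq_mul.mp ?_
    rw [Subgroup.coe_mul]
    calc (a : G) * b * k * ((a : G) * b)⁻¹ = (a : G) * ((b : G) * k * (b : G)⁻¹) * (a : G)⁻¹ := by group
      _ = ((a : G) * k * (a : G)⁻¹)⁻¹ := by rw [inv b hb1 hb k hk]; group
      _ = k := by rw [inv a ha1 ha k hk, inv_inv]

theorem charTwo_local {T : Subgroup G} (hT : IsPGroup 2 T) (hT1 : T ≠ ⊥) :
    Subgroup.centralizer (pCore 2 ↥(Subgroup.normalizer (T : Set G)) : Set ↥(Subgroup.normalizer (T : Set G)))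
      ≤ pCore 2 ↥(Subgroup.normalizer (T : Set G)) := by
  haveI : Fact (Nat.Prime 2) := ⟨Nat.prime_two⟩
  refine LocalEven.CharTwoLocals.charTwo_normalizer (fun t ht => ?_) hT hT1
  refine (PLocal.isPConstrained_iff_of_pPrimeCore_eq_bot ?_).mp (constrained_centralizer hcon ht)
  exact (Subgroup.map_eq_bot_iff_of_injective _ (Subgroup.subtype_injective _)).mp (th_eq_bot hcon hinv hV ht)

end Cores

/-- `z` is an involution in the centre of the Sylow subgroup `P`. -/
def CentralInv (P : Sylow 2 G) (z : G) : Prop :=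
  z ∈ (P : Subgroup G) ∧ orderOf z = 2 ∧ ∀ s ∈ (P : Subgroup G), s * z = z * s

theorem exists_centralInv (P : Sylow 2 G) (hP : (P : Subgroup G) ≠ ⊥) : ∃ z, CentralInv P z := by
  haveI : Fact (Nat.Prime 2) := ⟨Nat.prime_two⟩
  haveI : Nontrivial (P : Subgroup G) := (Subgroup.nontrivial_iff_ne_bot _).mpr hP
  haveI : Nontrivial (Subgroup.center (P : Subgroup G)) := P.isPGroup'.center_nontrivial
  obtain ⟨k, hk⟩ := (P.isPGroup'.to_subgroup (Subgroup.center (P : Subgroup G))).exists_card_eq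
  have h2 : 2 ∣ Nat.card (Subgroup.center (P : Subgroup G)) := by
    rw [hk]
    refine dvd_pow_self 2 fun h0 => ?_
    rw [h0, pow_zero] at hk
    exact absurd hk (Finite.one_lt_card).ne'
  obtain ⟨c, hc⟩ := exists_prime_orderOf_dvd_card' 2 h2
  refine ⟨((c : (P : Subgroup G)) : G), (c : (P : Subgroup G)).2,
    by rw [Subgroup.orderOf_coe, Subgroup.orderOf_coe, hc], fun s hs => ?_⟩
  exact congrArg Subtype.val (Subgroup.mem_center_iff.mp c.2 ⟨s, hs⟩)

theorem eq_of_isCyclic {H : Type*} [Group H] [Finite H] [IsCyclic H] {x y : H}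
    (hx : orderOf x = 2) (hy : orderOf y = 2) : x = y := by
  classical
  haveI := Fintype.ofFinite H
  by_contra hne
  have h := IsCyclic.card_pow_eq_one_le (α := H) (n := 2) (by norm_num)
  have hsub : ({1, x, y} : Finset H) ⊆ Finset.univ.filter (fun a : H => a ^ 2 = 1) := by
    intro a ha
    simp only [Finset.mem_insert, Finset.mem_singleton] at ha
    simp only [Finset.mem_filter, Finset.mem_univ, true_and]
    rcases ha with rfl | rfl | rfl
    · exact one_pow 2
    · rw [← hx, pow_orderOf_eq_one]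
    · rw [← hy, pow_orderOf_eq_one]
  have h1 := (Finset.card_le_card hsub).trans h
  have hx1 : x ≠ 1 := fun e => by simp [e] at hx
  have hy1 : y ≠ 1 := fun e => by simp [e] at hy
  rw [Finset.card_insert_of_notMem (by simp [Ne.symm hx1, Ne.symm hy1]),
    Finset.card_insert_of_notMem (by simp [hne]), Finset.card_singleton] at h1
  omega

/-- Sylow 2-subgroups with nontrivial meet have the same central involution. -/
theorem central_eq
    (hchar : ∀ T : Subgroup G, IsPGroup 2 T → T ≠ ⊥ →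
      Subgroup.centralizer (pCore 2 ↥(Subgroup.normalizer (T : Set G)) : Set ↥(Subgroup.normalizer (T : Set G)))
        ≤ pCore 2 ↥(Subgroup.normalizer (T : Set G)))
    (hmax : ∀ M : Subgroup G, Cfsg.IsMaximalTwoLocal M → IsCyclic ↥(Subgroup.center ↥(Cfsg.pCore 2 ↥M))) :
    ∀ (n : ℕ) (P₁ P₂ : Sylow 2 G) (z₁ z₂ : G), Nat.card G - Nat.card ↥((P₁ : Subgroup G) ⊓ P₂) ≤ n →
      (P₁ : Subgroup G) ⊓ P₂ ≠ ⊥ → CentralInv P₁ z₁ → CentralInv P₂ z₂ → z₁ = z₂ := by
  haveI : Fact (Nat.Prime 2) := ⟨Nat.prime_two⟩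
  intro n
  induction n using Nat.strong_induction_on with
  | _ n ih =>
    intro P₁ P₂ z₁ z₂ hn hD h1 h2
    set D := (P₁ : Subgroup G) ⊓ P₂ with hDdef
    have hD2 : IsPGroup 2 D := P₁.isPGroup'.to_le inf_le_left
    obtain ⟨M, hle, hM⟩ := Finite.exists_le_maximal (p := fun M : Subgroup G => Cfsg.IsTwoLocal M)
      (a := Subgroup.normalizer (D : Set G)) ⟨D, hD2, hD, rfl⟩
    have hMmax : Cfsg.IsMaximalTwoLocal M := ⟨hM.1, fun N hN hMN => le_antisymm (hM.2 hN hMN) hMN⟩
    haveI := hmax M hMmax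
    obtain ⟨T, hT, hT1, hMT⟩ := hM.1
    set Q := LocalEven.op 2 M
    have hTQ : T ≤ Q := LocalEven.le_op (hMT ▸ Subgroup.le_normalizer) hMT.le hT
    have hchM : M ⊓ Subgroup.centralizer (Q : Set G) ≤ Q :=
      (LocalEven.charP_iff M).mp (hMT ▸ hchar T hT hT1)
    -- the central involution of a Sylow subgroup containing `O₂(M)`
    have huniq : ∀ (P P' : Sylow 2 G) (z z' : G), Q ≤ (P : Subgroup G) → Q ≤ (P' : Subgroup G) →
        CentralInv P z → CentralInv P' z' → z = z' := by
      have key : ∀ (P : Sylow 2 G) (z : G), Q ≤ (P : Subgroup G) → CentralInv P z →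
          ∃ c : ↥(Subgroup.center ↥(Cfsg.pCore 2 ↥M)), orderOf c = 2 ∧
            (((c : ↥(Cfsg.pCore 2 ↥M)) : ↥M) : G) = z := by
        intro P z hQP hz
        have hzQC : z ∈ Subgroup.centralizer (Q : Set G) :=
          Subgroup.mem_centralizer_iff.mpr fun q hq => hz.2.2 q (hQP hq)
        have hzM : z ∈ M := hMT ▸ Subgroup.centralizer_le_normalizer _
          (Subgroup.centralizer_le (SetLike.coe_subset_coe.mpr hTQ) hzQC)
        obtain ⟨m, hm, hmz⟩ := hchM ⟨hzM, hzQC⟩
        have hc : (⟨m, hm⟩ : ↥(Cfsg.pCore 2 ↥M)) ∈ Subgroup.center ↥(Cfsg.pCore 2 ↥M) := by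
          rw [Subgroup.mem_center_iff]
          intro q
          refine Subtype.ext (Subtype.ext ?_)
          show ((q : ↥M) : G) * (m : G) = (m : G) * ((q : ↥M) : G)
          rw [show (m : G) = z from hmz]
          exact Subgroup.mem_centralizer_iff.mp hzQC _ ⟨(q : ↥M), q.2, rfl⟩
        refine ⟨⟨⟨m, hm⟩, hc⟩, ?_, hmz⟩
        rw [← Subgroup.orderOf_coe, ← Subgroup.orderOf_coe, ← Subgroup.orderOf_coe]
        show orderOf (m : G) = 2
        rw [show (m : G) = z from hmz, hz.2.1]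
      intro P P' z z' hP hP' hz hz'
      obtain ⟨c, hc, rfl⟩ := key P z hP hz
      obtain ⟨c', hc', rfl⟩ := key P' z' hP' hz'
      rw [eq_of_isCyclic hc hc']
    have side : ∀ (P : Sylow 2 G) (z : G), D ≤ (P : Subgroup G) → CentralInv P z →
        ∃ (P' : Sylow 2 G) (z' : G), Q ≤ (P' : Subgroup G) ∧ CentralInv P' z' ∧ z = z' := by
      intro P z hDP hz
      set R := (P : Subgroup G) ⊓ Subgroup.normalizer (D : Set G) with hR
      have hRM : R ≤ M := inf_le_right.trans hle
      have hR2 : IsPGroup 2 R := P.isPGroup'.to_le inf_le_left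
      obtain ⟨P', hP'⟩ := (hR2.to_sup_of_normal_right' (LocalEven.isPGroup_op M)
        (hRM.trans (LocalEven.map_pCore_normalized M))).exists_le_sylow
      have hDR : D ≤ R := le_inf hDP Subgroup.le_normalizer
      have hP'1 : (P' : Subgroup G) ≠ ⊥ := fun h => hD (le_bot_iff.mp (h ▸ (hDR.trans le_sup_left).trans hP'))
      obtain ⟨z', hz'⟩ := exists_centralInv P' hP'1
      by_cases hPD : (P : Subgroup G) = D
      · have hsub : (P : Subgroup G) ≤ P' := by
          refine le_trans ?_ (le_sup_left.trans hP')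
          rw [hR]
          exact le_inf le_rfl (hPD.le.trans Subgroup.le_normalizer)
        have e : (P' : Subgroup G) = P := P.is_maximal' P'.isPGroup' hsub
        exact ⟨P, z, e ▸ le_sup_right.trans hP', hz, rfl⟩
      refine ⟨P', z', le_sup_right.trans hP', hz', ?_⟩
      have hlt : D < R := by
        refine lt_of_le_of_ne hDR fun heq => ?_
        haveI := P.isPGroup'.isNilpotent
        have hnc := Group.normalizerCondition_of_isNilpotent (G := ↥(P : Subgroup G)) (D.subgroupOf (P : Subgroup G))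
          (lt_top_iff_ne_top.mpr fun h => hPD (le_antisymm (Subgroup.subgroupOf_eq_top.mp h) hDP))
        rw [← Subgroup.subgroupOf_normalizer_eq hDP] at hnc
        refine hnc.not_ge fun x hx => ?_
        rw [Subgroup.mem_subgroupOf] at hx ⊢
        rw [heq]
        exact ⟨x.2, hx⟩
      have hle' : R ≤ (P : Subgroup G) ⊓ P' := le_inf inf_le_left (le_sup_left.trans hP')
      have hcard : Nat.card D < Nat.card ↥((P : Subgroup G) ⊓ P') := by
        refine lt_of_lt_of_le ?_ (Subgroup.card_le_of_le hle')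
        refine lt_of_le_of_ne (Subgroup.card_le_of_le hlt.le) fun h => hlt.ne ?_
        exact Subgroup.eq_of_le_of_card_ge hlt.le h.ge
      have hGcard := ((P : Subgroup G) ⊓ P').card_le_card_group
      refine ih (Nat.card G - Nat.card ↥((P : Subgroup G) ⊓ P')) (by omega) P P' z z' le_rfl ?_ hz hz'
      exact fun h => hD (le_bot_iff.mp (h ▸ hlt.le.trans hle'))
    obtain ⟨Q₁, w₁, hQ₁, hw₁, e₁⟩ := side P₁ z₁ inf_le_left h1
    obtain ⟨Q₂, w₂, hQ₂, hw₂, e₂⟩ := side P₂ z₂ inf_le_right h2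
    rw [e₁, e₂]
    exact huniq Q₁ Q₂ w₁ w₂ hQ₁ hQ₂ hw₁ hw₂

end Cfsg.Agent.PermGroups.EarlyCharTwo
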