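import Mathlib.Tactic.Ring
import Mathlib.Tactic.Linarith
import Mathlib.Tactic.FieldSimp
import Mathlib.Tactic.IntervalCases
import Mathlib.Tactic.LinearCombination
import Mathlib.Algebra.BigOperators.Ring.Finset
import Mathlib.Algebra.Order.BigOperators.Group.Finset
import Mathlib.Algebra.Field.Rat
import Mathlib.Data.Rat.Cast.Order

/-!
The arithmetic of the columns of a principal `2`-block with an elementary abelian defect group
of order eight and local inertial quotient of order three.
-/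

set_option autoImplicit false
set_option linter.unusedSectionVars false

namespace Cfsg.Agent.PermGroups.Eight

/-- Three integers with sum `-1` and sum of reciprocals `-1`. -/
theorem three_recip (X Y Z : ℤ) (hX : X ≠ 0) (hY : Y ≠ 0) (hZ : Z ≠ 0) (h1 : X + Y + Z = -1)
    (h2 : (1 : ℚ) / X + 1 / Y + 1 / Z = -1) : X = -1 ∨ Y = -1 ∨ Z = -1 := by
  have hX' : (X : ℚ) ≠ 0 := by exact_mod_cast hX
  have hY' : (Y : ℚ) ≠ 0 := by exact_mod_cast hY
  have hZ' : (Z : ℚ) ≠ 0 := by exact_mod_cast hZ
  field_simp at h2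
  have h3 : (Y : ℚ) * Z + X * Z + X * Y = -(X * Y * Z) := by linarith
  have h4 : Y * Z + X * Z + X * Y = -(X * Y * Z) := by exact_mod_cast h3
  have h5 : (X + Y) * ((Y + Z) * (Z + X)) = 0 := by
    linear_combination (X + Y + Z) * h4 - (X * Y * Z) * h1
  rcases mul_eq_zero.1 h5 with h | h
  · omega
  · rcases mul_eq_zero.1 h with h | h <;> omega

/-- Three integers with sum `2` and square sum at most `4`. -/
theorem three_pattern (x y z : ℤ) (h : x + y + z = 2) (hs : x * x + y * y + z * z ≤ 4) :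
    (x = 2 ∧ y = 0 ∧ z = 0) ∨ (x = 0 ∧ y = 2 ∧ z = 0) ∨ (x = 0 ∧ y = 0 ∧ z = 2) ∨
      (x = 0 ∧ y = 1 ∧ z = 1) ∨ (x = 1 ∧ y = 0 ∧ z = 1) ∨ (x = 1 ∧ y = 1 ∧ z = 0) := by
  have hx : -2 ≤ x ∧ x ≤ 2 := ⟨by nlinarith, by nlinarith⟩
  have hy : -2 ≤ y ∧ y ≤ 2 := ⟨by nlinarith, by nlinarith⟩
  obtain ⟨hx1, hx2⟩ := hx
  obtain ⟨hy1, hy2⟩ := hy
  have hz : z = 2 - x - y := by omega
  subst hz
  interval_cases x <;> interval_cases y <;> first | omega | (exfalso; norm_num at hs)

/-- An integer whose square is at most `3` and which is not zero. -/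
theorem sign_of_sq_le {x : ℤ} (h : x * x ≤ 3) (hx : x ≠ 0) : x = 1 ∨ x = -1 := by
  have h1 : x ≤ 1 := by nlinarith
  have h2 : -1 ≤ x := by nlinarith
  omega

variable {ι : Type*} [DecidableEq ι]

/-- A function on a finset whose squares add to two. -/
theorem two_support (O : Finset ι) (b : ι → ℤ) (h : ∑ i ∈ O, b i * b i = 2) :
    ∃ s t, s ∈ O ∧ t ∈ O ∧ s ≠ t ∧ (b s = 1 ∨ b s = -1) ∧ (b t = 1 ∨ b t = -1) ∧
      ∀ i ∈ O, i ≠ s → i ≠ t → b i = 0 := by
  have hpm : ∀ i ∈ O, b i ≠ 0 → b i = 1 ∨ b i = -1 := fun i hi hne => by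
    refine sign_of_sq_le ?_ hne
    have h1 : b i * b i ≤ ∑ j ∈ O, b j * b j :=
      Finset.single_le_sum (f := fun j => b j * b j) (fun j _ => mul_self_nonneg (b j)) hi
    omega
  have hc : (O.filter fun i => b i ≠ 0).card = 2 := by
    have h1 : ∑ i ∈ O, b i * b i = ∑ i ∈ O.filter (fun i => b i ≠ 0), (1 : ℤ) := by
      rw [Finset.sum_filter]
      refine Finset.sum_congr rfl fun i hi => ?_
      split_ifs with hb
      · rcases hpm i hi hb with e | e <;> rw [e] <;> norm_num
      · push Not at hb; rw [hb]; norm_num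
    rw [h1, Finset.sum_const, nsmul_eq_mul, mul_one] at h
    exact_mod_cast h
  obtain ⟨s, t, hst, hset⟩ := Finset.card_eq_two.1 hc
  have hs : s ∈ O.filter fun i => b i ≠ 0 := by rw [hset]; simp
  have ht : t ∈ O.filter fun i => b i ≠ 0 := by rw [hset]; simp
  rw [Finset.mem_filter] at hs ht
  refine ⟨s, t, hs.1, ht.1, hst, hpm s hs.1 hs.2, hpm t ht.1 ht.2, fun i hi h1 h2 => ?_⟩
  by_contra hne
  have : i ∈ O.filter fun i => b i ≠ 0 := Finset.mem_filter.2 ⟨hi, hne⟩
  rw [hset] at this
  simp [h1, h2] at this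

/-- The hypotheses on the non-principal characters: `a`, `b`, `c` are the decomposition numbers
against the three local modular characters and `d` is the degree. -/
structure Cols (T : Finset ι) (a b c d : ι → ℤ) : Prop where
  deg : ∀ i ∈ T, 2 ≤ d i
  val : ∀ i ∈ T, a i + b i + c i ≠ 0
  cong : ∀ i ∈ T, (8 : ℤ) ∣ d i - (a i + b i + c i)
  nonneg : ∀ i ∈ T, 0 ≤ d i + 7 * (a i + b i + c i)
  aa : ∑ i ∈ T, a i * a i = 3
  bb : ∑ i ∈ T, b i * b i = 4
  cc : ∑ i ∈ T, c i * c i = 4
  ab : ∑ i ∈ T, a i * b i = 2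
  ac : ∑ i ∈ T, a i * c i = 2
  bc : ∑ i ∈ T, b i * c i = 2
  da : 1 + ∑ i ∈ T, d i * a i = 0
  db : ∑ i ∈ T, d i * b i = 0
  dc : ∑ i ∈ T, d i * c i = 0
  sb : (1 : ℚ) + ∑ i ∈ T, ((a i + b i + c i) ^ 2 : ℚ) * (a i - b i) / d i = 0
  sc : (1 : ℚ) + ∑ i ∈ T, ((a i + b i + c i) ^ 2 : ℚ) * (a i - c i) / d i = 0

theorem Cols.symm {T : Finset ι} {a b c d : ι → ℤ} (h : Cols T a b c d) : Cols T a c b d where
  deg := h.deg
  val i hi := by have := h.val i hi; omega
  cong i hi := by
    have := h.cong i hi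
    rwa [show a i + c i + b i = a i + b i + c i by ring]
  nonneg i hi := by have := h.nonneg i hi; omega
  aa := h.aa
  bb := h.cc
  cc := h.bb
  ab := h.ac
  ac := h.ab
  bc := by rw [← h.bc]; exact Finset.sum_congr rfl fun i _ => mul_comm _ _
  da := h.da
  db := h.dc
  dc := h.db
  sb := by
    rw [← h.sc]; congr 1
    exact Finset.sum_congr rfl fun i _ => by ring
  sc := by
    rw [← h.sb]; congr 1
    exact Finset.sum_congr rfl fun i _ => by ring

/-- The support of `a`, split off. -/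
structure Supp (T O : Finset ι) (a : ι → ℤ) (r p q : ι) : Prop where
  split : ∀ {M : Type} [AddCommMonoid M] (f : ι → M),
    ∑ i ∈ T, f i = f r + f p + f q + ∑ i ∈ O, f i
  sub : O ⊆ T
  out : ∀ i ∈ O, a i = 0
  memr : r ∈ T
  memp : p ∈ T
  memq : q ∈ T
  sr : a r = 1 ∨ a r = -1
  sp : a p = 1 ∨ a p = -1
  sq : a q = 1 ∨ a q = -1

theorem Supp.rot {T O : Finset ι} {a : ι → ℤ} {r p q : ι} (h : Supp T O a r p q) :
    Supp T O a p q r where
  split f := by rw [h.split f]; ac_rfl
  sub := h.sub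
  out := h.out
  memr := h.memp
  memp := h.memq
  memq := h.memr
  sr := h.sp
  sp := h.sq
  sq := h.sr

theorem Supp.swap {T O : Finset ι} {a : ι → ℤ} {r p q : ι} (h : Supp T O a r p q) :
    Supp T O a r q p where
  split f := by rw [h.split f]; ac_rfl
  sub := h.sub
  out := h.out
  memr := h.memr
  memp := h.memq
  memq := h.memp
  sr := h.sr
  sp := h.sq
  sq := h.sp

variable {T O : Finset ι} {a b c d : ι → ℤ} {r p q : ι}

theorem sum_pair_support {M : Type} [AddCommMonoid M] {O : Finset ι} {s t : ι} (hs : s ∈ O)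
    (ht : t ∈ O) (hst : s ≠ t) (f : ι → M) (h0 : ∀ i ∈ O, i ≠ s → i ≠ t → f i = 0) :
    ∑ i ∈ O, f i = f s + f t := by
  rw [← Finset.sum_pair (f := f) hst]
  refine (Finset.sum_subset ?_ fun i hi hn => ?_).symm
  · intro x hx
    simp only [Finset.mem_insert, Finset.mem_singleton] at hx
    rcases hx with rfl | rfl <;> assumption
  · simp only [Finset.mem_insert, Finset.mem_singleton, not_or] at hn
    exact h0 i hi hn.1 hn.2

/-- The degree-one contradiction: one row of `a` alone and two rows of `b` alone. -/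
theorem three_rows (h : Cols T a b c d) {M : ι} {s t : ι} (hM : M ∈ T) (hs : s ∈ T) (ht : t ∈ T)
    (hMs : a M = 1 ∨ a M = -1) (hss : b s = 1 ∨ b s = -1) (hts : b t = 1 ∨ b t = -1)
    (hl : 1 + d M * a M - d s * b s - d t * b t = 0)
    (hr : (1 : ℚ) + (a M : ℚ) / d M - (b s : ℚ) / d s - (b t : ℚ) / d t = 0) : False := by
  have dM := h.deg M hM
  have ds := h.deg s hs
  have dt := h.deg t ht
  have key : ∀ (n σ : ℤ), (σ = 1 ∨ σ = -1) → (σ : ℚ) / n = 1 / ((n * σ : ℤ) : ℚ) := by
    rintro n σ (rfl | rfl)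
    · simp
    · push_cast; rw [mul_neg, mul_one, one_div, div_eq_mul_inv, inv_neg, neg_one_mul]
  rcases three_recip (d M * a M) (d s * -b s) (d t * -b t)
      (by rcases hMs with e | e <;> rw [e] <;> omega)
      (by rcases hss with e | e <;> rw [e] <;> omega)
      (by rcases hts with e | e <;> rw [e] <;> omega)
      (by linarith)
      (by
        rw [← key _ _ hMs, ← key _ (-b s) (by omega), ← key _ (-b t) (by omega)]
        push_cast
        linear_combination hr) with e | e | e
  · rcases hMs with x | x <;> rw [x] at e <;> omega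
  · rcases hss with x | x <;> rw [x] at e <;> omega
  · rcases hts with x | x <;> rw [x] at e <;> omega

theorem no_two_aux (h : Cols T a b c d) (S : Supp T O a r p q)
    (br : b r = 2 * a r) (bp : b p = 0) (bq : b q = 0) (cr : c r = a r) (cp : c p = a p)
    (cq : c q = 0) : False := by
  have hb0 : ∀ i ∈ O, b i = 0 := by
    have h1 := h.bb
    rw [S.split (fun i => b i * b i), br, bp, bq] at h1
    have h2 : ∑ i ∈ O, b i * b i = 0 := by
      rcases S.sr with e | e <;> rw [e] at h1 <;> linarith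
    intro i hi
    exact mul_self_eq_zero.1 ((Finset.sum_eq_zero_iff_of_nonneg fun j _ => mul_self_nonneg _).1 h2 i hi)
  have hc2 : ∑ i ∈ O, c i * c i = 2 := by
    have h1 := h.cc
    rw [S.split (fun i => c i * c i), cr, cp, cq] at h1
    rcases S.sr with e | e <;> rcases S.sp with f | f <;> rw [e, f] at h1 <;> linarith
  obtain ⟨s, t, hs, ht, hst, hss, hts, hO⟩ := two_support O c hc2
  refine three_rows h.symm S.memq (S.sub hs) (S.sub ht) S.sq hss hts ?_ ?_
  · have h1 := h.da
    have h2 := h.dc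
    rw [S.split (fun i => d i * a i)] at h1
    rw [S.split (fun i => d i * c i), cr, cp, cq] at h2
    rw [Finset.sum_eq_zero fun i hi => by rw [S.out i hi, mul_zero]] at h1
    rw [sum_pair_support hs ht hst _ fun i hi x y => by rw [hO i hi x y, mul_zero]] at h2
    linarith
  · have h1 := h.sc
    rw [S.split (fun i => ((a i + b i + c i) ^ 2 : ℚ) * (a i - c i) / d i),
      sum_pair_support hs ht hst _ fun i hi x y => by
        rw [S.out i hi, hO i hi x y]; simp] at h1
    rw [cr, cp, cq, br, bp, bq, S.out s hs, S.out t ht, hb0 s hs, hb0 t ht] at h1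
    have e1 : ((a q : ℚ)) ^ 2 = 1 := by rcases S.sq with e | e <;> rw [e] <;> norm_num
    have e2 : ((c s : ℚ)) ^ 2 = 1 := by rcases hss with e | e <;> rw [e] <;> norm_num
    have e3 : ((c t : ℚ)) ^ 2 = 1 := by rcases hts with e | e <;> rw [e] <;> norm_num
    push_cast at h1
    simp only [add_zero, zero_add, sub_zero, zero_sub, sub_self, mul_zero, zero_div] at h1
    rw [e1, e2, e3] at h1
    linear_combination h1

/-- No entry of `b` is twice the matching entry of `a`. -/
theorem no_two (h : Cols T a b c d) (S : Supp T O a r p q)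
    (br : a r * b r = 2) (bp : a p * b p = 0) (bq : a q * b q = 0) : False := by
  have e : ∀ {x y z : ℤ}, (x = 1 ∨ x = -1) → x * y = z → y = z * x := by
    rintro x y z (rfl | rfl) hz <;> omega
  have br' := e S.sr br
  have bp' := e S.sp bp
  have bq' := e S.sq bq
  rw [zero_mul] at bp' bq'
  have hb0 : ∀ i ∈ O, b i = 0 := by
    have h1 := h.bb
    rw [S.split (fun i => b i * b i), br', bp', bq'] at h1
    have h2 : ∑ i ∈ O, b i * b i = 0 := by
      rcases S.sr with e | e <;> rw [e] at h1 <;> linarith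
    intro i hi
    exact mul_self_eq_zero.1 ((Finset.sum_eq_zero_iff_of_nonneg fun j _ => mul_self_nonneg _).1 h2 i hi)
  have gr : a r * c r = 1 := by
    have h1 := h.bc
    rw [S.split (fun i => b i * c i), br', bp', bq',
      Finset.sum_eq_zero fun i hi => by rw [hb0 i hi, zero_mul]] at h1
    linarith
  have gsum : a p * c p + a q * c q = 1 := by
    have h1 := h.ac
    rw [S.split (fun i => a i * c i),
      Finset.sum_eq_zero fun i hi => by rw [S.out i hi, zero_mul]] at h1
    linarith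
  have gsq : (a p * c p) * (a p * c p) + (a q * c q) * (a q * c q) ≤ 3 := by
    have h1 := h.cc
    rw [S.split (fun i => c i * c i)] at h1
    have h2 : 0 ≤ ∑ i ∈ O, c i * c i := Finset.sum_nonneg fun i _ => mul_self_nonneg _
    have h3 : c r * c r = 1 := by
      rcases S.sr with x | x <;> rw [x] at gr <;> nlinarith
    have h4 : (a p * c p) * (a p * c p) = c p * c p := by
      rcases S.sp with x | x <;> rw [x] <;> ring
    have h5 : (a q * c q) * (a q * c q) = c q * c q := by
      rcases S.sq with x | x <;> rw [x] <;> ring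
    linarith
  have cr := e S.sr gr
  rw [one_mul] at cr
  have hgp : (a p * c p = 1 ∧ a q * c q = 0) ∨ (a p * c p = 0 ∧ a q * c q = 1) := by
    have h1 : -1 ≤ a p * c p := by nlinarith
    have h2 : a p * c p ≤ 1 := by nlinarith
    generalize hx : a p * c p = x at *
    generalize hy : a q * c q = y at *
    have : y = 1 - x := by omega
    subst this
    interval_cases x <;> simp_all
  rcases hgp with ⟨g1, g2⟩ | ⟨g1, g2⟩
  · exact no_two_aux h S br' bp' bq' cr (by rw [e S.sp g1, one_mul]) (by rw [e S.sq g2, zero_mul])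
  · exact no_two_aux h S.swap br' bq' bp' cr (by rw [e S.sq g2, one_mul]) (by rw [e S.sp g1, zero_mul])

/-- Off the support of `a`, the common rows of `b` and `c` agree in sign. -/
theorem common_agree (h : Cols T a b c d) (S : Supp T O a r p q) {i : ι} (hi : i ∈ O)
    (hb : b i = 1 ∨ b i = -1) (hc : c i = 1 ∨ c i = -1) : c i = b i := by
  have := h.val i (S.sub hi)
  have := S.out i hi
  omega

/-- `b` and `c` miss the same row of `a`. -/
theorem same_zero (h : Cols T a b c d) (S : Supp T O a r p q)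
    (br : b r = 0) (bp : b p = a p) (bq : b q = a q) (cr : c r = 0) (cp : c p = a p)
    (cq : c q = a q) : False := by
  have ep : a p * a p = 1 := by rcases S.sp with e | e <;> rw [e] <;> norm_num
  have eq' : a q * a q = 1 := by rcases S.sq with e | e <;> rw [e] <;> norm_num
  have hb2 : ∑ i ∈ O, b i * b i = 2 := by
    have h1 := h.bb
    rw [S.split (fun i => b i * b i), br, bp, bq] at h1
    linarith
  have hc2 : ∑ i ∈ O, c i * c i = 2 := by
    have h1 := h.cc
    rw [S.split (fun i => c i * c i), cr, cp, cq] at h1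
    linarith
  have hbc : ∑ i ∈ O, b i * c i = 0 := by
    have h1 := h.bc
    rw [S.split (fun i => b i * c i), br, cr, bp, cp, bq, cq] at h1
    linarith
  obtain ⟨s, t, hs, ht, hst, hss, hts, hO⟩ := two_support O b hb2
  obtain ⟨u, w, hu, hw, -, hus, hws, hOc⟩ := two_support O c hc2
  have hnn : ∀ i ∈ O, 0 ≤ b i * c i := by
    intro i hi
    by_cases hb : b i = 0
    · rw [hb, zero_mul]
    by_cases hc : c i = 0
    · rw [hc, mul_zero]
    have hbi : b i = 1 ∨ b i = -1 := by
      by_cases x : i = s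
      · exact x ▸ hss
      by_cases y : i = t
      · exact y ▸ hts
      exact absurd (hO i hi x y) hb
    have hci : c i = 1 ∨ c i = -1 := by
      by_cases x : i = u
      · exact x ▸ hus
      by_cases y : i = w
      · exact y ▸ hws
      exact absurd (hOc i hi x y) hc
    rw [common_agree h S hi hbi hci]
    exact mul_self_nonneg _
  have hz := (Finset.sum_eq_zero_iff_of_nonneg hnn).1 hbc
  have cs : c s = 0 := by
    rcases mul_eq_zero.1 (hz s hs) with x | x
    · rcases hss with e | e <;> omega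
    · exact x
  have ct : c t = 0 := by
    rcases mul_eq_zero.1 (hz t ht) with x | x
    · rcases hts with e | e <;> omega
    · exact x
  refine three_rows h S.memr (S.sub hs) (S.sub ht) S.sr hss hts ?_ ?_
  · have h1 := h.da
    have h2 := h.db
    rw [S.split (fun i => d i * a i), Finset.sum_eq_zero fun i hi => by rw [S.out i hi, mul_zero]] at h1
    rw [S.split (fun i => d i * b i), br, bp, bq,
      sum_pair_support hs ht hst _ fun i hi x y => by rw [hO i hi x y, mul_zero]] at h2
    linarith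
  · have h1 := h.sb
    rw [S.split (fun i => ((a i + b i + c i) ^ 2 : ℚ) * (a i - b i) / d i),
      sum_pair_support hs ht hst _ fun i hi x y => by
        rw [S.out i hi, hO i hi x y]; simp] at h1
    rw [br, cr, bp, cp, bq, cq, S.out s hs, S.out t ht, cs, ct] at h1
    have e1 : ((a r : ℚ)) ^ 2 = 1 := by rcases S.sr with e | e <;> rw [e] <;> norm_num
    have e2 : ((b s : ℚ)) ^ 2 = 1 := by rcases hss with e | e <;> rw [e] <;> norm_num
    have e3 : ((b t : ℚ)) ^ 2 = 1 := by rcases hts with e | e <;> rw [e] <;> norm_num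
    push_cast at h1
    simp only [add_zero, zero_add, sub_zero, zero_sub, sub_self, mul_zero, zero_div] at h1
    rw [e1, e2, e3] at h1
    linear_combination h1

/-- `b` and `c` miss different rows of `a`. -/
theorem diff_zero (h : Cols T a b c d) (S : Supp T O a r p q)
    (br : b r = 0) (bp : b p = a p) (bq : b q = a q) (cr : c r = a r) (cp : c p = 0)
    (cq : c q = a q) : False := by
  have er : a r * a r = 1 := by rcases S.sr with e | e <;> rw [e] <;> norm_num
  have ep : a p * a p = 1 := by rcases S.sp with e | e <;> rw [e] <;> norm_num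
  have eq' : a q * a q = 1 := by rcases S.sq with e | e <;> rw [e] <;> norm_num
  have hb2 : ∑ i ∈ O, b i * b i = 2 := by
    have h1 := h.bb
    rw [S.split (fun i => b i * b i), br, bp, bq] at h1
    linarith
  have hc2 : ∑ i ∈ O, c i * c i = 2 := by
    have h1 := h.cc
    rw [S.split (fun i => c i * c i), cr, cp, cq] at h1
    linarith
  have hbc : ∑ i ∈ O, b i * c i = 1 := by
    have h1 := h.bc
    rw [S.split (fun i => b i * c i), br, bp, bq, cp, cq] at h1
    linarith
  obtain ⟨s, t, hs, ht, hst, hss, hts, hO⟩ := two_support O b hb2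
  obtain ⟨u, w, hu, hw, -, hus, hws, hOc⟩ := two_support O c hc2
  have hcv : ∀ i ∈ O, c i = 0 ∨ c i = 1 ∨ c i = -1 := fun i hi => by
    by_cases x : i = u
    · exact .inr (x ▸ hus)
    by_cases y : i = w
    · exact .inr (y ▸ hws)
    exact .inl (hOc i hi x y)
  rw [sum_pair_support hs ht hst _ fun i hi x y => by rw [hO i hi x y, zero_mul]] at hbc
  have hone : ∀ {x : ι}, x ∈ O → (b x = 1 ∨ b x = -1) → b x * c x = 0 ∧ c x = 0 ∨ b x * c x = 1 ∧ c x = b x := by
    intro x hx hbx
    rcases hcv x hx with e | e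
    · exact .inl ⟨by rw [e, mul_zero], e⟩
    · have := common_agree h S hx hbx e
      refine .inr ⟨?_, this⟩
      rw [this]; rcases hbx with f | f <;> rw [f] <;> norm_num
  obtain ⟨e, B, he, hB, heB, hes, hBs, hOb, ce, cB⟩ : ∃ e B, e ∈ O ∧ B ∈ O ∧ e ≠ B ∧
      (b e = 1 ∨ b e = -1) ∧ (b B = 1 ∨ b B = -1) ∧
      (∀ i ∈ O, i ≠ e → i ≠ B → b i = 0) ∧ c e = b e ∧ c B = 0 := by
    rcases hone hs hss with ⟨x, x'⟩ | ⟨x, x'⟩ <;> rcases hone ht hts with ⟨y, y'⟩ | ⟨y, y'⟩
    · omega
    · exact ⟨t, s, ht, hs, hst.symm, hts, hss, fun i hi u v => hO i hi v u, y', x'⟩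
    · exact ⟨s, t, hs, ht, hst, hss, hts, hO, x', y'⟩
    · omega
  -- the signed degrees
  have hlin : 1 + d r * a r - d e * b e - d B * b B = 0 := by
    have h1 := h.da
    have h2 := h.db
    rw [S.split (fun i => d i * a i), Finset.sum_eq_zero fun i hi => by rw [S.out i hi, mul_zero]] at h1
    rw [S.split (fun i => d i * b i), br, bp, bq,
      sum_pair_support he hB heB _ fun i hi x y => by rw [hOb i hi x y, mul_zero]] at h2
    linarith
  have hrat : (1 : ℚ) + 4 * (a r : ℚ) / d r - 4 * (b e : ℚ) / d e - (b B : ℚ) / d B = 0 := by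
    have h1 := h.sb
    rw [S.split (fun i => ((a i + b i + c i) ^ 2 : ℚ) * (a i - b i) / d i),
      sum_pair_support he hB heB _ fun i hi x y => by
        rw [S.out i hi, hOb i hi x y]; simp] at h1
    rw [br, cr, bp, cp, bq, cq, S.out e he, S.out B hB, ce, cB] at h1
    have e1 : ((a r : ℚ) + (a r : ℚ)) ^ 2 = 4 := by rcases S.sr with x | x <;> rw [x] <;> norm_num
    have e2 : ((b e : ℚ) + (b e : ℚ)) ^ 2 = 4 := by rcases hes with x | x <;> rw [x] <;> norm_num
    have e3 : ((b B : ℚ)) ^ 2 = 1 := by rcases hBs with x | x <;> rw [x] <;> norm_num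
    push_cast at h1
    simp only [add_zero, zero_add, sub_zero, zero_sub, sub_self, mul_zero, zero_div] at h1
    rw [e1, e2, e3] at h1
    linear_combination h1
  have dr := h.deg r S.memr
  have de := h.deg e (S.sub he)
  have dB := h.deg B (S.sub hB)
  have vr := h.cong r S.memr
  have ve := h.cong e (S.sub he)
  have nr := h.nonneg r S.memr
  rw [br, cr] at vr nr
  rw [S.out e he, ce] at ve
  set R := d r * a r with hR
  set E := d e * b e with hE
  set B' := d B * b B with hB'
  have mR : (8 : ℤ) ∣ R - 2 := by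
    rcases S.sr with x | x <;> rw [x] at vr hR <;> omega
  have mE : (8 : ℤ) ∣ E - 2 := by
    rcases hes with x | x <;> rw [x] at ve hE <;> omega
  have hRE : R * E = 4 * B' := by
    have hR0 : (R : ℚ) ≠ 0 := by
      have : R ≠ 0 := by rcases S.sr with x | x <;> rw [x] at hR <;> omega
      exact_mod_cast this
    have hE0 : (E : ℚ) ≠ 0 := by
      have : E ≠ 0 := by omega
      exact_mod_cast this
    have hB0 : (B' : ℚ) ≠ 0 := by
      have : B' ≠ 0 := by rcases hBs with x | x <;> rw [x] at hB' <;> omega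
      exact_mod_cast this
    have k : ∀ (n σ : ℤ), (σ = 1 ∨ σ = -1) → (σ : ℚ) / n = 1 / ((n * σ : ℤ) : ℚ) := by
      rintro n σ (rfl | rfl)
      · simp
      · push_cast; rw [mul_neg, mul_one, one_div, div_eq_mul_inv, inv_neg, neg_one_mul]
    rw [mul_div_assoc, mul_div_assoc, k _ _ S.sr, k _ _ hes, k _ _ hBs, ← hR, ← hE, ← hB'] at hrat
    field_simp at hrat
    have h2 : ((R : ℚ) * E + 4 * E - 4 * R) * B' - R * E = 0 := by linarith
    have h3 : (R * E + 4 * E - 4 * R) * B' - R * E = 0 := by exact_mod_cast h2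
    have h4 : R - E = B' - 1 := by omega
    have h5 : (B' - 1) * (R * E - 4 * B') = 0 := by
      linear_combination h3 + (4 * B') * h4
    rcases mul_eq_zero.1 h5 with x | x
    · exfalso
      rcases hBs with y | y <;> rw [y] at hB' <;> omega
    · omega
  obtain ⟨x, hx⟩ : ∃ x, R = 2 * (4 * x + 1) := ⟨(R - 2) / 8, by omega⟩
  obtain ⟨y, hy⟩ : ∃ y, E = 2 * (4 * y + 1) := ⟨(E - 2) / 8, by omega⟩
  have hkey : (4 * x + 3) * (4 * y - 1) = -3 := by
    have hB'' : B' = R - E + 1 := by omega
    rw [hB'', hx, hy] at hRE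
    linarith
  have hdvd : (4 * x + 3).natAbs ∣ 3 := by
    refine Dvd.intro (4 * y - 1).natAbs ?_
    rw [← Int.natAbs_mul, hkey]; rfl
  have hle := Nat.le_of_dvd (by norm_num) hdvd
  have hx01 : x = 0 ∨ x = -1 := by omega
  rcases hx01 with rfl | rfl
  · -- the signed degree of `B` is one
    have : y = 0 := by omega
    subst this
    rcases hBs with z | z <;> rw [z] at hB' <;> omega
  · rcases S.sr with z | z <;> rw [z] at hR nr <;> omega

/-- No such columns exist. -/
theorem not_cols (h : Cols T a b c d) : False := by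
  have hpm : ∀ i ∈ T, a i ≠ 0 → a i = 1 ∨ a i = -1 := fun i hi hne => by
    refine sign_of_sq_le ?_ hne
    have h1 : a i * a i ≤ ∑ j ∈ T, a j * a j :=
      Finset.single_le_sum (f := fun j => a j * a j) (fun j _ => mul_self_nonneg (a j)) hi
    have := h.aa
    omega
  set A := T.filter fun i => a i ≠ 0 with hA
  have hcard : A.card = 3 := by
    have h1 : ∑ i ∈ T, a i * a i = ∑ i ∈ A, (1 : ℤ) := by
      rw [hA, Finset.sum_filter]
      refine Finset.sum_congr rfl fun i hi => ?_
      split_ifs with hb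
      · rcases hpm i hi hb with e | e <;> rw [e] <;> norm_num
      · push Not at hb; rw [hb]; norm_num
    have h2 := h.aa
    rw [h1, Finset.sum_const, nsmul_eq_mul, mul_one] at h2
    exact_mod_cast h2
  obtain ⟨r, p, q, hrp, hrq, hpq, hset⟩ := Finset.card_eq_three.1 hcard
  have hm : ∀ i, i = r ∨ i = p ∨ i = q → i ∈ T ∧ a i ≠ 0 := fun i hi => by
    have : i ∈ A := by rw [hset]; simpa using hi
    exact Finset.mem_filter.1 this
  have S : Supp T (T.filter fun i => a i = 0) a r p q := by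
    refine ⟨fun {M} _ f => ?_, Finset.filter_subset _ _, fun i hi => (Finset.mem_filter.1 hi).2,
      (hm r (by simp)).1, (hm p (by simp)).1, (hm q (by simp)).1, hpm r (hm r (by simp)).1
      (hm r (by simp)).2, hpm p (hm p (by simp)).1 (hm p (by simp)).2,
      hpm q (hm q (by simp)).1 (hm q (by simp)).2⟩
    rw [← Finset.sum_filter_add_sum_filter_not T (fun i => a i ≠ 0) f, ← hA, hset,
      Finset.sum_insert (by simp [hrp, hrq]), Finset.sum_pair hpq, ← add_assoc]
    congr 1
    refine Finset.sum_congr ?_ fun _ _ => rfl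
    ext i
    simp
  set O := T.filter fun i => a i = 0 with hO
  have e : ∀ {x y z : ℤ}, (x = 1 ∨ x = -1) → x * y = z → y = z * x := by
    rintro x y z (rfl | rfl) hz <;> omega
  have pat : ∀ {b' : ι → ℤ}, ∑ i ∈ T, a i * b' i = 2 → ∑ i ∈ T, b' i * b' i = 4 →
      (a r * b' r) + (a p * b' p) + (a q * b' q) = 2 ∧
      (a r * b' r) * (a r * b' r) + (a p * b' p) * (a p * b' p) + (a q * b' q) * (a q * b' q) ≤ 4 := by
    intro b' h1 h2
    rw [S.split (fun i => a i * b' i),
      Finset.sum_eq_zero fun i hi => by rw [S.out i hi, zero_mul], add_zero] at h1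
    rw [S.split (fun i => b' i * b' i)] at h2
    have h3 : 0 ≤ ∑ i ∈ O, b' i * b' i := Finset.sum_nonneg fun i _ => mul_self_nonneg _
    have k : ∀ {x y : ℤ}, (x = 1 ∨ x = -1) → (x * y) * (x * y) = y * y := by
      rintro x y (rfl | rfl) <;> ring
    refine ⟨h1, ?_⟩
    rw [k S.sr, k S.sp, k S.sq]
    linarith
  obtain ⟨b1, b2⟩ := pat h.ab h.bb
  obtain ⟨c1, c2⟩ := pat h.ac h.cc
  have kb : ∀ {x y : ℤ}, (x = 1 ∨ x = -1) → x * y = 0 → y = 0 := fun hx hz => by
    rw [e hx hz, zero_mul]
  have k1 : ∀ {x y : ℤ}, (x = 1 ∨ x = -1) → x * y = 1 → y = x := fun hx hz => by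
    rw [e hx hz, one_mul]
  rcases three_pattern _ _ _ b1 b2 with ⟨u, v, w⟩ | ⟨u, v, w⟩ | ⟨u, v, w⟩ | ⟨u, v, w⟩ | ⟨u, v, w⟩ | ⟨u, v, w⟩
  · exact no_two h S u v w
  · exact no_two h S.rot v w u
  · exact no_two h S.rot.rot w u v
  all_goals
    rcases three_pattern _ _ _ c1 c2 with ⟨x, y, z⟩ | ⟨x, y, z⟩ | ⟨x, y, z⟩ | ⟨x, y, z⟩ | ⟨x, y, z⟩ | ⟨x, y, z⟩
  all_goals first
    | exact no_two h.symm S x y z
    | exact no_two h.symm S.rot y z x
    | exact no_two h.symm S.rot.rot z x y
    | exact same_zero h S (kb S.sr u) (k1 S.sp v) (k1 S.sq w) (kb S.sr x) (k1 S.sp y) (k1 S.sq z)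
    | exact same_zero h S.rot (kb S.sp v) (k1 S.sq w) (k1 S.sr u) (kb S.sp y) (k1 S.sq z) (k1 S.sr x)
    | exact same_zero h S.rot.rot (kb S.sq w) (k1 S.sr u) (k1 S.sp v) (kb S.sq z) (k1 S.sr x) (k1 S.sp y)
    | exact diff_zero h S (kb S.sr u) (k1 S.sp v) (k1 S.sq w) (k1 S.sr x) (kb S.sp y) (k1 S.sq z)
    | exact diff_zero h S.swap (kb S.sr u) (k1 S.sq w) (k1 S.sp v) (k1 S.sr x) (kb S.sq z) (k1 S.sp y)
    | exact diff_zero h S.rot (kb S.sp v) (k1 S.sq w) (k1 S.sr u) (k1 S.sp y) (kb S.sq z) (k1 S.sr x)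
    | exact diff_zero h S.rot.swap (kb S.sp v) (k1 S.sr u) (k1 S.sq w) (k1 S.sp y) (kb S.sr x) (k1 S.sq z)
    | exact diff_zero h S.rot.rot (kb S.sq w) (k1 S.sr u) (k1 S.sp v) (k1 S.sq z) (kb S.sr x) (k1 S.sp y)
    | exact diff_zero h S.rot.rot.swap (kb S.sq w) (k1 S.sp v) (k1 S.sr u) (k1 S.sq z) (kb S.sp y) (k1 S.sr x)

end Cfsg.Agent.PermGroups.Eight
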