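import Cfsg.Agent.S0215
import Cfsg.Agent.Transfer.Fusion
import Cfsg.Agent.Core.Cores
import Cfsg.Agent.Core.PiSeparable
import Mathlib.GroupTheory.Subgroup.Centralizer
import Mathlib.GroupTheory.GroupAction.Quotient
import Mathlib.GroupTheory.Subgroup.Simple

/-!
Local structure of a simple group with an elementary abelian Sylow `2`-subgroup of order eight.
-/

set_option autoImplicit false
set_option linter.unusedSectionVars false

namespace Cfsg.Agent.PermGroups.Eight

open Cfsg

universe u

section Abstract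

variable {T : Type u} [Group T] [Finite T]

theorem mul_eq_of_sq (hT : ∀ x : T, x * x = 1) (a b : T) : a * b = b * a := by
  have h := hT (a * b)
  calc a * b = a * ((a * b) * (a * b)) * b := by rw [h, mul_one]
    _ = (a * a) * (b * a) * (b * b) := by group
    _ = b * a := by rw [hT, hT, one_mul, mul_one]

/-- An automorphism of odd order fixing two independent involutions is trivial. -/
theorem eq_one_of_fix (hT : ∀ x : T, x * x = 1) (h8 : Nat.card T = 8) (α : MulAut T) {m : ℕ}
    (hm : Odd m) (hα : α ^ m = 1) {t s : T} (ht : t ≠ 1) (hs : s ≠ 1) (hts : t ≠ s)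
    (ft : α t = t) (fs : α s = s) : α = 1 := by
  classical
  letI := Fintype.ofFinite T
  refine MulEquiv.ext fun q => ?_
  show α q = q
  set W : Finset T := {1, t, s, t * s} with hW
  have hne : t * s ≠ 1 ∧ t * s ≠ t ∧ t * s ≠ s := by
    refine ⟨fun h => hts ?_, fun h => hs (mul_eq_left.1 h), fun h => ht (mul_eq_right.1 h)⟩
    rw [eq_inv_of_mul_eq_one_left h, inv_eq_of_mul_eq_one_right (hT s)]
  have hWc : W.card = 4 := by
    rw [hW, Finset.card_insert_of_notMem, Finset.card_insert_of_notMem,
      Finset.card_insert_of_notMem, Finset.card_singleton] <;>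
      simp [ht.symm, hs.symm, hts, hne.1.symm, hne.2.1.symm, hne.2.2.symm]
  have hfix : ∀ w ∈ W, α w = w := by
    intro w hw
    simp only [hW, Finset.mem_insert, Finset.mem_singleton] at hw
    rcases hw with rfl | rfl | rfl | rfl <;> simp [ft, fs]
  by_cases hq : q ∈ W
  · exact hfix q hq
  have hWmul : ∀ a ∈ W, ∀ b ∈ W, a * b ∈ W := by
    intro a ha b hb
    simp only [hW, Finset.mem_insert, Finset.mem_singleton] at ha hb ⊢
    have e := mul_eq_of_sq hT
    have k1 : ∀ x y : T, x * (x * y) = y := fun x y => by rw [← mul_assoc, hT, one_mul]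
    have k2 : ∀ x y : T, x * y * y = x := fun x y => by rw [mul_assoc, hT, mul_one]
    have k3 : s * t = t * s := e s t
    have k4 : t * (s * t) = s := by rw [k3, k1]
    have k5 : s * (t * s) = t := by rw [← k3, k1]
    rcases ha with ha | ha | ha | ha <;> rcases hb with hb | hb | hb | hb <;>
      simp [ha, hb, hT, k1, k2, k3, k4, k5, mul_assoc]
  have hWc' : (Finset.univ \ W).card = 4 := by
    rw [Finset.card_sdiff_of_subset (Finset.subset_univ _), Finset.card_univ,
      ← Nat.card_eq_fintype_card, h8, hWc]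
  have himg : W.image (fun w => q * w) = Finset.univ \ W := by
    refine Finset.eq_of_subset_of_card_le (fun x hx => ?_) ?_
    · obtain ⟨w, hw, rfl⟩ := Finset.mem_image.1 hx
      refine Finset.mem_sdiff.2 ⟨Finset.mem_univ _, fun hc => hq ?_⟩
      have := hWmul _ hc _ hw
      rwa [mul_assoc, hT, mul_one] at this
    · rw [hWc', Finset.card_image_of_injective _ (mul_right_injective q), hWc]
  have hout : α q ∈ Finset.univ \ W := by
    refine Finset.mem_sdiff.2 ⟨Finset.mem_univ _, fun hc => hq ?_⟩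
    have h1 : α (α q) = α q := hfix _ hc
    rwa [α.injective h1] at hc
  rw [← himg] at hout
  obtain ⟨w, hw, hwq⟩ := Finset.mem_image.1 hout
  have h2 : ∀ k : ℕ, (α ^ k) q = if Odd k then q * w else q := by
    intro k
    induction k with
    | zero => simp
    | succ k ih =>
      rw [pow_succ', MulAut.mul_apply, ih]
      rcases Nat.even_or_odd k with hk | hk
      · rw [if_neg (Nat.not_odd_iff_even.2 hk), if_pos hk.add_one, ← hwq]
      · rw [if_pos hk, if_neg (Nat.not_odd_iff_even.2 hk.add_one), map_mul, hfix w hw, ← hwq,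
          mul_assoc, hT, mul_one]
  have h3 := h2 m
  rw [hα, if_pos hm, MulAut.one_apply] at h3
  rw [← hwq, ← h3]

/-- A subgroup of odd order of automorphisms fixing an involution has order one or three. -/
theorem card_stab (hT : ∀ x : T, x * x = 1) (h8 : Nat.card T = 8) (A : Subgroup (MulAut T))
    (hA : Odd (Nat.card A)) {t : T} (ht : t ≠ 1) (hfix : ∀ α ∈ A, α t = t) :
    Nat.card A = 1 ∨ Nat.card A = 3 := by
  classical
  let X := {x : T // x ≠ 1 ∧ x ≠ t}
  letI : MulAction A X :=
    { smul := fun α x => ⟨(α : MulAut T) x.1, by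
        refine ⟨fun h => x.2.1 ?_, fun h => x.2.2 ?_⟩
        · exact (α : MulAut T).injective (h.trans (map_one _).symm)
        · exact (α : MulAut T).injective (h.trans (hfix _ α.2).symm)⟩
      one_smul := fun _ => Subtype.ext rfl
      mul_smul := fun _ _ _ => Subtype.ext rfl }
  letI := Fintype.ofFinite T
  have hX : Nat.card X = 6 := by
    rw [Nat.card_eq_fintype_card, Fintype.card_subtype]
    have : (Finset.univ.filter fun x : T => x ≠ 1 ∧ x ≠ t) = ({1, t} : Finset T)ᶜ := by
      ext x; simp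
    rw [this, Finset.card_compl, Finset.card_pair ht.symm, ← Nat.card_eq_fintype_card, h8]
  have hfree : ∀ x : X, MulAction.stabilizer A x = ⊥ := by
    intro x
    rw [Subgroup.eq_bot_iff_forall]
    intro α hα
    have h1 : (α : MulAut T) x.1 = x.1 := congrArg Subtype.val (MulAction.mem_stabilizer_iff.1 hα)
    refine Subtype.ext (eq_one_of_fix hT h8 (α : MulAut T) hA ?_ ht x.2.1 (Ne.symm x.2.2)
      (hfix _ α.2) h1)
    exact congrArg Subtype.val (pow_card_eq_one' (x := α))
  have hdvd : Nat.card A ∣ 6 := by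
    rw [← hX, Nat.card_congr (MulAction.selfEquivOrbitsQuotientProd hfree), Nat.card_prod]
    exact dvd_mul_left _ _
  have hle := Nat.le_of_dvd (by norm_num) hdvd
  obtain ⟨k, hk⟩ := hA
  have : Nat.card A = 1 ∨ Nat.card A = 3 ∨ Nat.card A = 5 := by omega
  rcases this with h | h | h
  · exact .inl h
  · exact .inr h
  · rw [h] at hdvd; norm_num at hdvd

/-- A subgroup of odd order of automorphisms without common fixed involution is transitive on the
involutions, and has order seven or twenty-one. -/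
theorem transitive_of_no_fix (hT : ∀ x : T, x * x = 1) (h8 : Nat.card T = 8)
    (A : Subgroup (MulAut T)) (hA : Odd (Nat.card A))
    (hnf : ∀ x : T, x ≠ 1 → ∃ α ∈ A, α x ≠ x) :
    (∀ x y : T, x ≠ 1 → y ≠ 1 → ∃ α ∈ A, α x = y) ∧
      (Nat.card A = 7 ∨ ∀ x : T, x ≠ 1 → ∃ α ∈ A, α ≠ 1 ∧ α x = x) := by
  classical
  letI := Fintype.ofFinite T
  letI : Fintype A := Fintype.ofFinite _
  let orb : T → Finset T := fun x => Finset.univ.image fun α : A => (α : MulAut T) x
  have hmem : ∀ {x y : T}, y ∈ orb x ↔ ∃ α ∈ A, α x = y := by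
    intro x y
    simp [orb]
  have hself : ∀ x, x ∈ orb x := fun x => hmem.2 ⟨1, A.one_mem, rfl⟩
  have horbit : ∀ x : T, (orb x).card = Nat.card (MulAction.orbit A x) := by
    intro x
    rw [Nat.card_eq_fintype_card, ← Set.toFinset_card]
    congr 1
    ext y
    rw [hmem, Set.mem_toFinset, MulAction.mem_orbit_iff]
    exact ⟨fun ⟨α, hα, h⟩ => ⟨⟨α, hα⟩, h⟩, fun ⟨α, h⟩ => ⟨α, α.2, h⟩⟩
  have hodd : ∀ x : T, Odd (orb x).card := by
    intro x
    rw [horbit]
    refine hA.of_dvd_nat ?_
    exact ⟨_, ((Nat.card_congr (MulAction.orbitProdStabilizerEquivGroup A x)).symm.trans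
      (Nat.card_prod _ _))⟩
  have hsub : ∀ {x : T}, x ≠ 1 → orb x ⊆ Finset.univ.erase 1 := by
    intro x hx y hy
    obtain ⟨α, -, rfl⟩ := hmem.1 hy
    exact Finset.mem_erase.2 ⟨fun h => hx (α.injective (h.trans (map_one _).symm)), Finset.mem_univ _⟩
  have h3 : ∀ {x : T}, x ≠ 1 → 3 ≤ (orb x).card := by
    intro x hx
    obtain ⟨α, hα, hne⟩ := hnf x hx
    have h2 : 1 < (orb x).card := Finset.one_lt_card.2 ⟨_, hmem.2 ⟨α, hα, rfl⟩, x, hself x, hne⟩
    obtain ⟨k, hk⟩ := hodd x
    omega
  have hdisj : ∀ {x y : T}, y ∉ orb x → Disjoint (orb x) (orb y) := by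
    intro x y hy
    rw [Finset.disjoint_left]
    intro z hz hz'
    obtain ⟨α, hα, rfl⟩ := hmem.1 hz
    obtain ⟨β, hβ, h⟩ := hmem.1 hz'
    refine hy (hmem.2 ⟨β⁻¹ * α, A.mul_mem (A.inv_mem hβ) hα, ?_⟩)
    rw [MulAut.mul_apply, ← h, ← MulAut.mul_apply, inv_mul_cancel, MulAut.one_apply]
  have h7 : (Finset.univ.erase (1 : T)).card = 7 := by
    rw [Finset.card_erase_of_mem (Finset.mem_univ _), Finset.card_univ, ← Nat.card_eq_fintype_card, h8]
  have htrans : ∀ x y : T, x ≠ 1 → y ≠ 1 → ∃ α ∈ A, α x = y := by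
    intro x y hx hy
    rw [← hmem]
    by_contra hc
    have hd := hdisj hc
    have hle : (orb x ∪ orb y).card ≤ 7 := h7 ▸ Finset.card_le_card (Finset.union_subset (hsub hx) (hsub hy))
    rw [Finset.card_union_of_disjoint hd] at hle
    have hxy : ∃ z ∈ Finset.univ.erase (1 : T), z ∉ orb x ∪ orb y := by
      by_contra hz
      push Not at hz
      have heq : orb x ∪ orb y = Finset.univ.erase (1 : T) :=
        Finset.Subset.antisymm (Finset.union_subset (hsub hx) (hsub hy)) hz
      have h := congrArg Finset.card heq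
      rw [Finset.card_union_of_disjoint hd, h7] at h
      obtain ⟨i, hi⟩ := hodd x
      obtain ⟨j, hj⟩ := hodd y
      omega
    obtain ⟨z, hz1, hz⟩ := hxy
    rw [Finset.mem_union, not_or] at hz
    have hz1' := (Finset.mem_erase.1 hz1).1
    have hd2 : Disjoint (orb x ∪ orb y) (orb z) :=
      Finset.disjoint_union_left.2 ⟨hdisj hz.1, hdisj hz.2⟩
    have hle2 : ((orb x ∪ orb y) ∪ orb z).card ≤ 7 :=
      h7 ▸ Finset.card_le_card (Finset.union_subset (Finset.union_subset (hsub hx) (hsub hy)) (hsub hz1'))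
    rw [Finset.card_union_of_disjoint hd2, Finset.card_union_of_disjoint hd] at hle2
    have := h3 hx
    have := h3 hy
    have := h3 hz1'
    omega
  refine ⟨htrans, ?_⟩
  by_cases hst : ∀ x : T, x ≠ 1 → ∃ α ∈ A, α ≠ 1 ∧ α x = x
  · exact .inr hst
  left
  push Not at hst
  obtain ⟨x, hx, hx'⟩ := hst
  have h1 : Nat.card (MulAction.stabilizer A x) = 1 := by
    rw [Subgroup.card_eq_one, Subgroup.eq_bot_iff_forall]
    intro α hα
    by_contra hne
    exact hx' α α.2 (fun h => hne (Subtype.ext h)) (MulAction.mem_stabilizer_iff.1 hα)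
  have h2 : (orb x).card = 7 := by
    rw [← h7]
    refine congrArg Finset.card (Finset.Subset.antisymm (hsub hx) fun y hy => ?_)
    exact hmem.2 (htrans x y hx (Finset.mem_erase.1 hy).1)
  have h4 := (Nat.card_congr (MulAction.orbitProdStabilizerEquivGroup A x)).symm.trans
    (Nat.card_prod _ _)
  rw [h1, mul_one, ← horbit, h2] at h4
  exact h4

end Abstract

variable {G : Type u} [Group G] [Finite G]

/-- Either the automizer of `S` has order seven, or all involutions are conjugate and an element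
normalizing `S` centralizes `t` without centralizing `S`. -/
theorem automizer_cases [IsSimpleGroup G] (hG : ¬ IsMulCommutative G) (S : Sylow 2 G)
    (hS : IsElementaryAbelian 2 (S : Subgroup G)) (hS8 : Nat.card ↥(S : Subgroup G) = 8) :
    (Subgroup.centralizer ((S : Subgroup G) : Set G)).relIndex
        (Subgroup.normalizer ((S : Subgroup G) : Set G)) = 7 ∨
      ((∀ s t : G, orderOf s = 2 → orderOf t = 2 → IsConj s t) ∧
        ∀ t ∈ (S : Subgroup G), t ≠ 1 → ∃ x ∈ Subgroup.normalizer ((S : Subgroup G) : Set G),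
          x * t = t * x ∧ ∃ s ∈ (S : Subgroup G), x * s ≠ s * x) := by
  classical
  haveI : Fact (Nat.Prime 2) := ⟨Nat.prime_two⟩
  have hT : ∀ x : ↥(S : Subgroup G), x * x = 1 := fun x => Subtype.ext (by
    show (x : G) * x = 1
    rw [← pow_two]; exact hS.2 x x.2)
  have hSC : (S : Subgroup G) ≤ Subgroup.centralizer ((S : Subgroup G) : Set G) := fun x hx =>
    Subgroup.mem_centralizer_iff.2 fun y hy =>
      congrArg Subtype.val (mul_eq_of_sq hT ⟨y, hy⟩ ⟨x, hx⟩)
  set φ := (S : Subgroup G).normalizerMonoidHom with hφ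
  have hφv : ∀ (n : Subgroup.normalizer ((S : Subgroup G) : Set G)) (s : ↥(S : Subgroup G)),
      ((φ n s : ↥(S : Subgroup G)) : G) = (n : G) * s * (n : G)⁻¹ := fun n s => rfl
  have hrel : (Subgroup.centralizer ((S : Subgroup G) : Set G)).relIndex
      (Subgroup.normalizer ((S : Subgroup G) : Set G)) = Nat.card φ.range := by
    rw [← Subgroup.index_ker, hφ, Subgroup.normalizerMonoidHom_ker]
    rfl
  have hodd : Odd (Nat.card φ.range) := by
    rw [Nat.odd_iff, ← Nat.two_dvd_ne_zero, ← hrel]
    intro h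
    exact S.not_dvd_index (h.trans ((Subgroup.relIndex_dvd_of_le_left _ hSC).trans
      (Subgroup.relIndex_dvd_index_of_le Subgroup.le_normalizer)))
  have hnf : ∀ x : ↥(S : Subgroup G), x ≠ 1 → ∃ α ∈ φ.range, α x ≠ x := by
    intro x hx
    by_contra hc
    push Not at hc
    have hx1 : (x : G) ≠ 1 := fun h => hx (Subtype.ext h)
    have hord : orderOf (x : G) = 2 := orderOf_eq_prime (hS.2 x x.2) hx1
    have hiso : ∀ g : G, g * (x : G) * g⁻¹ ∈ S → g * (x : G) * g⁻¹ = x := by
      intro g hg
      obtain ⟨n, hn, h⟩ := Transfer.burnside_fusion_elem S (hSC x.2) (hSC hg)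
      rw [← h]
      exact congrArg Subtype.val (hc (φ ⟨n, hn⟩) ⟨_, rfl⟩)
    obtain ⟨N, hN, hNo, hcomm⟩ := S0215.result S (x : G) hord x.2 hiso
    rcases IsSimpleGroup.eq_bot_or_eq_top_of_normal N hN with h | h
    · have hz : (x : G) ∈ Subgroup.center G := by
        rw [Subgroup.mem_center_iff]
        intro g
        have h1 := hcomm g
        rw [h, Subgroup.mem_bot, mul_inv_eq_one, mul_inv_eq_iff_eq_mul] at h1
        exact h1.symm
      rcases IsSimpleGroup.eq_bot_or_eq_top_of_normal (Subgroup.center G) inferInstance with h' | h'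
      · exact hx1 (by rwa [h', Subgroup.mem_bot] at hz)
      · exact hG ⟨⟨fun a b => (Subgroup.mem_center_iff.1 (h' ▸ Subgroup.mem_top b) a)⟩⟩
    · rw [h, Subgroup.card_top] at hNo
      exact Nat.not_even_iff_odd.2 hNo (even_iff_two_dvd.2 (hord ▸ orderOf_dvd_natCard _))
  obtain ⟨htrans, hcase⟩ := transitive_of_no_fix hT hS8 φ.range hodd hnf
  rcases hcase with h | h
  · exact .inl (hrel.trans h)
  refine .inr ⟨?_, ?_⟩
  · have hinS : ∀ s : G, orderOf s = 2 → ∃ s' ∈ (S : Subgroup G), s' ≠ 1 ∧ IsConj s s' := by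
      intro s hs
      have hp : IsPGroup 2 (Subgroup.zpowers s) :=
        IsPGroup.of_card (n := 1) (by rw [Nat.card_zpowers, hs, pow_one])
      obtain ⟨Q, hQ⟩ := hp.exists_le_sylow
      obtain ⟨g, hg⟩ := MulAction.exists_smul_eq G Q S
      have hmem : g * s * g⁻¹ ∈ (S : Subgroup G) := by
        rw [← hg, Sylow.coe_subgroup_smul]
        exact Subgroup.mem_map.2 ⟨s, hQ (Subgroup.mem_zpowers s), rfl⟩
      refine ⟨_, hmem, ?_, isConj_iff.2 ⟨g, rfl⟩⟩
      rw [Ne, conj_eq_one_iff]
      rintro rfl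
      rw [orderOf_one] at hs
      norm_num at hs
    intro s t hs ht
    obtain ⟨s', hs', hs1, cs⟩ := hinS s hs
    obtain ⟨t', ht', ht1, ct⟩ := hinS t ht
    obtain ⟨α, ⟨n, rfl⟩, hn⟩ := htrans ⟨s', hs'⟩ ⟨t', ht'⟩ (fun e => hs1 (congrArg Subtype.val e))
      (fun e => ht1 (congrArg Subtype.val e))
    exact cs.trans ((isConj_iff.2 ⟨(n : G), congrArg Subtype.val hn⟩).trans ct.symm)
  · intro t ht ht1
    obtain ⟨α, ⟨n, rfl⟩, hne, hn⟩ := h ⟨t, ht⟩ fun e => ht1 (congrArg Subtype.val e)
    refine ⟨n, n.2, ?_, ?_⟩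
    · have := congrArg Subtype.val hn
      rw [hφv] at this
      exact mul_inv_eq_iff_eq_mul.1 this
    · by_contra hc
      push Not at hc
      refine hne (MulEquiv.ext fun s => Subtype.ext ?_)
      rw [hφv, hc s s.2, mul_inv_cancel_right]
      rfl

/-- A group with an elementary abelian self-centralizing normal Sylow `2`-subgroup of order
eight having a central involution and at least one further element. -/
theorem quotient_facts {Q : Type u} [Group Q] [Finite Q] (T : Subgroup Q) [T.Normal]
    (hT : ∀ x ∈ T, x * x = 1) (h8 : Nat.card T = 8)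
    (hC : Subgroup.centralizer (T : Set Q) ≤ T) (hidx : Odd T.index) (hT' : T ≠ ⊤)
    {t : Q} (htT : t ∈ T) (ht : t ≠ 1) (htc : ∀ q : Q, q * t = t * q) :
    Nat.card Q = 24 ∧
      (∀ q : Q, Odd (orderOf q) → q ≠ 1 →
        q ^ 3 = 1 ∧ Nat.card (Subgroup.centralizer ({q} : Set Q)) = 6 ∧ ¬ IsConj q q⁻¹) ∧
      ∃ q : Q, Odd (orderOf q) ∧ q ≠ 1 := by
  classical
  have hTx : ∀ x : T, x * x = 1 := fun x => Subtype.ext (hT x x.2)
  let c : Q →* MulAut T := MulAut.conjNormal
  have hker : c.ker = T := by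
    refine le_antisymm (fun q hq => hC (Subgroup.mem_centralizer_iff.2 fun x hx => ?_)) fun q hq => ?_
    · have h2 : q * x * q⁻¹ = x := by
        have h1 := congrArg Subtype.val (DFunLike.congr_fun (MonoidHom.mem_ker.1 hq) (⟨x, hx⟩ : T))
        exact h1
      exact (mul_inv_eq_iff_eq_mul.1 h2).symm
    · refine MonoidHom.mem_ker.2 (MulEquiv.ext fun x => Subtype.ext ?_)
      show q * (x : Q) * q⁻¹ = x
      rw [show q * (x : Q) = (x : Q) * q from
        congrArg Subtype.val (mul_eq_of_sq hTx ⟨q, hq⟩ x), mul_inv_cancel_right]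
  have hidx3 : T.index = 3 := by
    have h1 : T.index = Nat.card c.range := by rw [← Subgroup.index_ker, hker]
    rcases card_stab hTx h8 c.range (h1 ▸ hidx) (t := ⟨t, htT⟩)
      (fun e => ht (congrArg Subtype.val e))
      (by rintro _ ⟨q, rfl⟩; exact Subtype.ext (by
            show q * t * q⁻¹ = t
            rw [htc, mul_inv_cancel_right])) with h | h
    · exact absurd (Subgroup.index_eq_one.1 (h1.trans h)) hT'
    · exact h1.trans h
  have hcard : Nat.card Q = 24 := by rw [← T.card_mul_index, h8, hidx3]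
  have h3Q : ∀ q : Q, q ^ 3 ∈ T := by
    intro q
    rw [← hidx3]
    exact Subgroup.pow_index_mem T q
  have hnot : ∀ q : Q, Odd (orderOf q) → q ∈ T → q = 1 := by
    intro q hq hqT
    have h2 : orderOf q ∣ 2 := orderOf_dvd_of_pow_eq_one (by rw [pow_two]; exact hT q hqT)
    have := Nat.le_of_dvd (by norm_num) h2
    obtain ⟨k, hk⟩ := hq
    exact orderOf_eq_one_iff.1 (by omega)
  refine ⟨hcard, fun q hq hq1 => ?_, ?_⟩
  · have hqT : q ∉ T := fun h => hq1 (hnot q hq h)
    have hq3 : q ^ 3 = 1 := hnot _ (hq.of_dvd_nat (orderOf_pow_dvd 3)) (h3Q q)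
    refine ⟨hq3, ?_, fun hc => ?_⟩
    · set C := Subgroup.centralizer ({q} : Set Q) with hCdef
      have ho : orderOf q = 3 := orderOf_eq_prime hq3 hq1
      have hd3 : 3 ∣ Nat.card C :=
        ho ▸ Subgroup.orderOf_dvd_natCard C (Subgroup.mem_centralizer_singleton_iff.2 rfl)
      have hto : orderOf t = 2 := orderOf_eq_prime (by rw [pow_two]; exact hT t htT) ht
      have hd2 : 2 ∣ Nat.card C :=
        hto ▸ Subgroup.orderOf_dvd_natCard C (Subgroup.mem_centralizer_singleton_iff.2 (htc q).symm)
      have hd6 : 6 ∣ Nat.card C := (show Nat.Coprime 2 3 by norm_num).mul_dvd_of_dvd_of_dvd hd2 hd3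
      have hle : Nat.card (T.subgroupOf C) ≤ 2 := by
        by_contra hlt
        obtain ⟨s, hs1, hst⟩ : ∃ s : T.subgroupOf C, ((s : C) : Q) ≠ 1 ∧ ((s : C) : Q) ≠ t := by
          by_contra hall
          push Not at hall
          apply hlt
          letI := Fintype.ofFinite (T.subgroupOf C)
          rw [Nat.card_eq_fintype_card, ← Finset.card_univ]
          refine le_trans (Finset.card_le_card_of_injOn (t := ({1, t} : Finset Q))
            (fun s : T.subgroupOf C => ((s : C) : Q)) (fun s _ => ?_) ?_) Finset.card_le_two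
          · simp only [Finset.coe_insert, Finset.coe_singleton, Set.mem_insert_iff, Set.mem_singleton_iff]
            by_cases e : ((s : C) : Q) = 1
            · exact .inl e
            · exact .inr (hall s e)
          · exact (Subtype.val_injective.comp Subtype.val_injective).injOn
        have hsT : ((s : C) : Q) ∈ T := s.2
        have hsq : ((s : C) : Q) * q = q * ((s : C) : Q) :=
          Subgroup.mem_centralizer_singleton_iff.1 (s : C).2
        have := eq_one_of_fix hTx h8 (c q) (m := 3) (by decide)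
          (by rw [← map_pow, hq3, map_one]) (t := ⟨t, htT⟩) (s := ⟨_, hsT⟩)
          (fun e => ht (congrArg Subtype.val e)) (fun e => hs1 (congrArg Subtype.val e))
          (fun e => hst (congrArg Subtype.val e).symm)
          (Subtype.ext (by show q * t * q⁻¹ = t; rw [htc, mul_inv_cancel_right]))
          (Subtype.ext (by show q * ((s : C) : Q) * q⁻¹ = _; rw [← hsq, mul_inv_cancel_right]))
        exact hqT (hker ▸ MonoidHom.mem_ker.2 this)
      have hrel : (T.subgroupOf C).index ≤ 3 := by
        refine Nat.le_of_dvd (by norm_num) ?_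
        rw [← hidx3]
        exact Subgroup.relIndex_dvd_index_of_normal T C
      have hle6 : Nat.card C ≤ 6 := by
        rw [← (T.subgroupOf C).card_mul_index]
        calc _ ≤ 2 * 3 := Nat.mul_le_mul hle hrel
          _ = 6 := by norm_num
      have := Nat.le_of_dvd Nat.card_pos hd6
      omega
    · obtain ⟨g, hg⟩ := isConj_iff.1 hc
      have hq2 : q * q ∈ T := by
        haveI : Fact (Nat.Prime 3) := ⟨by norm_num⟩
        haveI : IsCyclic (Q ⧸ T) := isCyclic_of_prime_card (p := 3) hidx3
        letI := (IsCyclic.commGroup : CommGroup (Q ⧸ T))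
        rw [← QuotientGroup.eq_one_iff]
        have h := congrArg (QuotientGroup.mk' T) hg
        simp only [map_mul, map_inv, QuotientGroup.mk'_apply] at h
        rw [QuotientGroup.mk_mul]
        rw [mul_comm (g : Q ⧸ T) q, mul_inv_cancel_right] at h
        exact eq_inv_iff_mul_eq_one.1 h
      refine hqT ?_
      have h3 : q = q ^ 3 * (q * q)⁻¹ := by rw [pow_three']; group
      rw [h3, hq3, one_mul]
      exact T.inv_mem hq2
  · obtain ⟨q, -, hq⟩ := SetLike.exists_of_lt (lt_top_iff_ne_top.2 hT')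
    refine ⟨q ^ 8, ?_, fun h => hq ?_⟩
    · have h1 : orderOf (q ^ 8) ∣ 3 := orderOf_dvd_of_pow_eq_one (by
        rw [← pow_mul, show (8 * 3) = Nat.card Q by rw [hcard], pow_card_eq_one'])
      exact Odd.of_dvd_nat (by decide) h1
    · have h9 : q * q ^ 8 ∈ T := by
        rw [← pow_succ', show 8 + 1 = 3 * 3 by norm_num, pow_mul]
        exact T.pow_mem (h3Q q) 3
      rwa [h, mul_one] at h9

end Cfsg.Agent.PermGroups.Eight
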