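import Cfsg.Agent.Blocks.NormSum
import Cfsg.Agent.Blocks.Inflate
import Cfsg.Agent.Chars2.KleinBlock
import Cfsg.Agent.Chars.SimpleDegreeTools
import Cfsg.Agent.DegreeGraph.AbelianNormal
import Cfsg.Agent.PermGroups.EightCombi
import Cfsg.Agent.PermGroups.EightLocal
import Mathlib.RingTheory.RootsOfUnity.Complex
import Mathlib.Algebra.Field.GeomSum

/-!
The principal `2`-block of a group with an elementary abelian Sylow subgroup of order eight, all
involutions conjugate, and involution centralizers which are solvable with local quotient of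
order three.
-/

set_option autoImplicit false
set_option linter.unusedSectionVars false
set_option linter.style.haveILetI false
set_option maxHeartbeats 800000

namespace Cfsg.Agent.PermGroups.Eight

open Cfsg Cfsg.Agent
open scoped ComplexConjugate

universe u

variable {G : Type u} [Group G] [Fintype G]

section Projection

variable {p : ℕ} [Fact p.Prime] {M : Ideal AlgInt} [M.IsMaximal]

open scoped Classical in
/-- The kernel of the projection onto the principal block of the centralizer. -/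
noncomputable def blockKer (M : Ideal AlgInt) [M.IsMaximal] {H : Type u} [Group H] [Fintype H]
    (y c : H) : ℂ :=
  ∑ ψ ∈ Finset.univ.filter (· ∈ principalBlock M H), (ψ : H → ℂ) y * conj ((ψ : H → ℂ) c)

theorem blockKer_eq_zero (hpM : (p : AlgInt) ∈ M) {H : Type u} [Group H] [Fintype H] {y c : H}
    (hy : ¬ p ∣ orderOf y) (hc : p ∣ orderOf c) : blockKer M y c = 0 := by
  classical
  exact Blocks.block_orth_weak hpM Blocks.isPBlock_principal hy hc

open scoped Classical in
/-- The part of a translated character in the principal block. -/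
theorem projection (hpM : (p : AlgInt) ∈ M) {z : G} (hz : ∃ k : ℕ, orderOf z = p ^ k)
    [Fintype (Subgroup.centralizer ({z} : Set G))] {y : Subgroup.centralizer ({z} : Set G)}
    (hy : ¬ p ∣ orderOf y) (ζ : IrrCharacter G) :
    (Nat.card (Subgroup.centralizer ({z} : Set G)) : ℂ)⁻¹ *
        ∑ c : Subgroup.centralizer ({z} : Set G), (ζ : G → ℂ) (z * (c : G)) * blockKer M y c =
      if ζ ∈ principalBlock M G then (ζ : G → ℂ) (z * (y : G)) else 0 := by
  classical
  let H := Subgroup.centralizer ({z} : Set G)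
  have e1 : ∑ ψ ∈ Finset.univ.filter (· ∈ principalBlock M H),
        classInner (fun c : H => (ζ : G → ℂ) (z * (c : G))) (ψ : H → ℂ) * (ψ : H → ℂ) y =
      (Nat.card H : ℂ)⁻¹ * ∑ c : H, (ζ : G → ℂ) (z * (c : G)) * blockKer M y c := by
    simp only [blockKer, Chars.classInner_def, Finset.mul_sum, Finset.sum_mul]
    rw [Finset.sum_comm]
    exact Finset.sum_congr rfl fun c _ => Finset.sum_congr rfl fun ψ _ => by ring
  rw [← e1]
  split_ifs with hζ
  · exact (Chars2.second_main_principal hpM hz (fun g => Subgroup.mem_centralizer_singleton_iff.trans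
      ⟨fun h => h, fun h => h⟩) hζ hy).symm
  · rw [← Chars2.sum_blockCoeff_mul hpM (principalBlock M H) (Blocks.isClassFunction_translate ζ) y]
    have hzy : z * (y : G) ∈ H :=
      H.mul_mem (Blocks.mem_centralizer_of_commute (Commute.refl z)) y.2
    have hpp : Blocks.ppart p (z * (y : G)) = z :=
      Blocks.ppart_mul (Blocks.commute_of_mem_centralizer y) hz (by rwa [Subgroup.orderOf_coe])
    have h2 := Blocks.second_main_sum hpM H ⟨z * (y : G), hzy⟩ (by rw [hpp])
      (Blocks.isInducedBlock_centralizer hpM hz) hζ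
    rw [← h2]
    refine Finset.sum_congr rfl fun k _ => ?_
    congr 1
    rw [Subgroup.coe_mul, ← Chars.isClassFunction_irr ζ (z * ((y : G) * (k : G))) (k : G)]
    refine congrArg (ζ : G → ℂ) ?_
    show (k : G) * (z * ((y : G) * (k : G))) * (k : G)⁻¹ = (k : G) * (z * (y : G))
    group

open scoped Classical in
/-- A weighted column of the principal block. -/
theorem weighted_column (hpM : (p : AlgInt) ∈ M) {z : G} (hz : ∃ k : ℕ, orderOf z = p ^ k)
    [Fintype (Subgroup.centralizer ({z} : Set G))] {y : Subgroup.centralizer ({z} : Set G)}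
    (hy : ¬ p ∣ orderOf y) (w : IrrCharacter G → ℂ) :
    ∑ ζ ∈ Finset.univ.filter (· ∈ principalBlock M G), w ζ * (ζ : G → ℂ) (z * (y : G)) =
      (Nat.card (Subgroup.centralizer ({z} : Set G)) : ℂ)⁻¹ *
        ∑ c : Subgroup.centralizer ({z} : Set G),
          (∑ ζ : IrrCharacter G, w ζ * (ζ : G → ℂ) (z * (c : G))) * blockKer M y c := by
  classical
  rw [Finset.sum_filter]
  have e : ∀ ζ : IrrCharacter G, (if ζ ∈ principalBlock M G then w ζ * (ζ : G → ℂ) (z * (y : G)) else 0) =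
      w ζ * ((Nat.card (Subgroup.centralizer ({z} : Set G)) : ℂ)⁻¹ *
        ∑ c : Subgroup.centralizer ({z} : Set G), (ζ : G → ℂ) (z * (c : G)) * blockKer M y c) := by
    intro ζ
    rw [projection hpM hz hy ζ]
    split_ifs <;> simp
  simp only [e, Finset.mul_sum, Finset.sum_mul]
  rw [Finset.sum_comm]
  exact Finset.sum_congr rfl fun c _ => Finset.sum_congr rfl fun ζ _ => by ring

open scoped Classical in
/-- The inner products of two columns of the principal block in one section. -/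
theorem column_inner (hpM : (p : AlgInt) ∈ M) {z : G} (hz : ∃ k : ℕ, orderOf z = p ^ k)
    [Fintype (Subgroup.centralizer ({z} : Set G))] {y y' : Subgroup.centralizer ({z} : Set G)}
    (hy : ¬ p ∣ orderOf y) (hy' : ¬ p ∣ orderOf y') :
    ∑ ζ ∈ Finset.univ.filter (· ∈ principalBlock M G),
        conj ((ζ : G → ℂ) (z * (y' : G))) * (ζ : G → ℂ) (z * (y : G)) = blockKer M y y' := by
  classical
  let H := Subgroup.centralizer ({z} : Set G)
  rw [weighted_column hpM hz hy]
  calc (Nat.card H : ℂ)⁻¹ * ∑ c : H,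
        (∑ ζ : IrrCharacter G, conj ((ζ : G → ℂ) (z * (y' : G))) * (ζ : G → ℂ) (z * (c : G))) *
          blockKer M y c
      = (Nat.card H : ℂ)⁻¹ * ∑ c : H, blockKer M y c * ∑ φ : IrrCharacter H,
          (φ : H → ℂ) c * conj ((φ : H → ℂ) y') := by
        congr 1
        refine Finset.sum_congr rfl fun c _ => ?_
        by_cases hc : p ∣ orderOf c
        · rw [blockKer_eq_zero hpM hy hc, mul_zero, zero_mul]
        · rw [← Blocks.column_translate hz hc hy', mul_comm]
          congr 1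
          exact Finset.sum_congr rfl fun ζ _ => mul_comm _ _
    _ = ∑ ψ ∈ Finset.univ.filter (· ∈ principalBlock M H), (ψ : H → ℂ) y *
          ∑ φ : IrrCharacter H, conj ((φ : H → ℂ) y') * classInner (φ : H → ℂ) (ψ : H → ℂ) := by
        simp only [blockKer, Chars.classInner_def, Finset.mul_sum, Finset.sum_mul]
        rw [Finset.sum_comm_cycle]
        refine Finset.sum_congr rfl fun ψ _ => ?_
        rw [Finset.sum_comm]
        exact Finset.sum_congr rfl fun φ _ => Finset.sum_congr rfl fun c _ => by ring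
    _ = _ := by
        refine Finset.sum_congr rfl fun ψ _ => ?_
        rw [Finset.sum_eq_single ψ
          (fun φ _ hφ => by rw [Chars.classInner_irrCharacter, if_neg hφ, mul_zero])
          (fun h => absurd (Finset.mem_univ _) h), Chars.classInner_irrCharacter, if_pos rfl,
          mul_one]

open scoped Classical in
/-- In a `p`-solvable group the kernel is the column orthogonality of the quotient by the
`p'`-core. -/
theorem blockKer_eq_quotient (hpM : (p : AlgInt) ∈ M) {H : Type u} [Group H] [Fintype H]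
    (hsolv : IsPSolvable p H) (y c : H) :
    blockKer M y c =
      if IsConj (QuotientGroup.mk y : H ⧸ pPrimeCore p H) (QuotientGroup.mk c) then
        (Nat.card (Subgroup.centralizer ({(QuotientGroup.mk y : H ⧸ pPrimeCore p H)} : Set (H ⧸ pPrimeCore p H))) : ℂ)
      else 0 := by
  classical
  set N := pPrimeCore p H
  haveI : Fintype (H ⧸ N) := Fintype.ofFinite _
  refine Eq.trans ?_ (Eq.trans (Chars.column_orth (QuotientGroup.mk y : H ⧸ N) (QuotientGroup.mk c))
    (by congr 1))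
  unfold blockKer
  let infl : IrrCharacter (H ⧸ N) → IrrCharacter H := fun φ =>
    ⟨(φ : H ⧸ N → ℂ) ∘ QuotientGroup.mk' N,
      Chars.isIrrCharacter_comp_surjective φ.2 (QuotientGroup.mk' N) (QuotientGroup.mk'_surjective N)⟩
  symm
  refine Finset.sum_bij (fun φ _ => infl φ) (fun φ _ => ?_) (fun a _ b _ h => ?_) (fun ψ hψ => ?_)
    (fun φ _ => rfl)
  · refine Finset.mem_filter.2 ⟨Finset.mem_univ _, ?_⟩
    rw [Blocks.principalBlock_pSolvable hpM hsolv]
    intro n hn
    show (φ : H ⧸ N → ℂ) (QuotientGroup.mk' N n) = (φ : H ⧸ N → ℂ) (QuotientGroup.mk' N 1)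
    rw [map_one, show QuotientGroup.mk' N n = 1 from (QuotientGroup.eq_one_iff n).2 hn]
  · refine Subtype.ext (funext fun x => ?_)
    obtain ⟨g, rfl⟩ := QuotientGroup.mk'_surjective N x
    exact congrFun (congrArg Subtype.val h) g
  · have h2 := (Finset.mem_filter.1 hψ).2
    rw [Blocks.principalBlock_pSolvable hpM hsolv] at h2
    obtain ⟨φ, hφ⟩ := Blocks.exists_descend ψ.2 h2
    exact ⟨φ, Finset.mem_univ _, Subtype.ext hφ.symm⟩

open scoped Classical in
/-- In a `p`-solvable centralizer the values of a principal character on a section factor through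
the quotient by the `p'`-core. -/
theorem value_congr (hpM : (p : AlgInt) ∈ M) {z : G} (hz : ∃ k : ℕ, orderOf z = p ^ k)
    [Fintype (Subgroup.centralizer ({z} : Set G))]
    (hsolv : IsPSolvable p (Subgroup.centralizer ({z} : Set G)))
    {χ : IrrCharacter G} (hχ : χ ∈ principalBlock M G)
    {y y' : Subgroup.centralizer ({z} : Set G)} (hy : ¬ p ∣ orderOf y) (hy' : ¬ p ∣ orderOf y')
    (h : (QuotientGroup.mk y : _ ⧸ pPrimeCore p (Subgroup.centralizer ({z} : Set G))) =
      QuotientGroup.mk y') :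
    (χ : G → ℂ) (z * (y : G)) = (χ : G → ℂ) (z * (y' : G)) := by
  classical
  have hH : ∀ g, g ∈ Subgroup.centralizer ({z} : Set G) ↔ Commute g z := fun g =>
    Subgroup.mem_centralizer_singleton_iff
  rw [Chars2.second_main_principal hpM hz hH hχ hy, Chars2.second_main_principal hpM hz hH hχ hy']
  refine Finset.sum_congr rfl fun ψ hψ => ?_
  have h2 := (Finset.mem_filter.1 hψ).2
  rw [Blocks.principalBlock_pSolvable hpM hsolv] at h2
  obtain ⟨φ, hφ⟩ := Blocks.exists_descend ψ.2 h2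
  simp only [hφ, Function.comp_apply, h]

end Projection

/-- The sum of a function of period three. -/
theorem sum_periodic {f : ℕ → ℂ} (hf : ∀ k, f (k + 3) = f k) (n : ℕ) :
    ∑ k ∈ Finset.range (3 * n), f k = n * (f 0 + f 1 + f 2) := by
  have hper : ∀ j k : ℕ, f (3 * j + k) = f k := by
    intro j
    induction j with
    | zero => simp
    | succ j ih => intro k; rw [show 3 * (j + 1) + k = 3 * j + k + 3 by ring, hf, ih]
  induction n with
  | zero => simp
  | succ n ih =>
    rw [show 3 * (n + 1) = 3 * n + 1 + 1 + 1 by ring, Finset.sum_range_succ, Finset.sum_range_succ,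
      Finset.sum_range_succ, ih, show 3 * n = 3 * n + 0 by rfl, hper, Nat.add_zero, hper,
      show 3 * n + 1 + 1 = 3 * n + 2 by ring, hper]
    push_cast
    ring

/-- Values of period three along `t` times a cyclic group of odd order have integral Fourier
coefficients. -/
theorem fourier_int (χ : IrrCharacter G) {t y : G} (hc : Commute t y) (ht : t * t = 1)
    (hy : Odd (orderOf y)) (h3 : 3 ∣ orderOf y)
    (hper : ∀ k : ℕ, (χ : G → ℂ) (t * y ^ (k + 3)) = (χ : G → ℂ) (t * y ^ k))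
    {η : ℂ} (hη : η ^ 3 = 1) :
    ∃ Z : ℤ, (χ : G → ℂ) t + η * (χ : G → ℂ) (t * y) + η ^ 2 * (χ : G → ℂ) (t * y ^ 2) = 3 * (Z : ℂ) := by
  classical
  obtain ⟨n, ρ, -, hρ⟩ := χ.2
  obtain ⟨z, hz, hcz, -, -⟩ := Chars.exists_eigenvalues ρ (t * y)
  set m := orderOf y with hm
  obtain ⟨j, hj⟩ := hy
  obtain ⟨r, hr⟩ := h3
  have ht2 : ∀ e : ℕ, Odd e → t ^ e = t := by
    rintro e ⟨i, rfl⟩
    rw [pow_succ, pow_mul, pow_two, ht, one_pow, one_mul]
  have hw : (t * y) ^ (2 * m) = 1 := by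
    rw [hc.mul_pow, pow_mul, pow_two, ht, one_pow, one_mul, mul_comm 2 m, pow_mul,
      pow_orderOf_eq_one, one_pow]
  have hz2 : ∀ i, z i ^ (2 * m) = 1 := by
    intro i
    obtain ⟨q, hq⟩ := orderOf_dvd_of_pow_eq_one hw
    rw [hq, pow_mul, hz i, one_pow]
  have hval : ∀ k : ℕ, (χ : G → ℂ) (t * y ^ k) = ∑ i, z i ^ m * (z i ^ (m + 1)) ^ k := by
    intro k
    have e : t * y ^ k = (t * y) ^ (m + (m + 1) * k) := by
      rw [hc.mul_pow, ht2 _ ⟨j + (j + 1) * k, by rw [hj]; ring⟩, pow_add y m, pow_orderOf_eq_one,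
        one_mul, pow_mul, pow_succ, pow_orderOf_eq_one, one_mul]
    rw [e, ← hρ, hcz]
    exact Finset.sum_congr rfl fun i _ => by rw [pow_add, pow_mul]
  refine ⟨∑ i, if η * z i ^ (m + 1) = 1 then (if z i ^ m = 1 then 1 else -1) else 0, ?_⟩
  have hsum := sum_periodic (f := fun k => η ^ k * (χ : G → ℂ) (t * y ^ k))
    (fun k => by simp only [hper, pow_add η k 3, hη, mul_one]) r
  rw [← hr] at hsum
  simp only [pow_zero, one_mul, mul_one, pow_one] at hsum
  have hlhs : ∑ k ∈ Finset.range m, η ^ k * (χ : G → ℂ) (t * y ^ k) =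
      (m : ℂ) * ((∑ i, if η * z i ^ (m + 1) = 1 then (if z i ^ m = 1 then 1 else -1) else 0 : ℤ) : ℂ) := by
    simp only [hval, Finset.mul_sum]
    rw [Finset.sum_comm, Int.cast_sum, Finset.mul_sum]
    refine Finset.sum_congr rfl fun i _ => ?_
    have hs : z i ^ m = ((if z i ^ m = 1 then 1 else -1 : ℤ) : ℂ) := by
      split_ifs with h
      · simpa using h
      · have h1 : z i ^ m * z i ^ m = 1 := by rw [← pow_add, ← two_mul]; exact hz2 i
        rcases mul_self_eq_one_iff.1 h1 with e | e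
        · exact absurd e h
        · simpa using e
    have e : ∀ k : ℕ, η ^ k * (z i ^ m * (z i ^ (m + 1)) ^ k) = z i ^ m * (η * z i ^ (m + 1)) ^ k := by
      intro k
      rw [mul_pow η]; ring
    rw [Finset.sum_congr rfl fun k _ => e k, ← Finset.mul_sum]
    by_cases h : η * z i ^ (m + 1) = 1
    · rw [if_pos h, h]
      simp only [one_pow, Finset.sum_const, Finset.card_range, nsmul_eq_mul, mul_one]
      rw [← hs]; ring
    · rw [if_neg h, geom_sum_eq h, mul_pow η, ← pow_mul (z i),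
        show η ^ m = 1 by rw [hr, pow_mul, hη, one_pow],
        show (m + 1) * m = (2 * m) * (j + 1) by rw [hj]; ring, pow_mul (z i), hz2, one_pow]
      simp
  rw [hlhs, hr] at hsum
  have hr0 : (r : ℂ) ≠ 0 := by
    have : r ≠ 0 := by omega
    exact_mod_cast this
  refine mul_left_cancel₀ hr0 ?_
  rw [← hr] at hsum
  rw [← hsum, hr]
  push_cast
  ring

open scoped Classical in
/-- The pairing of two classes of involutions only meets inverted elements. -/
theorem exists_invert_of_pairing {t g : G} (ht : t * t = 1)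
    (h : ∑ χ : IrrCharacter G, (χ : G → ℂ) t * (χ : G → ℂ) t / (χ : G → ℂ) 1 * (χ : G → ℂ) g ≠ 0) :
    ∃ u : G, u * g * u⁻¹ = g⁻¹ := by
  classical
  have e : (Nat.card G : ℂ) * (∑ χ : IrrCharacter G,
      (χ : G → ℂ) t * (χ : G → ℂ) t / (χ : G → ℂ) 1 * (χ : G → ℂ) g) =
      ∑ a : G, ∑ χ : IrrCharacter G, (χ : G → ℂ) (t * (a * t * a⁻¹)) * conj ((χ : G → ℂ) g⁻¹) := by
    rw [Finset.mul_sum, Finset.sum_comm]
    refine Finset.sum_congr rfl fun χ _ => ?_
    rw [← Finset.sum_mul, Blocks.sum_apply_mul_conj,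
      Chars.char_inv_eq_conj (Chars.irr_isCharacter χ) g, Complex.conj_conj]
    ring
  have hne : (Nat.card G : ℂ) * (∑ χ : IrrCharacter G,
      (χ : G → ℂ) t * (χ : G → ℂ) t / (χ : G → ℂ) 1 * (χ : G → ℂ) g) ≠ 0 :=
    mul_ne_zero (Nat.cast_ne_zero.2 Nat.card_pos.ne') h
  rw [e] at hne
  obtain ⟨a, -, ha⟩ := Finset.exists_ne_zero_of_sum_ne_zero hne
  rw [Chars.column_orth] at ha
  split_ifs at ha with hc
  · obtain ⟨b, hb⟩ := isConj_iff.1 hc
    refine ⟨b * t * b⁻¹, ?_⟩
    rw [← inv_inj, ← hb]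
    have hti : t⁻¹ = t := inv_eq_of_mul_eq_one_right ht
    rw [show g = (b * (t * (a * t * a⁻¹)) * b⁻¹)⁻¹ by rw [hb, inv_inv]]
    simp only [mul_inv_rev, inv_inv, hti, mul_assoc, inv_mul_cancel_left]
    rw [← mul_assoc t t, ht, one_mul]
  · exact absurd rfl ha

/-- No simple group has this local data. -/
theorem no_simple [IsSimpleGroup G] (hna : ¬ IsMulCommutative G) (S : Sylow 2 G)
    (hS : IsElementaryAbelian 2 (S : Subgroup G)) (hS8 : Nat.card ↥(S : Subgroup G) = 8)
    (hone : ∀ s t : G, orderOf s = 2 → orderOf t = 2 → IsConj s t)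
    {t x : G} (htS : t ∈ (S : Subgroup G)) (ht1 : t ≠ 1)
    (hx : x ∈ Subgroup.normalizer ((S : Subgroup G) : Set G)) (hxt : x * t = t * x)
    (hxs : ∃ s ∈ (S : Subgroup G), x * s ≠ s * x)
    (hsolv : Group.IsSolvable ↥(Subgroup.centralizer ({t} : Set G))) : False := by
  classical
  haveI : Fact (Nat.Prime 2) := ⟨Nat.prime_two⟩
  obtain ⟨M, hMmax, h2M⟩ := DegreeGraph.exists_isMaximal_mem 2
  haveI := hMmax
  have htt : t * t = 1 := by rw [← pow_two]; exact hS.2 t htS
  have hto : orderOf t = 2 := orderOf_eq_prime (hS.2 t htS) ht1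
  have hz : ∃ k : ℕ, orderOf t = 2 ^ k := ⟨1, by rw [hto, pow_one]⟩
  set C := Subgroup.centralizer ({t} : Set G) with hC
  letI : Fintype C := Fintype.ofFinite _
  haveI := hsolv
  have hps : IsPSolvable 2 C := Core.isPSolvable_of_isSolvable
  set N := pPrimeCore 2 C with hN
  have hN2 : ¬ 2 ∣ Nat.card N := Core.not_dvd_card_pPrimeCore 2 _
  -- the Sylow subgroup inside the centralizer
  have hSt : ∀ s ∈ (S : Subgroup G), s * t = t * s := fun s hs =>
    congrArg Subtype.val (mul_eq_of_sq (T := ↥(S : Subgroup G)) (fun w => Subtype.ext (by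
      show (w : G) * w = 1
      rw [← pow_two]; exact hS.2 w w.2)) ⟨s, hs⟩ ⟨t, htS⟩)
  have hSC : (S : Subgroup G) ≤ C := fun s hs =>
    Subgroup.mem_centralizer_singleton_iff.2 (hSt s hs)
  have hCidx : ¬ 2 ∣ C.index := fun h => S.not_dvd_index (h.trans (Subgroup.index_dvd_of_le hSC))
  let mk := QuotientGroup.mk' N
  set T := ((S : Subgroup G).subgroupOf C).map mk with hT
  have hinj : ∀ s : C, (s : G) ∈ (S : Subgroup G) → mk s = 1 → s = 1 := by
    intro s hs h
    have hsN : s ∈ N := (QuotientGroup.eq_one_iff s).1 h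
    have h2 : orderOf s ∣ 2 := orderOf_dvd_of_pow_eq_one (Subtype.ext (by
      simpa using hS.2 (s : G) hs))
    rcases (Nat.dvd_prime Nat.prime_two).1 h2 with h3 | h3
    · exact orderOf_eq_one_iff.1 h3
    · exact absurd (h3 ▸ Subgroup.orderOf_dvd_natCard _ hsN) hN2
  have hT8 : Nat.card T = 8 := by
    rw [← hS8, ← Nat.card_congr (Subgroup.subgroupOfEquivOfLe hSC).toEquiv]
    refine (Nat.card_congr (Equiv.ofBijective (fun s : (S : Subgroup G).subgroupOf C =>
      (⟨mk s, Subgroup.mem_map_of_mem _ s.2⟩ : T)) ⟨fun a b h => ?_, fun q => ?_⟩)).symm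
    · refine Subtype.ext (inv_mul_eq_one.1 (hinj ((a : C)⁻¹ * b) ?_ ?_))
      · exact ((S : Subgroup G).subgroupOf C).mul_mem (Subgroup.inv_mem _ a.2) b.2
      · rw [map_mul, map_inv, show mk (a : C) = mk b from congrArg Subtype.val h, inv_mul_cancel]
    · obtain ⟨q, s, hs, rfl⟩ := q
      exact ⟨⟨s, hs⟩, rfl⟩
  have hTsq : ∀ q ∈ T, q * q = 1 := by
    rintro _ ⟨s, hs, rfl⟩
    rw [← map_mul, show s * s = 1 from Subtype.ext (by simpa [pow_two] using hS.2 (s : G) hs), map_one]
  have hTidx : ¬ 2 ∣ T.index := by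
    intro h
    have h1 : T.index ∣ ((S : Subgroup G).subgroupOf C).index :=
      Subgroup.index_map_dvd _ (QuotientGroup.mk'_surjective N)
    have h2 : ((S : Subgroup G).subgroupOf C).index ∣ (S : Subgroup G).index :=
      Subgroup.relIndex_dvd_index_of_le hSC
    exact S.not_dvd_index (h.trans (h1.trans h2))
  have hTp : IsPGroup 2 T := IsPGroup.of_card (n := 3) (by rw [hT8]; rfl)
  let TS : Sylow 2 (C ⧸ N) := hTp.toSylow hTidx
  have hTS : (TS : Subgroup (C ⧸ N)) = T := rfl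
  have hle : Cfsg.pCore 2 (C ⧸ N) ≤ T := hTS ▸ Core.pCore_le_sylow TS
  have hcent : Subgroup.centralizer (Cfsg.pCore 2 (C ⧸ N) : Set (C ⧸ N)) ≤ Cfsg.pCore 2 (C ⧸ N) :=
    Core.centralizer_pCore_le (Core.isPSolvable_quotient hps N)
      (Core.pPrimeCore_quotient_pPrimeCore 2 C)
  have hTC : T ≤ Subgroup.centralizer (Cfsg.pCore 2 (C ⧸ N) : Set (C ⧸ N)) := fun q hq =>
    Subgroup.mem_centralizer_iff.2 fun r hr => congrArg Subtype.val
      (mul_eq_of_sq (T := T) (fun w => Subtype.ext (hTsq w w.2)) ⟨r, hle hr⟩ ⟨q, hq⟩)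
  have hTeq : T = Cfsg.pCore 2 (C ⧸ N) := le_antisymm (hTC.trans hcent) hle
  haveI : T.Normal := by rw [hTeq]; exact Cfsg.pCore_normal 2 _
  have hTtop : T ≠ ⊤ := by
    obtain ⟨s, hs, hne⟩ := hxs
    intro htop
    apply hne
    have hxC : x ∈ C := Subgroup.mem_centralizer_singleton_iff.2 hxt
    have hxS : x * s * x⁻¹ ∈ (S : Subgroup G) := (Subgroup.mem_normalizer_iff.1 hx s).1 hs
    let x' : C := ⟨x, hxC⟩
    let s' : C := ⟨s, hSC hs⟩
    have h1 : mk x' * mk s' = mk s' * mk x' := congrArg Subtype.val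
      (mul_eq_of_sq (T := T) (fun w => Subtype.ext (hTsq w w.2)) ⟨_, htop ▸ Subgroup.mem_top (mk x')⟩
        ⟨_, htop ▸ Subgroup.mem_top (mk s')⟩)
    have h2 : x' * s' * x'⁻¹ * s'⁻¹ = 1 := hinj _
      ((S : Subgroup G).mul_mem hxS ((S : Subgroup G).inv_mem hs))
      (by rw [map_mul, map_mul, map_mul, map_inv, map_inv, h1]; group)
    have h3 := congrArg Subtype.val (mul_inv_eq_one.1 h2)
    exact mul_inv_eq_iff_eq_mul.1 h3
  let tC : C := ⟨t, hSC htS⟩
  obtain ⟨hQ24, hQodd, q0, hq0odd, hq01⟩ := quotient_facts T hTsq hT8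
    ((congrArg (fun K : Subgroup (C ⧸ N) => Subgroup.centralizer (K : Set (C ⧸ N))) hTeq).le.trans
      (hTeq ▸ hcent))
    (Nat.odd_iff.2 (Nat.two_dvd_ne_zero.1 hTidx)) hTtop
    (t := mk tC) (Subgroup.mem_map_of_mem _ htS)
    (fun h => ht1 (congrArg Subtype.val (hinj tC htS h)))
    (fun q => by
      obtain ⟨c, rfl⟩ := QuotientGroup.mk'_surjective N q
      rw [← map_mul, ← map_mul]
      exact congrArg mk (Subtype.ext (Subgroup.mem_centralizer_singleton_iff.1 c.2)))
  obtain ⟨hq03, hq0card, hq0conj⟩ := hQodd q0 hq0odd hq01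
  have hq0o : orderOf q0 = 3 := orderOf_eq_prime hq03 hq01
  -- an element of odd order over `q0`
  obtain ⟨y, hyodd, hyq⟩ : ∃ y : C, Odd (orderOf y) ∧ mk y = q0 := by
    obtain ⟨c, hc⟩ := QuotientGroup.mk'_surjective N q0
    set a := (orderOf c).factorization 2
    refine ⟨c ^ (2 ^ a * 2 ^ a), ?_, ?_⟩
    · have h1 : (c ^ (2 ^ a * 2 ^ a)) ^ (orderOf c / 2 ^ a) = 1 := by
        rw [← pow_mul, mul_assoc, Nat.mul_div_cancel' (Nat.ordProj_dvd _ 2), mul_comm, pow_mul,
          pow_orderOf_eq_one, one_pow]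
      refine Odd.of_dvd_nat ?_ (orderOf_dvd_of_pow_eq_one h1)
      rw [Nat.odd_iff, ← Nat.two_dvd_ne_zero]
      exact Nat.not_dvd_ordCompl Nat.prime_two (orderOf_pos c).ne'
    · rw [map_pow, hc, pow_eq_pow_mod _ hq03, ← pow_add, ← two_mul, pow_mul,
        Nat.pow_mod]
      norm_num
  have hreg : ∀ c : C, Odd (orderOf c) → ¬ 2 ∣ orderOf c := fun c h =>
    Nat.two_dvd_ne_zero.2 (Nat.odd_iff.1 h)
  have hpowodd : ∀ k : ℕ, Odd (orderOf (y ^ k)) := fun k => hyodd.of_dvd_nat (orderOf_pow_dvd k)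
  have hyr : ∀ k : ℕ, ¬ 2 ∣ orderOf (y ^ k) := fun k => hreg _ (hpowodd k)
  have h3y : 3 ∣ orderOf y := hq0o ▸ hyq ▸ orderOf_map_dvd mk y
  have hmk : ∀ k : ℕ, (QuotientGroup.mk (y ^ k) : C ⧸ N) = q0 ^ k := fun k => by
    rw [← hyq, ← map_pow]; rfl
  -- values
  set B := Finset.univ.filter (· ∈ principalBlock M G) with hB
  let F : IrrCharacter G → ℕ → ℂ := fun χ k => (χ : G → ℂ) (t * (y : G) ^ k)
  have hFc : ∀ χ : IrrCharacter G, ∀ k, F χ k = (χ : G → ℂ) (t * ((y ^ k : C) : G)) := fun χ k => by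
    simp [F]
  have hcomm : Commute t (y : G) := (Subgroup.mem_centralizer_singleton_iff.1 y.2).symm
  have hper : ∀ χ ∈ B, ∀ k, F χ (k + 3) = F χ k := by
    intro χ hχ k
    rw [hFc, hFc]
    refine value_congr h2M hz hps (Finset.mem_filter.1 hχ).2 (hyr _) (hyr _) ?_
    rw [hmk, hmk, pow_add, hq03, mul_one]
  have hF0 : ∀ χ : IrrCharacter G, F χ 0 = (χ : G → ℂ) t := fun χ => by simp [F]
  have hconjF : ∀ χ ∈ B, conj (F χ 1) = F χ 2 := by
    intro χ hχ
    show conj ((χ : G → ℂ) (t * (y : G) ^ 1)) = _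
    rw [pow_one, ← Chars.char_inv_eq_conj (Chars.irr_isCharacter χ), mul_inv_rev,
      inv_eq_of_mul_eq_one_right htt, ← hcomm.inv_right.eq, hFc]
    have := value_congr h2M hz hps (Finset.mem_filter.1 hχ).2
      (y := y⁻¹) (y' := y ^ 2) (by rw [orderOf_inv]; exact hreg _ hyodd) (hyr 2) ?_
    · simpa using this
    · rw [hmk, QuotientGroup.mk_inv]
      rw [show (QuotientGroup.mk y : C ⧸ N) = q0 from hyq]
      exact inv_eq_of_mul_eq_one_right (by rw [← pow_succ']; exact hq03)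
  have hconjF2 : ∀ χ ∈ B, conj (F χ 2) = F χ 1 := fun χ hχ => by
    rw [← hconjF χ hχ, Complex.conj_conj]
  choose v hv using fun χ : IrrCharacter G =>
    Chars2.int_value_involution χ (t := t) (by rw [pow_two]; exact htt)
  have hconj0 : ∀ χ : IrrCharacter G, conj (F χ 0) = F χ 0 := fun χ => by
    rw [hF0, hv, map_intCast]
  -- the inner products
  have hgram : ∀ i j : ℕ, ∑ χ ∈ B, conj (F χ j) * F χ i =
      if IsConj (q0 ^ i) (q0 ^ j) then
        (Nat.card (Subgroup.centralizer ({q0 ^ i} : Set (C ⧸ N))) : ℂ) else 0 := by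
    intro i j
    simp only [hFc]
    rw [column_inner h2M hz (hyr i) (hyr j), blockKer_eq_quotient h2M hps]
    simp only [hmk]
    congr 1
  have hsq : q0 ^ 2 = q0⁻¹ :=
    (inv_eq_of_mul_eq_one_right (by rw [← pow_succ']; exact hq03)).symm
  have hinv1 : ¬ q0 ^ 2 = 1 := fun h => hq01 (inv_eq_one.1 (hsq ▸ h))
  have n01 : ¬ IsConj (q0 ^ 0) (q0 ^ 1) := by
    rw [pow_zero, pow_one, isConj_one_right]; exact hq01
  have n02 : ¬ IsConj (q0 ^ 0) (q0 ^ 2) := by rw [pow_zero, isConj_one_right]; exact hinv1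
  have n12 : ¬ IsConj (q0 ^ 1) (q0 ^ 2) := by rw [pow_one, hsq]; exact hq0conj
  have c0 : (Nat.card (Subgroup.centralizer ({q0 ^ 0} : Set (C ⧸ N)))) = 24 := by
    rw [← hQ24]
    refine Nat.card_congr ((MulEquiv.subgroupCongr ?_).trans Subgroup.topEquiv).toEquiv
    rw [pow_zero, eq_top_iff]
    exact fun g _ => Subgroup.mem_centralizer_singleton_iff.2 (by rw [one_mul, mul_one])
  have c1 : (Nat.card (Subgroup.centralizer ({q0 ^ 1} : Set (C ⧸ N)))) = 6 := by rw [pow_one, hq0card]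
  have c2 : (Nat.card (Subgroup.centralizer ({q0 ^ 2} : Set (C ⧸ N)))) = 6 :=
    (hQodd (q0 ^ 2) (hq0odd.of_dvd_nat (orderOf_pow_dvd 2)) hinv1).2.1
  have g00 := hgram 0 0
  have g11 := hgram 1 1
  have g22 := hgram 2 2
  have g01 := hgram 0 1
  have g10 := hgram 1 0
  have g02 := hgram 0 2
  have g20 := hgram 2 0
  have g12 := hgram 1 2
  have g21 := hgram 2 1
  rw [if_pos (IsConj.refl _), c0] at g00
  rw [if_pos (IsConj.refl _), c1] at g11
  rw [if_pos (IsConj.refl _), c2] at g22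
  rw [if_neg n01] at g01
  rw [if_neg fun h => n01 h.symm] at g10
  rw [if_neg n02] at g02
  rw [if_neg fun h => n02 h.symm] at g20
  rw [if_neg n12] at g12
  rw [if_neg fun h => n12 h.symm] at g21
  -- the degree relation
  have hdeg : ∀ k, ∑ χ ∈ B, (χ : G → ℂ) 1 * conj (F χ k) = 0 := by
    intro k
    refine Blocks.block_orth_weak h2M Blocks.isPBlock_principal
      (by rw [orderOf_one]; norm_num) ?_
    rw [(hcomm.pow_right k).orderOf_mul_eq_mul_orderOf_of_coprime, hto]
    · exact dvd_mul_right _ _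
    · rw [hto, Nat.prime_two.coprime_iff_not_dvd, ← SubmonoidClass.coe_pow, Subgroup.orderOf_coe]
      exact hyr k
  -- the pairing relation
  have hpair : ∑ χ ∈ B, (χ : G → ℂ) t * (χ : G → ℂ) t / (χ : G → ℂ) 1 * F χ 1 = 0 := by
    simp only [hFc]
    rw [weighted_column h2M hz (hyr 1)]
    refine mul_eq_zero_of_right _ (Finset.sum_eq_zero fun c _ => ?_)
    by_contra hne
    obtain ⟨hθ, hK⟩ := mul_ne_zero_iff.1 hne
    have hcreg : ¬ 2 ∣ orderOf c := fun h => hK (blockKer_eq_zero h2M (hyr 1) h)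
    obtain ⟨u, hu⟩ := exists_invert_of_pairing htt hθ
    have hct : Commute t (c : G) := (Subgroup.mem_centralizer_singleton_iff.1 c.2).symm
    have hti : t⁻¹ = t := inv_eq_of_mul_eq_one_right htt
    have hrw : (t * (c : G))⁻¹ = t * (c : G)⁻¹ := by
      rw [mul_inv_rev, hti, ← hct.inv_right.eq]
    rw [hrw] at hu
    have hut : u * t * u⁻¹ = t := by
      have h1 := congrArg (Blocks.ppart 2) hu
      rwa [Blocks.ppart_conj, Blocks.ppart_mul hct hz (by rwa [Subgroup.orderOf_coe]),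
        Blocks.ppart_mul hct.inv_right hz (by rwa [orderOf_inv, Subgroup.orderOf_coe])] at h1
    have huC : u ∈ C := Subgroup.mem_centralizer_singleton_iff.2 (mul_inv_eq_iff_eq_mul.1 hut)
    have hcc : u * (c : G) * u⁻¹ = (c : G)⁻¹ := by
      have h2 : (u * t * u⁻¹) * (u * (c : G) * u⁻¹) = t * (c : G)⁻¹ := by rw [← hu]; group
      rw [hut] at h2
      exact mul_left_cancel h2
    have hconj : IsConj (mk c) (mk c)⁻¹ := by
      refine isConj_iff.2 ⟨mk ⟨u, huC⟩, ?_⟩
      rw [← map_inv, ← map_mul, ← map_mul, ← map_inv]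
      exact congrArg mk (Subtype.ext hcc)
    have hc1 : mk c = 1 := by
      by_contra h1
      exact (hQodd _ (Odd.of_dvd_nat (Nat.odd_iff.2 (Nat.two_dvd_ne_zero.1 hcreg)) (orderOf_map_dvd mk c))
        h1).2.2 hconj
    apply hK
    rw [blockKer_eq_quotient h2M hps, if_neg]
    rw [hmk, show (QuotientGroup.mk c : C ⧸ N) = 1 from hc1, isConj_one_left, pow_one]
    exact hq01
  -- the three Fourier coefficients
  obtain ⟨ω, hω⟩ : ∃ ω : ℂ, IsPrimitiveRoot ω 3 :=
    ⟨_, Complex.isPrimitiveRoot_exp 3 (by norm_num)⟩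
  have hω3 : ω ^ 3 = 1 := hω.pow_eq_one
  have hωsum : 1 + ω + ω ^ 2 = 0 := by
    have := hω.geom_sum_eq_zero (by norm_num)
    simpa [Finset.sum_range_succ] using this
  have hωc : conj ω = ω ^ 2 := by
    have hn : ‖ω‖ = 1 := Chars.norm_eq_one_of_pow_eq_one (by norm_num) hω3
    rw [← Complex.inv_eq_conj hn]
    exact inv_eq_of_mul_eq_one_right (by rw [← pow_succ']; exact hω3)
  have hint : ∀ χ : IrrCharacter G, ∀ η : ℂ, η ^ 3 = 1 →
      ∃ Z : ℤ, χ ∈ B → F χ 0 + η * F χ 1 + η ^ 2 * F χ 2 = 3 * (Z : ℂ) := by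
    intro χ η hη
    by_cases hχ : χ ∈ B
    · obtain ⟨Z, hZ⟩ := fourier_int χ hcomm htt (by rwa [Subgroup.orderOf_coe])
        (by rwa [Subgroup.orderOf_coe]) (hper χ hχ) hη
      exact ⟨Z, fun _ => by simpa [F] using hZ⟩
    · exact ⟨0, fun h => absurd h hχ⟩
  choose a ha using fun χ => hint χ 1 (by norm_num)
  choose b hb using fun χ => hint χ ω hω3
  choose c hc using fun χ => hint χ (ω ^ 2) (by rw [← pow_mul, show 2 * 3 = 3 * 2 by rfl, pow_mul, hω3, one_pow])
  -- inner products of the coefficients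
  have hsym : ∀ χ ∈ B, ∀ η : ℂ, ∀ Z : ℤ, F χ 0 + η * F χ 1 + η ^ 2 * F χ 2 = 3 * (Z : ℂ) →
      conj (F χ 0) + conj η * conj (F χ 1) + conj η ^ 2 * conj (F χ 2) = 3 * (Z : ℂ) := by
    intro χ _ η Z h
    have := congrArg conj h
    simpa [map_add, map_mul, map_pow, map_intCast, map_ofNat] using this
  have hG : ∀ (η η' : ℂ) (Z Z' : IrrCharacter G → ℤ),
      (∀ χ, χ ∈ B → F χ 0 + η * F χ 1 + η ^ 2 * F χ 2 = 3 * (Z χ : ℂ)) →
      (∀ χ, χ ∈ B → F χ 0 + η' * F χ 1 + η' ^ 2 * F χ 2 = 3 * (Z' χ : ℂ)) →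
      (9 : ℂ) * ((∑ χ ∈ B, Z χ * Z' χ : ℤ) : ℂ) = 24 + 6 * (η * conj η' + η ^ 2 * conj η' ^ 2) := by
    intro η η' Z Z' h h'
    rw [Int.cast_sum, Finset.mul_sum]
    have e : ∀ χ ∈ B, (9 : ℂ) * ((Z χ * Z' χ : ℤ) : ℂ) =
        conj (F χ 0) * F χ 0 + η * (conj (F χ 0) * F χ 1) + η ^ 2 * (conj (F χ 0) * F χ 2) +
        conj η' * (conj (F χ 1) * F χ 0) + η * conj η' * (conj (F χ 1) * F χ 1) +
        η ^ 2 * conj η' * (conj (F χ 1) * F χ 2) +
        conj η' ^ 2 * (conj (F χ 2) * F χ 0) + η * conj η' ^ 2 * (conj (F χ 2) * F χ 1) +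
        η ^ 2 * conj η' ^ 2 * (conj (F χ 2) * F χ 2) := by
      intro χ hχ
      have k1 := h χ hχ
      have k2 := hsym χ hχ η' (Z' χ) (h' χ hχ)
      push_cast
      linear_combination (-(3 * (Z' χ : ℂ))) * k1 - (F χ 0 + η * F χ 1 + η ^ 2 * F χ 2) * k2
    rw [Finset.sum_congr rfl e]
    simp only [Finset.sum_add_distrib, ← Finset.mul_sum]
    rw [g00, g11, g22, g01, g10, g02, g20, g12, g21]
    push_cast
    ring
  have hω4 : ω ^ 4 = ω := by rw [show (4 : ℕ) = 3 + 1 by rfl, pow_add, hω3, one_mul, pow_one]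
  have cast9 : ∀ {Z : ℤ} {n : ℤ}, (9 : ℂ) * (Z : ℂ) = 9 * (n : ℂ) → Z = n := fun h =>
    Int.cast_injective (α := ℂ) (mul_left_cancel₀ (by norm_num) h)
  have haa : ∑ χ ∈ B, a χ * a χ = 4 := cast9 (by
    rw [hG 1 1 a a ha ha]; simp only [map_one, map_pow]; norm_num)
  have hbb : ∑ χ ∈ B, b χ * b χ = 4 := cast9 (by
    rw [hG ω ω b b hb hb, hωc, ← pow_mul]
    push_cast
    linear_combination (6 + 6 * (ω ^ 3 + 1)) * hω3)
  have hcc : ∑ χ ∈ B, c χ * c χ = 4 := cast9 (by
    rw [hG _ _ c c hc hc, map_pow, hωc]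
    push_cast
    linear_combination (6 * ((ω ^ 3 + 1) + (ω ^ 3 + 1) * (ω ^ 6 + 1))) * hω3)
  have hab : ∑ χ ∈ B, a χ * b χ = 2 := cast9 (by
    rw [hG 1 ω a b ha hb, hωc, ← pow_mul]
    push_cast
    linear_combination 6 * hωsum + 6 * hω4)
  have hac : ∑ χ ∈ B, a χ * c χ = 2 := cast9 (by
    rw [hG 1 _ a c ha hc, map_pow, hωc]
    push_cast
    linear_combination 6 * hωsum + 6 * hω4 + 6 * (ω ^ 5 + ω ^ 2) * hω3)
  have hbc : ∑ χ ∈ B, b χ * c χ = 2 := cast9 (by
    rw [hG ω _ b c hb hc, map_pow, hωc]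
    push_cast
    linear_combination 6 * hωsum + (6 * ω ^ 2 + 6 * (ω ^ 7 + ω ^ 4 + ω)) * hω3)
  -- degrees
  have hd : ∀ χ : IrrCharacter G, (χ : G → ℂ) 1 = (charDegree (χ : G → ℂ) : ℂ) := fun χ =>
    (Blocks.charDegree_eq χ.2).1
  have hdF : ∀ k, ∑ χ ∈ B, (χ : G → ℂ) 1 * F χ k = 0 := by
    intro k
    have h1 := congrArg conj (hdeg k)
    rw [map_sum, map_zero] at h1
    rw [← h1]
    refine Finset.sum_congr rfl fun χ _ => ?_
    rw [map_mul, Complex.conj_conj, hd, map_natCast]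
  have hdlin : ∀ (η : ℂ) (Z : IrrCharacter G → ℤ),
      (∀ χ, χ ∈ B → F χ 0 + η * F χ 1 + η ^ 2 * F χ 2 = 3 * (Z χ : ℂ)) →
      ∑ χ ∈ B, (charDegree (χ : G → ℂ) : ℤ) * Z χ = 0 := by
    intro η Z h
    refine Int.cast_injective (α := ℂ) ?_
    rw [Int.cast_zero, ← mul_right_inj' (show (3 : ℂ) ≠ 0 by norm_num), mul_zero, Int.cast_sum,
      Finset.mul_sum]
    rw [Finset.sum_congr rfl (g := fun χ : IrrCharacter G => (χ : G → ℂ) 1 * F χ 0 + η * ((χ : G → ℂ) 1 * F χ 1) +
      η ^ 2 * ((χ : G → ℂ) 1 * F χ 2)) fun χ hχ => by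
        push_cast
        rw [← hd]
        linear_combination (-((χ : G → ℂ) 1)) * h χ hχ]
    simp only [Finset.sum_add_distrib, ← Finset.mul_sum, hdF]
    ring
  have hvsum : ∀ χ ∈ B, a χ + b χ + c χ = v χ := by
    intro χ hχ
    refine Int.cast_injective (α := ℂ) ?_
    push_cast
    rw [← hv, ← hF0]
    linear_combination (-(1 / 3) : ℂ) * ha χ hχ - (1 / 3 : ℂ) * hb χ hχ - (1 / 3 : ℂ) * hc χ hχ +
      (1 / 3 : ℂ) * (F χ 1 + F χ 2) * hωsum + (1 / 3 : ℂ) * F χ 2 * hω4
  -- the pairing relation for the coefficients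
  have hpair2 : ∑ χ ∈ B, (χ : G → ℂ) t * (χ : G → ℂ) t / (χ : G → ℂ) 1 * F χ 2 = 0 := by
    have h1 := congrArg conj hpair
    rw [map_sum, map_zero] at h1
    rw [← h1]
    refine Finset.sum_congr rfl fun χ hχ => ?_
    rw [map_mul, hconjF χ hχ, map_div₀, map_mul, hd, map_natCast, hv, map_intCast]
  have hplin : ∀ (η : ℂ) (Z : IrrCharacter G → ℤ),
      (∀ χ, χ ∈ B → F χ 0 + η * F χ 1 + η ^ 2 * F χ 2 = 3 * (Z χ : ℂ)) →
      ∑ χ ∈ B, ((a χ + b χ + c χ : ℚ)) ^ 2 * (a χ - Z χ) / (charDegree (χ : G → ℂ) : ℤ) = 0 := by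
    intro η Z h
    refine Rat.cast_injective (α := ℂ) ?_
    rw [Rat.cast_zero, ← mul_right_inj' (show (3 : ℂ) ≠ 0 by norm_num), mul_zero, Rat.cast_sum,
      Finset.mul_sum]
    rw [Finset.sum_congr rfl (g := fun χ : IrrCharacter G =>
      (1 - η) * ((χ : G → ℂ) t * (χ : G → ℂ) t / (χ : G → ℂ) 1 * F χ 1) +
      (1 - η ^ 2) * ((χ : G → ℂ) t * (χ : G → ℂ) t / (χ : G → ℂ) 1 * F χ 2)) fun χ hχ => by
        push_cast
        have e : ((a χ : ℂ) + b χ + c χ) = (χ : G → ℂ) t := by
          rw [hv, ← hvsum χ hχ]; push_cast; ring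
        rw [e, ← hd]
        linear_combination ((χ : G → ℂ) t * (χ : G → ℂ) t / (χ : G → ℂ) 1) * h χ hχ -
          ((χ : G → ℂ) t * (χ : G → ℂ) t / (χ : G → ℂ) 1) * ha χ hχ]
    simp only [Finset.sum_add_distrib, ← Finset.mul_sum, hpair, hpair2]
    ring
  -- remove the principal character
  set one := Blocks.oneChar G
  have h1B : one ∈ B := Finset.mem_filter.2 ⟨Finset.mem_univ _, Blocks.one_mem_principal⟩
  have hFone : ∀ k, F one k = 1 := fun k => by simp [F, one, Blocks.coe_oneChar]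
  have hone_a : a one = 1 := Int.cast_injective (α := ℂ) (by
    have := ha one h1B
    rw [hFone, hFone, hFone] at this
    push_cast
    linear_combination (-(1 / 3) : ℂ) * this)
  have hone_b : b one = 0 := Int.cast_injective (α := ℂ) (by
    have := hb one h1B
    rw [hFone, hFone, hFone] at this
    push_cast
    linear_combination (-(1 / 3) : ℂ) * this + (1 / 3 : ℂ) * hωsum)
  have hone_c : c one = 0 := Int.cast_injective (α := ℂ) (by
    have := hc one h1B
    rw [hFone, hFone, hFone] at this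
    push_cast
    linear_combination (-(1 / 3) : ℂ) * this + (1 / 3 : ℂ) * hωsum + (1 / 3 : ℂ) * hω4)
  have hone_d : charDegree (one : G → ℂ) = 1 := by simp [charDegree, one, Blocks.coe_oneChar]
  have hsplit : ∀ {R : Type} [AddCommMonoid R] (f : IrrCharacter G → R),
      ∑ χ ∈ B, f χ = f one + ∑ χ ∈ B.erase one, f χ := fun {R} _ f =>
    (Finset.add_sum_erase _ _ h1B).symm
  refine not_cols (T := B.erase one) (a := a) (b := b) (c := c)
    (d := fun χ => (charDegree (χ : G → ℂ) : ℤ))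
    { deg := ?_, val := ?_, cong := ?_, nonneg := ?_, aa := ?_, bb := ?_, cc := ?_, ab := ?_,
      ac := ?_, bc := ?_, da := ?_, db := ?_, dc := ?_, sb := ?_, sc := ?_ }
  · intro χ hχ
    have h0 := (Blocks.charDegree_eq χ.2).2
    have h1 : charDegree (χ : G → ℂ) ≠ 1 := fun h => (Finset.mem_erase.1 hχ).1 (Subtype.ext
      (Chars.SimpleDeg.eq_one_of_degree_one (fun hall => hna ⟨⟨hall⟩⟩) (χ := χ) (by rw [hd, h, Nat.cast_one])))
    omega
  · intro χ hχ h0
    have hχB := Finset.mem_of_mem_erase hχ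
    rw [hvsum χ hχB] at h0
    have h := (Finset.mem_filter.1 hχB).2 t
    rw [centralChar, centralChar, hv χ, h0, Int.cast_zero, mul_zero, zero_div, sub_zero, mul_one,
      div_one, Blocks.memI_natCast_iff h2M] at h
    exact hCidx h
  all_goals try (intro χ hχ)
  any_goals
    letI : Fintype (S : Subgroup G) := Fintype.ofFinite _
    obtain ⟨k, hk⟩ := Chars.exists_classInner_eq_nat
      (Chars.isCharacter_restrict (Chars.irr_isCharacter χ) (S : Subgroup G))
      (Chars.isCharacter_of_isIrr (Blocks.oneChar (S : Subgroup G)).2)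
    have hsum : ∑ w : (S : Subgroup G), (χ : G → ℂ) w =
        ((charDegree (χ : G → ℂ) : ℤ) : ℂ) + 7 * (v χ : ℂ) := by
      rw [← Finset.add_sum_erase _ _ (Finset.mem_univ (1 : (S : Subgroup G))), OneMemClass.coe_one,
        hd, Finset.sum_congr (rfl : Finset.univ.erase (1 : (S : Subgroup G)) = _)
          (g := fun _ => (v χ : ℂ)) (fun w hw => ?_),
        Finset.sum_const, Finset.card_erase_of_mem (Finset.mem_univ _), Finset.card_univ,
        ← Nat.card_eq_fintype_card, hS8]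
      · simp [nsmul_eq_mul]
      · rw [← hv χ]
        refine Blocks.isClassFunction_eq (Chars.isClassFunction_irr χ) (hone t _ hto ?_)
        exact orderOf_eq_prime (hS.2 _ w.2) fun h => (Finset.mem_erase.1 hw).1 (Subtype.ext h)
    rw [Chars.classInner_def, hS8] at hk
    simp only [Blocks.coe_oneChar, map_one, mul_one] at hk
    rw [hsum, inv_mul_eq_iff_eq_mul₀ (by norm_num)] at hk
    have h8 : (charDegree (χ : G → ℂ) : ℤ) + 7 * v χ = 8 * (k : ℤ) := by
      refine Int.cast_injective (α := ℂ) ?_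
      push_cast
      simpa using hk
    rw [hvsum χ (Finset.mem_of_mem_erase hχ)]
    omega
  · have := haa; rw [hsplit, hone_a] at this; linarith
  · have := hbb; rw [hsplit, hone_b] at this; linarith
  · have := hcc; rw [hsplit, hone_c] at this; linarith
  · have := hab; rw [hsplit, hone_a, hone_b] at this; linarith
  · have := hac; rw [hsplit, hone_a, hone_c] at this; linarith
  · have := hbc; rw [hsplit, hone_b, hone_c] at this; linarith
  · have := hdlin 1 a ha
    rw [hsplit, hone_a, hone_d] at this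
    simpa using this
  · have := hdlin ω b hb
    rw [hsplit, hone_b] at this
    simpa using this
  · have := hdlin _ c hc
    rw [hsplit, hone_c] at this
    simpa using this
  · have := hplin ω b hb
    rw [hsplit, hone_a, hone_b, hone_c, hone_d] at this
    push_cast at this ⊢
    linarith
  · have := hplin _ c hc
    rw [hsplit, hone_a, hone_b, hone_c, hone_d] at this
    push_cast at this ⊢
    linarith

end Cfsg.Agent.PermGroups.Eight
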