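import Mathlib
import Cfsg.Agent.PermGroups.FrobeniusKernel
import Cfsg.Agent.OddLocal.PrimePowerOrders

/-!
Frobenius complements of a group are conjugate.
-/

set_option autoImplicit false

namespace Cfsg.Agent.PermGroups

open scoped Pointwise

variable {G : Type*} [Group G] [Finite G]

theorem card_conj_smul' {H : Subgroup G} (g : G) :
    Nat.card (MulAut.conj g • H : Subgroup G) = Nat.card H :=
  (Nat.card_congr (Subgroup.equivSMul (MulAut.conj g) H).toEquiv).symm

/-- Normalisers of Sylow subgroups of a normal subgroup supplement it. -/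
theorem frattini_supplement {N : Subgroup G} [N.Normal] {p : ℕ} [Fact p.Prime] (P : Sylow p N) :
    N.relIndex (Subgroup.normalizer ((P.1.map N.subtype : Subgroup G) : Set G)) = N.index := by
  rw [← Subgroup.relIndex_sup_right, Sylow.normalizer_sup_eq_top P, Subgroup.relIndex_top_right]

theorem Frobenius.natCard_kernel_subgroup {H N : Subgroup G} (hH : Cfsg.IsFrobeniusComplement H)
    (hN : (N : Set G) = Cfsg.frobeniusKernel H) : Nat.card N = H.index := by
  rw [← Frobenius.natCard_kernel hH, ← hN]; rfl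

/-- Conjugates of Frobenius complements are Frobenius complements. -/
theorem Frobenius.conj {H : Subgroup G} (hH : Cfsg.IsFrobeniusComplement H) (x : G) :
    Cfsg.IsFrobeniusComplement (MulAut.conj x • H) := by
  refine ⟨fun e => hH.1 ?_, fun e => hH.2.1 ?_, fun g hg => ?_⟩
  · rw [← Subgroup.card_eq_one, ← card_conj_smul' x, e, Subgroup.card_bot]
  · rw [← Subgroup.card_eq_iff_eq_top, ← card_conj_smul' x, e, Subgroup.card_top]
  · rw [Subgroup.eq_bot_iff_forall]
    intro u hu2
    obtain ⟨hu, hu'⟩ := Subgroup.mem_inf.1 hu2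
    by_contra hu1
    rw [mem_conj_smul] at hu hu'
    rw [mem_conj_smul] at hu'
    apply hg
    rw [mem_conj_smul]
    have h1 := Frobenius.mem_of_conj hH hu (fun e => hu1 (by
      calc u = x * (x⁻¹ * u * x) * x⁻¹ := by group
        _ = 1 := by rw [e]; group)) (g := x⁻¹ * g⁻¹ * x) (by
      rw [show x⁻¹ * g⁻¹ * x * (x⁻¹ * u * x) * (x⁻¹ * g⁻¹ * x)⁻¹ = x⁻¹ * (g⁻¹ * u * g) * x by group]
      exact hu')
    have := H.inv_mem h1
    rwa [show (x⁻¹ * g⁻¹ * x)⁻¹ = x⁻¹ * g * x by group] at this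

/-- A Frobenius complement of order at most that of `H` lies in a conjugate of `H`. -/
theorem Frobenius.le_conj_of_card_le {H H₀ : Subgroup G} (hH : Cfsg.IsFrobeniusComplement H)
    (hH₀ : Cfsg.IsFrobeniusComplement H₀) (hle : Nat.card H₀ ≤ Nat.card H) :
    ∃ g : G, H₀ ≤ MulAut.conj g • H := by
  obtain ⟨N, hN, hNn, hc⟩ := Frobenius.exists_kernel hH
  haveI := hNn
  have hidx : N.index = Nat.card H := (Subgroup.IsComplement'.symm hc).index_eq_card
  by_cases hinf : H₀ ⊓ N = ⊥
  · refine Frobenius.exists_le_conj hH H₀ ?_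
    have h1 : N.relIndex H₀ = Nat.card H₀ := by
      rw [← Subgroup.inf_relIndex_left, hinf, Subgroup.relIndex_bot_left]
    rw [← h1, ← hidx]
    exact Subgroup.relIndex_dvd_index_of_normal N H₀
  exfalso
  obtain ⟨p, hp, hpd⟩ := Nat.exists_prime_and_dvd (mt Subgroup.card_eq_one.1 hinf)
  haveI : Fact p.Prime := ⟨hp⟩
  have hp0 : p ∣ Nat.card H₀ := hpd.trans (Subgroup.card_dvd_of_le inf_le_left)
  have hpN : p ∣ Nat.card N := hpd.trans (Subgroup.card_dvd_of_le inf_le_right)
  obtain ⟨P⟩ : Nonempty (Sylow p N) := inferInstance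
  let P' : Subgroup G := P.1.map N.subtype
  have hPc : Nat.card P' = Nat.card (P : Subgroup N) := Subgroup.card_subtype N P.1
  obtain ⟨x, hx⟩ := Frobenius.exists_le_conj hH₀ P' (by
    have h1 : Nat.card P' ∣ H₀.index * Nat.card H₀ := by
      rw [H₀.index_mul_card]; exact Subgroup.card_subgroup_dvd_card P'
    obtain ⟨n, hn⟩ := IsPGroup.iff_card.1 (P.2.map N.subtype)
    refine (Nat.Coprime.dvd_of_dvd_mul_left ?_ h1)
    rw [hn]
    refine Nat.Coprime.pow_left _ ((hp.coprime_iff_not_dvd).2 fun h => ?_)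
    exact hp.ne_one (Nat.eq_one_of_dvd_coprimes (Frobenius.coprime hH₀) hp0 h))
  let J : Subgroup G := Subgroup.normalizer (P' : Set G)
  have hP'ne : P' ≠ ⊥ := by
    rw [Ne, Subgroup.map_eq_bot_iff_of_injective _ N.subtype_injective]
    exact Sylow.ne_bot_of_dvd_card P hpN
  obtain ⟨u, hu, hu1⟩ := (Subgroup.bot_or_exists_ne_one P').resolve_left hP'ne
  have hJle : J ≤ MulAut.conj x • H₀ := fun g hg =>
    Frobenius.mem_of_conj (Frobenius.conj hH₀ x) (hx hu) hu1 (hx ((Subgroup.mem_normalizer_iff.1 hg u).1 hu))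
  have hJcard : Nat.card H * Nat.card P' ≤ Nat.card J := by
    have h1 : N.relIndex J = Nat.card H := (frattini_supplement P).trans hidx
    have h2 := (N.subgroupOf J).index_mul_card
    rw [show (N.subgroupOf J).index = N.relIndex J from rfl, h1] at h2
    rw [← h2]
    refine Nat.mul_le_mul_left _ ?_
    rw [← Nat.card_congr (Subgroup.subgroupOfEquivOfLe (Subgroup.le_normalizer : P' ≤ J)).toEquiv]
    exact Subgroup.card_le_of_le fun z hz => Subgroup.map_subtype_le P.1 hz
  have h3 := (Subgroup.card_le_of_le hJle).trans_eq (card_conj_smul' x)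
  have h4 : 1 < Nat.card P' := (Subgroup.one_lt_card_iff_ne_bot P').2 hP'ne
  have h5 : 0 < Nat.card H := Nat.card_pos
  nlinarith

/-- A proper subgroup of a Frobenius complement is not itself a Frobenius complement. -/
theorem Frobenius.eq_of_le {H H₀ : Subgroup G} (hH : Cfsg.IsFrobeniusComplement H)
    (hH₀ : Cfsg.IsFrobeniusComplement H₀) (hle : H₀ ≤ H) : H₀ = H := by
  by_contra hne
  -- `H₀` is a Frobenius complement in `H`
  have hF : Cfsg.IsFrobeniusComplement (H₀.subgroupOf H) := by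
    refine ⟨fun e => hH₀.1 ?_, fun e => hne (le_antisymm hle (Subgroup.subgroupOf_eq_top.1 e)),
      fun g hg => ?_⟩
    · refine (Subgroup.eq_bot_iff_forall H₀).2 fun z hz => ?_
      have h1 : (⟨z, hle hz⟩ : H) ∈ H₀.subgroupOf H := hz
      rw [e, Subgroup.mem_bot] at h1
      exact congrArg Subtype.val h1
    · rw [Subgroup.eq_bot_iff_forall]
      intro z hz2
      obtain ⟨hz, hz'⟩ := Subgroup.mem_inf.1 hz2
      rw [mem_conj_smul] at hz'
      exact Subtype.ext (Frobenius.eq_one hH₀ hg hz hz')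
  obtain ⟨M, hMset, hMn, hMc⟩ := Frobenius.exists_kernel hF
  haveI := hMn
  have hMcard : Nat.card M = (H₀.subgroupOf H).index := Frobenius.natCard_kernel_subgroup hF hMset
  have hMidx : M.index = Nat.card (H₀.subgroupOf H) :=
    (Subgroup.IsComplement'.symm hMc).index_eq_card
  have hMcop : (Nat.card (H₀.subgroupOf H)).Coprime (Nat.card M) := hMcard ▸ Frobenius.coprime hF
  obtain ⟨q, hq, hqd⟩ := Nat.exists_prime_and_dvd
    (show Nat.card M ≠ 1 by rw [hMcard, Ne, Subgroup.index_eq_one]; exact hF.2.1)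
  haveI : Fact q.Prime := ⟨hq⟩
  obtain ⟨Q⟩ : Nonempty (Sylow q M) := inferInstance
  let Q' : Subgroup H := Q.1.map M.subtype
  obtain ⟨t, ht, htd⟩ := Nat.exists_prime_and_dvd
    (mt Subgroup.card_eq_one.1 hF.1)
  haveI : Fact t.Prime := ⟨ht⟩
  obtain ⟨⟨y, hy⟩, hyo⟩ := exists_prime_orderOf_dvd_card'
    (G := Subgroup.normalizer (Q' : Set H)) t (by
      rw [← hMidx, ← frattini_supplement Q] at htd
      exact htd.trans (Subgroup.relIndex_dvd_card _ _))
  rw [Subgroup.orderOf_mk] at hyo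
  have hyM : y ∉ M := fun h => by
    exact ht.ne_one (Nat.eq_one_of_dvd_coprimes hMcop htd
      (by rw [← hyo, ← Subgroup.orderOf_mk y h]; exact orderOf_dvd_natCard _))
  have hord : ∀ m ∈ M, orderOf (m * y) = t := by
    intro m hm
    have hnM : m * y ∉ M := fun h => hyM ((M.mul_mem_cancel_left hm).1 h)
    have h1 : m * y ∉ Cfsg.frobeniusKernel (H₀.subgroupOf H) := hMset ▸ hnM
    rw [mem_frobeniusKernel, not_or] at h1
    have h2 := h1.2
    push Not at h2
    obtain ⟨g, hg⟩ := h2
    have hdvd : orderOf (m * y) ∣ Nat.card (H₀.subgroupOf H) := by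
      have e : orderOf (g⁻¹ * (m * y) * g) = orderOf (m * y) := by
        conv_lhs => rw [show g⁻¹ * (m * y) * g = (MulAut.conj g⁻¹) (m * y) by simp]
        exact (MulAut.conj g⁻¹).orderOf_eq _
      rw [← e, ← Subgroup.orderOf_mk _ hg]
      exact orderOf_dvd_natCard _
    have hpow : (m * y) ^ t ∈ M := by
      rw [← QuotientGroup.eq_one_iff, QuotientGroup.mk_pow, QuotientGroup.mk_mul,
        (QuotientGroup.eq_one_iff m).2 hm, one_mul, ← QuotientGroup.mk_pow, ← hyo,
        pow_orderOf_eq_one, QuotientGroup.mk_one]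
    have hone : (m * y) ^ t = 1 := orderOf_eq_one_iff.1 (Nat.eq_one_of_dvd_coprimes hMcop
      ((orderOf_pow_dvd t).trans hdvd)
      (by rw [← Subgroup.orderOf_mk _ hpow]; exact orderOf_dvd_natCard _))
    exact orderOf_eq_prime hone fun e => h1.1 e
  -- a Sylow subgroup of the kernel of `H`, normalised by a conjugate of `H`
  obtain ⟨N, hN, hNn, hc⟩ := Frobenius.exists_kernel hH
  haveI := hNn
  have hNcard : Nat.card N = H.index := Frobenius.natCard_kernel_subgroup hH hN
  have hidx : N.index = Nat.card H := (Subgroup.IsComplement'.symm hc).index_eq_card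
  obtain ⟨p, hp, hpN⟩ := Nat.exists_prime_and_dvd
    (show Nat.card N ≠ 1 by rw [hNcard, Ne, Subgroup.index_eq_one]; exact hH.2.1)
  haveI : Fact p.Prime := ⟨hp⟩
  obtain ⟨P⟩ : Nonempty (Sylow p N) := inferInstance
  let P' : Subgroup G := P.1.map N.subtype
  let J : Subgroup G := Subgroup.normalizer (P' : Set G)
  have hJidx : (N.subgroupOf J).index = Nat.card H := (frattini_supplement P).trans hidx
  obtain ⟨L, hL⟩ := Subgroup.exists_right_complement'_of_coprime (N := N.subgroupOf J) (by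
    rw [hJidx]
    refine Nat.Coprime.of_dvd_left ?_ (hNcard ▸ (Frobenius.coprime hH).symm)
    exact Subgroup.card_comap_dvd_of_injective _ _ J.subtype_injective)
  have hLc : Nat.card (L.map J.subtype) = Nat.card H := by
    rw [Subgroup.card_subtype, ← hJidx, (Subgroup.IsComplement'.symm hL).index_eq_card]
  obtain ⟨x, hx⟩ := Frobenius.exists_le_conj hH (L.map J.subtype) hLc.dvd
  have hLeq : L.map J.subtype = MulAut.conj x • H :=
    Subgroup.eq_of_le_of_card_ge hx (by rw [hLc, card_conj_smul'])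
  have hxJ : ∀ h : H, x * (h : G) * x⁻¹ ∈ J := by
    intro h
    have : x * (h : G) * x⁻¹ ∈ L.map J.subtype := by
      rw [hLeq, mem_conj_smul]; group; exact h.2
    exact Subgroup.map_subtype_le L this
  let ψ : H →* J := MonoidHom.mk' (fun h => ⟨x * (h : G) * x⁻¹, hxJ h⟩)
    fun a b => Subtype.ext (by simp [mul_assoc])
  have hψ : Function.Injective ψ := fun a b e => Subtype.ext (by
    simpa [ψ] using congrArg Subtype.val e)
  let P'' : Subgroup J := P'.subgroupOf J
  haveI hP''n : P''.Normal := Subgroup.normal_in_normalizer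
  let V : Subgroup J := (Subgroup.center P'').map P''.subtype
  haveI hVn : V.Normal := inferInstance
  have hPp : IsPGroup p P'' :=
    (P.2.map N.subtype).of_equiv (Subgroup.subgroupOfEquivOfLe Subgroup.le_normalizer).symm
  have hP''nt : Nontrivial P'' := by
    rw [Finite.one_lt_card_iff_nontrivial.symm,
      Nat.card_congr (Subgroup.subgroupOfEquivOfLe Subgroup.le_normalizer).toEquiv,
      Subgroup.card_subtype]
    exact (Subgroup.one_lt_card_iff_ne_bot _).2 (Sylow.ne_bot_of_dvd_card P hpN)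
  have hVne : V ≠ ⊥ := by
    rw [Ne, Subgroup.map_eq_bot_iff_of_injective _ P''.subtype_injective]
    exact (Subgroup.nontrivial_iff_ne_bot _).1 hPp.center_nontrivial
  have hVc : IsMulCommutative V := by
    refine ⟨⟨?_⟩⟩
    rintro ⟨_, a, ha, rfl⟩ ⟨_, b, hb, rfl⟩
    exact Subtype.ext (congrArg Subtype.val (Subgroup.mem_center_iff.1 ha b).symm :)
  have hVN : ∀ v ∈ V, (v : G) ∈ N := by
    rintro _ ⟨z, -, rfl⟩
    exact Subgroup.map_subtype_le P.1 z.2
  have hfix : ∀ v ∈ V, ∀ h : H, h ≠ 1 → ψ h * v = v * ψ h → v = 1 := by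
    intro v hv h h1 e
    have e' : x * (h : G) * x⁻¹ * (v : G) = (v : G) * (x * (h : G) * x⁻¹) := congrArg Subtype.val e
    have hv1 : x⁻¹ * (v : G) * x = 1 := by
      refine Frobenius.centralizer_kernel_eq_one hH hc.disjoint h.2 (fun e1 => h1 (Subtype.ext e1))
        ?_ ?_
      · have := hNn.conj_mem _ (hVN v hv) x⁻¹
        rwa [inv_inv] at this
      · calc (h : G) * (x⁻¹ * (v : G) * x) = x⁻¹ * (x * (h : G) * x⁻¹ * (v : G)) * x := by group
          _ = x⁻¹ * (v : G) * x * h := by rw [e']; group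
    apply Subtype.ext
    calc (v : G) = x * (x⁻¹ * (v : G) * x) * x⁻¹ := by group
      _ = 1 := by rw [hv1]; group
  refine hVne (Cfsg.Agent.OddLocal.eq_bot_of_fpf (M := Q'.map ψ) hVc (y := ψ y) ?_ ht ?_ ?_ ?_ ?_ ?_)
  · rintro _ ⟨m, hm, rfl⟩
    exact ⟨y * m * y⁻¹, (Subgroup.mem_normalizer_iff.1 hy m).1 hm, by simp⟩
  · rintro _ ⟨m, hm, rfl⟩
    rw [← map_mul, orderOf_injective ψ hψ]
    exact hord m (Subgroup.map_subtype_le Q.1 hm)
  · rw [Ne, Subgroup.map_eq_bot_iff_of_injective _ hψ,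
      Subgroup.map_eq_bot_iff_of_injective _ M.subtype_injective]
    exact Sylow.ne_bot_of_dvd_card Q hqd
  · refine Nat.Coprime.of_dvd ?_ ?_ (Frobenius.coprime hH)
    · exact (Subgroup.card_map_dvd _ _).trans (Subgroup.card_subgroup_dvd_card _)
    · rw [← hNcard, ← Subgroup.card_subtype J V]
      refine Subgroup.card_dvd_of_le ?_
      rintro _ ⟨v, hv, rfl⟩
      exact hVN v hv
  · rintro v hv _ ⟨m, hm, rfl⟩ hm1 e
    exact hfix v hv m (fun e1 => hm1 (by rw [e1, map_one])) e
  · rintro v hv _ ⟨m, hm, rfl⟩ e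
    refine hfix v hv (m * y) (fun e1 => ?_) (by rwa [map_mul])
    have := hord m (Subgroup.map_subtype_le Q.1 hm)
    rw [e1, orderOf_one] at this
    exact ht.one_lt.ne this

end Cfsg.Agent.PermGroups
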