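import Mathlib

/-!
The element orders of a Frobenius group `K ⋊ U` with `U` a group of units of a finite field `K`.
-/

set_option autoImplicit false

namespace Cfsg.Agent.PermGroups

variable (K : Type) [Field K] (U : Subgroup Kˣ)

/-- The units in `U` acting on the additive group by multiplication. -/
def scalarAut : U →* MulAut (Multiplicative K) where
  toFun u :=
    { toFun := fun v => Multiplicative.ofAdd ((u : Kˣ).1 * v.toAdd)
      invFun := fun v => Multiplicative.ofAdd ((u : Kˣ)⁻¹.1 * v.toAdd)
      left_inv := fun v => by simp [← mul_assoc]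
      right_inv := fun v => by simp [← mul_assoc]
      map_mul' := fun v w => by simp [mul_add, ofAdd_add] }
  map_one' := by ext v; simp
  map_mul' u w := by ext v; simp [mul_assoc]

/-- The group of affine maps with linear part in `U`. -/
abbrev ScalarFrobenius : Type := SemidirectProduct (Multiplicative K) U (scalarAut K U)

theorem scalarFrobenius_left_pow (a : ScalarFrobenius K U) (k : ℕ) :
    (a ^ k).left.toAdd * (1 - ((a.right : Kˣ) : K)) =
      a.left.toAdd * (1 - ((a.right : Kˣ) : K) ^ k) ∧ (a ^ k).right = a.right ^ k := by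
  induction k with
  | zero => simp
  | succ k ih =>
    refine ⟨?_, by rw [pow_succ, SemidirectProduct.mul_right, ih.2, pow_succ]⟩
    rw [pow_succ, SemidirectProduct.mul_left, ih.2]
    simp only [toAdd_mul, scalarAut, MonoidHom.coe_mk, OneHom.coe_mk, MulEquiv.coe_mk,
      Equiv.coe_fn_mk, toAdd_ofAdd, SubgroupClass.coe_pow, Units.val_pow_eq_pow_val]
    rw [add_mul, ih.1]
    ring

theorem scalarFrobenius_orderOf_dvd (p : ℕ) [CharP K p] (a : ScalarFrobenius K U) :
    orderOf a ∣ p ∨ orderOf a ∣ Nat.card U := by
  by_cases h : a.right = 1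
  · left
    refine orderOf_dvd_of_pow_eq_one ?_
    have ha : a = SemidirectProduct.inl a.left := SemidirectProduct.ext (by simp) (by simp [h])
    rw [ha, ← map_pow]
    have : a.left ^ p = 1 := by
      apply Multiplicative.toAdd.injective
      rw [toAdd_pow, toAdd_one, nsmul_eq_mul, CharP.cast_eq_zero, zero_mul]
    rw [this, map_one]
  · right
    refine dvd_trans (orderOf_dvd_of_pow_eq_one ?_) (orderOf_dvd_natCard a.right)
    obtain ⟨h1, h2⟩ := scalarFrobenius_left_pow K U a (orderOf a.right)
    rw [pow_orderOf_eq_one] at h2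
    refine SemidirectProduct.ext ?_ (by rw [h2, SemidirectProduct.one_right])
    have h3 : ((a.right : Kˣ) : K) ^ orderOf a.right = 1 := by
      rw [← Units.val_pow_eq_pow_val, ← SubgroupClass.coe_pow, pow_orderOf_eq_one]; rfl
    rw [h3, sub_self, mul_zero] at h1
    have h4 : (1 : K) - ((a.right : Kˣ) : K) ≠ 0 := fun e => h (Subtype.ext (Units.ext
      (by rw [sub_eq_zero] at e; exact e.symm)))
    apply Multiplicative.toAdd.injective
    rw [(mul_eq_zero.1 h1).resolve_right h4]
    simp

theorem scalarFrobenius_isSolvable : Group.IsSolvable (ScalarFrobenius K U) :=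
  Group.isSolvable_of_ker_le_range (SemidirectProduct.inl (φ := scalarAut K U))
    (SemidirectProduct.rightHom) SemidirectProduct.range_inl_eq_ker_rightHom.ge

theorem scalarFrobenius_exists_orders (p : ℕ) [Fact p.Prime] [CharP K p] [Finite K] :
    (∃ a : ScalarFrobenius K U, orderOf a = p) ∧
      ∃ a : ScalarFrobenius K U, orderOf a = Nat.card U := by
  constructor
  · refine ⟨SemidirectProduct.inl (Multiplicative.ofAdd 1), ?_⟩
    rw [orderOf_injective _ SemidirectProduct.inl_injective, orderOf_ofAdd_eq_addOrderOf,
      CharP.eq K (CharP.addOrderOf_one K) ‹CharP K p›]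
  · obtain ⟨u, hu⟩ := IsCyclic.exists_ofOrder_eq_natCard (α := U)
    exact ⟨SemidirectProduct.inr u, by
      rw [orderOf_injective _ SemidirectProduct.inr_injective, hu]⟩

end Cfsg.Agent.PermGroups
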