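import Mathlib

/-!
Translation invariant subspaces of functions on `ZMod p` in characteristic `p`.
-/

namespace Cfsg.Agent.PermGroups

open Polynomial

variable {p : ℕ} [hp : Fact p.Prime] {K : Type*} [Field K] [CharP K p]

/-- Evaluation of polynomials at the prime field. -/
noncomputable def primeEval (p : ℕ) (K : Type*) [Field K] : K[X] →ₗ[K] (ZMod p → K) where
  toFun P j := P.eval (ZMod.cast j : K)
  map_add' P Q := funext fun j => eval_add
  map_smul' c P := funext fun j => Polynomial.eval_smul c P _

theorem primeCast_injective : Function.Injective (fun j : ZMod p => (ZMod.cast j : K)) := by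
  intro i j h
  exact (ZMod.castHom dvd_rfl K).injective h

theorem translation_invariant_eq (W : Submodule K (ZMod p → K))
    (hW : ∀ f ∈ W, (fun j => f (j - 1)) ∈ W) :
    ∃ r : ℕ, r ≤ p ∧ Module.finrank K W = r ∧
      ∀ f : ZMod p → K, f ∈ W ↔ ∃ P : K[X], P.degree < r ∧
        ∀ j : ZMod p, f j = P.eval (ZMod.cast j : K) := by
  classical
  set E := primeEval p K
  have hinj : ∀ P : K[X], P ∈ degreeLT K p → E P = 0 → P = 0 := by
    intro P hP h
    refine eq_zero_of_degree_lt_of_eval_index_eq_zero (s := (Finset.univ : Finset (ZMod p)))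
      (v := fun j => (ZMod.cast j : K)) (fun i _ j _ e => primeCast_injective e) ?_
      (fun i _ => congrFun h i)
    rw [Finset.card_univ, ZMod.card]
    exact mem_degreeLT.mp hP
  let L : ↥(degreeLT K p) →ₗ[K] (ZMod p → K) := E.comp (degreeLT K p).subtype
  have hLinj : Function.Injective L := by
    rw [← LinearMap.ker_eq_bot, LinearMap.ker_eq_bot']
    exact fun P h => Subtype.ext (hinj P P.2 h)
  have hfr : ∀ r, Module.finrank K ↥(degreeLT K r) = r := fun r => by
    rw [(degreeLTEquiv K r).finrank_eq, Module.finrank_fin_fun]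
  have : FiniteDimensional K ↥(degreeLT K p) := FiniteDimensional.of_injective L hLinj
  have hLsurj : Function.Surjective L := by
    refine (LinearMap.injective_iff_surjective_of_finrank_eq_finrank ?_).mp hLinj
    rw [hfr p, Module.finrank_pi, ZMod.card]
  set W' : Submodule K ↥(degreeLT K p) := W.comap L
  -- the difference operator
  have hshift : ∀ P : K[X], E P ∈ W → E (taylor (-1) P - P) ∈ W := by
    intro P hP
    rw [map_sub]
    refine W.sub_mem ?_ hP
    have h := hW _ hP
    convert h using 1
    funext j
    change (taylor (-1) P).eval (ZMod.cast j : K) = P.eval (ZMod.cast (j - 1) : K)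
    rw [taylor_eval]
    have : (ZMod.cast (j - 1) : K) = ZMod.cast j - 1 := by
      change ZMod.castHom dvd_rfl K (j - 1) = ZMod.castHom dvd_rfl K j - 1
      rw [map_sub, map_one]
    rw [this, sub_eq_add_neg]
  have key : ∀ d, d < p → ∀ P : K[X], P.degree = (d : ℕ) → E P ∈ W →
      ∀ Q : K[X], Q.degree < (d + 1 : ℕ) → E Q ∈ W := by
    intro d
    induction d with
    | zero =>
      intro _ P hdeg hPW Q hQ
      rw [eq_C_of_degree_eq_zero hdeg] at hPW
      have hc : P.coeff 0 ≠ 0 := by
        intro h0
        rw [eq_C_of_degree_eq_zero hdeg, h0, map_zero, degree_zero] at hdeg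
        exact absurd hdeg (by simp)
      have hQ' : Q = C (Q.coeff 0) := eq_C_of_degree_le_zero (by
        rcases eq_or_ne Q 0 with h | h
        · simp [h]
        · rw [degree_eq_natDegree h] at hQ ⊢
          exact_mod_cast Nat.lt_succ_iff.mp (by exact_mod_cast hQ))
      rw [hQ', show C (Q.coeff 0) = (Q.coeff 0 / P.coeff 0) • C (P.coeff 0) from by
        rw [smul_C, smul_eq_mul, div_mul_cancel₀ _ hc], map_smul]
      exact W.smul_mem _ hPW
    | succ d ih =>
      intro hd P hdeg hPW
      have hP0 : P ≠ 0 := fun h => by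
        rw [h, degree_zero] at hdeg
        exact WithBot.bot_ne_coe hdeg
      have hnd : P.natDegree = d + 1 := natDegree_eq_of_degree_eq_some hdeg
      set R := taylor (-1) P - P with hR
      have hcoef : R.coeff d ≠ 0 := by
        rw [hR, coeff_sub, taylor_coeff]
        have hH : (hasseDeriv d P).natDegree ≤ 1 := (natDegree_hasseDeriv_le P d).trans (by omega)
        rw [eq_X_add_C_of_natDegree_le_one hH]
        simp only [eval_add, eval_mul, eval_C, eval_X, hasseDeriv_coeff, zero_add, Nat.choose_self,
          Nat.cast_one, one_mul]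
        rw [Nat.add_comm 1 d, Nat.choose_succ_self_right,
          show P.coeff (d + 1) = P.leadingCoeff by rw [leadingCoeff, hnd]]
        have : ((d + 1 : ℕ) : K) * P.leadingCoeff ≠ 0 := by
          refine mul_ne_zero ?_ (leadingCoeff_ne_zero.mpr hP0)
          rw [ne_eq, CharP.cast_eq_zero_iff K p]
          intro h
          have := Nat.le_of_dvd (by omega) h
          omega
        intro h
        apply this
        linear_combination -h
      have hRd : R.degree = (d : ℕ) := by
        refine le_antisymm ?_ (le_degree_of_ne_zero hcoef)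
        rw [degree_le_iff_coeff_zero]
        intro m hm
        have hm' : d < m := by exact_mod_cast hm
        rw [hR, coeff_sub]
        rcases Nat.lt_or_ge (d + 1) m with h | h
        · rw [coeff_eq_zero_of_natDegree_lt (by rw [natDegree_taylor]; omega),
            coeff_eq_zero_of_natDegree_lt (by omega), sub_zero]
        · have hmd : m = d + 1 := by omega
          subst hmd
          have h1 := taylor_coeff (r := (-1 : K)) (f := P) (d + 1)
          have hH : (hasseDeriv (d + 1) P).natDegree ≤ 0 :=
            (natDegree_hasseDeriv_le P (d + 1)).trans (by omega)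
          rw [h1, eq_C_of_natDegree_le_zero hH, eval_C, hasseDeriv_coeff, zero_add,
            Nat.choose_self, Nat.cast_one, one_mul, sub_self]
      intro Q hQ
      have hrest := ih (by omega) R hRd (hshift P hPW)
      have : Q = (Q.coeff (d + 1) / P.leadingCoeff) • P +
          (Q - (Q.coeff (d + 1) / P.leadingCoeff) • P) := by ring
      rw [this, map_add, map_smul]
      refine W.add_mem (W.smul_mem _ hPW) (hrest _ ?_)
      rw [degree_lt_iff_coeff_zero]
      intro m hm
      rw [coeff_sub, coeff_smul, smul_eq_mul]
      rcases Nat.lt_or_ge (d + 1) m with h | h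
      · rw [coeff_eq_zero_of_degree_lt (lt_of_lt_of_le hQ (by exact_mod_cast h)),
          coeff_eq_zero_of_natDegree_lt (show P.natDegree < m by omega), mul_zero, sub_zero]
      · have hmd : m = d + 1 := by omega
        subst hmd
        rw [show P.coeff (d + 1) = P.leadingCoeff by rw [leadingCoeff, hnd],
          div_mul_cancel₀ _ (leadingCoeff_ne_zero.mpr hP0), sub_self]
  -- `W` is the image of the polynomials of degree `< finrank W`
  have hex : ∃ r, r ≤ p ∧ ∀ Q : K[X], Q.degree < (r : ℕ) → E Q ∈ W := by
    refine ⟨0, Nat.zero_le p, fun Q hQ => ?_⟩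
    have : Q = 0 := by
      rw [← degree_eq_bot]
      exact Nat.WithBot.lt_zero_iff.mp (by simpa using hQ)
    simp [this]
  set r := Nat.findGreatest (fun r => ∀ Q : K[X], Q.degree < (r : ℕ) → E Q ∈ W) p with hr
  obtain ⟨r₀, hr₀, hr₀'⟩ := hex
  have hrspec := Nat.findGreatest_spec (P := fun r => ∀ Q : K[X], Q.degree < (r : ℕ) → E Q ∈ W) hr₀ hr₀'
  have hrle : r ≤ p := Nat.findGreatest_le p
  have hiff : ∀ f : ZMod p → K, f ∈ W ↔ ∃ P : K[X], P.degree < (r : ℕ) ∧
      ∀ j : ZMod p, f j = P.eval (ZMod.cast j : K) := by
    intro f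
    constructor
    · intro hf
      obtain ⟨⟨P, hP⟩, rfl⟩ := hLsurj f
      refine ⟨P, ?_, fun j => rfl⟩
      rcases eq_or_ne P 0 with h0 | h0
      · rw [h0, degree_zero]; exact WithBot.bot_lt_coe _
      rw [mem_degreeLT, degree_eq_natDegree h0] at hP
      have hP' : P.natDegree < p := by exact_mod_cast hP
      have h1 := key _ hP' P (degree_eq_natDegree h0) hf
      have h2 : P.natDegree + 1 ≤ r := Nat.le_findGreatest (by omega) h1
      rw [degree_eq_natDegree h0]
      exact_mod_cast h2
    · rintro ⟨P, hP, hPf⟩
      rw [show f = E P from funext hPf]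
      exact hrspec P hP
  refine ⟨r, hrle, ?_, hiff⟩
  have hWeq : W = (degreeLT K r).map E := by
    ext f
    rw [hiff, Submodule.mem_map]
    constructor
    · rintro ⟨P, hP, hPf⟩
      exact ⟨P, mem_degreeLT.mpr hP, (funext hPf).symm⟩
    · rintro ⟨P, hP, rfl⟩
      exact ⟨P, mem_degreeLT.mp hP, fun j => rfl⟩
  have hinj' : Function.Injective (E.comp (degreeLT K r).subtype) := by
    rw [← LinearMap.ker_eq_bot, LinearMap.ker_eq_bot']
    exact fun P h => Subtype.ext (hinj P (degreeLT_mono hrle P.2) h)
  have h := (LinearMap.finrank_range_of_inj hinj').trans (hfr r)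
  rw [LinearMap.range_comp, Submodule.range_subtype, ← hWeq] at h
  exact h

end Cfsg.Agent.PermGroups
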