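import Cfsg.Agent.PermGroups.PrimeDegree
import Cfsg.Agent.PermGroups.TranslationInvariant
import Cfsg.Agent.PermGroups.PermModule

/-!
The heart of the permutation module of a non-solvable group of prime degree is irreducible.
-/

set_option autoImplicit false
set_option linter.unusedSectionVars false

namespace Cfsg.Agent.PermGroups

open Polynomial

variable {p : ℕ} [hp : Fact p.Prime] {K : Type*} [Field K] [CharP K p]

theorem zmod_sum_eval_eq (P : K[X]) (hP : P.natDegree < p) :
    ∑ x : ZMod p, P.eval (ZMod.cast x : K) = -P.coeff (p - 1) := by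
  have hi : ∀ i ∈ Finset.range p,
      ∑ x : ZMod p, (ZMod.cast x : K) ^ i = if i = p - 1 then -1 else 0 := by
    intro i hi
    have hcast : ∑ x : ZMod p, (ZMod.cast x : K) ^ i = ZMod.castHom dvd_rfl K (∑ x : ZMod p, x ^ i) := by
      rw [map_sum]
      exact Finset.sum_congr rfl fun x _ => (map_pow (ZMod.castHom dvd_rfl K) x i).symm
    rw [hcast]
    split_ifs with h
    · subst h
      have h1 : ∀ x ∈ (Finset.univ : Finset (ZMod p)).erase 0, x ^ (p - 1) = (1 : ZMod p) := fun x hx =>
        ZMod.pow_card_sub_one_eq_one (Finset.mem_erase.1 hx).1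
      have h2 := hp.out.two_le
      rw [← Finset.sum_erase (f := fun x : ZMod p => x ^ (p - 1)) _ (a := 0) (zero_pow (by omega)),
        Finset.sum_congr rfl h1, Finset.sum_const, Finset.card_erase_of_mem (Finset.mem_univ _),
        Finset.card_univ, ZMod.card, nsmul_one, Nat.cast_sub (by omega), ZMod.natCast_self]
      simp
    · rw [FiniteField.sum_pow_lt_card_sub_one (ZMod p) i (by
        rw [ZMod.card]; have := Finset.mem_range.1 hi; omega), map_zero]
  simp_rw [eval_eq_sum_range' hP]
  rw [Finset.sum_comm]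
  simp_rw [← Finset.mul_sum]
  rw [Finset.sum_congr rfl fun i hi' => by rw [hi i hi']]
  have := hp.out.two_le
  rw [Finset.sum_eq_single (p - 1) (fun i _ hne => by rw [if_neg hne, mul_zero])
    (fun h => absurd (Finset.mem_range.2 (by omega)) h), if_pos rfl, mul_neg, mul_one]

theorem heart_prime_degree {α : Type*} [Fintype α] [DecidableEq α] (hα : Fintype.card α = p)
    (G : Subgroup (Equiv.Perm α)) [MulAction.IsPretransitive G α] (hG : ¬ Group.IsSolvable G)
    (W : Subrepresentation (Cfsg.permRep K G α))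
    (h₁ : (Cfsg.permConstants K G α).toSubmodule ≤ W.toSubmodule)
    (h₂ : W.toSubmodule ≤ (Cfsg.permSumZero K G α).toSubmodule) :
    W = Cfsg.permConstants K G α ∨ W = Cfsg.permSumZero K G α := by
  classical
  obtain ⟨τ, hτG, hτ⟩ := exists_orderOf_eq_degree hα G
  obtain ⟨a⟩ : Nonempty α := Fintype.card_pos_iff.mp (hα ▸ hp.out.pos)
  obtain ⟨e, -, he⟩ := exists_coordinates hα hτ a
  let T : (α → K) ≃ₗ[K] (ZMod p → K) := LinearEquiv.funCongrLeft K K e.symm
  let W' : Submodule K (ZMod p → K) := W.toSubmodule.map T.toLinearMap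
  have hW' : ∀ v : α → K, v ∈ W.toSubmodule ↔ (fun j => v (e.symm j)) ∈ W' := fun v =>
    ⟨fun h => ⟨v, h, rfl⟩, by rintro ⟨w, hw, hwv⟩; rwa [← T.injective (show T w = T v from hwv)]⟩
  have hinv : ∀ g : G, ∀ f ∈ W', (fun j => f (e ((g : Equiv.Perm α) (e.symm j)))) ∈ W' := by
    rintro g _ ⟨v, hv, rfl⟩
    refine ⟨Cfsg.permRep K G α g⁻¹ v, W.apply_mem_toSubmodule _ hv, funext fun j => ?_⟩
    show v (g⁻¹⁻¹ • e.symm j) = v (e.symm (e ((g : Equiv.Perm α) (e.symm j))))
    rw [inv_inv, Equiv.symm_apply_apply]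
    rfl
  have htr : ∀ f ∈ W', (fun j => f (j - 1)) ∈ W' := by
    intro f hf
    have := hinv (⟨τ ^ (p - 1), pow_mem hτG _⟩ : G) f hf
    convert this using 1
    funext j
    congr 1
    rw [show ((⟨τ ^ (p - 1), pow_mem hτG _⟩ : G) : Equiv.Perm α) = τ ^ (p - 1) from rfl, he,
      Equiv.apply_symm_apply, Nat.cast_sub hp.out.one_le, ZMod.natCast_self]
    simp [sub_eq_add_neg]
  obtain ⟨r, hrp, hfin, hiff⟩ := translation_invariant_eq W' htr
  have hfinW : Module.finrank K W.toSubmodule = r := by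
    rw [← hfin]
    exact (LinearEquiv.submoduleMap T W.toSubmodule).finrank_eq
  have hone : (fun _ => (1 : K)) ≠ (0 : α → K) := fun h => one_ne_zero (congrFun h a)
  have hconst : Module.finrank K (Cfsg.permConstants K G α).toSubmodule = 1 := finrank_span_singleton hone
  have hr1 : 1 ≤ r := hfinW ▸ hconst ▸ Submodule.finrank_mono h₁
  have htop : (Cfsg.permSumZero K G α).toSubmodule ≠ ⊤ := by
    intro h
    have : (Pi.single a (1 : K) : α → K) ∈ (Cfsg.permSumZero K G α).toSubmodule := h ▸ trivial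
    have h' : ∑ x, (Pi.single a (1 : K) : α → K) x = 0 := this
    rw [Finset.sum_pi_single', if_pos (Finset.mem_univ a)] at h'
    exact one_ne_zero h'
  have hsz : Module.finrank K (Cfsg.permSumZero K G α).toSubmodule < p := by
    have := Submodule.finrank_lt htop
    rwa [Module.finrank_fintype_fun_eq_card, hα] at this
  rcases Nat.lt_or_ge r 2 with hr | hr2
  · exact Or.inl (Subrepresentation.toSubmodule_injective
      (Submodule.eq_of_le_of_finrank_le h₁ (by rw [hfinW, hconst]; omega)).symm)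
  rcases Nat.lt_or_ge r (p - 1) with hrlt | hrge
  swap
  · exact Or.inr (Subrepresentation.toSubmodule_injective
      (Submodule.eq_of_le_of_finrank_le h₂ (by rw [hfinW]; omega)))
  exfalso
  refine hG (isSolvable_of_affine_coordinates G e fun g hg => ?_)
  let σ : ZMod p → ZMod p := fun j => e (g (e.symm j))
  have hσ : ∀ f ∈ W', (fun j => f (σ j)) ∈ W' := fun f hf => hinv ⟨g, hg⟩ f hf
  have hσ' : ∀ f ∈ W', (fun j => f (e (g⁻¹ (e.symm j)))) ∈ W' := fun f hf =>
    hinv (⟨g, hg⟩ : G)⁻¹ f hf
  have hid : (fun j : ZMod p => (ZMod.cast j : K)) ∈ W' := (hiff _).2 ⟨X,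
    lt_of_le_of_lt degree_X_le (by exact_mod_cast (show 1 < r by omega)), fun j => (eval_X).symm⟩
  obtain ⟨P, hPdeg, hP⟩ := (hiff _).1 (hσ _ hid)
  by_cases hd : P.natDegree ≤ 1
  · refine ⟨σ 1 - σ 0, σ 0, fun x => primeCast_injective (K := K) ?_⟩
    have hx : (ZMod.cast (e (g x)) : K) = P.eval (ZMod.cast (e x) : K) := by
      have := hP (e x)
      simpa [σ] using this
    have h0 := hP 0
    have h1 := hP 1
    show (ZMod.cast (e (g x)) : K) = ZMod.castHom dvd_rfl K ((σ 1 - σ 0) * e x + σ 0)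
    rw [map_add, map_mul, map_sub, hx]
    rw [eq_X_add_C_of_natDegree_le_one hd] at hx h0 h1 ⊢
    simp only [eval_add, eval_mul, eval_C, eval_X] at h0 h1 ⊢
    simp only [ZMod.cast_zero, mul_zero, zero_add] at h0
    change _ = (ZMod.cast (σ 1) - ZMod.cast (σ 0)) * ZMod.cast (e x) + ZMod.cast (σ 0)
    rw [h0, h1, show (ZMod.cast (1 : ZMod p) : K) = 1 from map_one (ZMod.castHom dvd_rfl K)]
    ring
  push Not at hd
  set d := P.natDegree with hdd
  have hP0 : P ≠ 0 := fun h => by rw [hdd, h, natDegree_zero] at hd; omega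
  have hdr : d < r := by rw [degree_eq_natDegree hP0] at hPdeg; exact_mod_cast hPdeg
  -- the degree is bounded by the orthogonal space
  have hdp : d + r ≤ p - 1 := by
    by_contra hcon
    set f : ZMod p → K := fun j => (ZMod.cast j : K) ^ (p - 1 - d) with hf
    have hfW : f ∈ W' := (hiff _).2 ⟨X ^ (p - 1 - d),
      lt_of_le_of_lt (degree_X_pow_le _) (by exact_mod_cast (show p - 1 - d < r by omega)),
      fun j => by simp [hf]⟩
    obtain ⟨Q, hQdeg, hQ⟩ := (hiff _).1 (hσ' f hfW)
    have hzero : ∑ j : ZMod p, Q.eval (ZMod.cast j : K) * (ZMod.cast j : K) = 0 := by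
      have : ∀ j : ZMod p, Q.eval (ZMod.cast j : K) * (ZMod.cast j : K) = (Q * X).eval (ZMod.cast j : K) :=
        fun j => by rw [eval_mul, eval_X]
      simp_rw [this]
      rcases eq_or_ne Q 0 with h0 | h0
      · simp [h0]
      have hQn : Q.natDegree < r := by rw [degree_eq_natDegree h0] at hQdeg; exact_mod_cast hQdeg
      have hQX : (Q * X).natDegree ≤ r := natDegree_mul_le.trans (by rw [natDegree_X]; omega)
      rw [zmod_sum_eval_eq _ (by omega), coeff_eq_zero_of_natDegree_lt (by omega), neg_zero]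
    have hsum : ∑ j : ZMod p, f j * P.eval (ZMod.cast j : K) = 0 := by
      rw [← hzero]
      let π : ZMod p ≃ ZMod p := (e.symm.trans g).trans e
      refine Fintype.sum_equiv π _ _ fun j => ?_
      rw [← hP j, ← hQ (π j)]
      show f j * ZMod.cast (σ j) = f (e (g⁻¹ (e.symm (π j)))) * ZMod.cast (π j)
      simp [π, σ]
    have hXP : (X ^ (p - 1 - d) * P).natDegree = p - 1 - d + d := by
      rw [natDegree_mul (pow_ne_zero _ X_ne_zero) hP0, natDegree_X_pow]
    have hfe : ∀ j, f j * P.eval (ZMod.cast j : K) = (X ^ (p - 1 - d) * P).eval (ZMod.cast j : K) :=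
      fun j => by simp [hf]
    have hdle : d ≤ p - 1 := by omega
    have := hp.out.two_le
    simp_rw [hfe] at hsum
    rw [zmod_sum_eval_eq _ (by omega), neg_eq_zero, show p - 1 = d + (p - 1 - d) by omega,
      show d + (p - 1 - d) - d = p - 1 - d by omega, coeff_X_pow_mul] at hsum
    exact leadingCoeff_ne_zero.2 hP0 hsum
  -- a power of `P` leaves the space
  set i := Nat.find (show ∃ i, r ≤ d * i from ⟨r, Nat.le_mul_of_pos_left r (by omega)⟩) with hidef
  have hispec : r ≤ d * i := Nat.find_spec (show ∃ i, r ≤ d * i from ⟨r, Nat.le_mul_of_pos_left r (by omega)⟩)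
  have hipos : 0 < i := Nat.pos_of_ne_zero fun h => by rw [h, mul_zero] at hispec; omega
  have hilt : d * (i - 1) < r := by
    by_contra h
    exact Nat.find_min (show ∃ i, r ≤ d * i from ⟨r, Nat.le_mul_of_pos_left r (by omega)⟩)
      (show i - 1 < i by omega) (not_lt.1 h)
  have hdi : d * i = d * (i - 1) + d := by
    conv_lhs => rw [show i = i - 1 + 1 by omega, mul_add, mul_one]
  have hir : i < r := by
    have : 2 * (i - 1) ≤ d * (i - 1) := Nat.mul_le_mul_right _ hd
    omega
  obtain ⟨R, hRdeg, hR⟩ := (hiff _).1 (hσ (fun j => (ZMod.cast j : K) ^ i) ((hiff _).2 ⟨X ^ i,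
    lt_of_le_of_lt (degree_X_pow_le _) (by exact_mod_cast hir), fun j => by simp⟩))
  have heq : R = P ^ i := by
    refine eq_of_degree_sub_lt_of_eval_index_eq (s := (Finset.univ : Finset (ZMod p)))
      (v := fun j => (ZMod.cast j : K)) (fun _ _ _ _ h => primeCast_injective h) ?_ fun j _ => ?_
    · rw [Finset.card_univ, ZMod.card]
      refine lt_of_le_of_lt (degree_sub_le _ _) (max_lt (lt_of_lt_of_le hRdeg (by exact_mod_cast hrp)) ?_)
      rw [degree_pow, degree_eq_natDegree hP0, ← hdd, nsmul_eq_mul]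
      exact_mod_cast (show i * d < p by rw [mul_comm]; omega)
    · rw [← hR j, eval_pow, ← hP j]
  rw [heq, degree_pow, degree_eq_natDegree hP0, ← hdd, nsmul_eq_mul] at hRdeg
  have : i * d < r := by exact_mod_cast hRdeg
  rw [mul_comm] at this
  omega

end Cfsg.Agent.PermGroups
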