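import Mathlib

/-!
A finite group whose automorphisms are transitive on non-identity elements is elementary abelian.
-/

namespace Cfsg.Agent.PermGroups

/-- A finite non-trivial group in which any two non-identity elements are related by an
automorphism is elementary abelian. -/
theorem elementaryAbelian_of_homogeneous {G : Type*} [Group G] [Finite G] [Nontrivial G]
    (h : ∀ x y : G, x ≠ 1 → y ≠ 1 → ∃ f : G ≃* G, f x = y) :
    ∃ p j : ℕ, p.Prime ∧ 1 ≤ j ∧ Nat.card G = p ^ j ∧ (∀ x y : G, x * y = y * x) ∧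
      ∀ x : G, x ^ p = 1 := by
  obtain ⟨p, hp, hpd⟩ := Nat.exists_prime_and_dvd (Finite.one_lt_card (α := G)).ne'
  have : Fact p.Prime := ⟨hp⟩
  obtain ⟨x₀, hx₀⟩ := exists_prime_orderOf_dvd_card' (G := G) p hpd
  have hx1 : x₀ ≠ 1 := fun e => by
    rw [e, orderOf_one] at hx₀
    exact hp.ne_one hx₀.symm
  have hexp : ∀ x : G, x ^ p = 1 := by
    intro x
    by_cases hx : x = 1
    · simp [hx]
    · obtain ⟨f, rfl⟩ := h x₀ x hx1 hx
      rw [← map_pow, ← hx₀, pow_orderOf_eq_one, map_one]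
  have hpg : IsPGroup p G := fun x => ⟨1, by rw [pow_one]; exact hexp x⟩
  obtain ⟨j, hj⟩ := IsPGroup.iff_card.mp hpg
  have hj1 : 1 ≤ j := by
    by_contra hlt
    have : j = 0 := by omega
    rw [this, pow_zero] at hj
    have := Finite.one_lt_card (α := G)
    omega
  have hcz := hpg.center_nontrivial
  obtain ⟨⟨z, hz⟩, hz1⟩ := exists_ne (1 : Subgroup.center G)
  have hz1' : z ≠ 1 := fun e => hz1 (Subtype.ext e)
  refine ⟨p, j, hp, hj1, hj, fun x y => ?_, hexp⟩
  by_cases hx : x = 1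
  · simp [hx]
  obtain ⟨f, rfl⟩ := h z x hz1' hx
  obtain ⟨y', rfl⟩ := f.surjective y
  rw [← map_mul, ← map_mul, Subgroup.mem_center_iff.mp hz y']

end Cfsg.Agent.PermGroups
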