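import Mathlib.GroupTheory.Sylow
import Mathlib.GroupTheory.Transfer
import Mathlib.GroupTheory.PGroup

/-!
An automorphism of order two inverting at least half of the elements of a group whose
two-elements are central.
-/

set_option autoImplicit false
set_option linter.style.haveILetI false

namespace Cfsg.Agent.PermGroups

/-- If the two-elements are central and an involutory automorphism inverts at least half of the
elements, then the group is abelian. -/
theorem commutative_of_half_inverted {H : Type*} [Group H] [Finite H] (σ : H ≃* H)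
    (hσ : ∀ x, σ (σ x) = x) (hcen : ∀ (x : H) (k : ℕ), x ^ 2 ^ k = 1 → ∀ y, x * y = y * x)
    (hI : Nat.card H ≤ 2 * Nat.card {x : H // σ x = x⁻¹}) : ∀ x y : H, x * y = y * x := by
  classical
  haveI : Fact (Nat.Prime 2) := ⟨Nat.prime_two⟩
  let P : Sylow 2 H := default
  have hPc : ∀ x ∈ (P : Subgroup H), ∀ y, x * y = y * x := fun x hx => by
    obtain ⟨k, hk⟩ := P.isPGroup' ⟨x, hx⟩
    exact hcen x k (congrArg Subtype.val hk)
  have hN : Subgroup.normalizer ((P : Subgroup H) : Set H) ≤ Subgroup.centralizer ((P : Subgroup H) : Set H) :=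
    fun g _ => Subgroup.mem_centralizer_iff.2 fun x hx => hPc x hx g
  have hcompl := MonoidHom.ker_transferSylow_isComplement' P hN
  set D := (MonoidHom.transferSylow P hN).ker with hD
  have hDodd : Odd (Nat.card D) := Nat.not_even_iff_odd.1 fun h =>
    MonoidHom.not_dvd_card_ker_transferSylow P hN (even_iff_two_dvd.1 h)
  obtain ⟨r, hr⟩ := IsPGroup.iff_card.1 P.isPGroup'
  have hidx : D.index = 2 ^ r := by rw [hcompl.symm.index_eq_card]; exact hr
  have hcop : Nat.Coprime (Nat.card D) D.index := by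
    rw [hidx]
    exact (Nat.coprime_two_right.2 hDodd).pow_right r
  have hmemD : ∀ {x : H}, x ^ Nat.card D = 1 → x ∈ D := fun {x} hx => by
    rw [← QuotientGroup.eq_one_iff, ← orderOf_eq_one_iff]
    refine Nat.eq_one_of_dvd_coprimes hcop ?_ (orderOf_dvd_natCard _)
    refine orderOf_dvd_of_pow_eq_one ?_
    rw [← QuotientGroup.mk_pow, hx]
    rfl
  have hpowD : ∀ {x : H}, x ∈ D → x ^ Nat.card D = 1 := fun {x} hx =>
    congrArg Subtype.val (pow_card_eq_one' (x := (⟨x, hx⟩ : D)))
  have hσD : ∀ {x : H}, x ∈ D → σ x ∈ D := fun hx => hmemD (by rw [← map_pow, hpowD hx, map_one])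
  let ID := {y : D // σ (y : H) = (y : H)⁻¹}
  -- an inverted element is a product of a central two-element and an inverted element of odd order
  have hI2 : Nat.card {x : H // σ x = x⁻¹} ≤ Nat.card (P : Subgroup H) * Nat.card ID := by
    rw [← Nat.card_prod]
    have hdec : ∀ h : {x : H // σ x = x⁻¹}, ∃ q : ↥(P : Subgroup H) × ID,
        ((q.2 : D) : H) * (q.1 : H) = h.1 := by
      rintro ⟨h, hh⟩
      obtain ⟨⟨⟨y, hy⟩, ⟨x, hx⟩⟩, e⟩ := hcompl.2 h
      change y * x = h at e
      refine ⟨⟨⟨x, hx⟩, ⟨⟨y, hy⟩, ?_⟩⟩, e⟩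
      have hxk : x ^ 2 ^ r = 1 := by
        rw [← hr]; exact congrArg Subtype.val (pow_card_eq_one' (x := (⟨x, hx⟩ : (P : Subgroup H))))
      have hσx : ∀ z, σ x * z = z * σ x := hcen (σ x) r (by rw [← map_pow, hxk, map_one])
      rw [← e, map_mul, eq_inv_iff_mul_eq_one] at hh
      have h1 : σ y * y * (σ x * x) = 1 := by
        rw [← hh]
        calc σ y * y * (σ x * x) = σ y * (y * σ x) * x := by group
          _ = σ y * σ x * (y * x) := by rw [← hσx y]; group
      have h2 : (σ x * x) ^ 2 ^ r = 1 := by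
        rw [(show Commute (σ x) x from hσx x).mul_pow, ← map_pow, hxk, map_one, one_mul]
      have h3 : σ y * y = 1 := by
        have hd : σ y * y ∈ D := mul_mem (hσD hy) hy
        rw [← orderOf_eq_one_iff]
        refine Nat.eq_one_of_dvd_coprimes (hidx ▸ hcop) (orderOf_dvd_of_pow_eq_one (hpowD hd)) ?_
        refine orderOf_dvd_of_pow_eq_one ?_
        rw [eq_inv_of_mul_eq_one_left h1, inv_pow, h2, inv_one]
      exact eq_inv_of_mul_eq_one_left h3
    choose q hq using hdec
    exact Nat.card_le_card_of_injective q fun u v e => Subtype.ext (by rw [← hq u, ← hq v, e])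
  -- the fixed points in the odd part
  by_cases hfix : ∃ u : D, u ≠ 1 ∧ σ (u : H) = u
  · exfalso
    obtain ⟨u, hu1, hu⟩ := hfix
    have hu3 : 3 ≤ orderOf u := by
      have hd : orderOf u ∣ Nat.card D := orderOf_dvd_natCard u
      have h0 : orderOf u ≠ 0 := (orderOf_pos u).ne'
      have h1 : orderOf u ≠ 1 := fun h => hu1 (orderOf_eq_one_iff.1 h)
      have h2 : orderOf u ≠ 2 := fun h => hDodd.not_two_dvd_nat (h ▸ hd)
      omega
    have hFix : ∀ v ∈ Subgroup.zpowers u, σ ((v : D) : H) = v := by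
      intro v hv
      obtain ⟨i, rfl⟩ := Subgroup.mem_zpowers_iff.1 hv
      rw [Subgroup.coe_zpow, map_zpow, hu]
    have hle : orderOf u * Nat.card ID ≤ Nat.card D := by
      rw [← Nat.card_zpowers, ← Nat.card_prod]
      refine Nat.card_le_card_of_injective (fun q : Subgroup.zpowers u × ID => (q.1 : D) * q.2.1) ?_
      rintro ⟨v, i⟩ ⟨v', i'⟩ e
      have e1 : ((v : D) : H) * ((i.1 : D) : H) = ((v' : D) : H) * ((i'.1 : D) : H) := congrArg Subtype.val e
      have e2 := congrArg σ e1
      rw [map_mul, map_mul, hFix _ v.2, hFix _ v'.2, i.2, i'.2] at e2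
      have e3 : ((i.1 : D) : H) * ((i'.1 : D) : H)⁻¹ = ((i.1 : D) : H)⁻¹ * ((i'.1 : D) : H) := by
        calc ((i.1 : D) : H) * ((i'.1 : D) : H)⁻¹
            = ((v : D) : H)⁻¹ * (((v : D) : H) * ((i.1 : D) : H)) * ((i'.1 : D) : H)⁻¹ := by group
          _ = ((v : D) : H)⁻¹ * ((v' : D) : H) := by rw [e1]; group
          _ = ((v : D) : H)⁻¹ * (((v' : D) : H) * ((i'.1 : D) : H)⁻¹) * ((i'.1 : D) : H) := by group
          _ = ((i.1 : D) : H)⁻¹ * ((i'.1 : D) : H) := by rw [← e2]; group
      have e4 : ((i.1 : D) : H) ^ 2 = ((i'.1 : D) : H) ^ 2 := by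
        calc ((i.1 : D) : H) ^ 2 = ((i.1 : D) : H) * (((i.1 : D) : H) * ((i'.1 : D) : H)⁻¹) * ((i'.1 : D) : H) := by
              rw [sq]; group
          _ = ((i'.1 : D) : H) ^ 2 := by rw [e3, sq]; group
      have e5 : i.1 = i'.1 := (powCoprime (G := D) (n := 2) (Nat.coprime_two_right.2 hDodd)).injective
        (Subtype.ext e4)
      obtain rfl : i = i' := Subtype.ext e5
      exact Prod.ext (Subtype.ext (mul_right_cancel e)) rfl
    have hH : Nat.card D * 2 ^ r = Nat.card H := by rw [← hidx, mul_comm, Subgroup.index_mul_card]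
    rw [hr] at hI2
    have h3 : 3 * Nat.card ID ≤ Nat.card D := (Nat.mul_le_mul_right _ hu3).trans hle
    have h4 := Nat.mul_le_mul_left (2 ^ r) h3
    have hpos : 0 < 2 ^ r * Nat.card ID := by
      refine Nat.mul_pos (Nat.two_pow_pos r) ?_
      haveI : Nonempty ID := ⟨⟨1, by simp⟩⟩
      exact Nat.card_pos
    nlinarith
  · push Not at hfix
    have hinvD : ∀ y ∈ D, σ y = y⁻¹ := by
      intro y hy
      have hinj : Function.Injective (fun v : D => (⟨(v : H)⁻¹ * σ (v : H), mul_mem (inv_mem v.2) (hσD v.2)⟩ : D)) := by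
        intro v w e
        have e' : (v : H)⁻¹ * σ (v : H) = (w : H)⁻¹ * σ (w : H) := congrArg Subtype.val e
        have hfx : σ ((v * w⁻¹ : D) : H) = ((v * w⁻¹ : D) : H) := by
          simp only [Subgroup.coe_mul, Subgroup.coe_inv, map_mul, map_inv]
          calc σ (v : H) * (σ (w : H))⁻¹ = (v : H) * ((v : H)⁻¹ * σ (v : H)) * (σ (w : H))⁻¹ := by group
            _ = (v : H) * (w : H)⁻¹ := by rw [e']; group
        by_contra hne
        exact hfix _ (fun h => hne (mul_inv_eq_one.1 h)) hfx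
      obtain ⟨v, hv⟩ := (Finite.injective_iff_surjective.1 hinj) ⟨y, hy⟩
      have hv' : (v : H)⁻¹ * σ (v : H) = y := congrArg Subtype.val hv
      rw [← hv', map_mul, map_inv, hσ, mul_inv_rev, inv_inv]
    have hcommD : ∀ x ∈ D, ∀ y ∈ D, x * y = y * x := by
      intro x hx y hy
      have h1 := hinvD _ (mul_mem hx hy)
      rw [map_mul, hinvD x hx, hinvD y hy, mul_inv_rev] at h1
      simpa [mul_inv_rev] using (congrArg Inv.inv h1).symm
    intro g g'
    obtain ⟨⟨⟨y, hy⟩, ⟨x, hx⟩⟩, rfl⟩ := hcompl.2 g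
    obtain ⟨⟨⟨y', hy'⟩, ⟨x', hx'⟩⟩, rfl⟩ := hcompl.2 g'
    show y * x * (y' * x') = y' * x' * (y * x)
    calc y * x * (y' * x') = y * (x * y') * x' := by group
      _ = y * y' * (x * x') := by rw [hPc x hx y']; group
      _ = y' * y * (x' * x) := by rw [hcommD y hy y' hy', hPc x hx x']
      _ = y' * (y * x') * x := by group
      _ = y' * x' * (y * x) := by rw [← hPc x' hx' y]; group

end Cfsg.Agent.PermGroups
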