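import Mathlib

/-!
Transitive groups whose derangements are involutions: other non-identity elements fix one point.
-/

set_option autoImplicit false

namespace Cfsg.Agent.PermGroups

open MulAction Finset

variable {G Ω : Type*} [Group G] [MulAction G Ω]

/-- Non-derangements other than the identity fix exactly one point. -/
theorem unique_fixed_of_derangements_involutions [Finite G] [FaithfulSMul G Ω] [Finite Ω]
    (htrans : IsPretransitive G Ω) (hinv : ∀ g : G, (∀ ω : Ω, g • ω ≠ ω) → g * g = 1)
    {g : G} (hg : g ≠ 1) {a b : Ω} (ha : g • a = a) (hb : g • b = b) : a = b := by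
  classical
  haveI := Fintype.ofFinite G
  haveI := Fintype.ofFinite Ω
  let f : G → ℕ := fun x => (univ.filter fun w : Ω => x • w = w).card
  set n := Fintype.card Ω with hn
  have hfle : ∀ x, f x ≤ n := fun x => card_le_univ _
  -- Burnside
  have hsum : ∑ x, f x = Fintype.card G := by
    have h1 : ∀ w : Ω, (univ.filter fun x : G => x • w = w).card * n = Fintype.card G := by
      intro w
      have h2 := Subgroup.card_mul_index (stabilizer G w)
      rw [index_stabilizer_of_transitive, Nat.card_eq_fintype_card (α := Ω),
        Nat.card_eq_fintype_card (α := G), Nat.card_eq_fintype_card] at h2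
      rw [← h2, ← Fintype.card_subtype]
      congr 1
    have h3 : (∑ x, f x) * n = Fintype.card G * n := by
      simp only [f, Finset.card_filter]
      rw [Finset.sum_comm, Finset.sum_mul]
      have h4 : ∀ w ∈ (univ : Finset Ω),
          (∑ x : G, if x • w = w then 1 else 0) * n = Fintype.card G := fun w _ => by
        rw [← Finset.card_filter]; exact h1 w
      rw [Finset.sum_congr rfl h4]
      rw [Finset.sum_const, Finset.card_univ, smul_eq_mul, mul_comm]
    exact Nat.eq_of_mul_eq_mul_right (Fintype.card_pos_iff.2 ⟨a⟩) h3
  -- fixed points of squares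
  have hsq : ∑ x, f (x * x) ≤ ∑ x, f x * f x := by
    have h1 : ∀ w v : Ω, (univ.filter fun x : G => x • w = v ∧ x • v = w).card ≤
        (univ.filter fun x : G => x • w = w ∧ x • v = v).card := by
      intro w v
      rcases (univ.filter fun x : G => x • w = v ∧ x • v = w).eq_empty_or_nonempty with he | ⟨x₀, hx₀⟩
      · simp [he]
      · rw [Finset.mem_filter] at hx₀
        refine Finset.card_le_card_of_injOn (x₀⁻¹ * ·) ?_ (mul_right_injective _).injOn
        intro x hx
        rw [Finset.mem_coe, Finset.mem_filter] at hx
        rw [Finset.mem_coe, Finset.mem_filter]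
        exact ⟨mem_univ _, by rw [mul_smul, hx.2.1, inv_smul_eq_iff, hx₀.2.1],
          by rw [mul_smul, hx.2.2, inv_smul_eq_iff, hx₀.2.2]⟩
    calc ∑ x, f (x * x) = ∑ x, ∑ w, ∑ v, if x • w = v ∧ x • v = w then 1 else 0 := by
          refine Finset.sum_congr rfl fun x _ => ?_
          simp only [f, Finset.card_filter]
          refine Finset.sum_congr rfl fun w _ => ?_
          rw [Finset.sum_eq_single (x • w) (fun v _ hv => if_neg fun h => hv h.1.symm)
            (fun h => absurd (Finset.mem_univ _) h)]
          simp only [mul_smul, true_and]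
      _ = ∑ w, ∑ v, (univ.filter fun x : G => x • w = v ∧ x • v = w).card := by
          rw [Finset.sum_comm]
          refine Finset.sum_congr rfl fun w _ => ?_
          rw [Finset.sum_comm]
          exact Finset.sum_congr rfl fun v _ => (Finset.card_filter _ _).symm
      _ ≤ ∑ w, ∑ v, (univ.filter fun x : G => x • w = w ∧ x • v = v).card :=
          Finset.sum_le_sum fun w _ => Finset.sum_le_sum fun v _ => h1 w v
      _ = ∑ x, f x * f x := by
          simp only [f, Finset.card_filter, Finset.sum_mul_sum]
          conv_rhs => rw [Finset.sum_comm]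
          refine Finset.sum_congr rfl fun w _ => ?_
          rw [Finset.sum_comm]
          refine Finset.sum_congr rfl fun x _ => Finset.sum_congr rfl fun v _ => ?_
          split_ifs <;> simp_all
  -- comparison
  have hlow : ∀ x, f x + (if f x = 0 then n else 0) ≤ f (x * x) := by
    intro x
    split_ifs with h0
    · rw [h0, zero_add, hinv x fun w hw => by
        have : w ∈ univ.filter fun v : Ω => x • v = v := by simp [hw]
        rw [Finset.card_eq_zero.1 h0] at this
        simp at this]
      simp [f, n]
    · rw [add_zero]
      refine Finset.card_le_card fun w hw => ?_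
      rw [Finset.mem_filter] at hw ⊢
      exact ⟨hw.1, by rw [mul_smul, hw.2, hw.2]⟩
  set term : G → ℤ := fun x => if f x = 0 then 0 else ((f x : ℤ) - 1) * ((f x : ℤ) - n) with hterm
  have hnonpos : ∀ x, term x ≤ 0 := fun x => by
    rw [hterm]
    dsimp only
    split_ifs with h0
    · rfl
    · exact mul_nonpos_of_nonneg_of_nonpos (by omega) (by have := hfle x; omega)
  have hident : ∀ x, (f x : ℤ) * f x + n =
      (if f x = 0 then (n : ℤ) else 0) + term x + (n + 1) * f x := fun x => by
    rw [hterm]
    dsimp only
    split_ifs with h0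
    · rw [h0]; simp
    · ring
  have hkey : 0 ≤ ∑ x, term x := by
    have e1 := Finset.sum_congr rfl (fun x (_ : x ∈ univ) => hident x)
    simp only [Finset.sum_add_distrib, ← Finset.mul_sum, Finset.sum_const, Finset.card_univ,
      nsmul_eq_mul] at e1
    have e2 : ((∑ x, f (x * x) : ℕ) : ℤ) ≤ ((∑ x, f x * f x : ℕ) : ℤ) := by exact_mod_cast hsq
    have e3 : (((∑ x, (f x + if f x = 0 then n else 0)) : ℕ) : ℤ) ≤ ((∑ x, f (x * x) : ℕ) : ℤ) := by
      exact_mod_cast Finset.sum_le_sum fun x _ => hlow x
    have hsumZ : ∑ x, (f x : ℤ) = Fintype.card G := by exact_mod_cast hsum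
    push_cast at e2 e3
    rw [Finset.sum_add_distrib] at e3
    rw [hsumZ] at e1 e3
    linarith
  have hzero := (Finset.sum_eq_zero_iff_of_nonpos fun x _ => hnonpos x).1
    (le_antisymm (Finset.sum_nonpos fun x _ => hnonpos x) hkey) g (mem_univ g)
  by_contra hne
  have h2 : 1 < f g := Finset.one_lt_card.2 ⟨a, by simp [ha], b, by simp [hb], hne⟩
  rw [hterm] at hzero
  dsimp only at hzero
  rw [if_neg (by omega), mul_eq_zero] at hzero
  have hfn : f g = n := by omega
  refine hg (eq_of_smul_eq_smul (α := Ω) fun w => ?_)
  have : w ∈ univ.filter fun v : Ω => g • v = v := by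
    rw [Finset.eq_univ_of_card _ hfn]; exact mem_univ w
  rw [one_smul]
  exact (Finset.mem_filter.1 this).2

end Cfsg.Agent.PermGroups
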