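import Cfsg.Agent.PermGroups.CentralizerProjectors
import Cfsg.Prelude.Def_Perm
import Mathlib.LinearAlgebra.Matrix.ToLin
import Mathlib.GroupTheory.GroupAction.Quotient
import Mathlib.RingTheory.IntegralClosure.Algebra.Basic

/-!
The centraliser ring of a permutation representation: characters, entries, orbital operators.
-/

set_option autoImplicit false
set_option linter.style.haveILetI false
set_option linter.unusedSectionVars false

namespace Cfsg.Agent.PermGroups

open MulAction
open scoped ComplexConjugate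

universe u v

variable {G : Type u} [Group G] [Fintype G] {Ω : Type v} [Fintype Ω] [MulAction G Ω]

theorem permRep_apply' (g : G) (f : Ω → ℂ) (x : Ω) : Cfsg.permRep ℂ G Ω g f x = f (g⁻¹ • x) := rfl

/-- The character of the permutation representation counts fixed points. -/
theorem permRep_character_eq (g : G) :
    (Cfsg.permRep ℂ G Ω).character g = (Nat.card (fixedBy Ω g) : ℂ) := by
  classical
  rw [Representation.character, LinearMap.trace_eq_matrix_trace ℂ (Pi.basisFun ℂ Ω)]
  simp only [Matrix.trace, Matrix.diag, LinearMap.toMatrix_apply, Pi.basisFun_repr,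
    Pi.basisFun_apply, permRep_apply', Pi.single_apply]
  rw [Finset.sum_boole, Nat.card_eq_fintype_card, ← Set.toFinset_card]
  congr 2
  ext x
  simp only [Finset.mem_filter, Finset.mem_univ, true_and, Set.mem_toFinset, mem_fixedBy]
  constructor
  · intro h; conv_lhs => rw [← h, smul_inv_smul]
  · intro h; conv_lhs => rw [← h, inv_smul_smul]

theorem fixFun_eq : (fun g : G => (Nat.card (fixedBy Ω g) : ℂ)) = (Cfsg.permRep ℂ G Ω).character :=
  funext fun g => (permRep_character_eq g).symm

/-- The matrix entry of an operator on functions. -/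
noncomputable def entry (T : (Ω → ℂ) →ₗ[ℂ] (Ω → ℂ)) (x y : Ω) : ℂ :=
  haveI := Classical.decEq Ω
  T (Pi.single y 1) x

theorem entry_def [DecidableEq Ω] (T : (Ω → ℂ) →ₗ[ℂ] (Ω → ℂ)) (x y : Ω) :
    entry T x y = T (Pi.single y 1) x := by
  unfold entry
  exact congrArg (fun f => T f x) (funext fun z => by simp [Pi.single_apply])

theorem apply_eq_sum_entry (T : (Ω → ℂ) →ₗ[ℂ] (Ω → ℂ)) (f : Ω → ℂ) (x : Ω) :
    T f x = ∑ y, entry T x y * f y := by
  classical
  conv_lhs => rw [pi_eq_sum_univ f]
  rw [map_sum, Finset.sum_apply]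
  refine Finset.sum_congr rfl fun y _ => ?_
  rw [map_smul, Pi.smul_apply, smul_eq_mul, mul_comm, entry_def]
  exact congrArg (fun r => r * f y) (congrArg (fun f => T f x)
    (funext fun z => by simp [Pi.single_apply, eq_comm]))

theorem entry_ext {S T : (Ω → ℂ) →ₗ[ℂ] (Ω → ℂ)} (h : ∀ x y, entry S x y = entry T x y) : S = T :=
  LinearMap.ext fun f => funext fun x => by simp only [apply_eq_sum_entry, h]

theorem entry_comp (S T : (Ω → ℂ) →ₗ[ℂ] (Ω → ℂ)) (x y : Ω) :
    entry (S ∘ₗ T) x y = ∑ z, entry S x z * entry T z y := by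
  classical
  rw [entry_def, LinearMap.comp_apply, apply_eq_sum_entry]
  simp [entry_def]

theorem entry_sum {ι : Type*} (s : Finset ι) (T : ι → (Ω → ℂ) →ₗ[ℂ] (Ω → ℂ)) (x y : Ω) :
    entry (∑ i ∈ s, T i) x y = ∑ i ∈ s, entry (T i) x y := by
  simp [entry, LinearMap.sum_apply]

theorem entry_smul (c : ℂ) (T : (Ω → ℂ) →ₗ[ℂ] (Ω → ℂ)) (x y : Ω) :
    entry (c • T) x y = c * entry T x y := by
  simp [entry]

theorem trace_eq_sum_entry (T : (Ω → ℂ) →ₗ[ℂ] (Ω → ℂ)) :
    LinearMap.trace ℂ (Ω → ℂ) T = ∑ x, entry T x x := by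
  classical
  rw [LinearMap.trace_eq_matrix_trace ℂ (Pi.basisFun ℂ Ω)]
  simp [Matrix.trace, LinearMap.toMatrix_apply, entry_def]

/-- An operator commutes with the group exactly when its entries are invariant. -/
theorem commute_iff_entry (T : (Ω → ℂ) →ₗ[ℂ] (Ω → ℂ)) :
    (∀ g : G, T ∘ₗ Cfsg.permRep ℂ G Ω g = Cfsg.permRep ℂ G Ω g ∘ₗ T) ↔
      ∀ (g : G) x y, entry T (g • x) (g • y) = entry T x y := by
  classical
  refine ⟨fun h g x y => ?_, fun h g => LinearMap.ext fun f => funext fun x => ?_⟩
  · have h1 := congrFun (LinearMap.congr_fun (h g) (Pi.single y 1)) (g • x)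
    simp only [LinearMap.comp_apply, permRep_apply', inv_smul_smul] at h1
    rw [entry_def, entry_def, ← h1]
    exact congrArg (fun f => T f (g • x))
      (funext fun z => by simp [permRep_apply', Pi.single_apply, inv_smul_eq_iff])
  · rw [LinearMap.comp_apply, LinearMap.comp_apply, apply_eq_sum_entry, permRep_apply',
      apply_eq_sum_entry, ← Equiv.sum_comp (MulAction.toPerm g)]
    refine Finset.sum_congr rfl fun y _ => ?_
    simp only [permRep_apply', MulAction.toPerm_apply, inv_smul_smul]
    conv_lhs => rw [← smul_inv_smul g x, h]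

open scoped Classical in
/-- The operator of a relation on the points. -/
noncomputable def relOp (R : Ω → Ω → Prop) : (Ω → ℂ) →ₗ[ℂ] (Ω → ℂ) where
  toFun f x := ∑ y ∈ Finset.univ.filter (R x), f y
  map_add' f f' := funext fun x => Finset.sum_add_distrib
  map_smul' c f := funext fun x => by simp [Finset.mul_sum]

open scoped Classical in
theorem entry_relOp (R : Ω → Ω → Prop) (x y : Ω) :
    entry (relOp R) x y = if R x y then 1 else 0 := by
  rw [entry_def]
  show ∑ z ∈ Finset.univ.filter (R x), (Pi.single y (1 : ℂ) : Ω → ℂ) z = _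
  rw [Finset.sum_filter]
  simp only [Pi.single_apply]
  rw [Finset.sum_eq_single y]
  · simp
  · intro b _ hb; simp [hb]
  · simp

theorem relOp_commute {R : Ω → Ω → Prop} (hR : ∀ (g : G) x y, R (g • x) (g • y) ↔ R x y) :
    ∀ g : G, relOp R ∘ₗ Cfsg.permRep ℂ G Ω g = Cfsg.permRep ℂ G Ω g ∘ₗ relOp R :=
  (commute_iff_entry _).2 fun g x y => by
    classical
    simp only [entry_relOp, hR]

theorem relOp_isIntegral (R : Ω → Ω → Prop) : IsIntegral ℤ (relOp R : Module.End ℂ (Ω → ℂ)) := by
  classical
  let M : Matrix Ω Ω ℤ := fun x y => if R x y then 1 else 0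
  have hM : IsIntegral ℤ M := IsIntegral.of_finite ℤ M
  let φ : Matrix Ω Ω ℤ →ₐ[ℤ] Module.End ℂ (Ω → ℂ) :=
    ((Matrix.toLinAlgEquiv' (R := ℂ) (n := Ω)).toAlgHom.toRingHom.comp
      (Int.castRingHom ℂ).mapMatrix).toIntAlgHom
  have : φ M = relOp R := entry_ext fun x y => by
    rw [entry_relOp, entry_def]
    show (Matrix.toLinAlgEquiv' ((Int.castRingHom ℂ).mapMatrix M) : Module.End ℂ (Ω → ℂ))
      (Pi.single y 1) x = _
    rw [Matrix.toLinAlgEquiv'_apply, Matrix.mulVec_single_one]
    show ((if R x y then 1 else 0 : ℤ) : ℂ) = _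
    split_ifs <;> simp
  exact this ▸ hM.map φ

/-- Entries of the projectors. -/
theorem entry_charProj [DecidableEq Ω] (χ : G → ℂ) (x y : Ω) :
    entry (charProj (Cfsg.permRep ℂ G Ω) χ) x y =
      χ 1 * (Nat.card G : ℂ)⁻¹ * ∑ g : G, if g • x = y then χ g else 0 := by
  rw [entry_def]
  simp [charProj, LinearMap.sum_apply, permRep_apply', Pi.single_apply]

theorem entry_charProj_swap {χ : G → ℂ} (hχ : Cfsg.IsIrrCharacter G χ) (x y : Ω) :
    entry (charProj (Cfsg.permRep ℂ G Ω) χ) x y =
      entry (charProj (Cfsg.permRep ℂ G Ω) (fun g => conj (χ g))) y x := by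
  classical
  have hc := Chars.isCharacter_of_isIrr hχ
  rw [entry_charProj, entry_charProj, Chars.irr_apply_one_conj hc]
  congr 1
  refine Fintype.sum_equiv (Equiv.inv G) _ _ fun g => ?_
  simp only [Equiv.inv_apply, ← Chars.char_inv_eq_conj hc, inv_inv]
  exact if_congr (by rw [inv_smul_eq_iff, eq_comm]) rfl rfl

/-- Symmetric centraliser rings are commutative. -/
theorem commute_of_symmetric
    (hsym : ∀ T : (Ω → ℂ) →ₗ[ℂ] (Ω → ℂ),
      (∀ g : G, T ∘ₗ Cfsg.permRep ℂ G Ω g = Cfsg.permRep ℂ G Ω g ∘ₗ T) →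
      ∀ x y, entry T x y = entry T y x)
    {S T : (Ω → ℂ) →ₗ[ℂ] (Ω → ℂ)}
    (hS : ∀ g : G, S ∘ₗ Cfsg.permRep ℂ G Ω g = Cfsg.permRep ℂ G Ω g ∘ₗ S)
    (hT : ∀ g : G, T ∘ₗ Cfsg.permRep ℂ G Ω g = Cfsg.permRep ℂ G Ω g ∘ₗ T) : S ∘ₗ T = T ∘ₗ S := by
  refine entry_ext fun x y => ?_
  have hST : ∀ g : G, (S ∘ₗ T) ∘ₗ Cfsg.permRep ℂ G Ω g = Cfsg.permRep ℂ G Ω g ∘ₗ (S ∘ₗ T) := fun g => by
    rw [LinearMap.comp_assoc, hT, ← LinearMap.comp_assoc, hS, LinearMap.comp_assoc]
  rw [hsym _ hST, entry_comp, entry_comp]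
  exact Finset.sum_congr rfl fun z _ => by rw [hsym S hS, hsym T hT, mul_comm]

/-- The principal character occurs exactly once in a transitive permutation character. -/
theorem classInner_one_of_transitive [IsPretransitive G Ω] [Nonempty Ω] :
    classInner (Cfsg.permRep ℂ G Ω).character (fun _ : G => 1) = 1 := by
  classical
  haveI : Subsingleton (orbitRel.Quotient G Ω) := MulAction.pretransitive_iff_subsingleton_quotient G Ω |>.1 ‹_›
  haveI : Fintype (orbitRel.Quotient G Ω) := Fintype.ofFinite _
  have h := sum_card_fixedBy_eq_card_orbits_mul_card_group G Ω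
  rw [Fintype.card_eq_one_iff.2 ⟨Quotient.mk'' (Classical.arbitrary Ω), fun q => Subsingleton.elim _ _⟩,
    one_mul] at h
  rw [Chars.classInner_def]
  simp only [permRep_character_eq, map_one, mul_one, Nat.card_eq_fintype_card]
  rw [← Nat.cast_sum, h]
  exact inv_mul_cancel₀ (by exact_mod_cast Fintype.card_ne_zero)

/-- The norm of a transitive permutation character is the rank. -/
theorem classInner_self_eq_rank [IsPretransitive G Ω] (a : Ω) :
    classInner (Cfsg.permRep ℂ G Ω).character (Cfsg.permRep ℂ G Ω).character =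
      (Nat.card (orbitRel.Quotient (stabilizer G a) Ω) : ℂ) := by
  classical
  haveI : Fintype (orbitRel.Quotient (stabilizer G a) Ω) := Fintype.ofFinite _
  rw [Chars.classInner_def]
  simp only [permRep_character_eq, Nat.card_eq_fintype_card, map_natCast]
  rw [← Finset.sum_congr rfl fun g _ => (Nat.cast_mul _ _), ← Nat.cast_sum]
  have hn : Fintype.card Ω * Fintype.card (stabilizer G a) = Fintype.card G := by
    have := Subgroup.index_mul_card (stabilizer G a)
    rw [index_stabilizer_of_transitive G a] at this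
    simpa [Nat.card_eq_fintype_card] using this
  -- each point contributes the fixed-point sum over its stabiliser
  have key : ∀ x : Ω, ∑ g : G, (if g • x = x then Fintype.card (fixedBy Ω g) else 0) =
      Fintype.card (orbitRel.Quotient (stabilizer G a) Ω) * Fintype.card (stabilizer G a) := by
    intro x
    obtain ⟨k, rfl⟩ := exists_smul_eq G a x
    rw [← sum_card_fixedBy_eq_card_orbits_mul_card_group (stabilizer G a) Ω, ← Finset.sum_filter]
    symm
    refine Finset.sum_bij (fun h _ => k * (h : G) * k⁻¹) ?_ ?_ ?_ ?_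
    · intro h _
      simp [mul_smul, mem_stabilizer_iff.1 h.2]
    · intro h _ h' _ he
      exact Subtype.ext (by simpa using he)
    · intro g hg
      simp only [Finset.mem_filter, Finset.mem_univ, true_and] at hg
      refine ⟨⟨k⁻¹ * g * k, ?_⟩, Finset.mem_univ _, by simp [mul_assoc]⟩
      rw [mem_stabilizer_iff, mul_smul, mul_smul, hg, inv_smul_smul]
    · intro h _
      refine Fintype.card_congr (Equiv.subtypeEquiv (MulAction.toPerm k) fun z => ?_)
      simp [mem_fixedBy, mul_smul, Subgroup.smul_def]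
  have htot : ∑ g : G, Fintype.card (fixedBy Ω g) * Fintype.card (fixedBy Ω g) =
      Fintype.card G * Fintype.card (orbitRel.Quotient (stabilizer G a) Ω) := by
    calc ∑ g : G, Fintype.card (fixedBy Ω g) * Fintype.card (fixedBy Ω g)
        = ∑ g : G, ∑ x : Ω, (if g • x = x then Fintype.card (fixedBy Ω g) else 0) := by
          refine Finset.sum_congr rfl fun g _ => ?_
          rw [← Finset.sum_filter, Finset.sum_const, smul_eq_mul]
          congr 1
          rw [← Set.toFinset_card]
          congr 1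
          ext z; simp [mem_fixedBy]
      _ = _ := by
          rw [Finset.sum_comm, Finset.sum_congr rfl fun x _ => key x, Finset.sum_const, smul_eq_mul,
            Finset.card_univ, ← hn]
          ring
  rw [htot, Nat.cast_mul, ← mul_assoc, inv_mul_cancel₀ (by exact_mod_cast Fintype.card_ne_zero), one_mul]

end Cfsg.Agent.PermGroups
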