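import Mathlib

/-!
Jordan's theorem on primitive groups with a cycle of prime length.
-/

set_option autoImplicit false

namespace Cfsg.Agent.PermGroups

open Equiv MulAction

variable {α : Type*} [Fintype α] [DecidableEq α]

theorem not_sq_dvd_factorial {p : ℕ} (hp : p.Prime) : ¬ p ^ 2 ∣ p.factorial := by
  intro h
  rw [← Nat.mul_factorial_pred hp.ne_zero, sq] at h
  have h2 := (hp.dvd_factorial).1 (Nat.dvd_of_mul_dvd_mul_left hp.pos h)
  have := hp.two_le
  omega

/-- A primitive group of degree at least `p + 3` with a `p`-cycle contains the alternating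
group. -/
theorem alternating_le_of_prime_cycle (G : Subgroup (Perm α)) (hG : IsPreprimitive G α) {p : ℕ}
    (hp : p.Prime) (hpn : p + 3 ≤ Fintype.card α) {g : Perm α} (hgc : g.IsCycle)
    (hgp : g.support.card = p) (hg : g ∈ G) : alternatingGroup α ≤ G := by
  classical
  haveI : Fact p.Prime := ⟨hp⟩
  set Γ : Set α := (g.support : Set α)ᶜ with hΓ
  have hmemΓ : ∀ z, z ∈ Γ ↔ g z = z := fun z => by simp [hΓ]
  have hΓc : Γ.ncard = Fintype.card α - p := by
    rw [hΓ, Set.ncard_compl, Set.ncard_coe_finset, hgp, Nat.card_eq_fintype_card]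
  have hmp : IsMultiplyPreprimitive G α (Γ.ncard + 1) := by
    obtain ⟨n, hn⟩ : ∃ n, Γ.ncard = n + 1 := ⟨Γ.ncard - 1, by omega⟩
    rw [hn]
    have := hp.two_le
    refine hG.isMultiplyPreprimitive hn (by rw [Nat.card_eq_fintype_card]; omega) ?_
    have := Perm.isPretransitive_of_isCycle_mem hgc hg
    apply IsPreprimitive.of_prime_card
    rw [show Nat.card (SubMulAction.ofFixingSubgroup G Γ) = p by
      rw [← hgp, Nat.card_eq_fintype_card, Fintype.card_subtype]
      congr 1
      ext z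
      simp [hΓ, SubMulAction.mem_ofFixingSubgroup_iff]]
    exact hp
  have hmt : IsMultiplyPretransitive G α Γ.ncard := by
    have : IsMultiplyPretransitive G α (Γ.ncard + 1) := by
      have := hmp
      exact IsMultiplyPreprimitive.isMultiplyPretransitive ..
    exact isMultiplyPretransitive_of_le' (Nat.le_succ _) (by
      rw [ENat.card_eq_coe_fintype_card, Nat.succ_eq_add_one]
      exact_mod_cast (show Γ.ncard + 1 ≤ Fintype.card α by have := hp.two_le; omega))
  let g' : G := ⟨g, hg⟩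
  let H : Subgroup G := fixingSubgroup G Γ
  have hg'H : g' ∈ H := fun z => (hmemΓ z.1).1 z.2
  -- the fixing subgroup has order not divisible by `p ^ 2`
  have hH : ∀ h ∈ H, ∀ z, z ∈ Γ → (h : Perm α) z = z := fun h hh z hz =>
    (mem_fixingSubgroup_iff G).1 hh z hz
  have hHdvd : Nat.card H ∣ p.factorial := by
    let f : H →* Perm {z // z ∈ g.support} := MonoidHom.mk'
      (fun h => ((h : G) : Perm α).subtypePerm fun z => by
        constructor
        · intro hz
          by_contra hc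
          rw [hH h h.2 z (by simpa [hΓ] using hc)] at hz
          exact hc hz
        · intro hz
          by_contra hc
          have h1 := hH h h.2 _ (show ((h : G) : Perm α) z ∈ Γ by simpa [hΓ] using hc)
          rw [((h : G) : Perm α).injective h1] at hc
          exact hc hz)
      (fun a b => by ext z; rfl)
    have hinj : Function.Injective f := by
      intro a b e
      apply Subtype.ext; apply Subtype.ext
      ext z
      by_cases hz : z ∈ g.support
      · exact congrArg Subtype.val (DFunLike.congr_fun e ⟨z, hz⟩)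
      · rw [hH a a.2 z (by simpa [hΓ] using hz), hH b b.2 z (by simpa [hΓ] using hz)]
    have := Subgroup.card_dvd_of_injective f hinj
    rwa [Nat.card_perm, Nat.card_eq_fintype_card (α := {z // z ∈ g.support}), Fintype.card_coe,
      hgp] at this
  have hg'o : orderOf g' = p := by
    rw [Subgroup.orderOf_mk, hgc.orderOf, hgp]
  -- subgroups of order `p` of `H` are conjugate
  have hconj : ∀ u : G, u ∈ H → orderOf u = p → ∃ h ∈ H, h * u * h⁻¹ ∈ Subgroup.zpowers g' := by
    intro u hu huo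
    have hsyl : ∀ w : H, orderOf w = p → ∃ S : Sylow p H, (S : Subgroup H) = Subgroup.zpowers w := by
      intro w hw
      obtain ⟨S, hS⟩ := (IsPGroup.of_card (p := p) (n := 1)
        (show Nat.card (Subgroup.zpowers w) = p ^ 1 by rw [Nat.card_zpowers, hw, pow_one])).exists_le_sylow
      refine ⟨S, (Subgroup.eq_of_le_of_card_ge hS ?_).symm⟩
      obtain ⟨n, hn⟩ := IsPGroup.iff_card.1 S.2
      rw [Nat.card_zpowers, hw, hn]
      rcases Nat.lt_or_ge n 2 with h | h
      · exact (Nat.pow_le_pow_right hp.pos (by omega : n ≤ 1)).trans_eq (pow_one p)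
      · exact absurd (((pow_dvd_pow p h).trans (hn ▸ Subgroup.card_subgroup_dvd_card _)).trans hHdvd)
          (not_sq_dvd_factorial hp)
    obtain ⟨S, hS⟩ := hsyl ⟨u, hu⟩ (by rw [Subgroup.orderOf_mk, huo])
    obtain ⟨T, hT⟩ := hsyl ⟨g', hg'H⟩ (by rw [Subgroup.orderOf_mk, hg'o])
    obtain ⟨h, hh⟩ := MulAction.exists_smul_eq H S T
    refine ⟨(h : G), h.2, ?_⟩
    have hmem : (MulAut.conj h) (⟨u, hu⟩ : H) ∈ (T : Subgroup H) := by
      rw [← hh]
      refine Subgroup.smul_mem_pointwise_smul _ _ _ ?_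
      rw [hS]; exact Subgroup.mem_zpowers _
    rw [hT] at hmem
    obtain ⟨i, hi⟩ := hmem
    exact ⟨i, congrArg Subtype.val hi⟩
  -- lift transpositions of `Γ`
  have hlift : ∀ σ : Perm α, (∀ z, z ∈ Γ → σ z ∈ Γ) →
      ∃ x : G, (∀ z ∈ Γ, (x : Perm α) z = σ z) ∧ ∃ a : ℤ, x * g' * x⁻¹ = g' ^ a := by
    intro σ hσ
    let e : Fin Γ.ncard ≃ Γ := (Finite.equivFinOfCardEq (Nat.card_coe_set_eq Γ)).symm
    let x₁ : Fin Γ.ncard ↪ α := e.toEmbedding.trans (Function.Embedding.subtype _)
    let x₂ : Fin Γ.ncard ↪ α := x₁.trans σ.toEmbedding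
    obtain ⟨x, hx⟩ := hmt.exists_smul_eq x₁ x₂
    have hxΓ : ∀ z ∈ Γ, (x : Perm α) z = σ z := by
      intro z hz
      obtain ⟨i, hi⟩ := e.surjective ⟨z, hz⟩
      have := congrArg (fun f : Fin Γ.ncard ↪ α => f i) hx
      simp [x₁, x₂, hi] at this
      exact this
    have hxΓ' : ∀ z, z ∈ Γ → (x⁻¹ : G) • z ∈ Γ := by
      have hsub : (x : Perm α) '' Γ ⊆ Γ := by
        rintro _ ⟨z, hz, rfl⟩
        rw [hxΓ z hz]; exact hσ z hz
      have heq := Set.eq_of_subset_of_ncard_le hsub
        (Set.ncard_image_of_injective _ (x : Perm α).injective).ge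
      intro z hz
      rw [← heq] at hz
      obtain ⟨w, hw, rfl⟩ := hz
      show (x⁻¹ : G) • (x • w) ∈ Γ
      rwa [inv_smul_smul]
    have hu : x * g' * x⁻¹ ∈ H := by
      rw [mem_fixingSubgroup_iff]
      intro z hz
      rw [mul_smul, mul_smul, (mem_fixingSubgroup_iff G).1 hg'H _ (hxΓ' z hz), smul_inv_smul]
    obtain ⟨h, hh, a, ha⟩ := hconj _ hu (by rw [← hg'o]; exact (MulAut.conj x).orderOf_eq g')
    refine ⟨h * x, fun z hz => ?_, a, ?_⟩
    · show (h : Perm α) ((x : Perm α) z) = σ z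
      rw [hxΓ z hz, hH h hh _ (hσ z hz)]
    · rw [show h * x * g' * (h * x)⁻¹ = h * (x * g' * x⁻¹) * h⁻¹ by group]
      exact ha.symm
  obtain ⟨a, b, c, ha, hb, hc, hab, hac, hbc⟩ :=
    (Set.two_lt_ncard_iff).1 (show 2 < Γ.ncard by omega)
  have hswap : ∀ u v : α, u ∈ Γ → v ∈ Γ → ∀ z, z ∈ Γ → Equiv.swap u v z ∈ Γ := by
    intro u v hu hv z hz
    rcases eq_or_ne z u with rfl | h1
    · rwa [Equiv.swap_apply_left]
    rcases eq_or_ne z v with rfl | h2
    · rwa [Equiv.swap_apply_right]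
    · rwa [Equiv.swap_apply_of_ne_of_ne h1 h2]
  set σ := Equiv.swap a b with hσdef
  set τ := Equiv.swap a c with hτdef
  obtain ⟨x, hx, i, hxi⟩ := hlift σ (hswap a b ha hb)
  obtain ⟨y, hy, j, hyj⟩ := hlift τ (hswap a c ha hc)
  have hcomm : (x * y) * g' * (x * y)⁻¹ = (y * x) * g' * (y * x)⁻¹ := by
    rw [show (x * y) * g' * (x * y)⁻¹ = x * (y * g' * y⁻¹) * x⁻¹ by group,
      show (y * x) * g' * (y * x)⁻¹ = y * (x * g' * x⁻¹) * y⁻¹ by group, hxi, hyj,
      ← conj_zpow, ← conj_zpow, hxi, hyj, ← zpow_mul, ← zpow_mul, mul_comm i j]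
  set w := (y * x)⁻¹ * (x * y) with hw
  have hwg : Commute (w : Perm α) g := by
    have : w * g' * w⁻¹ = g' := by
      rw [hw, show ((y * x)⁻¹ * (x * y)) * g' * ((y * x)⁻¹ * (x * y))⁻¹ =
        (y * x)⁻¹ * ((x * y) * g' * (x * y)⁻¹) * (y * x) by group, hcomm]
      group
    have h2 := congrArg (fun u : G => (u : Perm α)) (mul_inv_eq_iff_eq_mul.1 this)
    exact h2
  have hστ : ((σ * τ) * (σ * τ)).IsThreeCycle :=
    (Equiv.Perm.isThreeCycle_swap_mul_swap_same hab hac hbc).isThreeCycle_sq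
  obtain ⟨z₀, hz₀⟩ : g.support.Nonempty := Finset.card_pos.1 (by rw [hgp]; exact hp.pos)
  have hwz₀ : (w : Perm α) z₀ ∈ g.support := by
    rw [Perm.mem_support] at hz₀ ⊢
    intro e
    rw [← Perm.mul_apply, ← hwg.eq, Perm.mul_apply] at e
    exact hz₀ ((w : Perm α).injective e)
  obtain ⟨k, hk⟩ := hgc.exists_zpow_eq (Perm.mem_support.1 hz₀) (Perm.mem_support.1 hwz₀)
  have key : (w : Perm α) * (g ^ k)⁻¹ = (σ * τ) * (σ * τ) := by
    ext z
    by_cases hz : z ∈ Γ
    · have hgz : (g ^ k)⁻¹ z = z := by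
        rw [← zpow_neg]; exact Equiv.Perm.zpow_apply_eq_self_of_apply_eq_self ((hmemΓ z).1 hz) _
      rw [Perm.mul_apply, hgz]
      have hy' : ∀ u ∈ Γ, (y⁻¹ : G) • u = τ u := fun u hu => by
        rw [inv_smul_eq_iff]
        show u = (y : Perm α) (τ u)
        rw [hy _ (hswap a c ha hc u hu), hτdef, Equiv.swap_apply_self]
      have hx' : ∀ u ∈ Γ, (x⁻¹ : G) • u = σ u := fun u hu => by
        rw [inv_smul_eq_iff]
        show u = (x : Perm α) (σ u)
        rw [hx _ (hswap a b ha hb u hu), hσdef, Equiv.swap_apply_self]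
      show w • z = _
      rw [hw, mul_inv_rev, mul_smul, mul_smul, mul_smul]
      have h1 : y • z = τ z := hy z hz
      have m1 := hswap a c ha hc z hz
      have h2 : x • τ z = σ (τ z) := hx _ m1
      have m2 := hswap a b ha hb _ m1
      rw [h1, h2, hy' _ m2, hx' _ (hswap a c ha hc _ m2)]
      rfl
    · have hzs : z ∈ g.support := by simpa [hΓ] using hz
      have hfix : ∀ u v : α, u ∈ Γ → v ∈ Γ → Equiv.swap u v z = z := fun u v hu hv =>
        Equiv.swap_apply_of_ne_of_ne (fun e => hz (e ▸ hu)) (fun e => hz (e ▸ hv))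
      rw [show ((σ * τ) * (σ * τ)) z = z by
        rw [Perm.mul_apply, Perm.mul_apply, Perm.mul_apply, hτdef, hσdef, hfix a c ha hc, hfix a b ha hb,
          hfix a c ha hc, hfix a b ha hb]]
      obtain ⟨l, hl⟩ := hgc.exists_zpow_eq (Perm.mem_support.1 hz₀) (Perm.mem_support.1 hzs)
      rw [← hl, Perm.mul_apply, ← zpow_neg, ← Perm.mul_apply (g ^ (-k)), ← zpow_add,
        ← Perm.mul_apply (w : Perm α), (hwg.zpow_right _).eq, Perm.mul_apply, ← hk,
        ← Perm.mul_apply, ← zpow_add]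
      congr 2
      ring
  exact Perm.alternatingGroup_le_of_isPreprimitive_of_isThreeCycle_mem hG hστ
    (key ▸ G.mul_mem w.2 (G.inv_mem (G.zpow_mem hg k)))

end Cfsg.Agent.PermGroups
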