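import Cfsg.Agent.PermGroups.SolvableShift

/-!
# Pairs of prime-power elements in alternating groups

Two nontrivial `p`-elements of an alternating group have conjugates with product not a `p`-element
and generating an insoluble subgroup.
-/

set_option autoImplicit false
set_option linter.style.haveILetI false
set_option maxHeartbeats 1000000

namespace Cfsg.Agent.PermGroups.PElementPairs

open Equiv Cfsg.Agent.PermGroups.SolvableShift

/-- Product not a `p`-element, generating an insoluble subgroup. -/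
def Good {G : Type*} [Group G] (p : ℕ) (a b : G) : Prop :=
  (¬ ∃ k : ℕ, orderOf (a * b) = p ^ k) ∧
    ¬ Group.IsSolvable ↥(Subgroup.closure ({a, b} : Set G))

theorem good_of_hom {G H : Type*} [Group G] [Group H] {p : ℕ} (hp : p.Prime) (f : G →* H)
    {a b : G} (h : Good p (f a) (f b)) : Good p a b := by
  refine ⟨fun ⟨k, hk⟩ => h.1 ?_, fun hs => h.2 ?_⟩
  · have hd := orderOf_map_dvd f (a * b)
    rw [map_mul, hk] at hd
    obtain ⟨i, -, hi⟩ := (Nat.dvd_prime_pow hp).1 hd
    exact ⟨i, hi⟩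
  · haveI := hs
    have he : (Subgroup.closure ({a, b} : Set G)).map f =
        Subgroup.closure ({f a, f b} : Set H) := by
      rw [MonoidHom.map_closure, Set.image_pair]
    rw [← he]
    exact Group.isSolvable_of_surjective (f.subgroupMap_surjective _)

theorem good_map {G H : Type*} [Group G] [Group H] {p : ℕ} (f : G →* H)
    (hf : Function.Injective f) {a b : G} (h : Good p a b) : Good p (f a) (f b) := by
  refine ⟨fun ⟨k, hk⟩ => h.1 ⟨k, ?_⟩, fun hs => h.2 ?_⟩
  · rwa [← map_mul, orderOf_injective f hf] at hk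
  · haveI := hs
    have he : (Subgroup.closure ({a, b} : Set G)).map f =
        Subgroup.closure ({f a, f b} : Set H) := by
      rw [MonoidHom.map_closure, Set.image_pair]
    rw [← he] at hs
    exact Group.isSolvable_of_surjective
      (f := ((Subgroup.closure ({a, b} : Set G)).equivMapOfInjective f hf).symm.toMonoidHom)
      (MulEquiv.surjective _)

theorem good_symm {G : Type*} [Group G] {p : ℕ} {a b : G} (h : Good p a b) : Good p b a := by
  refine ⟨fun ⟨k, hk⟩ => h.1 ⟨k, ?_⟩, ?_⟩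
  · rwa [show b * a = MulAut.conj b (a * b) by rw [MulAut.conj_apply]; group,
      MulEquiv.orderOf_eq] at hk
  · rw [Set.pair_comm]; exact h.2

/-- A `(2, 3, 5)` pair generates an insoluble group. -/
theorem not_solvable_of_two_three_five {G : Type*} [Group G] (K : Subgroup G) {a b : G}
    (ha : a ∈ K) (hb : b ∈ K) (ha2 : a ^ 2 = 1) (ha1 : a ≠ 1) (hb3 : b ^ 3 = 1)
    (hab : (a * b) ^ 5 = 1) : ¬ Group.IsSolvable ↥K := by
  intro hK
  haveI := hK
  have hle : Subgroup.closure ({a, b} : Set G) ≤ K := by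
    rw [Subgroup.closure_le]
    rintro x (rfl | rfl)
    exacts [ha, hb]
  haveI : Group.IsSolvable ↥(Subgroup.closure ({a, b} : Set G)) :=
    solvable_of_solvable_injective (Subgroup.inclusion_injective hle)
  set C := Subgroup.closure ({a, b} : Set G) with hC
  let a' : ↥C := ⟨a, Subgroup.subset_closure (by simp)⟩
  let b' : ↥C := ⟨b, Subgroup.subset_closure (by simp)⟩
  haveI : Nontrivial ↥C := ⟨⟨a', 1, fun h => ha1 (congrArg Subtype.val h)⟩⟩
  have hA : (Abelianization.of a') ^ 2 = 1 := by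
    rw [← map_pow, show a' ^ 2 = 1 from Subtype.ext ha2, map_one]
  have hB : (Abelianization.of b') ^ 3 = 1 := by
    rw [← map_pow, show b' ^ 3 = 1 from Subtype.ext hb3, map_one]
  have hAB : (Abelianization.of a' * Abelianization.of b') ^ 5 = 1 := by
    rw [← map_mul, ← map_pow, show (a' * b') ^ 5 = 1 from Subtype.ext hab, map_one]
  generalize hx : Abelianization.of a' = x at hA hAB
  generalize hy : Abelianization.of b' = y at hB hAB
  rw [mul_pow] at hAB
  have h1 : x ^ 5 = x := by rw [show (5 : ℕ) = 2 * 2 + 1 by rfl, pow_succ, pow_mul, hA, one_pow, one_mul]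
  have h2 : y ^ 5 = y ^ 2 := by rw [show (5 : ℕ) = 3 + 2 by rfl, pow_add, hB, one_mul]
  rw [h1, h2] at hAB
  have hxe : x = y := by
    calc x = x * (y ^ 2 * y) := by rw [← pow_succ, hB, mul_one]
      _ = x * y ^ 2 * y := by rw [mul_assoc]
      _ = y := by rw [hAB, one_mul]
  have hy1 : y = 1 := by
    calc y = y ^ 3 * (y ^ 2)⁻¹ := by group
      _ = 1 := by rw [hB, ← hxe, hA]; simp
  have hker : ⁅(⊤ : Subgroup ↥C), (⊤ : Subgroup ↥C)⁆ = ⊤ := by
    rw [← commutator_def, ← Abelianization.ker_of, eq_top_iff]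
    rintro ⟨g, hg⟩ -
    induction hg using Subgroup.closure_induction with
    | mem u hu =>
      rcases hu with rfl | rfl
      · rw [MonoidHom.mem_ker]
        show Abelianization.of a' = 1
        rw [hx, hxe, hy1]
      · rw [MonoidHom.mem_ker]
        show Abelianization.of b' = 1
        rw [hy, hy1]
    | one => exact one_mem _
    | mul u v hu hv ihu ihv => exact Subgroup.mul_mem (Abelianization.of (G := ↥C)).ker ihu ihv
    | inv u hu ih => exact Subgroup.inv_mem (Abelianization.of (G := ↥C)).ker ih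
  exact (Group.IsSolvable.commutator_lt_top_of_nontrivial ↥C).ne (by rw [commutator_def]; exact hker)

/-- An even permutation with prescribed values at few points. -/
theorem exists_even_map {α : Type*} [Fintype α] [DecidableEq α] {k : ℕ} (x y : Fin k → α)
    (hx : Function.Injective x) (hy : Function.Injective y) (hk : k + 2 ≤ Fintype.card α) :
    ∃ σ : Perm α, Perm.sign σ = 1 ∧ ∀ i, σ (x i) = y i := by
  haveI := alternatingGroup.isMultiplyPretransitive α
  haveI : MulAction.IsMultiplyPretransitive ↥(alternatingGroup α) α k :=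
    MulAction.isMultiplyPretransitive_of_le (n := Nat.card α - 2)
      (by rw [Nat.card_eq_fintype_card]; omega) (Nat.sub_le _ _)
  obtain ⟨g, hg⟩ := MulAction.IsPretransitive.exists_smul_eq (M := ↥(alternatingGroup α))
    (⟨x, hx⟩ : Fin k ↪ α) ⟨y, hy⟩
  exact ⟨g.1, Perm.mem_alternatingGroup.1 g.2, fun i => DFunLike.congr_fun hg i⟩

theorem cast_ne {n : ℕ} {a b : ℕ} (ha : a < n) (hb : b < n) (h : a ≠ b) :
    (a : ZMod n) ≠ (b : ZMod n) := fun e => h (by
  rw [← ZMod.val_natCast_of_lt ha, ← ZMod.val_natCast_of_lt hb, e])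

theorem cast_inj {n k : ℕ} (v : Fin k → ℕ) (hlt : ∀ i, v i < n) (hv : Function.Injective v) :
    Function.Injective fun i => (v i : ZMod n) := fun i j h => hv (by
  by_contra hne; exact cast_ne (hlt i) (hlt j) hne h)

theorem pow_not_two_cycle {α : Type*} {p k : ℕ} (hp : p.Prime) (hp3 : 3 ≤ p) (c : Perm α)
    (hk : orderOf c = p ^ k) {x : α} (h1 : c x ≠ x) (h2 : c (c x) = x) : False := by
  have hodd : Odd (p ^ k) := (hp.odd_of_ne_two (by omega)).pow
  obtain ⟨t, ht⟩ := hodd
  have hev : ∀ t : ℕ, (c ^ (2 * t)) x = x := by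
    intro t
    induction t with
    | zero => simp
    | succ t ih =>
      rw [show 2 * (t + 1) = 1 + (1 + 2 * t) by ring, pow_add, pow_add, pow_one, Perm.mul_apply,
        Perm.mul_apply, ih, h2]
  have := DFunLike.congr_fun (pow_orderOf_eq_one c) x
  rw [hk, ht, show 2 * t + 1 = 1 + 2 * t by ring, pow_add, pow_one, Perm.mul_apply, hev] at this
  exact h1 this

/-- The case where one element is a full cycle of composite length. -/
theorem core_composite {p b : ℕ} [hp : Fact p.Prime] (hp3 : 3 ≤ p) (hb : 2 ≤ b) [NeZero (p ^ b)]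
    (u : Perm (ZMod (p ^ b))) (hu : u ≠ 1) (hu' : ∃ k, orderOf u = p ^ k) :
    ∃ σ : Perm (ZMod (p ^ b)), Perm.sign σ = 1 ∧ Good p (σ * u * σ⁻¹) (shift (p ^ b)) := by
  classical
  have hpp : p * p ≤ (p ^ b) := by
    rw [← pow_two]; exact Nat.pow_le_pow_right (by omega) hb
  have h3p : 3 * p ≤ (p ^ b) := le_trans (Nat.mul_le_mul_right p hp3) hpp
  have hcard : Fintype.card (ZMod (p ^ b)) = (p ^ b) := ZMod.card (p ^ b)
  -- congruence modulo `p`
  have hb1 : 1 ≤ b := by omega
  have hred : ∀ a c : ℕ, a < p → c < p → a ≠ c →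
      red p hb1 ((a : ℕ) : ZMod (p ^ b)) ≠ red p hb1 ((c : ℕ) : ZMod (p ^ b)) := by
    intro a c ha hc hac h
    rw [map_natCast, map_natCast] at h
    exact cast_ne (by rwa [pow_one]) (by rwa [pow_one]) hac h
  have hredp : ∀ a : ℕ, red p hb1 ((a + p : ℕ) : ZMod (p ^ b)) = red p hb1 ((a : ℕ) : ZMod (p ^ b)) := by
    intro a
    rw [map_natCast, map_natCast, Nat.cast_add]
    have : ((p : ℕ) : ZMod (p ^ 1)) = 0 := by
      rw [ZMod.natCast_eq_zero_iff, pow_one]
    rw [this, add_zero]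
  have finish : ∀ σ : Perm (ZMod (p ^ b)), Perm.sign σ = 1 → ∀ a : Perm (ZMod (p ^ b)), a = σ * u * σ⁻¹ →
      (∃ i, (a * shift (p ^ b)) i ≠ i ∧ (a * shift (p ^ b)) ((a * shift (p ^ b)) i) = i) →
      (∃ x y, red p hb1 x = red p hb1 y ∧ red p hb1 (a x) ≠ red p hb1 (a y)) →
      ∃ σ : Perm (ZMod (p ^ b)), Perm.sign σ = 1 ∧ Good p (σ * u * σ⁻¹) (shift (p ^ b)) := by
    rintro σ hσ a rfl ⟨i, h1, h2⟩ ⟨x, y, h3, h4⟩
    refine ⟨σ, hσ, fun ⟨k, hk⟩ => pow_not_two_cycle hp.out hp3 _ hk h1 h2, fun hs => h4 ?_⟩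
    exact preserves_mod hp3 hb1 _ hs (Subgroup.subset_closure (by simp))
      (Subgroup.subset_closure (by simp)) h3
  obtain ⟨k, hk⟩ := hu'
  obtain ⟨x, hx⟩ : ∃ x, u x ≠ x := by
    by_contra h; push Not at h; exact hu (Equiv.ext h)
  have h2x : u (u x) ≠ x := fun h => pow_not_two_cycle hp.out hp3 u hk hx h
  have n1 : u (u x) ≠ u x := fun h => hx (u.injective h)
  -- two disjoint paths
  by_cases hpaths : ∃ y : ZMod (p ^ b), ([x, u x, u (u x), y, u y, u (u y)] : List (ZMod (p ^ b))).Nodup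
  · obtain ⟨y, hy⟩ := hpaths
    let X : Fin 6 → ZMod (p ^ b) := ([x, u x, u (u x), y, u y, u (u y)] : List (ZMod (p ^ b))).get
    let V : Fin 6 → ℕ := ![1, 2, 4, p + 2, 3, 0]
    have hV : Function.Injective V := by
      intro i j h
      fin_cases i <;> fin_cases j <;> simp [V] at h ⊢ <;> omega
    have hVlt : ∀ i, V i < (p ^ b) := by
      intro i; fin_cases i <;> simp [V] <;> omega
    obtain ⟨σ, hσ, hmap⟩ := exists_even_map X (fun i => (V i : ZMod (p ^ b)))
      (List.nodup_iff_injective_get.1 hy) (cast_inj V hVlt hV) (by rw [hcard]; omega)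
    have e0 : σ x = 1 := by simpa [X, V] using hmap 0
    have e1 : σ (u x) = 2 := by simpa [X, V] using hmap 1
    have e2 : σ (u (u x)) = 4 := by simpa [X, V] using hmap 2
    have e3 : σ y = ((p + 2 : ℕ) : ZMod (p ^ b)) := by simpa [X, V] using hmap 3
    have e4 : σ (u y) = 3 := by simpa [X, V] using hmap 4
    have e5 : σ (u (u y)) = 0 := by simpa [X, V] using hmap 5
    set a := σ * u * σ⁻¹ with ha
    have hconj : ∀ w, a (σ w) = σ (u w) := fun w => by simp [ha]
    have a1 : a 1 = 2 := by rw [← e0, hconj, e1]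
    have a2 : a 2 = 4 := by rw [← e1, hconj, e2]
    have a3 : a 3 = 0 := by rw [← e4, hconj, e5]
    have a4 : a ((p + 2 : ℕ) : ZMod (p ^ b)) = 3 := by rw [← e3, hconj, e4]
    refine finish σ hσ a ha ⟨0, ?_, ?_⟩ ⟨((p + 2 : ℕ) : ZMod (p ^ b)), 2, ?_, ?_⟩
    · rw [Perm.mul_apply, shift_apply, zero_add, a1]
      exact_mod_cast cast_ne (n := p ^ b) (a := 2) (b := 0) (by omega) (by omega) (by omega)
    · have hc0 : (a * shift (p ^ b)) 0 = 2 := by rw [Perm.mul_apply, shift_apply, zero_add, a1]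
      rw [hc0, Perm.mul_apply, shift_apply, show (2 : ZMod (p ^ b)) + 1 = 3 by norm_num, a3]
    · rw [show (2 : ZMod (p ^ b)) = ((2 : ℕ) : ZMod (p ^ b)) by norm_num, add_comm p 2]
      exact hredp 2
    · rw [a4, a2]
      rcases Nat.lt_or_ge 4 p with h | h
      · exact_mod_cast hred 3 4 (by omega) h (by omega)
      · have hp' : p = 3 := by
          interval_cases p
          · rfl
          · exact absurd hp.out (by decide)
        have e : red p hb1 ((4 : ℕ) : ZMod (p ^ b)) = red p hb1 ((1 : ℕ) : ZMod (p ^ b)) := by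
          have := hredp 1; subst hp'; simpa using this
        have e' : red p hb1 ((3 : ℕ) : ZMod (p ^ b)) = red p hb1 ((0 : ℕ) : ZMod (p ^ b)) := by
          have := hredp 0; subst hp'; simpa using this
        intro hh
        apply hred 0 1 (by omega) (by omega) (by omega)
        rw [← e, ← e']
        exact_mod_cast hh
  · -- a fixed point
    push Not at hpaths
    obtain ⟨f, hf⟩ : ∃ f, u f = f := by
      by_contra hno
      push Not at hno
      have hfree : ∀ y, u (u y) ≠ y := fun y h => pow_not_two_cycle hp.out hp3 u hk (hno y) h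
      let S : Finset (ZMod (p ^ b)) := {x, u x, u (u x), u⁻¹ x, u⁻¹ (u⁻¹ x)}
      obtain ⟨y, -, hy⟩ := Finset.exists_mem_notMem_of_card_lt_card (s := S) (t := Finset.univ) (by
        rw [Finset.card_univ, hcard]
        exact lt_of_le_of_lt Finset.card_le_five (by omega))
      simp only [S, Finset.mem_insert, Finset.mem_singleton, not_or] at hy
      obtain ⟨q1, q2, q3, q4, q5⟩ := hy
      apply hpaths y
      have i1 : u y ≠ x := fun h => q4 (by rw [← h]; simp)
      have i2 : u (u y) ≠ x := fun h => q5 (by rw [← h]; simp)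
      simp [Ne.symm hx, Ne.symm h2x, Ne.symm n1, Ne.symm q1, Ne.symm q2, Ne.symm q3,
        Ne.symm i1, Ne.symm i2, (hno y).symm, (hfree y).symm, u.injective.eq_iff]
    have fne : f ≠ x ∧ f ≠ u x ∧ f ≠ u (u x) := by
      refine ⟨fun h => hx (h ▸ hf), fun h => ?_, fun h => ?_⟩
      · subst h; exact n1 hf
      · subst h; exact hx (u.injective (u.injective hf))
    have hn1 : (((p ^ b) - 1 : ℕ) : ZMod (p ^ b)) + 1 = 0 := by
      rw [Nat.cast_sub (by omega : 1 ≤ p ^ b), ZMod.natCast_self]; simp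
    have body : ∀ σ : Perm (ZMod (p ^ b)), Perm.sign σ = 1 → σ x = 1 →
        σ (u x) = (((p ^ b) - 1 : ℕ) : ZMod (p ^ b)) → σ (u (u x)) = (p : ZMod (p ^ b)) → σ f = 0 →
        (σ (u (u (u x))) = 1 ∨ σ (u (u (u x))) = 2) →
        ∃ σ : Perm (ZMod (p ^ b)), Perm.sign σ = 1 ∧ Good p (σ * u * σ⁻¹) (shift (p ^ b)) := by
      intro σ hσ e0 e1 e2 ef e3
      set a := σ * u * σ⁻¹ with ha
      have hconj : ∀ w, a (σ w) = σ (u w) := fun w => by simp [ha]
      have a1 : a 1 = (((p ^ b) - 1 : ℕ) : ZMod (p ^ b)) := by rw [← e0, hconj, e1]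
      have a0 : a 0 = 0 := by rw [← ef, hconj, hf]
      have ap : a (p : ZMod (p ^ b)) = 1 ∨ a (p : ZMod (p ^ b)) = 2 := by rw [← e2, hconj]; exact e3
      refine finish σ hσ a ha ⟨0, ?_, ?_⟩ ⟨(p : ZMod (p ^ b)), 0, ?_, ?_⟩
      · rw [Perm.mul_apply, shift_apply, zero_add, a1]
        exact_mod_cast cast_ne (n := p ^ b) (a := (p ^ b) - 1) (b := 0) (by omega) (by omega) (by omega)
      · have hc0 : (a * shift (p ^ b)) 0 = ((p ^ b - 1 : ℕ) : ZMod (p ^ b)) := by
          rw [Perm.mul_apply, shift_apply, zero_add, a1]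
        rw [hc0, Perm.mul_apply, shift_apply, hn1, a0]
      · simpa using hredp 0
      · rw [a0]
        rcases ap with h | h <;> rw [h]
        · exact_mod_cast hred 1 0 (by omega) (by omega) (by omega)
        · exact_mod_cast hred 2 0 (by omega) (by omega) (by omega)
    by_cases h3 : u (u (u x)) = x
    · let X : Fin 4 → ZMod (p ^ b) := ([x, u x, u (u x), f] : List (ZMod (p ^ b))).get
      let V : Fin 4 → ℕ := ![1, (p ^ b) - 1, p, 0]
      have hV : Function.Injective V := by
        intro i j h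
        fin_cases i <;> fin_cases j <;> simp [V] at h ⊢ <;> omega
      have hVlt : ∀ i, V i < (p ^ b) := by
        intro i; fin_cases i <;> simp [V] <;> omega
      obtain ⟨σ, hσ, hmap⟩ := exists_even_map X (fun i => (V i : ZMod (p ^ b)))
        (List.nodup_iff_injective_get.1 (by
          simp [Ne.symm hx, Ne.symm h2x, Ne.symm n1, fne.1.symm, fne.2.1.symm, fne.2.2.symm]))
        (cast_inj V hVlt hV) (by rw [hcard]; omega)
      exact body σ hσ (by simpa [X, V] using hmap 0) (by simpa [X, V] using hmap 1)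
        (by simpa [X, V] using hmap 2) (by simpa [X, V] using hmap 3)
        (Or.inl (by rw [h3]; simpa [X, V] using hmap 0))
    · let X : Fin 5 → ZMod (p ^ b) := ([x, u x, u (u x), f, u (u (u x))] : List (ZMod (p ^ b))).get
      let V : Fin 5 → ℕ := ![1, (p ^ b) - 1, p, 0, 2]
      have hV : Function.Injective V := by
        intro i j h
        fin_cases i <;> fin_cases j <;> simp [V] at h ⊢ <;> omega
      have hVlt : ∀ i, V i < (p ^ b) := by
        intro i; fin_cases i <;> simp [V] <;> omega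
      have f3 : f ≠ u (u (u x)) := fun h => fne.2.2 (u.injective (hf.trans h))
      obtain ⟨σ, hσ, hmap⟩ := exists_even_map X (fun i => (V i : ZMod (p ^ b)))
        (List.nodup_iff_injective_get.1 (by
          simp [Ne.symm hx, Ne.symm h2x, Ne.symm n1, fne.1.symm, fne.2.1.symm, fne.2.2.symm,
            Ne.symm h3, f3, u.injective.eq_iff]))
        (cast_inj V hVlt hV) (by rw [hcard]; omega)
      exact body σ hσ (by simpa [X, V] using hmap 0) (by simpa [X, V] using hmap 1)
        (by simpa [X, V] using hmap 2) (by simpa [X, V] using hmap 3)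
        (Or.inr (by simpa [X, V] using hmap 4))

/-- The case where one element is a full cycle of prime length. -/
theorem core_prime {p : ℕ} [hp : Fact p.Prime] (hp5 : 5 ≤ p) (u : Perm (ZMod p)) (hu : u ≠ 1)
    (hu' : ∃ k, orderOf u = p ^ k) :
    ∃ σ : Perm (ZMod p), Perm.sign σ = 1 ∧ Good p (σ * u * σ⁻¹) (shift p) := by
  classical
  obtain ⟨k, hk⟩ := hu'
  obtain ⟨x, hx⟩ : ∃ x, u x ≠ x := by
    by_contra h; push Not at h; exact hu (Equiv.ext h)
  have h2x : u (u x) ≠ x := fun h => pow_not_two_cycle hp.out (by omega) u hk hx h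
  have n1 : u (u x) ≠ u x := fun h => hx (u.injective h)
  let X : Fin 3 → ZMod p := ([x, u x, u (u x)] : List (ZMod p)).get
  let V : Fin 3 → ℕ := ![1, 0, 2]
  obtain ⟨σ, hσ, hmap⟩ := exists_even_map X (fun i => (V i : ZMod p))
    (List.nodup_iff_injective_get.1 (by simp [Ne.symm hx, Ne.symm h2x, Ne.symm n1]))
    (cast_inj V (fun i => by fin_cases i <;> simp [V] <;> omega)
      (fun i j h => by fin_cases i <;> fin_cases j <;> simp [V] at h ⊢))
    (by rw [ZMod.card]; omega)
  set a := σ * u * σ⁻¹ with ha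
  have hconj : ∀ w, a (σ w) = σ (u w) := fun w => by simp [ha]
  have e0 : σ x = 1 := by simpa [X, V] using hmap 0
  have e1 : σ (u x) = 0 := by simpa [X, V] using hmap 1
  have e2 : σ (u (u x)) = 2 := by simpa [X, V] using hmap 2
  have a1 : a 1 = 0 := by rw [← e0, hconj, e1]
  have a0 : a 0 = 2 := by rw [← e1, hconj, e2]
  set c := a * shift p with hc
  have c0 : c 0 = 0 := by rw [hc, Perm.mul_apply, shift_apply, zero_add, a1]
  have hn1 : ((p - 1 : ℕ) : ZMod p) + 1 = 0 := by
    rw [Nat.cast_sub (by omega : 1 ≤ p), ZMod.natCast_self]; simp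
  have c1 : c ≠ 1 := by
    intro h
    have := DFunLike.congr_fun h ((p - 1 : ℕ) : ZMod p)
    rw [hc, Perm.mul_apply, shift_apply, hn1, a0, Perm.one_apply] at this
    exact cast_ne (n := p) (a := 2) (b := p - 1) (by omega) (by omega) (by omega)
      (by exact_mod_cast this)
  refine ⟨σ, hσ, ?_, fun hs => c1 ?_⟩
  · rintro ⟨e, he⟩
    have hmod := Equiv.Perm.card_fixedPoints_modEq (α := ZMod p) (f := (⇑c : Function.End (ZMod p)))
      (p := p) (n := e) (by
        have h := pow_orderOf_eq_one c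
        rw [he] at h
        have := congrArg (fun g : Perm (ZMod p) => (⇑g : Function.End (ZMod p))) h
        simp only [Equiv.Perm.coe_pow] at this
        exact this)
    rw [ZMod.card] at hmod
    have hlt : Fintype.card ↑(Function.fixedPoints (⇑c)) < p := by
      obtain ⟨w, hw⟩ : ∃ w, c w ≠ w := by
        by_contra h; push Not at h; exact c1 (Equiv.ext h)
      have := Fintype.card_subtype_lt (p := fun y => y ∈ Function.fixedPoints (⇑c)) (x := w) hw
      rwa [ZMod.card] at this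
    have hpos : 0 < Fintype.card ↑(Function.fixedPoints (⇑c)) :=
      Fintype.card_pos_iff.2 ⟨⟨0, c0⟩⟩
    have hd : p ∣ Fintype.card ↑(Function.fixedPoints (⇑c)) :=
      Nat.dvd_of_mod_eq_zero (by
        have h1 : p % p = Fintype.card ↑(Function.fixedPoints (⇑c)) % p := hmod
        rw [Nat.mod_self] at h1
        exact h1.symm)
    exact absurd (Nat.le_of_dvd hpos hd) (not_le.2 hlt)
  · refine (commute_shift _ hs (Subgroup.subset_closure (by simp)) (a := a)
      (Subgroup.subset_closure (Or.inl ha)) ⟨k, ?_⟩).2 c0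
    rw [ha, show σ * u * σ⁻¹ = MulAut.conj σ u from rfl, MulEquiv.orderOf_eq, hk]

theorem core {p b : ℕ} [hp : Fact p.Prime] (hp3 : 3 ≤ p) (h5 : 5 ≤ p ^ b)
    (u : Perm (ZMod (p ^ b))) (hu : u ≠ 1) (hu' : ∃ k, orderOf u = p ^ k) [NeZero (p ^ b)] :
    ∃ σ : Perm (ZMod (p ^ b)), Perm.sign σ = 1 ∧ Good p (σ * u * σ⁻¹) (shift (p ^ b)) := by
  rcases Nat.lt_or_ge b 2 with h | h
  · obtain rfl : b = 1 := by
      rcases b with _ | _ | b
      · simp at h5
      · rfl
      · omega
    revert u hu hu'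
    have key : ∀ q, q = p → ∀ [NeZero q] (u : Perm (ZMod q)), u ≠ 1 →
        (∃ k, orderOf u = p ^ k) →
        ∃ σ : Perm (ZMod q), Perm.sign σ = 1 ∧ Good p (σ * u * σ⁻¹) (shift q) := by
      intro q hq
      subst hq
      intro _ u hu hu'
      exact core_prime (by simpa using h5) u hu hu'
    exact key (p ^ 1) (pow_one p)
  · exact core_composite hp3 h u hu hu'

theorem core' {p b : ℕ} [hp : Fact p.Prime] (hp3 : 3 ≤ p) (h5 : 5 ≤ p ^ b)
    (u : Perm (ZMod (p ^ b))) (hu : u ≠ 1) (hu' : ∃ k, orderOf u = p ^ k) [NeZero (p ^ b)] :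
    ∃ g : Perm (ZMod (p ^ b)), Perm.sign g = 1 ∧ Good p u (g * shift (p ^ b) * g⁻¹) := by
  obtain ⟨σ, hσ, h⟩ := core hp3 h5 u hu hu'
  refine ⟨σ⁻¹, by rw [map_inv, hσ, inv_one], ?_⟩
  have := good_map (MulAut.conj σ⁻¹).toMonoidHom (MulEquiv.injective _) h
  simpa [mul_assoc] using this

/-! ### Small degrees -/

theorem not_pow_three {G : Type*} [Group G] {x : G} {q : ℕ} (hq : x ^ q = 1) (h1 : x ≠ 1)
    (hc : Nat.Coprime q 3) : ¬ ∃ k : ℕ, orderOf x = 3 ^ k := by
  rintro ⟨k, hk⟩
  apply h1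
  rw [← orderOf_eq_one_iff]
  exact Nat.eq_one_of_dvd_coprimes (hc.pow_right k) (orderOf_dvd_of_pow_eq_one hq) (dvd_of_eq hk)

theorem good_word {G : Type*} [Group G] {u v a : G} {q : ℕ}
    (hmem : a ∈ Subgroup.closure ({u, v} : Set G)) (ha : a ^ 2 = 1 ∧ a ≠ 1 ∧ u ^ 3 = 1 ∧
      (a * u) ^ 5 = 1) (hq : (u * v) ^ q = 1 ∧ u * v ≠ 1) (hc : Nat.Coprime q 3) :
    Good 3 u v :=
  ⟨not_pow_three hq.1 hq.2 hc, not_solvable_of_two_three_five _ hmem
    (Subgroup.subset_closure (by simp)) ha.1 ha.2.1 ha.2.2.1 ha.2.2.2⟩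

/-- Transporting `Good` between conjugates by even permutations. -/
theorem good_reps {m : ℕ} (R : List (Perm (Fin m))) (u w : Perm (Fin m))
    (hu : ∃ r ∈ R, ∃ g : Perm (Fin m), Perm.sign g = 1 ∧ g * u * g⁻¹ = r)
    (hw : ∃ r ∈ R, ∃ g : Perm (Fin m), Perm.sign g = 1 ∧ g * w * g⁻¹ = r)
    (hR : ∀ r ∈ R, ∀ s ∈ R, ∃ g : Perm (Fin m), Perm.sign g = 1 ∧ Good 3 r (g * s * g⁻¹)) :
    ∃ g : Perm (Fin m), Perm.sign g = 1 ∧ Good 3 u (g * w * g⁻¹) := by
  obtain ⟨r, hr, a, ha, rfl⟩ := hu
  obtain ⟨s, hs, b, hb, rfl⟩ := hw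
  obtain ⟨g, hg, hgood⟩ := hR _ hr _ hs
  refine ⟨a⁻¹ * g * b, by rw [map_mul, map_mul, map_inv, ha, hg, hb]; simp, ?_⟩
  have := good_map (MulAut.conj a⁻¹).toMonoidHom (MulEquiv.injective _) hgood
  simpa [mul_assoc] using this

/-- The three-cycle on five letters. -/
def s5 : Perm (Fin 5) := ⟨![1, 2, 0, 3, 4], ![2, 0, 1, 3, 4], by decide, by decide⟩
/-- A conjugator on five letters. -/
def g5 : Perm (Fin 5) := ⟨![0, 3, 4, 1, 2], ![0, 3, 4, 1, 2], by decide, by decide⟩
/-- The three-cycle on six letters. -/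
def s6 : Perm (Fin 6) := ⟨![1, 2, 0, 3, 4, 5], ![2, 0, 1, 3, 4, 5], by decide, by decide⟩
/-- The double three-cycle on six letters. -/
def c6 : Perm (Fin 6) := ⟨![1, 2, 0, 4, 5, 3], ![2, 0, 1, 5, 3, 4], by decide, by decide⟩
/-- A conjugator on six letters. -/
def g6 : Perm (Fin 6) := ⟨![0, 3, 4, 1, 2, 5], ![0, 3, 4, 1, 2, 5], by decide, by decide⟩
/-- A second conjugator on six letters. -/
def k6 : Perm (Fin 6) := ⟨![0, 1, 3, 2, 5, 4], ![0, 1, 3, 2, 5, 4], by decide, by decide⟩

theorem classes5 : ∀ u : Perm (Fin 5), u ^ 3 = 1 → u ≠ 1 →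
    ∃ r ∈ [s5], ∃ g : Perm (Fin 5), Perm.sign g = 1 ∧ g * u * g⁻¹ = r := by decide +kernel

theorem classes6 : ∀ u : Perm (Fin 6), u ^ 3 = 1 → u ≠ 1 →
    ∃ r ∈ [s6, c6], ∃ g : Perm (Fin 6), Perm.sign g = 1 ∧ g * u * g⁻¹ = r := by decide +kernel

theorem small5 (u w : Perm (Fin 5)) (hu : u ^ 3 = 1) (hu1 : u ≠ 1) (hw : w ^ 3 = 1)
    (hw1 : w ≠ 1) : ∃ g : Perm (Fin 5), Perm.sign g = 1 ∧ Good 3 u (g * w * g⁻¹) := by
  refine good_reps _ u w (classes5 u hu hu1) (classes5 w hw hw1) fun r hr s hs => ?_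
  simp only [List.mem_singleton] at hr hs
  subst hr hs
  refine ⟨g5, by decide +kernel, good_word (q := 5)
    (a := s5 * s5 * (g5 * s5 * g5⁻¹) * s5 * (g5 * s5 * g5⁻¹)) ?_ (by decide +kernel)
    (by decide +kernel) (by decide)⟩
  repeat' first
    | exact Subgroup.subset_closure (Set.mem_insert _ _)
    | exact Subgroup.subset_closure (Set.mem_insert_of_mem _ (Set.mem_singleton _))
    | apply Subgroup.mul_mem

theorem small6 (u w : Perm (Fin 6)) (hu : u ^ 3 = 1) (hu1 : u ≠ 1) (hw : w ^ 3 = 1)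
    (hw1 : w ≠ 1) : ∃ g : Perm (Fin 6), Perm.sign g = 1 ∧ Good 3 u (g * w * g⁻¹) := by
  refine good_reps _ u w (classes6 u hu hu1) (classes6 w hw hw1) fun r hr s hs => ?_
  simp only [List.mem_cons, List.not_mem_nil, or_false] at hr hs
  rcases hr with rfl | rfl <;> rcases hs with rfl | rfl
  · refine ⟨g6, by decide +kernel, good_word (q := 5)
      (a := s6 * s6 * (g6 * s6 * g6⁻¹) * s6 * (g6 * s6 * g6⁻¹)) ?_ (by decide +kernel)
      (by decide +kernel) (by decide)⟩
    repeat' first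
      | exact Subgroup.subset_closure (Set.mem_insert _ _)
      | exact Subgroup.subset_closure (Set.mem_insert_of_mem _ (Set.mem_singleton _))
      | apply Subgroup.mul_mem
  · refine ⟨k6, by decide +kernel, good_word (q := 4)
      (a := s6 * (k6 * c6 * k6⁻¹) * s6 * (k6 * c6 * k6⁻¹)) ?_ (by decide +kernel)
      (by decide +kernel) (by decide)⟩
    repeat' first
      | exact Subgroup.subset_closure (Set.mem_insert _ _)
      | exact Subgroup.subset_closure (Set.mem_insert_of_mem _ (Set.mem_singleton _))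
      | apply Subgroup.mul_mem
  · refine ⟨k6, by decide +kernel, good_word (q := 4)
      (a := (k6 * s6 * k6⁻¹) * c6 * (k6 * s6 * k6⁻¹) * c6) ?_ (by decide +kernel)
      (by decide +kernel) (by decide)⟩
    repeat' first
      | exact Subgroup.subset_closure (Set.mem_insert _ _)
      | exact Subgroup.subset_closure (Set.mem_insert_of_mem _ (Set.mem_singleton _))
      | apply Subgroup.mul_mem
  · refine ⟨k6, by decide +kernel, good_word (q := 5)
      (a := c6 * c6 * (k6 * c6 * k6⁻¹) * c6 * (k6 * c6 * k6⁻¹)) ?_ (by decide +kernel)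
      (by decide +kernel) (by decide)⟩
    repeat' first
      | exact Subgroup.subset_closure (Set.mem_insert _ _)
      | exact Subgroup.subset_closure (Set.mem_insert_of_mem _ (Set.mem_singleton _))
      | apply Subgroup.mul_mem

end Cfsg.Agent.PermGroups.PElementPairs
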