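import Cfsg.Agent.PermGroups.PElementPairs

/-!
# Reduction of pairs of prime-power elements to one orbit
-/

set_option autoImplicit false
set_option linter.style.haveILetI false
set_option maxHeartbeats 1000000

namespace Cfsg.Agent.PermGroups.PElementPairs

open Equiv Cfsg.Agent.PermGroups.SolvableShift

variable {α : Type*} [Fintype α] [DecidableEq α]

omit [DecidableEq α] in
theorem period_pos (u : Perm α) (x : α) : 0 < Function.minimalPeriod u x :=
  Function.IsPeriodicPt.minimalPeriod_pos (orderOf_pos u) (by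
    show (⇑u)^[orderOf u] x = x
    rw [← Perm.coe_pow, pow_orderOf_eq_one]; rfl)

omit [Fintype α] [DecidableEq α] in
theorem period_dvd (u : Perm α) (x : α) : Function.minimalPeriod u x ∣ orderOf u :=
  Function.IsPeriodicPt.minimalPeriod_dvd (by
    show (⇑u)^[orderOf u] x = x
    rw [← Perm.coe_pow, pow_orderOf_eq_one]; rfl)

omit [Fintype α] [DecidableEq α] in
theorem period_eq_one {u : Perm α} {x : α} : Function.minimalPeriod u x = 1 ↔ u x = x :=
  Function.minimalPeriod_eq_one_iff_isFixedPt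

/-- The orbit of `x`. -/
noncomputable def orb (u : Perm α) (x : α) : Finset α :=
  (Finset.range (Function.minimalPeriod u x)).image fun i => (u ^ i) x

theorem card_orb (u : Perm α) (x : α) : (orb u x).card = Function.minimalPeriod u x := by
  rw [orb, Finset.card_image_of_injOn, Finset.card_range]
  intro i hi j hj h
  simp only [Perm.coe_pow] at h
  exact Function.iterate_injOn_Iio_minimalPeriod (Finset.mem_range.1 hi) (Finset.mem_range.1 hj) h

theorem pow_mem_orb (u : Perm α) (x : α) (i : ℕ) : (u ^ i) x ∈ orb u x := by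
  refine Finset.mem_image.2 ⟨i % Function.minimalPeriod u x,
    Finset.mem_range.2 (Nat.mod_lt _ (period_pos u x)), ?_⟩
  simp only [Perm.coe_pow, Function.iterate_mod_minimalPeriod_eq]

theorem self_mem_orb (u : Perm α) (x : α) : x ∈ orb u x := by
  simpa using pow_mem_orb u x 0

theorem orb_inv (u : Perm α) (x : α) : ∀ y, u y ∈ orb u x ↔ y ∈ orb u x := by
  have h1 : ∀ y, y ∈ orb u x → u y ∈ orb u x := by
    intro y hy
    obtain ⟨i, -, rfl⟩ := Finset.mem_image.1 hy
    rw [← Perm.mul_apply, ← pow_succ']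
    exact pow_mem_orb u x _
  intro y
  refine ⟨fun hy => ?_, h1 y⟩
  obtain ⟨i, -, hi⟩ := Finset.mem_image.1 hy
  obtain ⟨m, hm⟩ : ∃ m, Function.minimalPeriod u x = m + 1 :=
    ⟨_, (Nat.succ_pred_eq_of_pos (period_pos u x)).symm⟩
  have h2 : (u ^ (i + m)) x = y := by
    apply u.injective
    rw [← Perm.mul_apply, ← pow_succ', add_assoc, ← hm, pow_add, Perm.mul_apply, Perm.coe_pow u
      (Function.minimalPeriod u x), Function.iterate_minimalPeriod, hi]
  rw [← h2]
  exact pow_mem_orb u x _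

/-- An invariant set of prescribed size. -/
theorem exists_invariant {p : ℕ} (hp : p.Prime) {u : Perm α} (hu : ∃ k, orderOf u = p ^ k) :
    ∀ c : ℕ, ∀ X : Finset α, X.card = c → (∀ y, u y ∈ X ↔ y ∈ X) → ∀ l ≤ c,
      (∀ x ∈ X, Function.minimalPeriod u x ∣ l) →
      ∃ T ⊆ X, (∀ y, u y ∈ T ↔ y ∈ T) ∧ T.card = l ∧
        (0 < l → ∀ x ∈ X, u x ≠ x → ∃ y ∈ T, u y ≠ y) := by
  obtain ⟨k, hk⟩ := hu
  intro c
  induction c using Nat.strong_induction_on with
  | _ c ih =>
    intro X hX hinv l hl hdiv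
    rcases Nat.eq_zero_or_pos l with rfl | hl0
    · exact ⟨∅, Finset.empty_subset _, fun y => by simp, rfl, fun h => absurd h (lt_irrefl 0)⟩
    obtain ⟨x, hx, hmax⟩ := Finset.exists_max_image X (fun x => Function.minimalPeriod u x)
      (Finset.card_pos.1 (by omega))
    have hsub : orb u x ⊆ X := by
      intro y hy
      obtain ⟨i, -, rfl⟩ := Finset.mem_image.1 hy
      clear hy
      induction i with
      | zero => simpa using hx
      | succ i ih' => rw [pow_succ', Perm.mul_apply]; exact (hinv _).2 ih'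
    have hcard := card_orb u x
    have hle : Function.minimalPeriod u x ≤ l := Nat.le_of_dvd hl0 (hdiv x hx)
    have hpos := period_pos u x
    have hcl : c - Function.minimalPeriod u x < c := by omega
    obtain ⟨T, hT, hTinv, hTc, -⟩ := ih (c - Function.minimalPeriod u x) hcl (X \ orb u x)
      (by rw [Finset.card_sdiff_of_subset hsub, hX, hcard])
      (fun y => by simp only [Finset.mem_sdiff, hinv, orb_inv])
      (l - Function.minimalPeriod u x) (by omega) (fun y hy => by
        have hyX := (Finset.mem_sdiff.1 hy).1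
        refine Nat.dvd_sub (hdiv y hyX) ?_
        obtain ⟨i, -, hi⟩ := (Nat.dvd_prime_pow hp).1 (hk ▸ period_dvd u y)
        obtain ⟨j, -, hj⟩ := (Nat.dvd_prime_pow hp).1 (hk ▸ period_dvd u x)
        have h := hmax y hyX
        rw [hi, hj] at h ⊢
        exact pow_dvd_pow p ((Nat.pow_le_pow_iff_right hp.one_lt).1 h))
    refine ⟨orb u x ∪ T, Finset.union_subset hsub (hT.trans Finset.sdiff_subset),
      fun y => by simp only [Finset.mem_union, orb_inv, hTinv], ?_, fun _ z hz hzm => ?_⟩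
    · rw [Finset.card_union_of_disjoint (Finset.disjoint_left.2 fun y hy hy' =>
        (Finset.mem_sdiff.1 (hT hy')).2 hy), hcard, hTc]
      omega
    · refine ⟨x, Finset.mem_union_left _ (self_mem_orb u x), fun h => hzm ?_⟩
      rw [← period_eq_one] at h ⊢
      have := hmax z hz
      have := period_pos u z
      omega

/-- The setwise stabiliser. -/
def stab (S : Finset α) : Subgroup (Perm α) where
  carrier := {g | ∀ y, g y ∈ S ↔ y ∈ S}
  one_mem' := by intro y; simp
  mul_mem' := by intro a b ha hb y; rw [Perm.mul_apply, ha, hb]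
  inv_mem' := by
    intro a ha y
    have := ha (a⁻¹ y)
    rw [show a (a⁻¹ y) = y from a.apply_symm_apply y] at this
    exact this.symm

/-- Restriction to `S`. -/
def res (S : Finset α) : ↥(stab S) →* Perm {x // x ∈ S} where
  toFun g := (g : Perm α).subtypePerm g.2
  map_one' := by ext; simp
  map_mul' a b := by ext; rfl

/-- Transfer of a good pair on an invariant set. -/
theorem good_of_restrict {p : ℕ} (hp : p.Prime) {β : Type*} [Fintype β] [DecidableEq β]
    {S : Finset α} (e : {x // x ∈ S} ≃ β) {u w : Perm α} (hu : u ∈ stab S) (hw : w ∈ stab S)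
    (h : ∃ g : Perm β, Perm.sign g = 1 ∧ Good p (e.permCongr ((res S) ⟨u, hu⟩))
      (g * e.permCongr ((res S) ⟨w, hw⟩) * g⁻¹)) :
    ∃ g : Perm α, Perm.sign g = 1 ∧ Good p u (g * w * g⁻¹) := by
  obtain ⟨g, hg, hgood⟩ := h
  set G : Perm α := Perm.ofSubtype (e.symm.permCongr g) with hG
  have hGmem : G ∈ stab S := by
    intro y
    by_cases hy : y ∈ S
    · rw [hG, Perm.ofSubtype_apply_of_mem _ hy]
      simp [hy]
    · rw [hG, Perm.ofSubtype_apply_of_not_mem _ hy]
  have hres : res S ⟨G, hGmem⟩ = e.symm.permCongr g := by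
    ext x
    show G (x : α) = _
    rw [hG, Perm.ofSubtype_apply_coe]
  refine ⟨G, by rw [hG, Perm.sign_ofSubtype, Perm.sign_permCongr, hg], ?_⟩
  have h1 : Good p ((res S) ⟨u, hu⟩)
      ((res S) (⟨G, hGmem⟩ * ⟨w, hw⟩ * (⟨G, hGmem⟩ : ↥(stab S))⁻¹)) := by
    have := good_map e.symm.permCongrHom.toMonoidHom (MulEquiv.injective _) hgood
    rw [map_mul, map_mul, map_inv] at this
    rw [map_mul, map_mul, map_inv, hres]
    convert this using 2 <;> ext x <;> simp [Equiv.permCongrHom]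
  exact good_map (stab S).subtype Subtype.val_injective (good_of_hom hp (res S) h1)

/-- An even permutation moving one set onto another of equal size. -/
theorem exists_even_image {Sw Su : Finset α} (hc : Sw.card = Su.card) (h2 : 2 ≤ Su.card) :
    ∃ h : Perm α, Perm.sign h = 1 ∧ ∀ y, h y ∈ Su ↔ y ∈ Sw := by
  let e : {x // x ∈ Sw} ≃ {x // x ∈ Su} := Finset.equivOfCardEq hc
  set h := e.extendSubtype with hh
  have hh' : ∀ y, h y ∈ Su ↔ y ∈ Sw := fun y =>
    ⟨fun hy => by_contra fun hn => e.extendSubtype_not_mem y hn hy,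
      fun hy => e.extendSubtype_mem y hy⟩
  rcases Int.units_eq_one_or (Perm.sign h) with hs | hs
  · exact ⟨h, hs, hh'⟩
  obtain ⟨a, b, ha, hb, hab⟩ := Finset.one_lt_card_iff.1 (show 1 < Su.card by omega)
  refine ⟨Equiv.swap a b * h, by rw [map_mul, Perm.sign_swap hab, hs]; decide, fun y => ?_⟩
  rw [Perm.mul_apply, ← hh' y]
  rcases eq_or_ne (h y) a with e1 | e1
  · simp [e1, ha, hb]
  rcases eq_or_ne (h y) b with e2 | e2
  · simp [e2, ha, hb]
  rw [Equiv.swap_apply_of_ne_of_ne e1 e2]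

theorem orderOf_res {p : ℕ} (hp : p.Prime) {S : Finset α} {u : Perm α} (hu : u ∈ stab S)
    (h : ∃ k, orderOf u = p ^ k) {β : Type*} (e : {x // x ∈ S} ≃ β) :
    ∃ k, orderOf (e.permCongr ((res S) ⟨u, hu⟩)) = p ^ k := by
  obtain ⟨k, hk⟩ := h
  have hd : orderOf (e.permCongr ((res S) ⟨u, hu⟩)) ∣ p ^ k := by
    have h1 := orderOf_map_dvd (e.permCongrHom.toMonoidHom.comp (res S)) ⟨u, hu⟩
    rw [Subgroup.orderOf_mk, hk] at h1
    exact h1
  obtain ⟨i, -, hi⟩ := (Nat.dvd_prime_pow hp).1 hd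
  exact ⟨i, hi⟩

theorem res_ne_one {S : Finset α} {u : Perm α} (hu : u ∈ stab S) (hm : ∃ y ∈ S, u y ≠ y)
    {β : Type*} (e : {x // x ∈ S} ≃ β) : e.permCongr ((res S) ⟨u, hu⟩) ≠ 1 := by
  obtain ⟨y, hy, hne⟩ := hm
  intro h
  have h1 := DFunLike.congr_fun h (e ⟨y, hy⟩)
  rw [Equiv.permCongr_apply, Equiv.symm_apply_apply, Perm.one_apply] at h1
  exact hne (congrArg Subtype.val (e.injective h1))

/-- The case of a long orbit. -/
theorem good_long {p : ℕ} [hp : Fact p.Prime] (hp3 : 3 ≤ p) {u w : Perm α}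
    (hu : u ≠ 1) (hu' : ∃ k, orderOf u = p ^ k) (hw' : ∃ k, orderOf w = p ^ k) (x₀ : α)
    (h5 : 5 ≤ Function.minimalPeriod w x₀)
    (hmax : ∀ x, Function.minimalPeriod u x ∣ Function.minimalPeriod w x₀) :
    ∃ g : Perm α, Perm.sign g = 1 ∧ Good p u (g * w * g⁻¹) := by
  obtain ⟨k, hk⟩ := hw'
  obtain ⟨b, -, hb⟩ := (Nat.dvd_prime_pow hp.out).1 (hk ▸ period_dvd w x₀)
  haveI : NeZero (p ^ b) := ⟨pow_ne_zero _ hp.out.ne_zero⟩
  obtain ⟨Su, -, hSu, hSc, hSm⟩ := exists_invariant hp.out hu' _ Finset.univ rfl (fun y => by simp)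
    (Function.minimalPeriod w x₀) ((card_orb w x₀) ▸ Finset.card_le_univ _) (fun x _ => hmax x)
  obtain ⟨x₁, hx₁⟩ : ∃ x, u x ≠ x := by
    by_contra h; push Not at h; exact hu (Equiv.ext h)
  have hmu := hSm (by omega) x₁ (Finset.mem_univ _) hx₁
  obtain ⟨h, hsgn, himg⟩ := exists_even_image (Sw := orb w x₀) (Su := Su)
    (by rw [card_orb, hSc]) (by omega)
  set w' := h * w * h⁻¹ with hw'
  have hw'mem : w' ∈ stab Su := by
    intro y
    have e := himg (h⁻¹ y)
    rw [show h (h⁻¹ y) = y from h.apply_symm_apply y] at e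
    rw [hw', Perm.mul_apply, Perm.mul_apply, himg, orb_inv, ← e]
  set N := p ^ b with hN
  let f : ZMod N → {x // x ∈ Su} := fun i => ⟨h ((w ^ i.val) x₀), (himg _).2 (pow_mem_orb w x₀ _)⟩
  have hf : Function.Bijective f := by
    rw [Fintype.bijective_iff_injective_and_card]
    refine ⟨fun i j hij => ?_, by rw [ZMod.card, Fintype.card_coe, hSc, hb]⟩
    have h1 := h.injective (congrArg Subtype.val hij)
    rw [Perm.coe_pow, Perm.coe_pow] at h1
    exact ZMod.val_injective N (Function.iterate_injOn_Iio_minimalPeriod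
      (by rw [Set.mem_Iio, hb]; exact ZMod.val_lt i)
      (by rw [Set.mem_Iio, hb]; exact ZMod.val_lt j) h1)
  set e := (Equiv.ofBijective f hf).symm with he
  have hshift : e.permCongr ((res Su) ⟨w', hw'mem⟩) = shift N := by
    ext i
    rw [Equiv.permCongr_apply]
    have : (res Su) ⟨w', hw'mem⟩ (e.symm i) = f (i + 1) := by
      refine Subtype.ext ?_
      show w' (h ((w ^ i.val) x₀)) = h ((w ^ (i + 1).val) x₀)
      have hmod : (i + 1).val = (i.val + 1) % N := by
        rw [← ZMod.val_natCast, Nat.cast_add, ZMod.natCast_zmod_val, Nat.cast_one]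
      have hper' : ∀ j : ℕ, (w ^ ((j + 1) % N)) x₀ = w ((w ^ j) x₀) := by
        intro j
        rw [← hb, Perm.coe_pow, Function.iterate_mod_minimalPeriod_eq,
          Function.iterate_succ_apply', ← Perm.coe_pow]
      rw [hmod, hper', hw']
      simp
    rw [this]
    exact (Equiv.ofBijective f hf).symm_apply_apply (i + 1)
  obtain ⟨g₀, hg₀, hgood⟩ := core' hp3 (by omega) (e.permCongr ((res Su) ⟨u, hSu⟩))
    (res_ne_one hSu hmu e) (orderOf_res hp.out hSu hu' e)
  obtain ⟨g, hg, hgood'⟩ := good_of_restrict hp.out e hSu hw'mem ⟨g₀, hg₀, by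
    rw [hshift]; exact hgood⟩
  refine ⟨g * h, by rw [map_mul, hg, hsgn, one_mul], ?_⟩
  convert hgood' using 1
  rw [hw']; group

/-- The case of three-elements. -/
theorem good_short {p : ℕ} (hp : p.Prime) (hp3' : p = 3) {u w : Perm α}
    (h5 : 5 ≤ Fintype.card α)
    (hu : u ≠ 1) (hu' : ∃ k, orderOf u = p ^ k) (hw : w ≠ 1) (hw' : ∃ k, orderOf w = p ^ k)
    (hu3 : ∀ x, Function.minimalPeriod u x ∣ 3) (hw3 : ∀ x, Function.minimalPeriod w x ∣ 3) :
    ∃ g : Perm α, Perm.sign g = 1 ∧ Good p u (g * w * g⁻¹) := by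
  obtain ⟨m, hm, hmle, hmd⟩ : ∃ m, (m = 5 ∨ m = 6) ∧ m ≤ Fintype.card α ∧
      ((m = Fintype.card α) ∨ 3 ∣ m) := by
    rcases Nat.lt_or_ge (Fintype.card α) 6 with h | h
    · exact ⟨5, Or.inl rfl, by omega, Or.inl (by omega)⟩
    · exact ⟨6, Or.inr rfl, by omega, Or.inr (by norm_num)⟩
  have hinv : ∀ v : Perm α, v ≠ 1 → (∃ k, orderOf v = p ^ k) →
      (∀ x, Function.minimalPeriod v x ∣ 3) →
      ∃ S : Finset α, (∀ y, v y ∈ S ↔ y ∈ S) ∧ S.card = m ∧ ∃ y ∈ S, v y ≠ y := by
    intro v hv hv' hv3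
    obtain ⟨x₁, hx₁⟩ : ∃ x, v x ≠ x := by
      by_contra h; push Not at h; exact hv (Equiv.ext h)
    rcases hmd with e | e
    · exact ⟨Finset.univ, fun y => by simp, by rw [Finset.card_univ, e], x₁, Finset.mem_univ _,
        hx₁⟩
    · obtain ⟨S, -, hS, hSc, hSm⟩ := exists_invariant hp hv' _ Finset.univ rfl (fun y => by simp) m
        (by rw [Finset.card_univ]; exact hmle) (fun x _ => (hv3 x).trans e)
      exact ⟨S, hS, hSc, hSm (by omega) x₁ (Finset.mem_univ _) hx₁⟩
  obtain ⟨Su, hSu, hSuc, hmu⟩ := hinv u hu hu' hu3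
  obtain ⟨Sw, hSw, hSwc, hmw⟩ := hinv w hw hw' hw3
  obtain ⟨h, hsgn, himg⟩ := exists_even_image (Sw := Sw) (Su := Su) (by omega) (by omega)
  set w' := h * w * h⁻¹ with hw'def
  have hw'mem : w' ∈ stab Su := by
    intro y
    have e := himg (h⁻¹ y)
    rw [show h (h⁻¹ y) = y from h.apply_symm_apply y] at e
    rw [hw'def, Perm.mul_apply, Perm.mul_apply, himg, hSw, ← e]
  have hmw' : ∃ y ∈ Su, w' y ≠ y := by
    obtain ⟨y, hy, hne⟩ := hmw
    exact ⟨h y, (himg y).2 hy, by simpa [hw'def] using hne⟩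
  have hcube : ∀ v : Perm α, (∀ x, Function.minimalPeriod v x ∣ 3) → v ^ 3 = 1 := fun v hv =>
    Equiv.ext fun x => by
      rw [Perm.coe_pow]
      exact (Function.isPeriodicPt_iff_minimalPeriod_dvd.2 (hv x))
  let e : {x // x ∈ Su} ≃ Fin m := Su.equivFinOfCardEq hSuc
  have hc3 : ∀ (v : Perm α) (hv : v ∈ stab Su), v ^ 3 = 1 →
      (e.permCongr ((res Su) ⟨v, hv⟩)) ^ 3 = 1 := by
    intro v hv h3
    have := congrArg (e.permCongrHom.toMonoidHom.comp (res Su))
      (show (⟨v, hv⟩ : ↥(stab Su)) ^ 3 = 1 from Subtype.ext h3)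
    rw [map_pow, map_one] at this
    exact this
  have hw'3 : w' ^ 3 = 1 := by rw [hw'def, conj_pow, hcube w hw3, mul_one, mul_inv_cancel]
  subst hp3'
  obtain ⟨g, hg, hgood⟩ := good_of_restrict hp e hSu hw'mem (by
    rcases hm with rfl | rfl
    · exact small5 _ _ (hc3 u hSu (hcube u hu3)) (res_ne_one hSu hmu e) (hc3 w' hw'mem hw'3)
        (res_ne_one hw'mem hmw' e)
    · exact small6 _ _ (hc3 u hSu (hcube u hu3)) (res_ne_one hSu hmu e) (hc3 w' hw'mem hw'3)
        (res_ne_one hw'mem hmw' e))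
  refine ⟨g * h, by rw [map_mul, hg, hsgn, one_mul], ?_⟩
  convert hgood using 1
  rw [hw'def]; group

theorem exists_good {p : ℕ} (hp : p.Prime) (hp3 : 3 ≤ p) {u w : Perm α}
    (h5 : 5 ≤ Fintype.card α)
    (hu : u ≠ 1) (hu' : ∃ k, orderOf u = p ^ k) (hw : w ≠ 1) (hw' : ∃ k, orderOf w = p ^ k) :
    ∃ g : Perm α, Perm.sign g = 1 ∧ Good p u (g * w * g⁻¹) := by
  haveI := Fact.mk hp
  haveI : Nonempty α := Fintype.card_pos_iff.1 (by omega)
  obtain ⟨a, -, ha⟩ := Finset.exists_max_image (Finset.univ : Finset α)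
    (fun x => Function.minimalPeriod u x) Finset.univ_nonempty
  obtain ⟨c, -, hc⟩ := Finset.exists_max_image (Finset.univ : Finset α)
    (fun x => Function.minimalPeriod w x) Finset.univ_nonempty
  have hdvd : ∀ (v v' : Perm α), (∃ k, orderOf v = p ^ k) → (∃ k, orderOf v' = p ^ k) → ∀ x y,
      Function.minimalPeriod v x ≤ Function.minimalPeriod v' y →
      Function.minimalPeriod v x ∣ Function.minimalPeriod v' y := by
    rintro v v' ⟨k, hk⟩ ⟨k', hk'⟩ x y h
    obtain ⟨i, -, hi⟩ := (Nat.dvd_prime_pow hp).1 (hk ▸ period_dvd v x)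
    obtain ⟨j, -, hj⟩ := (Nat.dvd_prime_pow hp).1 (hk' ▸ period_dvd v' y)
    rw [hi, hj] at h ⊢
    exact pow_dvd_pow p ((Nat.pow_le_pow_iff_right hp.one_lt).1 h)
  by_cases hbig : 5 ≤ Function.minimalPeriod u a ∨ 5 ≤ Function.minimalPeriod w c
  · rcases Nat.le_total (Function.minimalPeriod u a) (Function.minimalPeriod w c) with h | h
    · exact good_long hp3 hu hu' hw' c (by omega) fun x =>
        hdvd u w hu' hw' x c ((ha x (Finset.mem_univ _)).trans h)
    · obtain ⟨g, hg, hgood⟩ := good_long hp3 hw hw' hu' a (by omega) fun x =>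
        hdvd w u hw' hu' x a ((hc x (Finset.mem_univ _)).trans h)
      refine ⟨g⁻¹, by rw [map_inv, hg, inv_one], ?_⟩
      have := good_symm (good_map (MulAut.conj g⁻¹).toMonoidHom (MulEquiv.injective _) hgood)
      simpa [mul_assoc] using this
  · push Not at hbig
    have hsmall : ∀ (v : Perm α) (z : α), (∃ k, orderOf v = p ^ k) → v ≠ 1 →
        (∀ x ∈ Finset.univ, Function.minimalPeriod v x ≤ Function.minimalPeriod v z) →
        Function.minimalPeriod v z < 5 → p = 3 ∧ ∀ x, Function.minimalPeriod v x ∣ 3 := by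
      rintro v z ⟨k, hk⟩ hv hz hlt
      obtain ⟨x₁, hx₁⟩ : ∃ x, v x ≠ x := by
        by_contra h; push Not at h; exact hv (Equiv.ext h)
      obtain ⟨i, -, hi⟩ := (Nat.dvd_prime_pow hp).1 (hk ▸ period_dvd v z)
      have h1 : 2 ≤ Function.minimalPeriod v z := by
        have := period_pos v x₁
        have : Function.minimalPeriod v x₁ ≠ 1 := fun h => hx₁ (period_eq_one.1 h)
        have := hz x₁ (Finset.mem_univ _)
        omega
      have hi1 : i = 1 := by
        rcases i with _ | _ | i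
        · rw [pow_zero] at hi; omega
        · rfl
        · exfalso
          have : p * p ≤ p ^ (i + 1 + 1) := by
            rw [← pow_two]; exact Nat.pow_le_pow_right (by omega) (by omega)
          have := Nat.mul_le_mul hp3 hp3
          omega
      subst hi1
      rw [pow_one] at hi
      have hp3' : p = 3 := by
        have hp4 : p ≠ 4 := fun h => by subst h; exact absurd hp (by decide)
        omega
      refine ⟨hp3', fun x => ?_⟩
      rw [← hp3', ← hi]
      exact hdvd v v ⟨k, hk⟩ ⟨k, hk⟩ x z (hz x (Finset.mem_univ _))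
    obtain ⟨e, h1⟩ := hsmall u a hu' hu ha hbig.1
    exact good_short hp e h5 hu hu' hw hw' h1 (hsmall w c hw' hw hc hbig.2).2

end Cfsg.Agent.PermGroups.PElementPairs
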