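import Mathlib.LinearAlgebra.Matrix.GeneralLinearGroup.Projective

/-! Transport of `PGL` along ring isomorphisms. -/

set_option autoImplicit false

namespace Cfsg.Agent.PermGroups

open Matrix

variable {n : Type*} [Fintype n] [DecidableEq n] {R S : Type*} [CommRing R] [CommRing S]

/-- Ring isomorphisms induce isomorphisms of projective general linear groups. -/
theorem nonempty_pgl_congr (e : R ≃+* S) : Nonempty (ProjGenLinGroup n R ≃* ProjGenLinGroup n S) := by
  let f : GL n R ≃* GL n S := Units.mapEquiv e.mapMatrix.toMulEquiv
  refine ⟨QuotientGroup.congr _ _ f ?_⟩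
  ext x
  constructor
  · rintro ⟨y, hy, rfl⟩
    exact Subgroup.mem_center_iff.2 fun z => by
      obtain ⟨w, rfl⟩ := f.surjective z
      exact (map_mul f w y).symm.trans ((congrArg f (Subgroup.mem_center_iff.1 hy w)).trans (map_mul f y w))
  · intro hx
    refine ⟨f.symm x, Subgroup.mem_center_iff.2 fun z => f.injective ?_, f.apply_symm_apply x⟩
    rw [map_mul, map_mul, MulEquiv.apply_symm_apply]
    exact Subgroup.mem_center_iff.1 hx _

end Cfsg.Agent.PermGroups
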