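import Mathlib

/-!
Mueller's elementary proof of Burnside's theorem, polynomial part: a map of `ZMod p` preserving a
non-trivial difference relation is affine.
-/

namespace Cfsg.Agent.PermGroups

open Polynomial Finset

variable {p : ℕ} [hp : Fact p.Prime]

/-- A polynomial of degree `< p` vanishing everywhere on `ZMod p` is zero. -/
theorem zmod_poly_eq_zero {g : (ZMod p)[X]} (hd : g.natDegree < p)
    (h : ∀ x, g.eval x = 0) : g = 0 := by
  by_contra hne
  have : (Finset.univ : Finset (ZMod p)).val ≤ g.roots := by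
    rw [Finset.val_le_iff_val_subset]
    intro x _
    rw [mem_roots hne]
    exact h x
  have h1 := Multiset.card_le_card this
  have h2 := g.card_roots'
  rw [← Finset.card_def, Finset.card_univ, ZMod.card] at h1
  omega

theorem exists_powerSum_ne_zero (U : Finset (ZMod p)) (hne : U.Nonempty) (h0 : (0 : ZMod p) ∉ U) :
    ∃ j, 1 ≤ j ∧ j ≤ U.card ∧ ∑ u ∈ U, u ^ j ≠ 0 := by
  by_contra h
  push Not at h
  set Q : (ZMod p)[X] := ∏ u ∈ U, (X - C u) with hQ
  have hdeg : Q.natDegree = U.card := by
    rw [hQ, natDegree_prod_of_monic _ _ fun u _ => monic_X_sub_C u]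
    simp
  have h1 : ∑ u ∈ U, Q.eval u = 0 := Finset.sum_eq_zero fun u hu => by
    rw [hQ, eval_prod]; exact Finset.prod_eq_zero hu (by simp)
  simp_rw [eval_eq_sum_range, hdeg] at h1
  rw [Finset.sum_comm, Finset.sum_eq_single 0] at h1
  · simp only [pow_zero, mul_one, Finset.sum_const, nsmul_eq_mul] at h1
    have hU : ((U.card : ℕ) : ZMod p) ≠ 0 := by
      rw [ne_eq, ZMod.natCast_eq_zero_iff]
      intro hd
      have h2 := Nat.le_of_dvd hne.card_pos hd
      have h3 : U.card < p := by
        calc U.card < Fintype.card (ZMod p) := Finset.card_lt_univ_of_notMem h0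
          _ = p := ZMod.card p
      omega
    rcases mul_eq_zero.mp h1 with h2 | h2
    · exact hU h2
    · rw [hQ, coeff_zero_eq_eval_zero, eval_prod] at h2
      simp only [eval_sub, eval_X, eval_C, Finset.prod_eq_zero_iff] at h2
      obtain ⟨u, hu, e⟩ := h2
      exact h0 (by
        have : u = 0 := by simpa using e
        exact this ▸ hu)
  · intro j hj hj0
    rw [← Finset.mul_sum, h j (by omega) (by simpa [Nat.lt_succ_iff] using hj), mul_zero]
  · simp

/-- Degree bound from a difference equation. -/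
theorem natDegree_le_of_sum_shift {U : Finset (ZMod p)} {w : ℕ} (hw : 1 ≤ w)
    (hlow : ∀ j, 1 ≤ j → j < w → ∑ u ∈ U, u ^ j = 0) (hwne : ∑ u ∈ U, u ^ w ≠ 0)
    (g : (ZMod p)[X]) (hg : g.natDegree < p) (c : ZMod p)
    (h : ∀ x, ∑ u ∈ U, g.eval (x + u) = (U.card : ZMod p) * g.eval x + c) :
    g.natDegree ≤ w ∧ (c = 0 → g.natDegree < w) := by
  set e := g.natDegree with he
  set D : (ZMod p)[X] := (∑ u ∈ U, taylor u g) - C ((U.card : ZMod p)) * g - C c with hD
  have hD0 : D = 0 := by
    refine zmod_poly_eq_zero (lt_of_le_of_lt ?_ hg) fun x => ?_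
    · refine (natDegree_sub_le _ _).trans (max_le ((natDegree_sub_le _ _).trans (max_le ?_ ?_)) ?_)
      · exact natDegree_sum_le_of_forall_le _ _ fun u _ => (natDegree_taylor g u).le
      · exact (natDegree_C_mul_le _ _).trans le_rfl
      · simp
    · simp only [hD, eval_sub, eval_finsetSum, taylor_eval, eval_mul, eval_C, h x]
      ring
  suffices H : w ≤ e → (C c).coeff (e - w) ≠ 0 by
    refine ⟨?_, fun hc => ?_⟩
    · by_contra hlt
      push Not at hlt
      exact H hlt.le (coeff_C_of_ne_zero (by omega))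
    · by_contra hlt
      push Not at hlt
      exact H hlt (by simp [hc])
  intro hwe hc
  set n := e - w with hn
  have hne : g ≠ 0 := by
    intro h0
    rw [h0, natDegree_zero] at he
    omega
  have hcoef : D.coeff n = 0 := by rw [hD0, coeff_zero]
  rw [hD, coeff_sub, coeff_sub, hc, sub_zero, finsetSum_coeff, coeff_C_mul] at hcoef
  simp only [taylor_coeff] at hcoef
  have hHdeg : (hasseDeriv n g).natDegree < w + 1 := by
    have := natDegree_hasseDeriv_le g n
    omega
  simp_rw [eval_eq_sum_range' hHdeg] at hcoef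
  rw [Finset.sum_comm, Finset.sum_range_succ, ← Finset.mul_sum] at hcoef
  rw [Finset.sum_eq_single_of_mem 0 (Finset.mem_range.mpr hw) fun j hj hj0 => by
    rw [← Finset.mul_sum, hlow j (by omega) (Finset.mem_range.mp hj), mul_zero]] at hcoef
  simp only [pow_zero, mul_one, Finset.sum_const, nsmul_eq_mul] at hcoef
  rw [hasseDeriv_coeff, hasseDeriv_coeff, zero_add, Nat.choose_self, Nat.cast_one, one_mul,
    show w + n = e by omega, ← leadingCoeff] at hcoef
  have h2 : ((e.choose n : ℕ) : ZMod p) * g.leadingCoeff * (∑ u ∈ U, u ^ w) = 0 := by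
    linear_combination hcoef
  rcases mul_eq_zero.mp h2 with h3 | h3
  · rcases mul_eq_zero.mp h3 with h4 | h4
    · rw [ZMod.natCast_eq_zero_iff] at h4
      have h5 : p ∣ e.factorial := by
        rw [← Nat.choose_mul_factorial_mul_factorial (show n ≤ e by omega)]
        exact (h4.mul_right _).mul_right _
      have := (Nat.Prime.dvd_factorial hp.out).mp h5
      omega
    · exact hne (leadingCoeff_eq_zero.mp h4)
  · exact hwne h3

/-- **Mueller's lemma**: an injective map of `ZMod p` preserving the relation `y - x ∈ U`, for `U`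
a proper non-empty set of non-zero elements, is affine. -/
theorem affine_of_difference_preserving (f : ZMod p → ZMod p) (hf : Function.Injective f)
    (U : Finset (ZMod p)) (hne : U.Nonempty) (h0 : (0 : ZMod p) ∉ U)
    (hprop : ∃ v, v ≠ 0 ∧ v ∉ U) (h : ∀ x, ∀ u ∈ U, f (x + u) - f x ∈ U) :
    ∃ a b, ∀ x, f x = a * x + b := by
  classical
  set U' : Finset (ZMod p) := Finset.univ \ insert 0 U with hU'
  have hU'ne : U'.Nonempty := by
    obtain ⟨v, h1, h2⟩ := hprop
    exact ⟨v, by simp [hU', h1, h2]⟩
  have h0' : (0 : ZMod p) ∉ U' := by simp [hU']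
  have hex : ∃ j, 1 ≤ j ∧ ∑ u ∈ U, u ^ j ≠ 0 :=
    (exists_powerSum_ne_zero U hne h0).imp fun j hj => ⟨hj.1, hj.2.2⟩
  set w := Nat.find hex with hw
  obtain ⟨hw1, hwne⟩ := Nat.find_spec hex
  have hlow : ∀ j, 1 ≤ j → j < w → ∑ u ∈ U, u ^ j = 0 := fun j hj hjw => by
    by_contra hne'
    exact Nat.find_min hex hjw ⟨hj, hne'⟩
  have hcards : U.card + 1 + U'.card = p := by
    rw [hU', Finset.card_sdiff, Finset.inter_univ, Finset.card_insert_of_notMem h0,
      Finset.card_univ, ZMod.card]
    have : U.card < p := by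
      calc U.card < Fintype.card (ZMod p) := Finset.card_lt_univ_of_notMem h0
        _ = p := ZMod.card p
    omega
  have hcompl : ∀ j, 1 ≤ j → j < p - 1 → ∑ u ∈ U', u ^ j = - ∑ u ∈ U, u ^ j := by
    intro j hj hjp
    have h1 := FiniteField.sum_pow_lt_card_sub_one (K := ZMod p) j (by rwa [ZMod.card])
    rw [← Finset.sum_sdiff (Finset.subset_univ (insert 0 U)), Finset.sum_insert h0,
      zero_pow (by omega), zero_add] at h1
    rw [eq_neg_iff_add_eq_zero]
    exact h1
  have hwU : w ≤ U.card := by
    obtain ⟨j, hj1, hj2, hj3⟩ := exists_powerSum_ne_zero U hne h0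
    exact (Nat.find_min' hex ⟨hj1, hj3⟩).trans hj2
  have hwU' : w ≤ U'.card := by
    obtain ⟨j, hj1, hj2, hj3⟩ := exists_powerSum_ne_zero U' hU'ne h0'
    have hjp : j < p - 1 := by
      have := hne.card_pos
      omega
    rw [hcompl j hj1 hjp, neg_ne_zero] at hj3
    exact (Nat.find_min' hex ⟨hj1, hj3⟩).trans hj2
  set F := Lagrange.interpolate (Finset.univ : Finset (ZMod p)) id f with hF
  have hFeval : ∀ x, F.eval x = f x := fun x =>
    Lagrange.eval_interpolate_at_node f (Set.injOn_id _) (Finset.mem_univ x)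
  have hFdeg : F.natDegree < p := by
    by_cases hF0 : F = 0
    · rw [hF0, natDegree_zero]; exact hp.out.pos
    · have := Lagrange.degree_interpolate_lt f (s := (Finset.univ : Finset (ZMod p)))
        (Set.injOn_id _)
      rw [Finset.card_univ, ZMod.card] at this
      exact (natDegree_lt_iff_degree_lt hF0).mpr this
  have hperm : ∀ (x : ZMod p) (G : ZMod p → ZMod p),
      ∑ u ∈ U, G (f (x + u)) = ∑ v ∈ U, G (f x + v) := by
    intro x G
    have hinj : Set.InjOn (fun u => f (x + u) - f x) U := fun u _ u' _ e => by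
      simpa using hf (sub_left_inj.mp e)
    have himg : U.image (fun u => f (x + u) - f x) = U :=
      Finset.eq_of_subset_of_card_le (fun v hv => by
        obtain ⟨u, hu, rfl⟩ := Finset.mem_image.mp hv
        exact h x u hu) (by rw [Finset.card_image_of_injOn hinj])
    conv_rhs => rw [← himg]
    rw [Finset.sum_image hinj]
    simp
  suffices hd : F.natDegree ≤ 1 by
    refine ⟨F.coeff 1, F.coeff 0, fun x => ?_⟩
    rw [← hFeval]
    conv_lhs => rw [eq_X_add_C_of_natDegree_le_one hd]
    simp
  rcases Nat.lt_or_ge w 2 with hw2 | hw2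
  · have := natDegree_le_of_sum_shift hw1 hlow hwne F hFdeg (∑ u ∈ U, u) (fun x => by
      simp only [hFeval]
      rw [hperm x (fun y => y), Finset.sum_add_distrib, Finset.sum_const, nsmul_eq_mul])
    omega
  by_contra hd
  push Not at hd
  have hdw : F.natDegree < w := (natDegree_le_of_sum_shift hw1 hlow hwne F hFdeg 0 (fun x => by
    simp only [hFeval]
    rw [hperm x (fun y => y), Finset.sum_add_distrib, Finset.sum_const, nsmul_eq_mul]
    have := hlow 1 le_rfl (by omega)
    simp only [pow_one] at this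
    rw [this])).2 rfl
  set d := F.natDegree with hd'
  obtain ⟨k, hk1, hk2, hk3⟩ : ∃ k, w ≤ k * d ∧ k * d < p ∧ k < w := by
    refine ⟨(w - 1) / d + 1, ?_, ?_, ?_⟩
    · have := Nat.lt_mul_div_succ (w - 1) (show 0 < d by omega)
      rw [Nat.mul_comm d] at this
      omega
    · have := Nat.div_mul_le_self (w - 1) d
      rw [Nat.add_mul, one_mul]
      omega
    · have h1 : (w - 1) / d ≤ (w - 1) / 2 := Nat.div_le_div_left (by omega) (by omega)
      omega
  have := (natDegree_le_of_sum_shift hw1 hlow hwne (F ^ k) (by rw [natDegree_pow]; omega) 0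
    (fun x => by
      simp only [eval_pow, hFeval]
      rw [hperm x (fun y => y ^ k)]
      simp only [add_pow]
      rw [Finset.sum_comm, Finset.sum_range_succ]
      simp only [Nat.sub_self, pow_zero, mul_one, Nat.choose_self, Nat.cast_one, Finset.sum_const,
        nsmul_eq_mul, add_zero]
      rw [Finset.sum_eq_zero, zero_add]
      intro i hi
      rw [Finset.mem_range] at hi
      rw [← Finset.sum_mul, ← Finset.mul_sum, hlow (k - i) (by omega) (by omega)]
      simp)).2 rfl
  rw [natDegree_pow, ← hd'] at this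
  omega

end Cfsg.Agent.PermGroups
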