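import Cfsg.Agent.PermGroups.PrimeEven
import Cfsg.Agent.PermGroups.JordanCycle

/-!
Toolkit for non-solvable transitive groups of small prime degree: Sylow arithmetic, centralisers of
elements of prime order, simplicity, invariant sets.
-/

set_option autoImplicit false
set_option linter.unusedSectionVars false

namespace Cfsg.Agent.PermGroups.SmallDegree

open MulAction Equiv
open scoped Pointwise

variable {α : Type*} [Fintype α] [DecidableEq α]

/-- An element whose order is an odd number fixes the points of an invariant pair. -/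
theorem fix_of_pair {g : Perm α} {r : ℕ} (hr : Odd r) (hg : g ^ r = 1) {a b : α}
    (ha : g a = a ∨ g a = b) (hb : g b = a ∨ g b = b) : g a = a ∧ g b = b := by
  have key : ∀ c d : α, (g c = c ∨ g c = d) → (g d = c ∨ g d = d) → g c = c := by
    intro c d hc hd
    rcases hc with hc | hc
    · exact hc
    rcases hd with hd | hd
    · have h2 : ∀ k : ℕ, (g ^ (2 * k)) c = c := by
        intro k
        induction k with
        | zero => rfl
        | succ k ih =>
          rw [show 2 * (k + 1) = 2 * k + 2 by ring, pow_add, Perm.mul_apply, sq, Perm.mul_apply,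
            hc, hd, ih]
      obtain ⟨k, rfl⟩ := hr
      have := congrArg (fun σ : Perm α => σ c) hg
      simp only [pow_succ', Perm.mul_apply, h2, Perm.one_apply] at this
      exact this
    · have : c = d := g.injective (hc.trans hd.symm)
      rw [this, hd]
  exact ⟨key a b ha hb, key b a hb.symm ha.symm⟩

/-- The size of a set invariant under an element of prime order without fixed points in it. -/
theorem dvd_card_invariant {q : ℕ} (hq : q.Prime) {y : Perm α} (hy : y ^ q = 1) (S : Finset α)
    (hS : ∀ z ∈ S, y z ∈ S) (hfree : ∀ z ∈ S, y z ≠ z) : q ∣ S.card := by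
  haveI : Fact q.Prime := ⟨hq⟩
  have hiff : ∀ z, y z ∈ S ↔ z ∈ S := by
    intro z
    refine ⟨fun hz => ?_, hS z⟩
    have hall : ∀ k : ℕ, ∀ w ∈ S, (y ^ k) w ∈ S := by
      intro k
      induction k with
      | zero => intro w hw; simpa using hw
      | succ k ih => intro w hw; rw [pow_succ, Perm.mul_apply]; exact ih _ (hS w hw)
    have h := hall (q - 1) _ hz
    rwa [← Perm.mul_apply, ← pow_succ, Nat.sub_add_cancel hq.one_le, hy, Perm.one_apply] at h
  set σ : Perm {z // z ∈ S} := y.subtypePerm hiff with hσ
  have hσq : σ ^ q ^ 1 = 1 := by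
    rw [pow_one, hσ, Perm.subtypePerm_pow]
    ext z
    simp [hy]
  have h := Perm.card_compl_support_modEq hσq
  have he : σ.supportᶜ = ∅ := by
    ext z
    simp only [Finset.mem_compl, Perm.mem_support, not_not, Finset.notMem_empty, iff_false]
    intro hz
    exact hfree z.1 z.2 (congrArg Subtype.val hz)
  rw [he, Finset.card_empty, Fintype.card_coe] at h
  exact Nat.modEq_zero_iff_dvd.1 h.symm

/-- The support of an element commuting with `y` is `y`-invariant. -/
theorem support_invariant {g y : Perm α} (h : Commute g y) : ∀ z ∈ g.support, y z ∈ g.support := by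
  intro z hz
  rw [Perm.mem_support] at hz ⊢
  intro hyz
  apply hz
  apply y.injective
  rw [← Perm.mul_apply, ← h.eq, Perm.mul_apply, hyz]

theorem prime_dvd_support_card {g : Perm α} {q : ℕ} (hq : q.Prime) (hg : g ^ q = 1) :
    q ∣ g.support.card :=
  dvd_card_invariant hq hg _ (fun _ hz => Perm.apply_mem_support.2 hz)
    (fun _ hz => Perm.mem_support.1 hz)

theorem pow_eq_one_of_orderOf {M : Type*} [Monoid M] {g : M} {q : ℕ} (hg : orderOf g = q) :
    g ^ q = 1 := hg ▸ pow_orderOf_eq_one g

theorem support_card_pos {g : Perm α} {q : ℕ} (hq : q.Prime) (hg : orderOf g = q) :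
    0 < g.support.card := by
  rw [Finset.card_pos, Finset.nonempty_iff_ne_empty, Ne, Perm.support_eq_empty_iff]
  intro h
  rw [h, orderOf_one] at hg
  exact hq.one_lt.ne hg

theorem isCycle_of_support_card {g : Perm α} {q : ℕ} (hq : q.Prime) (hg : orderOf g = q)
    (hc : g.support.card = q) : g.IsCycle :=
  Perm.isCycle_of_prime_order (by rwa [hg]) (by rw [hc, hg]; have := hq.two_le; omega)

/-- A group containing a prime power as large as that of the symmetric group contains a cycle. -/
theorem exists_cycle_of_pow_dvd {q k : ℕ} (hq : q.Prime) (hqn : q ≤ Fintype.card α)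
    (hk : (Fintype.card α).factorial.factorization q = k) (G : Subgroup (Perm α))
    (hG : q ^ k ∣ Nat.card G) : ∃ g ∈ G, g.IsCycle ∧ g.support.card = q := by
  haveI : Fact q.Prime := ⟨hq⟩
  obtain ⟨S, hS⟩ := Sylow.exists_subgroup_card_pow_prime q hG
  let Q : Sylow q (Perm α) := Sylow.ofCard (S.map G.subtype) (by
    rw [Subgroup.card_map_of_injective G.subtype_injective, hS,
      Nat.card_eq_fintype_card (α := Perm α), Fintype.card_perm, hk])
  obtain ⟨σ, hσ⟩ := (Perm.exists_with_cycleType_iff α (m := {q})).2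
    ⟨by simpa using hqn, by simp [hq.two_le]⟩
  have hcyc : σ.IsCycle := Perm.card_cycleType_eq_one.1 (by rw [hσ]; rfl)
  have hsupp : σ.support.card = q := by rw [← Perm.sum_cycleType, hσ]; simp
  have hord : orderOf σ = q := by rw [← Perm.lcm_cycleType, hσ]; simp
  obtain ⟨R, hR⟩ := (IsPGroup.of_card (n := 1) (p := q) (G := Subgroup.zpowers σ)
    (by rw [Nat.card_zpowers, hord, pow_one])).exists_le_sylow
  obtain ⟨h, hh⟩ := exists_smul_eq (Perm α) R Q
  have hmem : h * σ * h⁻¹ ∈ (Q : Subgroup (Perm α)) := by
    rw [← hh, Sylow.coe_subgroup_smul]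
    exact Subgroup.smul_mem_pointwise_smul σ (MulAut.conj h) _ (hR (Subgroup.mem_zpowers σ))
  have hmemG : h * σ * h⁻¹ ∈ G := by
    have : h * σ * h⁻¹ ∈ S.map G.subtype := hmem
    obtain ⟨s, -, hs⟩ := this
    rw [← hs]; exact s.2
  exact ⟨_, hmemG, hcyc.conj, by rw [Perm.card_support_conj, hsupp]⟩

/-- The order of a group in terms of the even part. -/
theorem natCard_eq_or_twice (G : Subgroup (Perm α)) :
    Nat.card G = Nat.card (G ⊓ alternatingGroup α : Subgroup (Perm α)) ∨
      Nat.card G = 2 * Nat.card (G ⊓ alternatingGroup α : Subgroup (Perm α)) := by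
  classical
  set f : G →* ℤˣ := Perm.sign.comp G.subtype with hf
  have hker : Nat.card f.ker = Nat.card (G ⊓ alternatingGroup α : Subgroup (Perm α)) := by
    refine Nat.card_congr ⟨fun g => ⟨g.1.1, g.1.2, ?_⟩, fun g => ⟨⟨g.1, g.2.1⟩, ?_⟩,
      fun g => rfl, fun g => rfl⟩
    · have h1 : Perm.sign (g.1.1) = 1 := g.2
      exact Perm.mem_alternatingGroup.2 h1
    · have h1 : Perm.sign g.1 = 1 := Perm.mem_alternatingGroup.1 g.2.2
      exact h1
  have h := f.ker.index_mul_card
  rw [hker] at h
  have hi : f.ker.index ≤ 2 := by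
    rw [Subgroup.index_ker]
    have h2 : Nat.card ℤˣ = 2 := by rw [Nat.card_eq_fintype_card]; rfl
    exact h2 ▸ Subgroup.card_le_card_group _
  have h0 : f.ker.index ≠ 0 := Subgroup.index_ne_zero_of_finite
  rcases (show f.ker.index = 1 ∨ f.ker.index = 2 by omega) with e | e <;> rw [e] at h <;> omega

theorem not_isSolvable_inf_alternating (G : Subgroup (Perm α)) (hG : ¬ Group.IsSolvable G) :
    ¬ Group.IsSolvable (G ⊓ alternatingGroup α : Subgroup (Perm α)) := by
  intro hs
  apply hG
  haveI := hs
  refine Group.isSolvable_of_ker_le_range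
    (Subgroup.inclusion (inf_le_left : G ⊓ alternatingGroup α ≤ G)) (Perm.sign.comp G.subtype) ?_
  intro g hg
  have h1 : Perm.sign (g : Perm α) = 1 := hg
  exact ⟨⟨g.1, g.2, Perm.mem_alternatingGroup.2 h1⟩, rfl⟩

variable {p : ℕ} [hp : Fact p.Prime]

theorem isPretransitive_inf_alternating (hp2 : p ≠ 2) (hα : Fintype.card α = p)
    (G : Subgroup (Perm α)) [IsPretransitive G α] :
    IsPretransitive (G ⊓ alternatingGroup α : Subgroup (Perm α)) α := by
  obtain ⟨τ, hτG, hτ⟩ := exists_orderOf_eq_degree hα G
  have hs : Perm.sign τ = 1 := by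
    rcases Int.units_eq_one_or (Perm.sign τ) with e | e
    · exact e
    · exfalso
      have h1 := congrArg Perm.sign (pow_eq_one_of_orderOf hτ)
      rw [map_pow, e, map_one] at h1
      obtain ⟨k, hk⟩ := hp.out.odd_of_ne_two hp2
      rw [hk, pow_add, pow_mul, Int.units_sq, one_pow, pow_one, one_mul] at h1
      exact absurd h1 (by decide)
  set G0 := G ⊓ alternatingGroup α
  have hτ0 : τ ∈ G0 := ⟨hτG, Perm.mem_alternatingGroup.2 hs⟩
  have := isPretransitive_of_card_eq_prime hα G0 (Subgroup.zpowers (⟨τ, hτ0⟩ : G0))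
    (by rw [Nat.card_zpowers, Subgroup.orderOf_mk, hτ])
  refine ⟨fun u v => ?_⟩
  obtain ⟨g, hg⟩ := this.exists_smul_eq u v
  exact ⟨g.1, hg⟩

theorem transitive_of_normal (hα : Fintype.card α = p) (G : Subgroup (Perm α))
    [IsPretransitive G α] (N : Subgroup G) [N.Normal] (hN : N ≠ ⊥) :
    IsPretransitive (N.map G.subtype) α := by
  haveI : IsPreprimitive G α := IsPreprimitive.of_prime_card (by
    rw [Nat.card_eq_fintype_card, hα]; exact hp.out)
  have hne : fixedPoints N α ≠ Set.univ := by
    intro h
    apply hN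
    rw [Subgroup.eq_bot_iff_forall]
    intro g hg
    refine Subtype.ext (Perm.ext fun x => ?_)
    have hx : x ∈ fixedPoints N α := h ▸ Set.mem_univ x
    exact hx ⟨g, hg⟩
  have := IsQuasiPreprimitive.isPretransitive_of_normal (G := G) hne
  refine ⟨fun u v => ?_⟩
  obtain ⟨g, hg⟩ := this.exists_smul_eq u v
  exact ⟨⟨g.1.1, g.1, g.2, rfl⟩, hg⟩

theorem centralizer_sylow (hα : Fintype.card α = p) (G : Subgroup (Perm α)) [IsPretransitive G α]
    (P : Sylow p G) : Subgroup.centralizer ((P : Subgroup G) : Set G) = P := by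
  have hP := natCard_sylow_prime_degree hα G P
  have hPt := isPretransitive_of_card_eq_prime hα G P hP
  haveI : IsCyclic (P : Subgroup G) := isCyclic_of_prime_card hP
  have hcomm : IsMulCommutative (P : Subgroup G) := IsCyclic.isMulCommutative
  obtain ⟨a⟩ : Nonempty α := Fintype.card_pos_iff.mp (hα ▸ hp.out.pos)
  set C := Subgroup.centralizer ((P : Subgroup G) : Set G) with hC
  have hCP : Nat.card C ≤ p := by
    rw [← hα, ← Nat.card_eq_fintype_card]
    refine Nat.card_le_card_of_injective (fun c : C => ((c : G) : Perm α) a) fun c d hcd => ?_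
    refine Subtype.ext (Subtype.ext (Perm.ext fun x => ?_))
    obtain ⟨g, rfl⟩ := exists_smul_eq (P : Subgroup G) a x
    have hc := congrArg (fun h : G => (h : Perm α) a)
      (Subgroup.mem_centralizer_iff.mp c.2 g g.2)
    have hd := congrArg (fun h : G => (h : Perm α) a)
      (Subgroup.mem_centralizer_iff.mp d.2 g g.2)
    simp only [Subgroup.coe_mul, Perm.coe_mul, Function.comp_apply] at hc hd
    change ((c : G) : Perm α) (((g : G) : Perm α) a) = ((d : G) : Perm α) (((g : G) : Perm α) a)
    rw [← hc, ← hd, show ((c : G) : Perm α) a = ((d : G) : Perm α) a from hcd]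
  exact (Subgroup.eq_of_le_of_card_ge (Subgroup.le_centralizer (P : Subgroup G))
    (hP.symm ▸ hCP)).symm

/-- A transitive group of prime degree with a self-normalising Sylow subgroup is that subgroup. -/
theorem natCard_eq_prime_of_normalizer (hα : Fintype.card α = p) (G : Subgroup (Perm α))
    [IsPretransitive G α] (P : Sylow p G)
    (hN : Nat.card (Subgroup.normalizer ((P : Subgroup G) : Set G)) = p) : Nat.card G = p := by
  have hP := natCard_sylow_prime_degree hα G P
  have hle : Subgroup.normalizer ((P : Subgroup G) : Set G)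
      ≤ Subgroup.centralizer ((P : Subgroup G) : Set G) := by
    rw [centralizer_sylow hα G P, ← Subgroup.eq_of_le_of_card_ge Subgroup.le_normalizer
      (by rw [hN, hP])]
  have hcomp := MonoidHom.ker_transferSylow_isComplement' P hle
  have hnd := MonoidHom.not_dvd_card_ker_transferSylow P hle
  set K := (MonoidHom.transferSylow P hle).ker
  have hK : K = ⊥ := by
    by_contra hK
    have := transitive_of_normal hα G K hK
    apply hnd
    obtain ⟨τ, hτ, hτo⟩ := exists_orderOf_eq_degree hα (K.map G.subtype)
    have hd := orderOf_dvd_natCard (⟨τ, hτ⟩ : K.map G.subtype)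
    rwa [Subgroup.orderOf_mk, hτo, Subgroup.card_map_of_injective G.subtype_injective] at hd
  have h := hcomp.card_mul
  rw [hK, Subgroup.card_bot, one_mul, hP] at h
  exact h.symm

/-- A transitive group of prime degree with a normal Sylow subgroup is solvable. -/
theorem isSolvable_of_normalizer_eq_top (hα : Fintype.card α = p) (G : Subgroup (Perm α))
    [IsPretransitive G α] (P : Sylow p G)
    (hN : Subgroup.normalizer ((P : Subgroup G) : Set G) = ⊤) : Group.IsSolvable G := by
  have hP := natCard_sylow_prime_degree hα G P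
  haveI hn : (P : Subgroup G).Normal := Subgroup.normalizer_eq_top_iff.1 hN
  haveI : IsCyclic (P : Subgroup G) := isCyclic_of_prime_card hP
  letI : CommGroup (P : Subgroup G) := IsCyclic.commGroup
  set φ : G →* MulAut (P : Subgroup G) := MulAut.conjNormal with hφ
  haveI : Group.IsSolvable φ.range := by
    obtain ⟨e⟩ := (⟨IsCyclic.mulAutMulEquiv (P : Subgroup G)⟩ :
      Nonempty (MulAut (P : Subgroup G) ≃* _))
    exact Group.isSolvable_of_isSolvable_injective
      (f := e.toMonoidHom.comp φ.range.subtype) (e.injective.comp φ.range.subtype_injective)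
  refine Group.isSolvable_of_ker_le_range (P : Subgroup G).subtype φ.rangeRestrict ?_
  intro g hg
  rw [Subgroup.range_subtype, ← centralizer_sylow hα G P, Subgroup.mem_centralizer_iff]
  intro y hy
  have h1 : φ g = 1 := congrArg Subtype.val hg
  have h := congrArg (fun f : MulAut (P : Subgroup G) => ((f ⟨y, hy⟩ : (P : Subgroup G)) : G)) h1
  simp only [hφ, MulAut.conjNormal_apply, MulAut.one_apply] at h
  calc y * g = g * y * g⁻¹ * g := by rw [h]
    _ = g * y := by group

/-- A non-solvable transitive group of prime degree whose Sylow normaliser has order `p * q`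
with `q` prime is simple. -/
theorem isSimpleGroup_of_normalizer (hα : Fintype.card α = p) (G : Subgroup (Perm α))
    [IsPretransitive G α] (hG : ¬ Group.IsSolvable G) {q : ℕ} (hq : q.Prime) (P : Sylow p G)
    (hN : Nat.card (Subgroup.normalizer ((P : Subgroup G) : Set G)) = p * q) :
    IsSimpleGroup G := by
  haveI : Nontrivial G := by
    by_contra h
    rw [not_nontrivial_iff_subsingleton] at h
    exact hG inferInstance
  refine ⟨fun N hNn => ?_⟩
  by_cases hb : N = ⊥
  · exact Or.inl hb
  right
  haveI := hNn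
  set M := N.map G.subtype with hM
  haveI : IsPretransitive M α := transitive_of_normal hα G N hb
  have hpN : p ∣ Nat.card N := by
    obtain ⟨τ, hτ, hτo⟩ := exists_orderOf_eq_degree hα M
    have hd := orderOf_dvd_natCard (⟨τ, hτ⟩ : M)
    rwa [Subgroup.orderOf_mk, hτo, hM, Subgroup.card_map_of_injective G.subtype_injective] at hd
  have hP := natCard_sylow_prime_degree hα G P
  -- the Sylow subgroup lies in the normal subgroup
  obtain ⟨x, hx⟩ := exists_prime_orderOf_dvd_card' (G := N) p hpN
  obtain ⟨R, hR⟩ := (IsPGroup.of_card (n := 1) (p := p) (G := Subgroup.zpowers (x : G))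
    (by rw [Nat.card_zpowers, Subgroup.orderOf_coe, hx, pow_one])).exists_le_sylow
  have hRN : (R : Subgroup G) ≤ N := by
    rw [← Subgroup.eq_of_le_of_card_ge hR (by
      rw [natCard_sylow_prime_degree hα G R, Nat.card_zpowers, Subgroup.orderOf_coe, hx]),
      Subgroup.zpowers_le]
    exact x.2
  have hPN : (P : Subgroup G) ≤ N := by
    obtain ⟨g, hg⟩ := exists_smul_eq G R P
    intro y hy
    rw [← hg, Sylow.coe_subgroup_smul, Subgroup.mem_pointwise_smul_iff_inv_smul_mem] at hy
    have h1 := hNn.conj_mem _ (hRN hy) g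
    rw [← map_inv, MulAut.smul_def, MulAut.conj_apply] at h1
    convert h1 using 1
    group
  set NG := Subgroup.normalizer ((P : Subgroup G) : Set G) with hNG
  by_cases hle : NG ≤ N
  · have h := Sylow.normalizer_sup_eq_top' P hPN
    exact top_le_iff.1 (h.ge.trans (sup_le hle le_rfl))
  exfalso
  -- then the Sylow subgroup is self-normalising in `N`
  have hcard : Nat.card (NG ⊓ N : Subgroup G) = p := by
    have h1 : Nat.card (NG ⊓ N : Subgroup G) ∣ p * q := hN ▸ Subgroup.card_dvd_of_le inf_le_left
    have h2 : p ∣ Nat.card (NG ⊓ N : Subgroup G) :=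
      hP ▸ Subgroup.card_dvd_of_le (le_inf Subgroup.le_normalizer hPN)
    obtain ⟨c, hc⟩ := h2
    rw [hc] at h1
    rcases (Nat.dvd_prime hq).1 (Nat.dvd_of_mul_dvd_mul_left hp.out.pos h1) with e | e
    · rw [hc, e, mul_one]
    · exfalso
      rw [e] at hc
      exact hle (inf_eq_left.1 (Subgroup.eq_of_le_of_card_ge inf_le_left (by rw [hc, hN])))
  set PM : Subgroup M := ((P : Subgroup G).map G.subtype).subgroupOf M with hPM
  have hPMc : Nat.card PM = p := by
    rw [hPM, Nat.card_congr (Subgroup.subgroupOfEquivOfLe (Subgroup.map_mono hPN)).toEquiv,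
      Subgroup.card_map_of_injective G.subtype_injective, hP]
  obtain ⟨S, hS⟩ := (IsPGroup.of_card (n := 1) (p := p) (G := PM)
    (by rw [hPMc, pow_one])).exists_le_sylow
  have hSeq : (S : Subgroup M) = PM := (Subgroup.eq_of_le_of_card_ge hS (by
    rw [natCard_sylow_prime_degree hα M S, hPMc])).symm
  have hnorm : Nat.card (Subgroup.normalizer ((S : Subgroup M) : Set M)) = p := by
    refine le_antisymm ?_ ((natCard_sylow_prime_degree hα M S).ge.trans
      (Nat.le_of_dvd Nat.card_pos (Subgroup.card_dvd_of_le Subgroup.le_normalizer)))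
    refine le_trans ?_ hcard.le
    let e : N ≃* M := N.equivMapOfInjective G.subtype G.subtype_injective
    have he : ∀ z : N, ((e z : M) : Perm α) = ((z : G) : Perm α) := fun z => rfl
    have hmemS : ∀ z : N, e z ∈ (S : Subgroup M) ↔ (z : G) ∈ (P : Subgroup G) := by
      intro z
      rw [hSeq]
      constructor
      · rintro ⟨w, hw, hwe⟩
        have : w = (z : G) := Subtype.ext (hwe.trans (he z))
        exact this ▸ hw
      · intro hz
        exact ⟨z.1, hz, (he z).symm⟩
    have hin : ∀ m : Subgroup.normalizer ((S : Subgroup M) : Set M),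
        ((e.symm m.1 : N) : G) ∈ NG ⊓ N := by
      intro m
      refine Subgroup.mem_inf.2 ⟨?_, (e.symm m.1).2⟩
      rw [hNG, Subgroup.mem_normalizer_iff]
      intro h
      have hm := Subgroup.mem_normalizer_iff.1 m.2
      set z : N := e.symm m.1 with hz
      have hez : e z = m.1 := by rw [hz, e.apply_symm_apply]
      constructor
      · intro hh
        have h1 := (hm (e ⟨h, hPN hh⟩)).1 ((hmemS ⟨h, hPN hh⟩).2 hh)
        rw [← hez, ← map_inv, ← map_mul, ← map_mul] at h1
        exact (hmemS _).1 h1
      · intro hh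
        have hhN : h ∈ N := by
          have h1 := hNn.conj_mem' _ (hPN hh) (z : G)
          convert h1 using 1
          group
        have h1 : e (z * ⟨h, hhN⟩ * z⁻¹) ∈ (S : Subgroup M) := (hmemS _).2 hh
        rw [map_mul, map_mul, map_inv, hez] at h1
        exact (hmemS ⟨h, hhN⟩).1 ((hm _).2 h1)
    refine Nat.card_le_card_of_injective
      (fun m => (⟨((e.symm m.1 : N) : G), hin m⟩ : (NG ⊓ N : Subgroup G))) ?_
    intro m m' h
    have h' := congrArg Subtype.val h
    exact Subtype.ext (e.symm.injective (Subtype.ext h'))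
  have hMp := natCard_eq_prime_of_normalizer hα M S hnorm
  have hNP : (P : Subgroup G) = N := Subgroup.eq_of_le_of_card_ge hPN (by
    rw [hP, ← hMp, hM, Subgroup.card_map_of_injective G.subtype_injective])
  exact hG (isSolvable_of_normalizer_eq_top hα G P
    (Subgroup.normalizer_eq_top_iff.2 (hNP ▸ hNn)))

/-- In a group of even permutations of degree `p ≡ 3 (mod 4)` Sylow normalisers have odd order. -/
theorem odd_normalizer (hp3 : p % 4 = 3) (hα : Fintype.card α = p) (G : Subgroup (Perm α))
    [IsPretransitive G α] (hev : G ≤ alternatingGroup α) (P : Sylow p G) :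
    Odd (Nat.card (Subgroup.normalizer ((P : Subgroup G) : Set G))) := by
  by_contra h
  rw [Nat.not_odd_iff_even] at h
  have hp2 : p ≠ 2 := by omega
  obtain ⟨e, t, s, b, hs, -, hse⟩ := exists_inversion_coordinates hp2 hα G P h
  have h2 : (2 : ZMod p) ≠ 0 := by
    intro h2
    have h2' : ((2 : ℕ) : ZMod p) = 0 := by exact_mod_cast h2
    rw [ZMod.natCast_eq_zero_iff] at h2'
    exact hp2 ((Nat.prime_dvd_prime_iff_eq hp.out Nat.prime_two).1 h2')
  have hcompl : (s : Perm α).supportᶜ = {e.symm (b / 2)} := by
    ext z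
    simp only [Finset.mem_compl, Perm.mem_support, not_not, Finset.mem_singleton]
    constructor
    · intro hz
      apply e.injective
      have h1 := hse z
      change e ((s : Perm α) z) = _ at h1
      rw [hz] at h1
      rw [e.apply_symm_apply, eq_div_iff h2]
      linear_combination h1
    · rintro rfl
      apply e.injective
      change e (s • e.symm (b / 2)) = _
      rw [hse, e.apply_symm_apply]
      field_simp
      ring
  have hcard : (s : Perm α).support.card = p - 1 := by
    have := Finset.card_compl (s : Perm α).support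
    rw [hcompl, Finset.card_singleton, hα] at this
    omega
  have hsg : Perm.sign (s : Perm α) = 1 := Perm.mem_alternatingGroup.1 (hev s.2)
  have hs2 : (s : Perm α) ^ 2 = 1 := by
    rw [← SubgroupClass.coe_pow, pow_eq_one_of_orderOf hs, OneMemClass.coe_one]
  haveI : Fact (Nat.Prime 2) := ⟨Nat.prime_two⟩
  obtain ⟨n, hn⟩ := Perm.cycleType_prime_order (σ := (s : Perm α))
    (by rw [Subgroup.orderOf_coe, hs]; exact Nat.prime_two)
  rw [Subgroup.orderOf_coe, hs] at hn
  have hsum := Perm.sum_cycleType (s : Perm α)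
  rw [hn, Multiset.sum_replicate, hcard] at hsum
  rw [Perm.sign_of_cycleType, hn, Multiset.sum_replicate, Multiset.card_replicate] at hsg
  simp only [smul_eq_mul] at hsum hsg
  have hodd : Odd ((n + 1) * 2 + (n + 1)) := by rw [Nat.odd_iff]; omega
  rw [hodd.neg_one_pow] at hsg
  exact absurd hsg (by decide)

omit hp in
/-- The normaliser of a Sylow subgroup of order `q` when the centraliser is as small as possible. -/
theorem centralizer_normalizer_prime {H : Type*} [Group H] [Finite H] {q : ℕ} [hq : Fact q.Prime]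
    (hsq : ¬ q ^ 2 ∣ Nat.card H) (Q : Sylow q H) (hQ : Nat.card Q = q)
    (hC : ∀ g ∈ Subgroup.centralizer ((Q : Subgroup H) : Set H), ∀ r : ℕ, r.Prime →
      orderOf g = r → r = q) :
    Nat.card (Subgroup.centralizer ((Q : Subgroup H) : Set H)) = q ∧
      ∃ m, m ∣ q - 1 ∧ Nat.card (Subgroup.normalizer ((Q : Subgroup H) : Set H)) = q * m := by
  haveI : IsCyclic (Q : Subgroup H) := isCyclic_of_prime_card hQ
  have hcomm : IsMulCommutative (Q : Subgroup H) := IsCyclic.isMulCommutative
  set C := Subgroup.centralizer ((Q : Subgroup H) : Set H) with hCdef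
  have hQC : (Q : Subgroup H) ≤ C := Subgroup.le_centralizer _
  have hCc : Nat.card C = q := by
    have hpow : ∀ r : ℕ, r.Prime → r ∣ Nat.card C → r = q := by
      intro r hr hd
      haveI : Fact r.Prime := ⟨hr⟩
      obtain ⟨g, hg⟩ := exists_prime_orderOf_dvd_card' (G := C) r hd
      exact hC g g.2 r hr (by rw [Subgroup.orderOf_coe, hg])
    obtain ⟨k, hk⟩ : ∃ k, Nat.card C = q ^ k :=
      ⟨_, Nat.eq_prime_pow_of_unique_prime_dvd Nat.card_pos.ne' fun {r} hr hd => hpow r hr hd⟩
    have hk1 : k ≤ 1 := by
      by_contra hk1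
      exact hsq ((pow_dvd_pow q (show 2 ≤ k by omega)).trans
        (hk ▸ Subgroup.card_subgroup_dvd_card C))
    have h1 : q ∣ q ^ k := hk ▸ hQ ▸ Subgroup.card_dvd_of_le hQC
    have hk0 : k ≠ 0 := by
      rintro rfl
      rw [pow_zero, Nat.dvd_one] at h1
      exact hq.out.one_lt.ne' h1
    rw [hk, show k = 1 by omega, pow_one]
  refine ⟨hCc, ?_⟩
  have hCeq : (Q : Subgroup H) = C := Subgroup.eq_of_le_of_card_ge hQC (by rw [hCc, hQ])
  have hker := Subgroup.normalizerMonoidHom_ker (Q : Subgroup H)
  have key := Subgroup.card_dvd_of_injective _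
    (QuotientGroup.kerLift_injective (Q : Subgroup H).normalizerMonoidHom)
  rw [hker, ← hCdef, ← hCeq, IsCyclic.card_mulAut, hQ, Nat.totient_prime hq.out] at key
  set N := Subgroup.normalizer ((Q : Subgroup H) : Set H)
  refine ⟨_, key, ?_⟩
  rw [← ((Q : Subgroup H).subgroupOf N).index_mul_card, Nat.mul_comm,
    Nat.card_congr (Subgroup.subgroupOfEquivOfLe Subgroup.le_normalizer).toEquiv, hQ,
    Subgroup.index_eq_card]

omit hp in
theorem natCard_sylow_mul {H : Type*} [Group H] [Finite H] {q : ℕ} [Fact q.Prime] (Q : Sylow q H) :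
    Nat.card (Sylow q H) * Nat.card (Subgroup.normalizer ((Q : Subgroup H) : Set H))
      = Nat.card H := by
  rw [Sylow.card_eq_index_normalizer Q]
  exact Subgroup.index_mul_card _

omit hp in
/-- The order of a doubly transitive group and the two point stabiliser. -/
theorem natCard_two_point (G : Subgroup (Perm α)) (h2 : IsMultiplyPretransitive G α 2)
    {a b : α} (hab : a ≠ b) :
    Fintype.card α * (Fintype.card α - 1) *
      Nat.card (G ⊓ stabilizer (Perm α) a ⊓ stabilizer (Perm α) b : Subgroup (Perm α))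
      = Nat.card G := by
  classical
  have horb : orbit G ((a, b) : α × α) = ↑((Finset.univ : Finset α).offDiag) := by
    ext ⟨c, d⟩
    simp only [Finset.coe_offDiag, Finset.coe_univ, Set.mem_offDiag, Set.mem_univ, true_and]
    constructor
    · rintro ⟨g, hg⟩
      simp only [Prod.smul_mk, Prod.mk.injEq] at hg
      rw [← hg.1, ← hg.2]
      exact fun h => hab (MulAction.injective g h)
    · intro hcd
      obtain ⟨g, hg1, hg2⟩ := is_two_pretransitive_iff.mp h2 hab hcd
      exact ⟨g, by simp [hg1, hg2]⟩
  have h := MulAction.card_orbit_mul_card_stabilizer_eq_card_group G ((a, b) : α × α)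
  simp only [← Nat.card_eq_fintype_card] at h
  rw [horb] at h
  have e1 : Nat.card (↑((Finset.univ : Finset α).offDiag) : Set (α × α)) =
      Fintype.card α * (Fintype.card α - 1) := by
    rw [Nat.card_coe_set_eq, Set.ncard_coe_finset, Finset.offDiag_card, Finset.card_univ,
      Nat.mul_sub, mul_one]
  have e2 : Nat.card (stabilizer G ((a, b) : α × α)) =
      Nat.card (G ⊓ stabilizer (Perm α) a ⊓ stabilizer (Perm α) b : Subgroup (Perm α)) := by
    refine Nat.card_congr ⟨fun g => ⟨g.1.1, ⟨g.1.2, ?_⟩, ?_⟩, fun g => ⟨⟨g.1, g.2.1.1⟩, ?_⟩,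
      fun g => rfl, fun g => rfl⟩
    · exact congrArg Prod.fst g.2
    · exact congrArg Prod.snd g.2
    · exact Prod.ext g.2.1.2 g.2.2
  rw [e1, e2] at h
  exact h

end Cfsg.Agent.PermGroups.SmallDegree
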