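import Cfsg.Agent.PermGroups.PrimeSylow
import Cfsg.Agent.PermGroups.HeartPrime

/-!
Prime degree with even Sylow normaliser: a translation and an inversion.
-/

set_option autoImplicit false
set_option linter.unusedSectionVars false

namespace Cfsg.Agent.PermGroups

open MulAction Equiv

variable {α : Type*} [Fintype α] [DecidableEq α] {p : ℕ} [hp : Fact p.Prime]

/-- Coordinates in which the group contains all translations and an inversion. -/
theorem exists_inversion_coordinates (hp2 : p ≠ 2) (hα : Fintype.card α = p) (G : Subgroup (Perm α))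
    [IsPretransitive G α] (P : Sylow p G)
    (heven : Even (Nat.card (Subgroup.normalizer ((P : Subgroup G) : Set G)))) :
    ∃ (e : α ≃ ZMod p) (t s : G) (b : ZMod p), orderOf s = 2 ∧
      (∀ (n : ℕ) z, e (t ^ n • z) = e z + n) ∧ ∀ z, e (s • z) = -e z + b := by
  classical
  have hPc := natCard_sylow_prime_degree hα G P
  obtain ⟨x, hx⟩ := exists_prime_orderOf_dvd_card' (G := (P : Subgroup G)) p (by rw [hPc])
  set τ : Perm α := ((x : G) : Perm α) with hτdef
  have hτ : orderOf τ = p := by rw [hτdef, Subgroup.orderOf_coe, Subgroup.orderOf_coe, hx]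
  obtain ⟨a⟩ : Nonempty α := Fintype.card_pos_iff.mp (hα ▸ hp.out.pos)
  obtain ⟨e, -, he⟩ := exists_coordinates hα hτ a
  haveI : Fact (Nat.Prime 2) := ⟨Nat.prime_two⟩
  obtain ⟨s, hs⟩ := exists_prime_orderOf_dvd_card'
    (G := Subgroup.normalizer ((P : Subgroup G) : Set G)) 2 heven.two_dvd
  have hzp : Subgroup.zpowers x = ⊤ := Subgroup.eq_top_of_card_eq _ (by rw [Nat.card_zpowers, hx, hPc])
  have hpowx : ∀ y ∈ (P : Subgroup G), ∃ n : ℕ, (y : G) = (x : G) ^ n := by
    intro y hy
    have : (⟨y, hy⟩ : (P : Subgroup G)) ∈ Subgroup.zpowers x := hzp ▸ Subgroup.mem_top _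
    obtain ⟨n, hn⟩ := mem_zpowers_iff_mem_range_orderOf.1 this |> Finset.mem_image.1
    exact ⟨n, (congrArg (fun z : (P : Subgroup G) => (z : G)) hn.2).symm⟩
  obtain ⟨j, hj⟩ := hpowx ((s : G) * x * (s : G)⁻¹)
    ((Subgroup.mem_normalizer_iff.1 s.2 x).1 x.2)
  have hj' : ∀ z : α, (s : G) • (x : G) • z = (x : G) ^ j • (s : G) • z := fun z => by
    rw [← mul_smul, ← mul_smul, ← hj, inv_mul_cancel_right]
  have hxn : ∀ (n : ℕ) z, e ((x : G) ^ n • z) = e z + n := fun n z => he n z
  have hlin : ∀ (n : ℕ) z, e ((s : G) • (x : G) ^ n • z) = e ((s : G) • z) + n * j := by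
    intro n
    induction n with
    | zero => intro z; simp
    | succ n ih =>
      intro z
      rw [pow_succ, mul_smul, ih, hj', hxn, Nat.cast_succ]; ring
  set b : ZMod p := e ((s : G) • e.symm 0) with hb
  have hs' : ∀ z, e ((s : G) • z) = (j : ZMod p) * e z + b := by
    intro z
    have hz : (x : G) ^ (e z).val • e.symm 0 = z := e.injective (by
      rw [hxn, apply_symm_apply, ZMod.natCast_zmod_val, zero_add])
    conv_lhs => rw [← hz, hlin, ZMod.natCast_zmod_val]
    ring
  have hsord : orderOf (s : G) = 2 := by rw [Subgroup.orderOf_coe, hs]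
  have hs2 : ∀ z : α, (s : G) • (s : G) • z = z := by
    intro z
    have : (s : G) ^ 2 = 1 := by rw [← hsord, pow_orderOf_eq_one]
    rw [← mul_smul, ← sq, this, one_smul]
  have key : ∀ z : ZMod p, (j : ZMod p) * ((j : ZMod p) * z + b) + b = z := fun z => by
    conv_rhs => rw [← e.apply_symm_apply z, ← hs2 (e.symm z), hs', hs', apply_symm_apply]
  have k0 := key 0
  have k1 := key 1
  have hsq : (j : ZMod p) * j = 1 := by linear_combination k1 - k0
  refine ⟨e, (x : G), (s : G), b, hsord, hxn, fun z => ?_⟩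
  rcases mul_self_eq_one_iff.1 hsq with h | h
  · exfalso
    have h2b : (2 : ZMod p) * b = 0 := by rw [h] at k0; linear_combination k0
    have hb0 : b = 0 := by
      refine (mul_eq_zero.1 h2b).resolve_left fun h2 => hp2 ?_
      have h2' : ((2 : ℕ) : ZMod p) = 0 := by exact_mod_cast h2
      rw [ZMod.natCast_eq_zero_iff] at h2'
      exact (Nat.prime_dvd_prime_iff_eq hp.out Nat.prime_two).1 h2'
    have : (s : G) = 1 := Subtype.ext (Perm.ext fun w => e.injective (by
      show e ((s : G) • w) = e w
      rw [hs', h, hb0, one_mul, add_zero]))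
    rw [this, orderOf_one] at hsord
    omega
  · rw [hs', h, neg_one_mul]

end Cfsg.Agent.PermGroups
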