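import Mathlib
import Cfsg.Agent.Core.Hall
import Cfsg.Agent.OddLocal.PrimePowerOrders

/-!
Elementary facts on prime graphs.
-/

set_option autoImplicit false

namespace Cfsg.Agent.PermGroups

variable {G : Type*} [Group G]

theorem exists_orderOf_of_dvd {g : G} {d : ℕ} (hd : d ∣ orderOf g) (h0 : orderOf g ≠ 0) :
    ∃ x : G, orderOf x = d := by
  obtain ⟨c, hc⟩ := hd
  have hc0 : c ≠ 0 := fun e => h0 (by rw [hc, e, mul_zero])
  exact ⟨g ^ c, by rw [orderOf_pow_of_dvd hc0 ⟨d, by rw [hc, mul_comm]⟩, hc,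
    Nat.mul_div_cancel _ (Nat.pos_of_ne_zero hc0)]⟩

/-- Commuting elements of orders divisible by distinct primes `r`, `s` give order `r * s`. -/
theorem exists_orderOf_mul_of_commute [Finite G] {a b : G} {r s : ℕ} (hr : r.Prime) (hs : s.Prime)
    (hrs : r ≠ s) (ha : r ∣ orderOf a) (hb : s ∣ orderOf b) (h : a * b = b * a) :
    ∃ x : G, orderOf x = r * s := by
  obtain ⟨c, hc⟩ := ha
  obtain ⟨d, hd⟩ := hb
  have ha0 : orderOf a ≠ 0 := (orderOf_pos a).ne'
  have hb0 : orderOf b ≠ 0 := (orderOf_pos b).ne'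
  have hc0 : c ≠ 0 := fun e => ha0 (by rw [hc, e, mul_zero])
  have hd0 : d ≠ 0 := fun e => hb0 (by rw [hd, e, mul_zero])
  have h1 : orderOf (a ^ c) = r := by
    rw [orderOf_pow_of_dvd hc0 ⟨r, by rw [hc, mul_comm]⟩, hc, Nat.mul_div_cancel _ (Nat.pos_of_ne_zero hc0)]
  have h2 : orderOf (b ^ d) = s := by
    rw [orderOf_pow_of_dvd hd0 ⟨s, by rw [hd, mul_comm]⟩, hd, Nat.mul_div_cancel _ (Nat.pos_of_ne_zero hd0)]
  refine ⟨a ^ c * b ^ d, ?_⟩
  rw [((show Commute a b from h).pow_pow c d).orderOf_mul_eq_mul_orderOf_of_coprime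
    (by rw [h1, h2]; exact (Nat.coprime_primes hr hs).2 hrs), h1, h2]

/-- In a solvable group, three primes dividing the order are not pairwise non-adjacent. -/
theorem exists_edge_of_solvable [Finite G] [Group.IsSolvable G] (T : Finset ℕ) (hT : 3 ≤ T.card)
    (hdvd : ∀ r ∈ T, r.Prime ∧ r ∣ Nat.card G) :
    ∃ r ∈ T, ∃ s ∈ T, r ≠ s ∧ ∃ x : G, orderOf x = r * s := by
  by_contra hno
  push Not at hno
  obtain ⟨H, hH⟩ := Cfsg.Agent.Core.exists_isPiHall
    (Cfsg.Agent.Core.isPiSeparable_of_isSolvable (π := (T : Set ℕ)) (G := G))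
  have hpp : Cfsg.Agent.OddLocal.AllPrimePowerOrders H := by
    intro g a b ha hb hag hbg
    have haT : a ∈ T := hH.1 a ha (hag.trans (orderOf_dvd_natCard g))
    have hbT : b ∈ T := hH.1 b hb (hbg.trans (orderOf_dvd_natCard g))
    by_contra hab
    obtain ⟨x, hx⟩ := exists_orderOf_of_dvd
      (show a * b ∣ orderOf g from Nat.Coprime.mul_dvd_of_dvd_of_dvd
        ((Nat.coprime_primes ha hb).2 hab) hag hbg) (orderOf_pos g).ne'
    exact hno a haT b hbT hab (x : G) (by rw [Subgroup.orderOf_coe, hx])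
  have hle := Cfsg.Agent.OddLocal.two_primes_of_allPrimePowerOrders _ hpp le_rfl
  have hsub : T ⊆ (Nat.card H).primeFactors := fun r hr => by
    obtain ⟨hrp, hrd⟩ := hdvd r hr
    rw [← H.index_mul_card] at hrd
    exact Nat.mem_primeFactors.2 ⟨hrp, (hrp.dvd_mul.1 hrd).resolve_left (hH.2 r hrp hr),
      Nat.card_pos.ne'⟩
  have := Finset.card_le_card hsub
  omega

end Cfsg.Agent.PermGroups
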