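import Cfsg.Agent.PermGroups.PrimeDegree

/-!
The Sylow `p`-subgroup of a transitive group of prime degree `p`, and its normaliser.
-/

namespace Cfsg.Agent.PermGroups

open MulAction Equiv

set_option linter.unusedSectionVars false

variable {α : Type*} [Fintype α] [DecidableEq α] {p : ℕ} [hp : Fact p.Prime]

theorem natCard_sylow_prime_degree (hα : Fintype.card α = p) (G : Subgroup (Perm α))
    [IsPretransitive G α] (P : Sylow p G) : Nat.card P = p := by
  obtain ⟨τ, hτG, hτ⟩ := exists_orderOf_eq_degree hα G
  rw [P.card_eq_multiplicity]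
  conv_rhs => rw [← pow_one p]
  congr 1
  have hdvd : Nat.card G ∣ p.factorial := by
    rw [← hα, ← Fintype.card_perm, ← Nat.card_eq_fintype_card]
    exact Subgroup.card_subgroup_dvd_card G
  have hG0 : Nat.card G ≠ 0 := Nat.card_pos.ne'
  refine le_antisymm ?_ ?_
  · have h1 := (Nat.factorization_le_iff_dvd hG0 p.factorial_ne_zero).mpr hdvd p
    have h2 : p.factorial.factorization p = 1 := by
      conv_lhs => rw [← Nat.mul_factorial_pred hp.out.ne_zero]
      rw [Nat.factorization_mul hp.out.ne_zero (Nat.factorial_ne_zero _), Finsupp.add_apply,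
        hp.out.factorization_self, Nat.factorization_eq_zero_of_not_dvd]
      rw [hp.out.dvd_factorial]
      have := hp.out.two_le
      omega
    omega
  · refine (hp.out.dvd_iff_one_le_factorization hG0).mp ?_
    have := orderOf_dvd_natCard (⟨τ, hτG⟩ : G)
    rwa [Subgroup.orderOf_mk, hτ] at this

theorem isPretransitive_of_card_eq_prime (hα : Fintype.card α = p) (G : Subgroup (Perm α))
    (P : Subgroup G) (hP : Nat.card P = p) : IsPretransitive P α := by
  obtain ⟨x, hx⟩ := exists_prime_orderOf_dvd_card' (G := P) p (hP ▸ dvd_rfl)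
  have hx' : orderOf ((x : G) : Perm α) = p := by
    rw [Subgroup.orderOf_coe, Subgroup.orderOf_coe, hx]
  obtain ⟨a⟩ : Nonempty α := Fintype.card_pos_iff.mp (hα ▸ hp.out.pos)
  obtain ⟨e, he0, he⟩ := exists_coordinates hα hx' a
  refine ⟨fun u v => ⟨x ^ (e v - e u).val, ?_⟩⟩
  apply e.injective
  change e (((x : G) : Perm α) ^ (e v - e u).val • u) = e v
  rw [Perm.smul_def, he, ZMod.natCast_zmod_val]
  ring

/-- The normaliser of a Sylow `p`-subgroup has order `p * m` with `m ∣ p - 1`. -/
theorem exists_natCard_normalizer (hα : Fintype.card α = p) (G : Subgroup (Perm α))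
    [IsPretransitive G α] (P : Sylow p G) :
    ∃ m, m ∣ p - 1 ∧ Nat.card (Subgroup.normalizer ((P : Subgroup G) : Set G)) = p * m := by
  have hP := natCard_sylow_prime_degree hα G P
  have hPt := isPretransitive_of_card_eq_prime hα G P hP
  have hcyc : IsCyclic (P : Subgroup G) := isCyclic_of_prime_card hP
  have hcomm : IsMulCommutative (P : Subgroup G) := IsCyclic.isMulCommutative
  obtain ⟨a⟩ : Nonempty α := Fintype.card_pos_iff.mp (hα ▸ hp.out.pos)
  set C := Subgroup.centralizer ((P : Subgroup G) : Set G) with hC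
  have hPC : (P : Subgroup G) ≤ C := Subgroup.le_centralizer (P : Subgroup G)
  have hCP : Nat.card C ≤ p := by
    rw [← hα, ← Nat.card_eq_fintype_card]
    refine Nat.card_le_card_of_injective (fun c : C => ((c : G) : Perm α) a) fun c d hcd => ?_
    refine Subtype.ext (Subtype.ext (Perm.ext fun x => ?_))
    obtain ⟨g, rfl⟩ := exists_smul_eq (P : Subgroup G) a x
    have hc := congrArg (fun h : G => (h : Perm α) a)
      (Subgroup.mem_centralizer_iff.mp c.2 g g.2)
    have hd := congrArg (fun h : G => (h : Perm α) a)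
      (Subgroup.mem_centralizer_iff.mp d.2 g g.2)
    simp only [Subgroup.coe_mul, Perm.coe_mul, Function.comp_apply] at hc hd
    change ((c : G) : Perm α) (((g : G) : Perm α) a) = ((d : G) : Perm α) (((g : G) : Perm α) a)
    rw [← hc, ← hd, show ((c : G) : Perm α) a = ((d : G) : Perm α) a from hcd]
  have hCeq : C = P := (Subgroup.eq_of_le_of_card_ge hPC (hP.symm ▸ hCP)).symm
  have hker := Subgroup.normalizerMonoidHom_ker (P : Subgroup G)
  have key := Subgroup.card_dvd_of_injective _
    (QuotientGroup.kerLift_injective (P : Subgroup G).normalizerMonoidHom)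
  rw [hker, ← hC, hCeq, IsCyclic.card_mulAut, hP, Nat.totient_prime hp.out] at key
  set N := Subgroup.normalizer ((P : Subgroup G) : Set G)
  refine ⟨_, key, ?_⟩
  rw [← ((P : Subgroup G).subgroupOf N).index_mul_card, Nat.mul_comm,
    Nat.card_congr (Subgroup.subgroupOfEquivOfLe Subgroup.le_normalizer).toEquiv, hP,
    Subgroup.index_eq_card]

end Cfsg.Agent.PermGroups
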