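import Mathlib.RingTheory.Adjoin.Basic
import Mathlib.RingTheory.IntegralDomain
import Mathlib.FieldTheory.Finite.Basic
import Mathlib.FieldTheory.Galois.Basic
import Mathlib.LinearAlgebra.FiniteDimensional.Lemmas
import Mathlib.GroupTheory.IndexNormal
import Cfsg.Agent.FGS4.FrobeniusFPF
import Cfsg.Agent.FGS4.Zass.Main

/-!
Linear groups over a prime field that are regular on the non-zero vectors: the field generated
by a normal abelian subgroup.
-/

set_option autoImplicit false
set_option linter.style.haveILetI false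
set_option linter.unusedSectionVars false

namespace Cfsg.Agent.PermGroups.RegLin

variable {p : ℕ} [hp : Fact p.Prime] {V : Type*} [AddCommGroup V] [Module (ZMod p) V] [Finite V]
  {H : Subgroup (V ≃ₗ[ZMod p] V)}

/-- The group is regular on the non-zero vectors. -/
def IsReg (H : Subgroup (V ≃ₗ[ZMod p] V)) : Prop :=
  ∀ v w : V, v ≠ 0 → w ≠ 0 → ∃! h : H, (h : V ≃ₗ[ZMod p] V) v = w

/-- Every cyclic normal subgroup is reducible. -/
def NoIrrCyclic (H : Subgroup (V ≃ₗ[ZMod p] V)) : Prop :=
  ∀ A : Subgroup H, A.Normal → IsCyclic A →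
    ∃ W : Submodule (ZMod p) V, W ≠ ⊥ ∧ W ≠ ⊤ ∧ ∀ a ∈ A, ∀ v ∈ W, ((a : H) : V ≃ₗ[ZMod p] V) v ∈ W

theorem finite_group (H : Subgroup (V ≃ₗ[ZMod p] V)) : Finite H :=
  Finite.of_injective (fun h : H => ((h : V ≃ₗ[ZMod p] V) : V → V))
    fun _ _ h => Subtype.ext (LinearEquiv.ext (congrFun h))

theorem IsReg.eq_one (hreg : IsReg H) {h : H} {v : V} (hv : v ≠ 0)
    (hfix : (h : V ≃ₗ[ZMod p] V) v = v) : h = 1 :=
  (hreg v v hv hv).unique hfix rfl

theorem IsReg.card_eq (hreg : IsReg H) [Nontrivial V] : Nat.card H + 1 = Nat.card V := by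
  classical
  haveI := Fintype.ofFinite V
  obtain ⟨v, hv⟩ := exists_ne (0 : V)
  have hne : ∀ h : H, (h : V ≃ₗ[ZMod p] V) v ≠ 0 := fun h e => hv (by simpa using e)
  have hbij : Function.Bijective
      (fun h : H => (⟨(h : V ≃ₗ[ZMod p] V) v, hne h⟩ : {w : V // w ≠ 0})) := by
    refine ⟨fun h h' e => (hreg v _ hv (hne h)).unique rfl (congrArg Subtype.val e).symm, fun w => ?_⟩
    obtain ⟨h, hh, -⟩ := hreg v w.1 hv w.2
    exact ⟨h, Subtype.ext hh⟩
  rw [Nat.card_eq_of_bijective _ hbij, Nat.card_eq_fintype_card, Nat.card_eq_fintype_card,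
    Fintype.card_subtype_compl, Fintype.card_subtype_eq]
  have := Fintype.card_pos (α := V)
  omega

theorem NoIrrCyclic.nontrivial (hI : NoIrrCyclic H) : Nontrivial V ∧ 3 ≤ Nat.card V := by
  classical
  obtain ⟨W, hW0, hW1, -⟩ := hI ⊥ inferInstance inferInstance
  obtain ⟨w, hw, hw0⟩ := Submodule.exists_mem_ne_zero_of_ne_bot hW0
  obtain ⟨u, -, hu⟩ := SetLike.exists_of_lt (lt_top_iff_ne_top.2 hW1)
  refine ⟨⟨⟨w, 0, hw0⟩⟩, ?_⟩
  haveI := Fintype.ofFinite V
  have hu0 : u ≠ 0 := fun h => hu (h ▸ zero_mem W)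
  have huw : u ≠ w := fun h => hu (h ▸ hw)
  rw [Nat.card_eq_fintype_card]
  calc 3 = ({u, w, 0} : Finset V).card := by simp [huw, hu0, hw0]
    _ ≤ _ := Finset.card_le_univ _

/-- The fixed-point-free complex representation of the group. -/
theorem IsReg.exists_fpfRep (hreg : IsReg H) [Nontrivial V] [Nontrivial H] :
    ∃ m : ℕ, 0 < m ∧ Nonempty (FGS4.Zass.FPFRep H (Fin m → ℂ)) := by
  haveI := finite_group H
  refine FGS4.Zass.exists_fpfRep (FGS4.exists_complement_of_fpf_add (M := V)
    (fun (h : H) v => (h : V ≃ₗ[ZMod p] V) v) (fun v => rfl) (fun a b v => rfl)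
    (fun a v w => map_add _ _ _) fun h hh v hv => ?_)
  by_contra hv0
  exact hh (hreg.eq_one hv0 hv)

/-- The endomorphism of an element. -/
def toEnd (h : H) : Module.End (ZMod p) V := ((h : V ≃ₗ[ZMod p] V) : V →ₗ[ZMod p] V)

theorem toEnd_mul (a b : H) : toEnd (a * b) = toEnd a * toEnd b := rfl

theorem toEnd_one : toEnd (1 : H) = 1 := rfl

theorem toEnd_injective : Function.Injective (toEnd : H → Module.End (ZMod p) V) :=
  fun _ _ h => Subtype.ext (LinearEquiv.toLinearMap_injective h)

theorem toEnd_apply (h : H) (v : V) : toEnd h v = (h : V ≃ₗ[ZMod p] V) v := rfl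

/-- The algebra generated by a subgroup. -/
def genAlg (A : Subgroup H) : Subalgebra (ZMod p) (Module.End (ZMod p) V) :=
  Algebra.adjoin (ZMod p) (toEnd '' (A : Set H))

theorem mem_genAlg {A : Subgroup H} {a : H} (ha : a ∈ A) : toEnd a ∈ genAlg A :=
  Algebra.subset_adjoin ⟨a, ha, rfl⟩

theorem genAlg_commute_of_commute {A : Subgroup H} {x : Module.End (ZMod p) V}
    (hx : ∀ a ∈ A, Commute x (toEnd a)) {r : Module.End (ZMod p) V} (hr : r ∈ genAlg A) :
    Commute x r :=
  Algebra.commute_of_mem_adjoin_of_forall_mem_commute hr fun _ ⟨a, ha, e⟩ => e ▸ hx a ha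

theorem genAlg_comm {A : Subgroup H} (hA : IsMulCommutative A) {r s : Module.End (ZMod p) V}
    (hr : r ∈ genAlg A) (hs : s ∈ genAlg A) : r * s = s * r := by
  refine (genAlg_commute_of_commute (fun a ha => ?_) hr).symm
  refine (genAlg_commute_of_commute (x := toEnd a) (fun b hb => ?_) hs).symm
  have := congrArg (fun z : A => toEnd (z : H)) (hA.is_comm.comm ⟨a, ha⟩ ⟨b, hb⟩)
  simp only [Subgroup.coe_mul, toEnd_mul] at this
  exact this

theorem conj_mem_genAlg {A : Subgroup H} [A.Normal] (h : H) {r : Module.End (ZMod p) V}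
    (hr : r ∈ genAlg A) : toEnd h * r * toEnd h⁻¹ ∈ genAlg A := by
  have hh : ∀ x y : Module.End (ZMod p) V,
      toEnd h * (x * y) * toEnd h⁻¹ = toEnd h * x * toEnd h⁻¹ * (toEnd h * y * toEnd h⁻¹) := fun x y => by
    simp only [mul_assoc]
    rw [← mul_assoc (toEnd h⁻¹) (toEnd h), ← toEnd_mul, inv_mul_cancel, toEnd_one, one_mul]
  induction hr using Algebra.adjoin_induction with
  | mem x hx =>
    obtain ⟨a, ha, rfl⟩ := hx
    rw [← toEnd_mul, ← toEnd_mul]
    exact mem_genAlg (Subgroup.Normal.conj_mem ‹A.Normal› a ha h)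
  | algebraMap c =>
    rw [← Algebra.commutes c, mul_assoc, ← toEnd_mul, mul_inv_cancel, toEnd_one, mul_one]
    exact Subalgebra.algebraMap_mem _ c
  | add x y _ _ hx hy => rw [mul_add, add_mul]; exact add_mem hx hy
  | mul x y _ _ hx hy => rw [hh]; exact mul_mem hx hy

/-- The algebra of a normal abelian subgroup acts without fixed points. -/
theorem IsReg.genAlg_eq_zero (hreg : IsReg H) {A : Subgroup H} [A.Normal] (hA : IsMulCommutative A)
    {r : Module.End (ZMod p) V} (hr : r ∈ genAlg A) {v : V} (hv : v ≠ 0) (h0 : r v = 0) : r = 0 := by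
  classical
  -- a vector with a smallest cyclic submodule
  let S : V → Set V := fun u => {x | ∃ s ∈ genAlg A, s u = x}
  obtain ⟨v₀, hv₀, hmin⟩ := Set.exists_min_image {u : V | u ≠ 0} (fun u => (S u).ncard)
    (Set.toFinite _) ⟨v, hv⟩
  have hsimple₀ : ∀ s ∈ genAlg A, s v₀ ≠ 0 → ∃ t ∈ genAlg A, t (s v₀) = v₀ := by
    intro s hs hne
    have hsub : S (s v₀) ⊆ S v₀ := fun x ⟨t, ht, e⟩ => ⟨t * s, mul_mem ht hs, e⟩
    have heq : S (s v₀) = S v₀ := Set.eq_of_subset_of_ncard_le hsub (hmin _ hne) (Set.toFinite _)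
    have : v₀ ∈ S v₀ := ⟨1, one_mem _, rfl⟩
    rw [← heq] at this
    exact this
  have hsimple : ∀ u : V, u ≠ 0 → ∀ s ∈ genAlg A, s u ≠ 0 → ∃ t ∈ genAlg A, t (s u) = u := by
    intro u hu s hs hne
    obtain ⟨h, rfl, -⟩ := hreg v₀ u hv₀ hu
    have hinv : ∀ x, toEnd h⁻¹ (toEnd h x) = x := fun x => (h : V ≃ₗ[ZMod p] V).symm_apply_apply x
    have hinv' : ∀ x, toEnd h (toEnd h⁻¹ x) = x := fun x => (h : V ≃ₗ[ZMod p] V).apply_symm_apply x
    set s' := toEnd h⁻¹ * s * toEnd h⁻¹⁻¹ with hs'
    have hs'v : s' v₀ = toEnd h⁻¹ (s (toEnd h v₀)) := by rw [hs', inv_inv]; rfl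
    obtain ⟨t, ht, htv⟩ := hsimple₀ s' (conj_mem_genAlg h⁻¹ hs) fun e => hne (by
      have := congrArg (toEnd h) (hs'v.symm.trans e)
      rw [hinv', map_zero] at this
      exact this)
    refine ⟨toEnd h * t * toEnd h⁻¹, conj_mem_genAlg h ht, ?_⟩
    show toEnd h (t (toEnd h⁻¹ (s (toEnd h v₀)))) = toEnd h v₀
    rw [← hs'v, htv]
  by_contra hr0
  obtain ⟨w, hw⟩ : ∃ w, r w ≠ 0 := by
    by_contra hcon
    push Not at hcon
    exact hr0 (LinearMap.ext hcon)
  obtain ⟨s, hs, hsw⟩ := hsimple w (fun e => hw (by rw [e, map_zero])) r hr hw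
  have hu : (s * r) (v + w) = w := by
    show s (r (v + w)) = w
    rw [map_add, h0, zero_add, hsw]
  have hw0 : w ≠ 0 := fun e => hw (by rw [e, map_zero])
  obtain ⟨t, ht, htu⟩ := hsimple (v + w) (fun e => hw0 (by rw [← hu, e, map_zero])) _ (mul_mem hs hr)
    (by rw [hu]; exact hw0)
  rw [hu] at htu
  have hcomm := LinearMap.congr_fun (genAlg_comm hA ht (mul_mem hs hr)) w
  change t (s (r w)) = (s * r) (t w) at hcomm
  rw [hsw, htu, hu] at hcomm
  exact hv (by simpa using hcomm)

theorem isDomain_genAlg (hreg : IsReg H) [Nontrivial V] {A : Subgroup H} [A.Normal]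
    (hA : IsMulCommutative A) : IsDomain (genAlg A) := by
  haveI : Nontrivial (genAlg A) := ⟨⟨1, 0, fun h => by
    obtain ⟨v, hv⟩ := exists_ne (0 : V)
    exact hv (LinearMap.congr_fun (congrArg Subtype.val h) v)⟩⟩
  haveI : NoZeroDivisors (genAlg A) := ⟨fun {r s} h => by
    by_cases hs : s = 0
    · exact Or.inr hs
    left
    obtain ⟨v, hv⟩ : ∃ v, (s : Module.End (ZMod p) V) v ≠ 0 := by
      by_contra hcon
      push Not at hcon
      exact hs (Subtype.ext (LinearMap.ext hcon))
    exact Subtype.ext (hreg.genAlg_eq_zero hA r.2 hv (LinearMap.congr_fun (congrArg Subtype.val h) v))⟩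
  exact NoZeroDivisors.to_isDomain _

theorem finite_genAlg (A : Subgroup H) : Finite (genAlg A) :=
  haveI : Finite (Module.End (ZMod p) V) := Finite.of_injective (fun f => (f : V → V)) DFunLike.coe_injective
  inferInstance

/-- The size of the field of a normal abelian subgroup. -/
noncomputable def fieldSize (A : Subgroup H) : ℕ := Nat.card (genAlg A)

theorem card_genAlg (A : Subgroup H) :
    fieldSize A = p ^ Module.finrank (ZMod p) (genAlg A) := by
  haveI := finite_genAlg A
  rw [fieldSize, Module.natCard_eq_pow_finrank (K := ZMod p), Nat.card_zmod]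

/-- A normal abelian subgroup is cyclic and of order dividing `q - 1`. -/
theorem IsReg.isCyclic_and_dvd (hreg : IsReg H) [Nontrivial V] {A : Subgroup H} [A.Normal]
    (hA : IsMulCommutative A) : IsCyclic A ∧ Nat.card A ∣ fieldSize A - 1 := by
  haveI := finite_genAlg A
  haveI := isDomain_genAlg hreg hA
  haveI := Fintype.ofFinite (genAlg A)
  letI : CommRing (genAlg A) :=
    { (inferInstance : Ring (genAlg A)) with
      mul_comm := fun r s => Subtype.ext (genAlg_comm hA r.2 s.2) }
  haveI : IsDomain (genAlg A) := isDomain_genAlg hreg hA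
  letI : Field (genAlg A) := (Finite.isDomain_to_isField (genAlg A)).toField
  let f : A →* genAlg A :=
    { toFun := fun a => ⟨toEnd (a : H), mem_genAlg a.2⟩
      map_one' := Subtype.ext (toEnd_one (H := H))
      map_mul' := fun a b => Subtype.ext (toEnd_mul _ _) }
  have hf : Function.Injective f := fun a b e => Subtype.ext (toEnd_injective (congrArg Subtype.val e))
  haveI := finite_group H
  refine ⟨isCyclic_of_subgroup_isDomain f hf, ?_⟩
  have hinj : Function.Injective f.toHomUnits := fun a b e => hf (congrArg Units.val e)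
  have h := Subgroup.card_dvd_of_injective f.toHomUnits hinj
  rwa [Nat.card_units, ← fieldSize] at h

/-- The vectors form a vector space over the field. -/
theorem IsReg.exists_card_eq_pow (hreg : IsReg H) [Nontrivial V] {A : Subgroup H} [A.Normal]
    (hA : IsMulCommutative A) :
    ∃ d : ℕ, Nat.card V = fieldSize A ^ d ∧
      ((∃ W : Submodule (ZMod p) V, W ≠ ⊥ ∧ W ≠ ⊤ ∧
        ∀ a ∈ A, ∀ v ∈ W, ((a : H) : V ≃ₗ[ZMod p] V) v ∈ W) → 2 ≤ d) := by
  haveI := finite_genAlg A
  haveI := isDomain_genAlg hreg hA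
  haveI := Fintype.ofFinite (genAlg A)
  letI : CommRing (genAlg A) :=
    { (inferInstance : Ring (genAlg A)) with
      mul_comm := fun r s => Subtype.ext (genAlg_comm hA r.2 s.2) }
  haveI : IsDomain (genAlg A) := isDomain_genAlg hreg hA
  letI : Field (genAlg A) := (Finite.isDomain_to_isField (genAlg A)).toField
  letI : Module (genAlg A) V := Module.compHom V (genAlg A).val.toRingHom
  refine ⟨Module.finrank (genAlg A) V, Module.natCard_eq_pow_finrank (K := genAlg A), ?_⟩
  rintro ⟨W, hW0, hW1, hWA⟩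
  by_contra hd
  push Not at hd
  obtain ⟨w, hw, hw0⟩ := Submodule.exists_mem_ne_zero_of_ne_bot hW0
  have hWR : ∀ r ∈ genAlg A, ∀ x ∈ W, r x ∈ W := by
    intro r hr
    induction hr using Algebra.adjoin_induction with
    | mem y hy => obtain ⟨a, ha, rfl⟩ := hy; exact hWA a ha
    | algebraMap c => intro x hx; rw [Module.algebraMap_end_apply]; exact W.smul_mem c hx
    | add y z _ _ hy hz => intro x hx; exact add_mem (hy x hx) (hz x hx)
    | mul y z _ _ hy hz => intro x hx; exact hy _ (hz x hx)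
  have hspan : Module.finrank (genAlg A) V = 1 := by
    have : 0 < Module.finrank (genAlg A) V := Module.finrank_pos
    omega
  refine hW1 (Submodule.eq_top_iff'.2 fun x => ?_)
  obtain ⟨c, hc⟩ := (finrank_eq_one_iff_of_nonzero' w hw0).1 hspan x
  rw [← hc]
  exact hWR c.1 c.2 w hw

/-- Conjugation on the field: the index of the centraliser divides the degree of the field,
and the quotient is abelian. -/
theorem IsReg.index_centralizer_dvd (hreg : IsReg H) [Nontrivial V] {A : Subgroup H} [A.Normal]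
    (hA : IsMulCommutative A) :
    (Subgroup.centralizer (A : Set H)).index ∣ Module.finrank (ZMod p) (genAlg A) ∧
      commutator H ≤ Subgroup.centralizer (A : Set H) := by
  haveI := finite_genAlg A
  haveI := isDomain_genAlg hreg hA
  haveI := Fintype.ofFinite (genAlg A)
  letI : CommRing (genAlg A) :=
    { (inferInstance : Ring (genAlg A)) with
      mul_comm := fun r s => Subtype.ext (genAlg_comm hA r.2 s.2) }
  haveI : IsDomain (genAlg A) := isDomain_genAlg hreg hA
  letI : Field (genAlg A) := (Finite.isDomain_to_isField (genAlg A)).toField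
  haveI : Finite (ZMod p) := inferInstance
  let σ : H → (genAlg A ≃ₐ[ZMod p] genAlg A) := fun h =>
    AlgEquiv.ofBijective
      { toFun := fun r => ⟨toEnd h * r.1 * toEnd h⁻¹, conj_mem_genAlg h r.2⟩
        map_one' := Subtype.ext (by
          show toEnd h * 1 * toEnd h⁻¹ = 1
          rw [mul_one, ← toEnd_mul, mul_inv_cancel, toEnd_one])
        map_mul' := fun r s => Subtype.ext (by
          show toEnd h * (r.1 * s.1) * toEnd h⁻¹ = toEnd h * r.1 * toEnd h⁻¹ * (toEnd h * s.1 * toEnd h⁻¹)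
          simp only [mul_assoc]
          rw [← mul_assoc (toEnd h⁻¹) (toEnd h), ← toEnd_mul, inv_mul_cancel, toEnd_one, one_mul])
        map_zero' := Subtype.ext (by
          show toEnd h * 0 * toEnd h⁻¹ = 0
          rw [mul_zero, zero_mul])
        map_add' := fun r s => Subtype.ext (by
          show toEnd h * (r.1 + s.1) * toEnd h⁻¹ = _
          rw [mul_add, add_mul]; rfl)
        commutes' := fun c => Subtype.ext (by
          show toEnd h * algebraMap (ZMod p) _ c * toEnd h⁻¹ = algebraMap (ZMod p) _ c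
          rw [← Algebra.commutes c, mul_assoc, ← toEnd_mul, mul_inv_cancel, toEnd_one, mul_one]) }
      (Finite.injective_iff_bijective.1 fun r s e => by
        have e' : toEnd h * r.1 * toEnd h⁻¹ = toEnd h * s.1 * toEnd h⁻¹ := congrArg Subtype.val e
        have := congrArg (fun z => toEnd h⁻¹ * z * toEnd h) e'
        simp only [← mul_assoc, ← toEnd_mul, inv_mul_cancel, toEnd_one, one_mul] at this
        simp only [mul_assoc, ← toEnd_mul, inv_mul_cancel, toEnd_one, mul_one] at this
        exact Subtype.ext this)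
  have hσ : ∀ (h : H) (r : genAlg A), (σ h r).1 = toEnd h * r.1 * toEnd h⁻¹ := fun h r => rfl
  let ψ : H →* (genAlg A ≃ₐ[ZMod p] genAlg A) :=
    MonoidHom.mk' σ fun g h => AlgEquiv.ext fun r => Subtype.ext (by
      rw [AlgEquiv.mul_apply, hσ, hσ, hσ, mul_inv_rev, toEnd_mul, toEnd_mul]
      simp only [mul_assoc])
  have hker : ψ.ker = Subgroup.centralizer (A : Set H) := by
    refine le_antisymm (fun h hh => ?_) (fun h hh => ?_)
    · rw [Subgroup.mem_centralizer_iff]
      intro a ha
      have e := congrArg Subtype.val (AlgEquiv.congr_fun hh ⟨toEnd a, mem_genAlg ha⟩)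
      change toEnd h * toEnd a * toEnd h⁻¹ = toEnd a at e
      rw [← toEnd_mul, ← toEnd_mul] at e
      rw [← mul_inv_eq_iff_eq_mul.1 (toEnd_injective e)]
    · refine AlgEquiv.ext fun r => Subtype.ext ?_
      show toEnd h * r.1 * toEnd h⁻¹ = r.1
      rw [(genAlg_commute_of_commute (x := toEnd h) (fun a ha => ?_) r.2).eq, mul_assoc, ← toEnd_mul,
        mul_inv_cancel, toEnd_one, mul_one]
      show toEnd h * toEnd a = toEnd a * toEnd h
      rw [← toEnd_mul, ← toEnd_mul, Subgroup.mem_centralizer_iff.1 hh a ha]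
  refine ⟨?_, ?_⟩
  · rw [← hker, Subgroup.index_ker]
    have hcard : Nat.card (genAlg A ≃ₐ[ZMod p] genAlg A) = Module.finrank (ZMod p) (genAlg A) := by
      rw [← Nat.card_eq_of_bijective _ (FiniteField.bijective_frobeniusAlgEquivOfAlgebraic_pow (ZMod p) (genAlg A)),
        Nat.card_fin]
    exact hcard ▸ Subgroup.card_subgroup_dvd_card ψ.range
  · rw [← hker]
    letI : CommGroup (genAlg A ≃ₐ[ZMod p] genAlg A) := IsCyclic.commGroup
    exact Abelianization.commutator_subset_ker ψ

end Cfsg.Agent.PermGroups.RegLin
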