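import Cfsg.Agent.PermGroups.RegularLinearStructure
import Mathlib.GroupTheory.Transfer
import Mathlib.GroupTheory.Sylow
import Mathlib.GroupTheory.IndexNormal

/-!
A linear group regular on the non-zero vectors of odd characteristic with a unique subgroup of
order three (or none) has a subgroup of index two.
-/

set_option autoImplicit false
set_option linter.style.haveILetI false
set_option linter.unusedSectionVars false

namespace Cfsg.Agent.PermGroups

open scoped commutatorElement

/-- A normal subgroup with index a proper power of two lies in a subgroup of index two. -/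
theorem exists_index_two_of_index_pow {G : Type*} [Group G] [Finite G] {K : Subgroup G} [K.Normal]
    {k : ℕ} (hK : K.index = 2 ^ (k + 1)) : ∃ M : Subgroup G, M.index = 2 := by
  haveI : Fact (Nat.Prime 2) := ⟨Nat.prime_two⟩
  have hq : Nat.card (G ⧸ K) = 2 ^ (k + 1) := hK
  obtain ⟨M, hM⟩ := Sylow.exists_subgroup_card_pow_prime 2 (n := k) (by rw [hq]; exact pow_dvd_pow 2 (Nat.le_succ k))
  refine ⟨M.comap (QuotientGroup.mk' K), ?_⟩
  rw [M.index_comap_of_surjective (QuotientGroup.mk'_surjective K)]
  have h := M.index_mul_card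
  rw [hM, hq, pow_succ, mul_comm (2 ^ k) 2] at h
  exact Nat.eq_of_mul_eq_mul_right (by positivity) h

/-- A group of even order with abelian Sylow two-subgroup normaliser condition has index two. -/
theorem exists_index_two_of_normalizer_le {G : Type*} [Group G] [Finite G] (P : Sylow 2 G)
    (hP : Subgroup.normalizer ((P : Subgroup G) : Set G) ≤ Subgroup.centralizer ((P : Subgroup G) : Set G))
    (h2 : 2 ∣ Nat.card G) : ∃ M : Subgroup G, M.index = 2 := by
  haveI : Fact (Nat.Prime 2) := ⟨Nat.prime_two⟩
  have hc := MonoidHom.ker_transferSylow_isComplement' P hP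
  obtain ⟨k, hk⟩ := IsPGroup.iff_card.1 P.isPGroup'
  rcases k with _ | k
  · exfalso
    have h1 := P.dvd_card_of_dvd_card h2
    rw [hk, pow_zero] at h1
    omega
  refine exists_index_two_of_index_pow (K := (MonoidHom.transferSylow P hP).ker) (k := k) ?_
  rw [hc.symm.index_eq_card]
  exact hk

namespace RegLin

open FGS4.Zass

theorem exists_two_order_three_T5 :
    ∃ x y : T5, orderOf x = 3 ∧ orderOf y = 3 ∧ y ≠ x ∧ y ≠ x * x := by
  refine ⟨(⟨!![0, -1; 1, -1], by simp [Matrix.det_fin_two]⟩ : T5),
    (⟨!![0, 1; -1, -1], by simp [Matrix.det_fin_two]⟩ : T5),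
    ?_, ?_, ?_, ?_⟩
  · refine orderOf_eq_prime ?_ fun h => absurd (congrArg key h) (by decide +kernel)
    apply key_injective; decide +kernel
  · refine orderOf_eq_prime ?_ fun h => absurd (congrArg key h) (by decide +kernel)
    apply key_injective; decide +kernel
  · exact fun h => absurd (congrArg key h) (by decide +kernel)
  · exact fun h => absurd (congrArg key h) (by decide +kernel)

variable {p : ℕ} [Fact p.Prime] {V : Type*} [AddCommGroup V] [Module (ZMod p) V] [Finite V]
  {H : Subgroup (V ≃ₗ[ZMod p] V)}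

/-- The centraliser of an irreducible normal abelian subgroup is abelian. -/
theorem IsReg.centralizer_comm_of_irreducible (hreg : IsReg H) [Nontrivial V] {A : Subgroup H}
    (hirr : ∀ W : Submodule (ZMod p) V,
      (∀ a ∈ A, ∀ v ∈ W, ((a : H) : V ≃ₗ[ZMod p] V) v ∈ W) → W = ⊥ ∨ W = ⊤) :
    ∀ h k : H, h ∈ Subgroup.centralizer (A : Set H) → k ∈ Subgroup.centralizer (A : Set H) →
      IsMulCommutative A → h * k = k * h := by
  intro h k hh hk hA
  obtain ⟨v, hv⟩ := exists_ne (0 : V)
  let W : Submodule (ZMod p) V := Submodule.map (LinearMap.applyₗ v) (Subalgebra.toSubmodule (genAlg A))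
  have hW : ∀ x, x ∈ W ↔ ∃ r ∈ genAlg A, r v = x := fun x => by
    simp [W, Submodule.mem_map]
  have htop : W = ⊤ := by
    refine (hirr W fun a ha x hx => ?_).resolve_left fun h0 => hv ?_
    · obtain ⟨r, hr, rfl⟩ := (hW x).1 hx
      exact (hW _).2 ⟨toEnd a * r, mul_mem (mem_genAlg ha) hr, rfl⟩
    · have : v ∈ W := (hW v).2 ⟨1, one_mem _, rfl⟩
      rwa [h0, Submodule.mem_bot] at this
  have hcom : ∀ g ∈ Subgroup.centralizer (A : Set H), ∀ r ∈ genAlg A, ∀ x,
      toEnd g (r x) = r (toEnd g x) := fun g hg r hr x =>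
    LinearMap.congr_fun (genAlg_commute_of_commute (x := toEnd g) (fun a ha => by
      show toEnd g * toEnd a = toEnd a * toEnd g
      rw [← toEnd_mul, ← toEnd_mul, Subgroup.mem_centralizer_iff.1 hg a ha]) hr).eq x
  obtain ⟨r, hr, hrv⟩ := (hW (toEnd h v)).1 (htop ▸ Submodule.mem_top)
  obtain ⟨s, hs, hsv⟩ := (hW (toEnd k v)).1 (htop ▸ Submodule.mem_top)
  have e : toEnd (h * k) v = toEnd (k * h) v := by
    show toEnd h (toEnd k v) = toEnd k (toEnd h v)
    rw [← hsv, ← hrv, hcom h hh s hs, hcom k hk r hr, ← hsv, ← hrv]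
    exact LinearMap.congr_fun (genAlg_comm hA hs hr) v
  have hne : toEnd (h * k) v ≠ 0 := fun e0 => hv ((((h * k : H)) : V ≃ₗ[ZMod p] V).map_eq_zero_iff.1 e0)
  exact (hreg v _ hv hne).unique rfl e.symm

/-- A subgroup of index two exists. -/
theorem IsReg.exists_index_two (hreg : IsReg H) [Nontrivial V] (heven : 2 ∣ Nat.card H)
    (huniq : ∀ x y : H, orderOf x = 3 → orderOf y = 3 → y = x ∨ y = x * x) :
    ∃ M : Subgroup H, M.index = 2 := by
  classical
  haveI := finite_group H
  haveI : Fact (Nat.Prime 2) := ⟨Nat.prime_two⟩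
  by_cases hI : NoIrrCyclic H
  · obtain ⟨A, hA⟩ := exists_isMaxAb H
    obtain ⟨N, hN⟩ := exists_isMinNA hreg hI hA
    obtain ⟨hCA, hCN, hV, hcase⟩ := structure_of_minNA hreg hI hA hN
    haveI := hN.1
    rcases hcase with ⟨⟨e⟩, -, hp⟩ | ⟨⟨e⟩, -⟩
    · have hcard : Nat.card H + 1 = p ^ 2 := hreg.card_eq.trans hV
      have h3 : 3 ∣ Nat.card H := by
        rcases hp with rfl | rfl | rfl | rfl <;>
        · norm_num at hcard
          omega
      haveI : Fact (Nat.Prime 3) := ⟨Nat.prime_three⟩
      obtain ⟨y, hy⟩ := exists_prime_orderOf_dvd_card' 3 h3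
      have hyA : y ∈ A := by
        rw [← hCN, Subgroup.mem_centralizer_iff]
        intro n hn
        have hmem : n * y * n⁻¹ * y⁻¹ ∈ N := by
          rw [show n * y * n⁻¹ * y⁻¹ = n * (y * n⁻¹ * y⁻¹) by group]
          exact mul_mem hn (hN.1.conj_mem _ (inv_mem hn) y)
        have hz : n * y * n⁻¹ * y⁻¹ ∈ Subgroup.zpowers y := by
          refine mul_mem ?_ (inv_mem (Subgroup.mem_zpowers y))
          rcases huniq y (n * y * n⁻¹) hy (by rw [← MulAut.conj_apply, MulEquiv.orderOf_eq, hy]) with h | h <;>
            rw [h]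
          · exact Subgroup.mem_zpowers y
          · exact mul_mem (Subgroup.mem_zpowers y) (Subgroup.mem_zpowers y)
        have hcop : Nat.Coprime (Nat.card (Subgroup.zpowers y)) (Nat.card N) := by
          rw [Nat.card_zpowers, hy, Nat.card_congr e.toEquiv, quat_two_card]
          norm_num
        have := Subgroup.disjoint_of_coprime_natCard hcop
        have h1 := Subgroup.mem_bot.1 (this.le_bot ⟨hz, hmem⟩)
        exact mul_inv_eq_iff_eq_mul.1 (mul_inv_eq_one.1 h1)
      have h3A : 3 ∣ Nat.card A := hy ▸ Subgroup.orderOf_dvd_natCard A hyA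
      haveI := hA.1
      have he24 : A.index ∣ 24 := by
        have hker : (MulAut.conjNormal : H →* MulAut N).ker = A := by
          rw [← hCN]
          ext g
          rw [MonoidHom.mem_ker, Subgroup.mem_centralizer_iff]
          refine ⟨fun hg n hn => ?_, fun hg => MulEquiv.ext fun n => Subtype.ext ?_⟩
          · have := congrArg Subtype.val (DFunLike.congr_fun hg (⟨n, hn⟩ : N))
            rw [MulAut.conjNormal_apply] at this
            exact (mul_inv_eq_iff_eq_mul.1 this).symm
          · rw [MulAut.conjNormal_apply]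
            exact mul_inv_eq_iff_eq_mul.2 (hg _ n.2).symm
        rw [← hker, Subgroup.index_ker, ← card_mulAut_quat, ← Nat.card_congr (MulAut.congr e).toEquiv]
        exact Subgroup.card_subgroup_dvd_card _
      have hne1 : A.index ≠ 1 := fun h1 => hN.2.2.1 (by
        haveI := hA.2.1
        rw [Subgroup.index_eq_one] at h1
        exact ⟨⟨fun a b => Subtype.ext (congrArg (fun z : A => (z : H))
          (hA.2.1.is_comm.comm ⟨(a : H), h1 ▸ Subgroup.mem_top _⟩ ⟨(b : H), h1 ▸ Subgroup.mem_top _⟩))⟩⟩)
      have hmul := A.index_mul_card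
      obtain ⟨t, ht⟩ := h3A
      have hn3 : ¬ 3 ∣ A.index := by
        rintro ⟨u, hu⟩
        rw [hu, ht] at hmul
        have : 9 ∣ Nat.card H := ⟨u * t, by rw [← hmul]; ring⟩
        rcases hp with rfl | rfl | rfl | rfl <;> norm_num at hcard <;> omega
      have h8 : A.index ∣ 2 ^ 3 :=
        (Nat.Coprime.dvd_mul_right ((Nat.prime_three.coprime_iff_not_dvd.2 hn3).symm)).1 (show A.index ∣ 2 ^ 3 * 3 from he24)
      obtain ⟨k, -, hk⟩ := (Nat.dvd_prime_pow Nat.prime_two).1 h8
      rcases k with _ | k
      · exact absurd hk hne1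
      · exact exists_index_two_of_index_pow hk
    · obtain ⟨x, y, hx, hy, h1, h2⟩ := exists_two_order_three_T5
      have hs : ∀ z : T5, orderOf ((e.symm z : N) : H) = orderOf z := fun z => by
        rw [Subgroup.orderOf_coe, MulEquiv.orderOf_eq]
      rcases huniq _ _ ((hs x).trans hx) ((hs y).trans hy) with h | h
      · exact absurd (e.symm.injective (Subtype.ext h)) h1
      · refine absurd (e.symm.injective (Subtype.ext (h.trans ?_))) h2
        rw [map_mul, Subgroup.coe_mul]
  · unfold NoIrrCyclic at hI
    push Not at hI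
    obtain ⟨A, hAn, hAc, hirr⟩ := hI
    haveI := hAn
    have hAcomm : IsMulCommutative A := inferInstance
    have hcomm := hreg.centralizer_comm_of_irreducible (A := A) (fun W hW => by
      by_contra hcon
      push Not at hcon
      obtain ⟨a, ha, v, hv, hnot⟩ := hirr W hcon.1 hcon.2
      exact hnot (hW a ha v hv))
    set C := Subgroup.centralizer (A : Set H) with hC
    have hCc : IsMulCommutative C := ⟨⟨fun a b => Subtype.ext (hcomm a b a.2 b.2 hAcomm)⟩⟩
    have hCcyc : IsCyclic C := (hreg.isCyclic_and_dvd hCc).1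
    by_cases hidx : 2 ∣ C.index
    · have hq : ∀ x y : H ⧸ C, x * y = y * x := by
        intro x y
        induction x using QuotientGroup.induction_on with
        | H x =>
          induction y using QuotientGroup.induction_on with
          | H y =>
            refine QuotientGroup.eq.2 ((hreg.index_centralizer_dvd hAcomm).2 ?_)
            rw [show (x * y)⁻¹ * (y * x) = ⁅y⁻¹, x⁻¹⁆ by rw [commutatorElement_def]; group]
            exact Subgroup.commutator_mem_commutator (Subgroup.mem_top _) (Subgroup.mem_top _)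
      let P : Sylow 2 (H ⧸ C) := default
      obtain ⟨M, hM⟩ := exists_index_two_of_normalizer_le P
        (fun g _ => Subgroup.mem_centralizer_iff.2 fun z _ => hq z g) hidx
      exact ⟨M.comap (QuotientGroup.mk' C), by
        rw [M.index_comap_of_surjective (QuotientGroup.mk'_surjective C), hM]⟩
    · let P : Sylow 2 H := default
      have hPC : (P : Subgroup H) ≤ C := by
        intro x hx
        rw [← QuotientGroup.eq_one_iff, ← orderOf_eq_one_iff]
        obtain ⟨k, hk⟩ := P.isPGroup' ⟨x, hx⟩
        have h1 : orderOf (QuotientGroup.mk' C x) ∣ 2 ^ k := orderOf_dvd_of_pow_eq_one (by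
          rw [← map_pow, show x ^ 2 ^ k = 1 from congrArg Subtype.val hk, map_one])
        have h2 : orderOf (QuotientGroup.mk' C x) ∣ C.index := orderOf_dvd_natCard _
        exact Nat.eq_one_of_dvd_coprimes
          ((Nat.Prime.coprime_iff_not_dvd Nat.prime_two).2 hidx |>.pow_left k) h1 h2
      have hPcyc : IsCyclic (P : Subgroup H) :=
        isCyclic_of_injective (Subgroup.inclusion hPC) (Subgroup.inclusion_injective hPC)
      refine exists_index_two_of_normalizer_le P (IsCyclic.normalizer_le_centralizer ?_ hPcyc) heven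
      exact (Nat.minFac_eq_two_iff _).2 heven

end RegLin

end Cfsg.Agent.PermGroups
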