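import Cfsg.Agent.PermGroups.RegularLinearNormal
import Mathlib.Tactic.IntervalCases

/-!
Linear groups regular on the non-zero vectors without irreducible cyclic normal subgroup:
dimension two over the prime field.
-/

set_option autoImplicit false
set_option linter.style.haveILetI false
set_option linter.unusedSectionVars false

namespace Cfsg.Agent.PermGroups.RegLin

open FGS4.Zass

section arith

theorem not_dvd_pair {S j k e0 : ℕ} (hdvd : S ∣ e0 * j) (hk : 0 < j) (hjk : j ≤ k)
    (hlt : e0 * k < S) (he0 : 0 < e0) : False := by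
  have h := Nat.le_of_dvd (Nat.mul_pos he0 hk) hdvd
  have : e0 * j ≤ e0 * k := Nat.mul_le_mul le_rfl hjk
  omega

theorem three_pow_bound : ∀ {k : ℕ}, 5 ≤ k → 24 * k < 3 ^ k := by
  intro k hk
  induction k, hk using Nat.le_induction with
  | base => norm_num
  | succ n hn ih => rw [pow_succ]; omega

theorem seven_pow_bound : ∀ {k : ℕ}, 4 ≤ k → 120 * k < 7 ^ k := by
  intro k hk
  induction k, hk using Nat.le_induction with
  | base => norm_num
  | succ n hn ih => rw [pow_succ]; omega

theorem cube_bound_three : ∀ {k : ℕ}, 1 ≤ k → 24 * k < 27 ^ k := by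
  intro k hk
  induction k, hk using Nat.le_induction with
  | base => norm_num
  | succ n hn ih => rw [pow_succ]; omega

theorem cube_bound_seven : ∀ {k : ℕ}, 1 ≤ k → 120 * k < 343 ^ k := by
  intro k hk
  induction k, hk using Nat.le_induction with
  | base => norm_num
  | succ n hn ih => rw [pow_succ]; omega

theorem square_bound_seven : ∀ {k : ℕ}, 1 ≤ k → 15 * k < 49 ^ k := by
  intro k hk
  induction k, hk using Nat.le_induction with
  | base => norm_num
  | succ n hn ih => rw [pow_succ]; omega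

/-- The degree is two. -/
theorem degree_two {q d a e j k : ℕ} (hqo : Odd q) (hq : 3 ≤ q) (hkq : k + 1 ≤ q) (hd : 2 ≤ d)
    (hj : j ∣ k) (hk : 0 < k) (ha : a ∣ q - 1) (heq : a * e * j + 1 = q ^ d)
    (hbig : (e ∣ 24 ∧ 24 * k < q ^ 3) ∨ (e ∣ 120 ∧ 120 * k < q ^ 3 ∧ 15 * k < q ^ 2)) :
    d = 2 ∧ q + 1 ∣ e * j := by
  obtain ⟨t, ht⟩ := ha
  set S := ∑ i ∈ Finset.range d, q ^ i with hS
  have hgeom : (q - 1) * S + 1 = q ^ d := by
    have h2 := geom_sum_mul_of_one_le (show 1 ≤ q by omega) d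
    rw [← hS] at h2
    have : 1 ≤ q ^ d := Nat.one_le_pow _ _ (by omega)
    rw [mul_comm]
    omega
  have ha0 : 0 < a := by
    rcases Nat.eq_zero_or_pos a with h | h
    · rw [h, zero_mul] at ht; omega
    · exact h
  have hSe : t * S = e * j := by
    have h1 : a * (t * S) = a * (e * j) := by
      rw [← mul_assoc, ← ht, ← mul_assoc]; omega
    exact Nat.eq_of_mul_eq_mul_left ha0 h1
  have hdvd : S ∣ e * j := ⟨t, by rw [← hSe, mul_comm]⟩
  have hjpos : 0 < j := Nat.pos_of_dvd_of_pos hj hk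
  have hjk : j ≤ k := Nat.le_of_dvd hk hj
  have hd2 : d = 2 := by
    by_contra hne
    have h3 : q ^ 2 + q + 1 ≤ S := by
      calc q ^ 2 + q + 1 = ∑ i ∈ Finset.range 3, q ^ i := by
            simp [Finset.sum_range_succ]; ring
        _ ≤ S := Finset.sum_le_sum_of_subset (by intro i hi; simp only [Finset.mem_range] at hi ⊢; omega)
    rcases Nat.even_or_odd d with hev | hodd
    · have h4 : q ^ 3 ≤ S := by
        refine le_trans ?_ (Finset.single_le_sum (fun i _ => Nat.zero_le (q ^ i)) (Finset.mem_range.2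
          (show 3 < d by obtain ⟨r, hr⟩ := hev; omega)))
        rfl
      rcases hbig with ⟨he, hlt⟩ | ⟨he, hlt, -⟩
      · exact not_dvd_pair (hdvd.trans (Nat.mul_dvd_mul_right he j)) hjpos hjk (hlt.trans_le h4) (by norm_num)
      · exact not_dvd_pair (hdvd.trans (Nat.mul_dvd_mul_right he j)) hjpos hjk (hlt.trans_le h4) (by norm_num)
    · have hSo : Odd S := by
        rw [hS, Finset.odd_sum_iff_odd_card_odd, Finset.filter_true_of_mem (fun i _ => hqo.pow),
          Finset.card_range]
        exact hodd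
      have h8 : Nat.Coprime S 8 := (Nat.Coprime.pow_right 3 hSo.coprime_two_right : Nat.Coprime S (2 ^ 3))
      rcases hbig with ⟨he, -⟩ | ⟨he, -, h7⟩
      · have := hdvd.trans (Nat.mul_dvd_mul_right he j)
        rw [show 24 * j = 8 * (3 * j) by ring] at this
        exact not_dvd_pair (h8.dvd_of_dvd_mul_left this) hjpos hjk (by nlinarith) (by norm_num)
      · have := hdvd.trans (Nat.mul_dvd_mul_right he j)
        rw [show 120 * j = 8 * (15 * j) by ring] at this
        exact not_dvd_pair (h8.dvd_of_dvd_mul_left this) hjpos hjk (by nlinarith) (by norm_num)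
  refine ⟨hd2, ?_⟩
  have : S = q + 1 := by rw [hS, hd2]; simp [Finset.sum_range_succ]; ring
  rwa [this] at hdvd

/-- The numerical cases with a quaternion normal subgroup. -/
theorem cases_quat {p k a e j d : ℕ} (hp : p.Prime) (hp2 : p ≠ 2) (hk : 0 < k) (hj : j ∣ k)
    (hd : 2 ≤ d) (ha : a ∣ p ^ k - 1) (he : e ∣ 24) (heq : a * e * j + 1 = (p ^ k) ^ d) :
    k = 1 ∧ d = 2 ∧ j = 1 ∧ (p = 3 ∨ p = 5 ∨ p = 7 ∨ p = 11 ∨ p = 23) := by
  have hp3 : 3 ≤ p := by have := hp.two_le; omega
  have hq : 3 ≤ p ^ k := hp3.trans (Nat.le_self_pow hk.ne' p)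
  have hcube : 24 * k < (p ^ k) ^ 3 := by
    rw [← pow_mul, mul_comm k 3, pow_mul]
    exact (cube_bound_three hk).trans_le (Nat.pow_le_pow_left (by
      calc 27 = 3 ^ 3 := rfl
        _ ≤ p ^ 3 := Nat.pow_le_pow_left hp3 3) k)
  obtain ⟨hd2, hdiv⟩ := degree_two (Odd.pow (hp.odd_of_ne_two hp2)) hq (Nat.lt_pow_self hp.one_lt) hd hj hk
    ha heq (Or.inl ⟨he, hcube⟩)
  have hdiv' : p ^ k + 1 ∣ 24 * k := hdiv.trans (Nat.mul_dvd_mul he hj)
  have hk4 : k ≤ 4 := by
    by_contra hcon
    have h1 := Nat.le_of_dvd (by positivity) hdiv'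
    have h2 := (three_pow_bound (show 5 ≤ k by omega)).trans_le (Nat.pow_le_pow_left hp3 k)
    omega
  have h1 := Nat.le_of_dvd (by positivity) hdiv'
  have hp24 : p ≤ 24 * k := le_trans (Nat.le_self_pow hk.ne' p) (by omega)
  have hk1 : k = 1 := by
    by_contra hne
    have hsq : p * p ≤ 96 := by
      have h2 : p ^ 2 ≤ p ^ k := Nat.pow_le_pow_right (by omega) (by omega)
      rw [sq] at h2
      omega
    have hp9 : p ≤ 9 := by nlinarith
    interval_cases k <;> interval_cases p <;> first | omega | norm_num at hdiv'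
  subst hk1
  refine ⟨rfl, hd2, Nat.dvd_one.1 hj, ?_⟩
  rw [pow_one, mul_one] at hdiv'
  interval_cases p <;> first | omega | (norm_num at hdiv') | (norm_num at hp)

/-- The numerical cases with an `SL(2,5)` normal subgroup. -/
theorem cases_T5 {p k a e j d : ℕ} (hp : p.Prime) (h7 : 7 ≤ p) (hk : 0 < k) (hj : j ∣ k)
    (hd : 2 ≤ d) (ha : a ∣ p ^ k - 1) (he : e = 60 ∨ e = 120) (heq : a * e * j + 1 = (p ^ k) ^ d)
    (h2 : 2 ∣ a) (h3 : ¬ 3 ∣ a) :
    k = 1 ∧ d = 2 ∧ j = 1 ∧ e = 60 ∧
      ((p = 11 ∧ a = 2) ∨ (p = 29 ∧ a = 14) ∨ (p = 59 ∧ a = 58)) := by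
  have he' : e ∣ 120 := by rcases he with rfl | rfl <;> norm_num
  have hq : 7 ≤ p ^ k := h7.trans (Nat.le_self_pow hk.ne' p)
  have hcube : 120 * k < (p ^ k) ^ 3 := by
    rw [← pow_mul, mul_comm k 3, pow_mul]
    exact (cube_bound_seven hk).trans_le (Nat.pow_le_pow_left (by
      calc 343 = 7 ^ 3 := rfl
        _ ≤ p ^ 3 := Nat.pow_le_pow_left h7 3) k)
  obtain ⟨hd2, hdiv⟩ := degree_two (Odd.pow (hp.odd_of_ne_two (by omega))) (by omega)
    (Nat.lt_pow_self hp.one_lt) hd hj hk ha heq (Or.inr ⟨he', hcube, by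
      rw [← pow_mul, mul_comm k 2, pow_mul]
      refine (square_bound_seven hk).trans_le (Nat.pow_le_pow_left ?_ k)
      calc 49 = 7 ^ 2 := rfl
        _ ≤ p ^ 2 := Nat.pow_le_pow_left h7 2⟩)
  have hdiv' : p ^ k + 1 ∣ 120 * k := hdiv.trans (Nat.mul_dvd_mul he' hj)
  have hk3 : k ≤ 3 := by
    by_contra hcon
    have h1 := Nat.le_of_dvd (by positivity) hdiv'
    have h2 := (seven_pow_bound (show 4 ≤ k by omega)).trans_le (Nat.pow_le_pow_left h7 k)
    omega
  have h1 := Nat.le_of_dvd (by positivity) hdiv'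
  have hk1 : k = 1 := by
    by_contra hne
    have hsq : p * p ≤ 360 := by
      have h2 : p ^ 2 ≤ p ^ k := Nat.pow_le_pow_right (by omega) (by omega)
      rw [sq] at h2
      omega
    have hp18 : p ≤ 18 := by nlinarith
    interval_cases k <;> interval_cases p <;> first | omega | norm_num at hdiv'
  subst hk1
  rw [pow_one, mul_one] at hdiv'
  rw [pow_one, mul_one] at h1
  obtain rfl := Nat.dvd_one.1 hj
  rw [hd2, pow_one] at heq
  rw [pow_one] at ha
  have hp119 : p ≤ 119 := by omega
  refine ⟨rfl, hd2, rfl, ?_⟩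
  interval_cases p <;>
    first
      | (norm_num at hdiv'; done)
      | (norm_num at hp; done)
      | (rcases he with rfl | rfl <;> norm_num at heq <;> omega)

end arith

variable {p : ℕ} [hp : Fact p.Prime] {V : Type*} [AddCommGroup V] [Module (ZMod p) V] [Finite V]
  {H : Subgroup (V ≃ₗ[ZMod p] V)}

/-- The conclusion of the analysis. -/
def Concl (A N : Subgroup H) : Prop :=
  Subgroup.centralizer (A : Set H) = ⊤ ∧ Subgroup.centralizer (N : Set H) = A ∧
    Nat.card V = p ^ 2 ∧
    ((Nonempty (N ≃* QuaternionGroup 2) ∧ Group.IsSolvable H ∧ (p = 5 ∨ p = 7 ∨ p = 11 ∨ p = 23)) ∨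
     (Nonempty (N ≃* T5) ∧ 2 ∣ Nat.card A ∧ Nat.card H = 60 * Nat.card A ∧
      ((p = 11 ∧ Nat.card A = 2) ∨ (p = 29 ∧ Nat.card A = 14) ∨ (p = 59 ∧ Nat.card A = 58))))

theorem center_order_two {N : Subgroup H} (hcases : Nonempty (N ≃* QuaternionGroup 2) ∨ Nonempty (N ≃* T5)) :
    (∃ x : N, orderOf x = 4) ∧ ∃ z : N, orderOf z = 2 ∧ (∀ y, z * y = y * z) ∧
      ∀ x : N, (∀ y, x * y = y * x) → x = 1 ∨ x = z := by
  rcases hcases with ⟨⟨e⟩⟩ | ⟨⟨e⟩⟩
  · obtain ⟨x, hx⟩ := exists_order_four_quat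
    refine ⟨⟨e.symm x, by rw [MulEquiv.orderOf_eq, hx]⟩, e.symm (QuaternionGroup.a 2), ?_, fun y => ?_, fun x hc => ?_⟩
    · rw [MulEquiv.orderOf_eq]
      exact orderOf_eq_prime (by decide +kernel) (by decide +kernel)
    · apply e.injective
      rw [map_mul, map_mul, e.apply_symm_apply]
      generalize e y = w
      revert w; decide +kernel
    · rcases quat_center (e x) (fun y => by rw [← e.apply_symm_apply y, ← map_mul, hc, map_mul]) with h | h
      · exact Or.inl (e.injective (h.trans (map_one e).symm))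
      · exact Or.inr (e.injective (h.trans (e.apply_symm_apply _).symm))
  · obtain ⟨x, hx⟩ := exists_order_four_T5
    refine ⟨⟨e.symm x, by rw [MulEquiv.orderOf_eq, hx]⟩, e.symm Z5c, ?_, fun y => ?_, fun x hc => ?_⟩
    · rw [MulEquiv.orderOf_eq, orderOf_Z5c]
    · apply e.injective
      rw [map_mul, map_mul, e.apply_symm_apply]
      refine key_injective ?_
      obtain ⟨en, -, hen⟩ := exists_entry (e y)
      rw [key_mul, key_mul, Z5c, key_mkT]
      generalize key (e y) = w
      revert w; decide +kernel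
    · rcases center_T5 (e x) (fun y => by rw [← e.apply_symm_apply y, ← map_mul, hc, map_mul]) with h | h
      · exact Or.inl (e.injective (h.trans (map_one e).symm))
      · exact Or.inr (e.injective (h.trans (e.apply_symm_apply _).symm))

/-- The structure theorem. -/
theorem structure_of_minNA (hreg : IsReg H) (hI : NoIrrCyclic H) {A N : Subgroup H}
    (hA : IsMaxAb A) (hN : IsMinNA A N) : Concl A N := by
  classical
  haveI := hI.nontrivial.1
  haveI := finite_group H
  haveI := hA.1
  obtain ⟨hNn, hNle, hNna, hNmin⟩ := hN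
  haveI := hNn
  have hN' : IsMinNA A N := ⟨hNn, hNle, hNna, hNmin⟩
  haveI := hA.nontrivial_group hNna
  obtain ⟨m, hm, ⟨F⟩⟩ := hreg.exists_fpfRep
  haveI : Nonempty (Fin m) := ⟨⟨0, hm⟩⟩
  have hcases := minNA_cases hreg hA hN'
  obtain ⟨⟨i, hi⟩, z, hz, hzc, hcen⟩ := center_order_two hcases
  have hz' : orderOf (z : H) = 2 := by rw [Subgroup.orderOf_coe, hz]
  -- `C(N) ∩ C(A) = A`
  set C := Subgroup.centralizer (A : Set H) with hC
  set K := Subgroup.centralizer (N : Set H) with hK
  have hAC : A ≤ C := hA.le_centralizer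
  have hAK : A ≤ K := fun a ha => Subgroup.mem_centralizer_iff.2 fun n hn =>
    ((Subgroup.mem_centralizer_iff.1 (hNle hn)) a ha).symm
  have hKC : K ⊓ C = A := by
    by_cases hab : IsMulCommutative (K ⊓ C : Subgroup H)
    · exact hA.2.2 _ inferInstance hab (le_inf hAK hAC)
    exfalso
    obtain ⟨M, ⟨hMn, hMle, hMna⟩, hMmin⟩ := Set.exists_min_image
      {M : Subgroup H | M.Normal ∧ M ≤ K ⊓ C ∧ ¬ IsMulCommutative M} (fun M => Nat.card M)
      (Set.toFinite _) ⟨_, inferInstance, le_rfl, hab⟩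
    have hM' : IsMinNA A M := ⟨hMn, hMle.trans inf_le_right, hMna, fun L hLn hLle hLna =>
      Subgroup.eq_of_le_of_card_ge hLle (hMmin L ⟨hLn, hLle.trans hMle, hLna⟩)⟩
    obtain ⟨⟨j, hj⟩, -⟩ := center_order_two (minNA_cases hreg hA hM')
    have hjN : ∀ n : N, (j : H) * n = n * j := fun n =>
      ((Subgroup.mem_centralizer_iff.1 (hMle j.2).1) n n.2).symm
    have hi2 : orderOf ((i : H) ^ 2) = 2 := by
      rw [orderOf_pow' _ two_ne_zero, Subgroup.orderOf_coe, hi]; rfl
    have hj2 : orderOf ((j : H) ^ 2) = 2 := by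
      rw [orderOf_pow' _ two_ne_zero, Subgroup.orderOf_coe, hj]; rfl
    have hsq := F.eq_of_orderOf_two hi2 hj2
    have hij : ((i : H) * j) ^ 2 = 1 := by
      have hcomm : Commute (i : H) j := (hjN i).symm
      rw [hcomm.mul_pow, ← hsq, ← sq]
      have := pow_orderOf_eq_one ((i : H) ^ 2)
      rwa [hi2] at this
    have hjmem : (j : H) ∈ N := by
      by_cases h1 : (i : H) * j = 1
      · rw [← inv_eq_of_mul_eq_one_right h1]; exact inv_mem i.2
      · have h2 := F.eq_of_orderOf_two (orderOf_eq_prime hij h1) hi2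
        rw [sq] at h2
        rw [mul_left_cancel h2]; exact i.2
    rcases hcen ⟨j, hjmem⟩ (fun n => Subtype.ext (hjN n)) with h | h
    · have h' : (j : H) = 1 := congrArg Subtype.val h
      rw [← Subgroup.orderOf_coe, h', orderOf_one] at hj; omega
    · have h' : (j : H) = z := congrArg Subtype.val h
      rw [← Subgroup.orderOf_coe, h', hz'] at hj; omega
  -- the involution lies in `A`
  have hzA : (z : H) ∈ A := by
    rw [← hKC]
    exact ⟨Subgroup.mem_centralizer_iff.2 fun n hn => congrArg Subtype.val (hzc ⟨n, hn⟩).symm, hNle z.2⟩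
  have h2A : 2 ∣ Nat.card A := hz' ▸ Subgroup.orderOf_dvd_natCard A hzA
  -- conjugation on `N`
  let f : C →* MulAut N := (MulAut.conjNormal (H := N)).comp C.subtype
  have hker : f.ker = A.subgroupOf C := by
    ext c
    rw [Subgroup.mem_subgroupOf, ← hKC, Subgroup.mem_inf, MonoidHom.mem_ker]
    refine ⟨fun h => ⟨Subgroup.mem_centralizer_iff.2 fun n hn => ?_, c.2⟩, fun h => MulEquiv.ext fun n => Subtype.ext ?_⟩
    · have e := congrArg Subtype.val (DFunLike.congr_fun h ⟨n, hn⟩)
      simp only [f, MonoidHom.comp_apply, MulAut.conjNormal_apply, Subgroup.coe_subtype, MulAut.one_apply] at e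
      exact (mul_inv_eq_iff_eq_mul.1 e).symm
    · simp only [f, MonoidHom.comp_apply, MulAut.conjNormal_apply, Subgroup.coe_subtype, MulAut.one_apply]
      rw [mul_inv_eq_iff_eq_mul]
      exact ((Subgroup.mem_centralizer_iff.1 h.1) n n.2).symm
  set e := Nat.card f.range with he
  have hCcard : Nat.card C = Nat.card A * e := by
    rw [← Subgroup.card_mul_index f.ker, Subgroup.index_ker, hker,
      Nat.card_congr (Subgroup.subgroupOfEquivOfLe hAC).toEquiv]
  obtain ⟨d, hd, hq⟩ := two_le_degree hreg hI hA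
  obtain ⟨-, hadvd⟩ := hreg.isCyclic_and_dvd hA.2.1
  obtain ⟨hjdvd, hcomm⟩ := hreg.index_centralizer_dvd hA.2.1
  set k := Module.finrank (ZMod p) (genAlg A) with hk
  set j := C.index with hj
  have hqk : fieldSize A = p ^ k := card_genAlg A
  have hH : Nat.card H = Nat.card A * e * j := by rw [← hCcard, hj, Subgroup.card_mul_index]
  have hk0 : 0 < k := by
    by_contra h0
    rw [show k = 0 by omega, pow_zero] at hqk
    have h3 := hI.nontrivial.2
    rw [← hreg.card_eq, hq, hqk, one_pow] at h3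
    omega
  have hp2 : p ≠ 2 := by
    rintro rfl
    have h1 : 2 ∣ Nat.card H := h2A.trans (Subgroup.card_subgroup_dvd_card A)
    have h2 : 2 ∣ Nat.card H + 1 := by
      rw [hq, hqk, ← pow_mul]
      exact dvd_pow_self 2 (Nat.mul_ne_zero hk0.ne' (by omega))
    omega
  rw [hqk] at hadvd hq
  rw [hH] at hq
  have hpH : ¬ p ∣ Nat.card H := by
    intro h
    have h2 : p ∣ Nat.card H + 1 := by
      rw [hH, hq, ← pow_mul]
      exact dvd_pow_self p (Nat.mul_ne_zero hk0.ne' (by omega))
    exact hp.out.not_dvd_one ((Nat.dvd_add_right h).1 h2)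
  have hfin : ∀ {k' : ℕ}, k = k' → k' = 1 → d = 2 → j = 1 → C = ⊤ ∧ K = A ∧ Nat.card V = p ^ 2 := by
    intro k' h h1 hd2 hj1
    have hCtop : C = ⊤ := Subgroup.index_eq_one.1 hj1
    refine ⟨hCtop, ?_, ?_⟩
    · rw [← hKC, hCtop, inf_top_eq]
    · rw [← hreg.card_eq, hH, hq, h, h1, pow_one, hd2]
  rcases hcases with hQ | hT
  · obtain ⟨ψ⟩ := hQ
    have he24 : e ∣ 24 := by
      rw [← card_mulAut_quat, ← Nat.card_congr (MulAut.congr ψ).toEquiv]
      exact Subgroup.card_subgroup_dvd_card _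
    obtain ⟨hk1, hd2, hj1, hps⟩ := cases_quat hp.out hp2 hk0 hjdvd hd hadvd he24 hq
    obtain ⟨hCtop, hKA, hV⟩ := hfin rfl hk1 hd2 hj1
    have hsolv : Group.IsSolvable H := by
      haveI : Group.IsSolvable f.ker := by
        rw [hker]
        exact Group.isSolvable_of_comm fun a b => by
          have := congrArg Subtype.val (hA.2.1.is_comm.comm ⟨((a : C) : H), a.2⟩ ⟨((b : C) : H), b.2⟩)
          exact Subtype.ext (Subtype.ext this)
      haveI := isSolvable_mulAut_quat
      haveI : Group.IsSolvable (MulAut N) :=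
        solvable_of_solvable_injective (f := (MulAut.congr ψ).toMonoidHom) (MulAut.congr ψ).injective
      haveI : Group.IsSolvable C := solvable_of_ker_le_range f.ker.subtype f (by rw [Subgroup.range_subtype])
      haveI : Group.IsSolvable (⊤ : Subgroup H) := hCtop ▸ ‹Group.IsSolvable C›
      exact solvable_of_solvable_injective (f := (Subgroup.topEquiv (G := H)).symm.toMonoidHom)
        (Subgroup.topEquiv (G := H)).symm.injective
    refine ⟨hCtop, hKA, hV, Or.inl ⟨⟨ψ⟩, hsolv, ?_⟩⟩
    rcases hps with h3 | h | h | h | h <;> try omega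
    exfalso
    -- nine points: the group is quaternion and has a normal cyclic subgroup of order four
    have hH8 : Nat.card H = 8 := by
      have h1 := hreg.card_eq
      have h2 : p ^ 2 = 9 := by rw [h3]; rfl
      omega
    have hN8 : Nat.card N = 8 := (Nat.card_congr ψ.toEquiv).trans quat_two_card
    have hB4 : Nat.card (Subgroup.zpowers (i : H)) = 4 := by rw [Nat.card_zpowers, Subgroup.orderOf_coe, hi]
    have hBidx : (Subgroup.zpowers (i : H)).index = 2 := by
      have := Subgroup.card_mul_index (Subgroup.zpowers (i : H))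
      rw [hB4, hH8] at this
      omega
    haveI := Subgroup.normal_of_index_eq_two hBidx
    have hA2 : Nat.card A = 2 := by
      have : Nat.card A ∣ 2 := by
        have h := hadvd
        rw [hk1, pow_one] at h
        rwa [show p - 1 = 2 by omega] at h
      exact Nat.dvd_antisymm this h2A
    haveI : Fact (Nat.Prime 2) := ⟨Nat.prime_two⟩
    have hzA' : A = Subgroup.zpowers (z : H) := (Subgroup.eq_of_le_of_card_ge
      (by rw [Subgroup.zpowers_le]; exact hzA) (by rw [Nat.card_zpowers, hz', hA2])).symm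
    have hzB : Subgroup.zpowers (z : H) ≤ Subgroup.zpowers (i : H) := by
      rw [Subgroup.zpowers_le]
      have hi2 : orderOf ((i : H) ^ 2) = 2 := by
        rw [orderOf_pow' _ two_ne_zero, Subgroup.orderOf_coe, hi]; rfl
      rw [F.eq_of_orderOf_two hz' hi2]
      exact pow_mem (Subgroup.mem_zpowers _) 2
    have := hA.2.2 _ inferInstance inferInstance (hzA' ▸ hzB)
    rw [this] at hB4
    omega
  · obtain ⟨ψ⟩ := hT
    have hN120 : Nat.card N = 120 := (Nat.card_congr ψ.toEquiv).trans card_T5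
    have h7 : 7 ≤ p := by
      by_contra hlt
      have h3 := hp.out.two_le
      have hNH : 120 ∣ Nat.card H := hN120 ▸ Subgroup.card_subgroup_dvd_card N
      have hsmall : ∀ q : ℕ, q.Prime → q < 7 → q ∣ 120 := fun q hq hq7 => by
        interval_cases q <;> first | (norm_num; done) | exact absurd hq (by norm_num)
      exact hpH ((hsmall p hp.out (by omega)).trans hNH)
    have h3A : ¬ 3 ∣ Nat.card A := by
      intro h
      haveI : Fact (Nat.Prime 3) := ⟨Nat.prime_three⟩
      obtain ⟨a, ha⟩ := exists_prime_orderOf_dvd_card' (G := A) 3 h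
      obtain ⟨b, hb⟩ := exists_prime_orderOf_dvd_card' (G := N) 3 (by rw [hN120]; norm_num)
      have hbA : (b : H) ∈ A :=
        (Subgroup.zpowers_le.2 a.2 : Subgroup.zpowers (a : H) ≤ A)
          (F.mem_zpowers_of_comm (by rw [Subgroup.orderOf_coe, ha]) (by rw [Subgroup.orderOf_coe, hb])
            ((Subgroup.mem_centralizer_iff.1 (hNle b.2)) a a.2))
      rcases hcen b (fun n => Subtype.ext
        ((Subgroup.mem_centralizer_iff.1 (hNle n.2)) b hbA)) with h | h
      · rw [h, orderOf_one] at hb; omega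
      · rw [h, hz] at hb; omega
    -- the inner automorphisms of `N`
    have he60 : e = 60 ∨ e = 120 := by
      have hle : e ≤ 120 := by
        refine le_trans ?_ card_mulAut_T5_le
        rw [← Nat.card_congr (MulAut.congr ψ).toEquiv]
        exact Subgroup.card_le_card_group _
      let g : N →* MulAut N := f.comp (Subgroup.inclusion hNle)
      have hg : g.range ≤ f.range := fun x ⟨n, hn⟩ => ⟨Subgroup.inclusion hNle n, hn⟩
      have hgk : Nat.card g.ker = 2 := by
        have : g.ker = Subgroup.zpowers z := by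
          ext n
          rw [MonoidHom.mem_ker]
          constructor
          · intro h
            have h' : (⟨(n : H), hNle n.2⟩ : C) ∈ f.ker := h
            rw [hker, Subgroup.mem_subgroupOf] at h'
            rcases hcen n (fun y => Subtype.ext ((Subgroup.mem_centralizer_iff.1 (hNle y.2)) n h')) with h | h
            · rw [h]; exact one_mem _
            · rw [h]; exact Subgroup.mem_zpowers z
          · rintro ⟨t, rfl⟩
            show f (Subgroup.inclusion hNle (z ^ t)) = 1
            rw [← MonoidHom.mem_ker, hker, Subgroup.mem_subgroupOf]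
            show ((z ^ t : N) : H) ∈ A
            rw [Subgroup.coe_zpow]
            exact zpow_mem hzA t
        rw [this, Nat.card_zpowers, hz]
      have hg60 : Nat.card g.range = 60 := by
        have := Subgroup.card_mul_index g.ker
        rw [Subgroup.index_ker, hgk, hN120] at this
        omega
      obtain ⟨c, hc⟩ := Subgroup.card_dvd_of_le hg
      rw [hg60] at hc
      have he0 : 0 < e := Nat.card_pos
      omega
    obtain ⟨hk1, hd2, hj1, he1, hps⟩ := cases_T5 hp.out h7 hk0 hjdvd hd hadvd he60 hq h2A h3A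
    obtain ⟨hCtop, hKA, hV⟩ := hfin rfl hk1 hd2 hj1
    refine ⟨hCtop, hKA, hV, Or.inr ⟨⟨ψ⟩, h2A, ?_, hps⟩⟩
    rw [hH, he1, hj1, mul_one, mul_comm]

/-- The minimal non-abelian normal subgroup is irreducible. -/
theorem irreducible_minNA (hreg : IsReg H) {N : Subgroup H} (hV : Nat.card V = p ^ 2)
    (hNna : ¬ IsMulCommutative N) (W : Submodule (ZMod p) V)
    (hW : ∀ n ∈ N, ∀ v ∈ W, ((n : H) : V ≃ₗ[ZMod p] V) v ∈ W) : W = ⊥ ∨ W = ⊤ := by
  by_contra hcon
  push Not at hcon
  haveI : Nontrivial V := by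
    obtain ⟨w, -, hw⟩ := Submodule.exists_mem_ne_zero_of_ne_bot hcon.1
    exact ⟨⟨w, 0, hw⟩⟩
  have hn : Module.finrank (ZMod p) V = 2 := by
    have := Module.natCard_eq_pow_finrank (K := ZMod p) (V := V)
    rw [hV, Nat.card_zmod] at this
    exact (Nat.pow_right_injective hp.out.two_le this).symm
  have h1 : Module.finrank (ZMod p) W = 1 := by
    have hlt := Submodule.finrank_lt hcon.2
    have hne : Module.finrank (ZMod p) W ≠ 0 := fun h => hcon.1 (Submodule.finrank_eq_zero.1 h)
    omega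
  haveI : Nontrivial W := Module.nontrivial_of_finrank_eq_succ h1
  obtain ⟨⟨w, hwW⟩, hw0⟩ := exists_ne (0 : W)
  have hw : w ≠ 0 := fun h => hw0 (Subtype.ext h)
  have hscal : ∀ n : N, ∃ c : ZMod p, ((n : H) : V ≃ₗ[ZMod p] V) w = c • w := fun n => by
    obtain ⟨c, hc⟩ := (finrank_eq_one_iff_of_nonzero' (⟨w, hwW⟩ : W) hw0).1 h1 ⟨_, hW n n.2 w hwW⟩
    exact ⟨c, (congrArg Subtype.val hc).symm⟩
  refine hNna ⟨⟨fun a b => Subtype.ext ?_⟩⟩
  obtain ⟨c, hc⟩ := hscal a
  obtain ⟨d, hd⟩ := hscal b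
  have hfix : (((a : H) * b : H) : V ≃ₗ[ZMod p] V) w = (((b : H) * a : H) : V ≃ₗ[ZMod p] V) w := by
    show ((a : H) : V ≃ₗ[ZMod p] V) (((b : H) : V ≃ₗ[ZMod p] V) w) =
      ((b : H) : V ≃ₗ[ZMod p] V) (((a : H) : V ≃ₗ[ZMod p] V) w)
    rw [hc, hd, map_smul, map_smul, hc, hd, smul_comm]
  have hne : (((b : H) * a : H) : V ≃ₗ[ZMod p] V) w ≠ 0 := fun h => hw (by simpa using h)
  exact (hreg w _ hw hne).unique hfix rfl

end Cfsg.Agent.PermGroups.RegLin
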