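import Cfsg.Agent.PermGroups.SharplyTwo
import Cfsg.Agent.PermGroups.RegularLinear
import Mathlib.Algebra.Module.ZMod

/-!
Sharply triply transitive groups: translations at a point, the unique involution of a two-point
stabiliser, and inversion of elements of order three.
-/

set_option autoImplicit false
set_option linter.style.haveILetI false
set_option linter.unusedSectionVars false

namespace Cfsg.Agent.PermGroups

open MulAction

variable {α : Type*} [Fintype α] [DecidableEq α] {G : Subgroup (Equiv.Perm α)}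

theorem eq_one_of_three_fixed (hsharp : ∀ x : Fin 3 ↪ α, stabilizer G x = ⊥) {g : G} {a b c : α}
    (hab : a ≠ b) (hac : a ≠ c) (hbc : b ≠ c) (ha : g • a = a) (hb : g • b = b) (hc : g • c = c) :
    g = 1 := by
  let x : Fin 3 ↪ α := ⟨![a, b, c], fun i j e => by fin_cases i <;> fin_cases j <;> simp_all⟩
  have h : g ∈ stabilizer G x := by
    rw [mem_stabilizer_iff]
    refine Function.Embedding.ext fun i => ?_
    fin_cases i
    · exact ha
    · exact hb
    · exact hc
  rwa [hsharp x, Subgroup.mem_bot] at h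

theorem exists_move_three (h3 : IsMultiplyPretransitive G α 3) {a b c a' b' c' : α}
    (hab : a ≠ b) (hac : a ≠ c) (hbc : b ≠ c) (hab' : a' ≠ b') (hac' : a' ≠ c') (hbc' : b' ≠ c') :
    ∃ g : G, g • a = a' ∧ g • b = b' ∧ g • c = c' := by
  let x : Fin 3 ↪ α := ⟨![a, b, c], fun i j e => by fin_cases i <;> fin_cases j <;> simp_all⟩
  let y : Fin 3 ↪ α := ⟨![a', b', c'], fun i j e => by fin_cases i <;> fin_cases j <;> simp_all⟩
  obtain ⟨g, hg⟩ := h3.exists_smul_eq x y
  exact ⟨g, DFunLike.congr_fun hg 0, DFunLike.congr_fun hg 1, DFunLike.congr_fun hg 2⟩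

/-- The translations at a point: the regular normal subgroup of a point stabiliser. -/
theorem exists_translations (h3 : IsMultiplyPretransitive G α 3)
    (hsharp : ∀ x : Fin 3 ↪ α, stabilizer G x = ⊥) (hn : 3 ≤ Fintype.card α) (b : α) :
    ∃ (p j : ℕ) (N : Subgroup G), p.Prime ∧ 1 ≤ j ∧ Fintype.card α = p ^ j + 1 ∧ Nat.card N = p ^ j ∧
      N ≤ stabilizer G b ∧ (∀ g ∈ stabilizer G b, ∀ n ∈ N, g * n * g⁻¹ ∈ N) ∧
      (∀ x ∈ N, ∀ y ∈ N, x * y = y * x) ∧ (∀ x ∈ N, x ^ p = 1) ∧
      ∀ x y : α, x ≠ b → y ≠ b → ∃! n : G, n ∈ N ∧ n • x = y := by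
  classical
  let φ : stabilizer G b →* Equiv.Perm {x : α // x ≠ b} :=
    { toFun := fun g =>
        { toFun := fun x => ⟨(g : G) • x.1, fun e => x.2 (smul_left_cancel (g : G)
            (e.trans (mem_stabilizer_iff.1 g.2).symm))⟩
          invFun := fun x => ⟨(g : G)⁻¹ • x.1, fun e => x.2 (smul_left_cancel (g : G)⁻¹
            (e.trans (eq_inv_smul_iff.2 (mem_stabilizer_iff.1 g.2))))⟩
          left_inv := fun x => Subtype.ext (inv_smul_smul _ _)
          right_inv := fun x => Subtype.ext (smul_inv_smul _ _) }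
      map_one' := Equiv.ext fun x => Subtype.ext (one_smul G x.1)
      map_mul' := fun g h => Equiv.ext fun x => Subtype.ext (mul_smul (g : G) (h : G) x.1) }
  have hφ : ∀ (g : stabilizer G b) (x : {x : α // x ≠ b}), ((φ g x : {x : α // x ≠ b}) : α) = (g : G) • x.1 :=
    fun g x => rfl
  have hinj : Function.Injective φ := fun g h e => by
    refine Subtype.ext (Subtype.ext (Equiv.ext fun x => ?_))
    rcases eq_or_ne x b with rfl | hx
    · exact (mem_stabilizer_iff.1 g.2).trans (mem_stabilizer_iff.1 h.2).symm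
    · exact congrArg Subtype.val (DFunLike.congr_fun e ⟨x, hx⟩)
  have h2t : IsMultiplyPretransitive φ.range {x : α // x ≠ b} 2 := by
    rw [is_two_pretransitive_iff]
    intro x y x' y' hxy hxy'
    obtain ⟨g, g1, g2, g3⟩ := exists_move_three h3 x.2.symm y.2.symm (fun e => hxy (Subtype.ext e))
      x'.2.symm y'.2.symm (fun e => hxy' (Subtype.ext e))
    exact ⟨⟨φ ⟨g, g1⟩, _, rfl⟩, Subtype.ext g2, Subtype.ext g3⟩
  have hs2 : ∀ x : Fin 2 ↪ {x : α // x ≠ b}, stabilizer φ.range x = ⊥ := by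
    intro x
    rw [Subgroup.eq_bot_iff_forall]
    rintro ⟨_, g, rfl⟩ hg
    have h0 : (φ g) (x 0) = x 0 := DFunLike.congr_fun hg 0
    have h1 : (φ g) (x 1) = x 1 := DFunLike.congr_fun hg 1
    have hg1 : (g : G) = 1 := eq_one_of_three_fixed hsharp
      (a := b) (b := (x 0).1) (c := (x 1).1) (x 0).2.symm (x 1).2.symm
      (fun e => absurd (x.injective (Subtype.ext e)) (by decide))
      (mem_stabilizer_iff.1 g.2) (congrArg Subtype.val h0) (congrArg Subtype.val h1)
    exact Subtype.ext (show φ g = 1 by rw [show g = 1 from Subtype.ext hg1, map_one])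
  have hcard : Fintype.card {x : α // x ≠ b} = Fintype.card α - 1 := by
    rw [Fintype.card_subtype_compl, Fintype.card_subtype_eq]
  obtain ⟨p, j, K, hp, hj, hcX, hKn, hcomm, hexp, hKt, hsemi, hcK, -, -⟩ :=
    exists_regular_kernel h2t hs2 (by omega)
  let ψ : stabilizer G b ≃* φ.range := MonoidHom.ofInjective hinj
  let N : Subgroup G := (K.comap ψ.toMonoidHom).map (stabilizer G b).subtype
  have hN : ∀ {g : G}, g ∈ N ↔ ∃ h : g ∈ stabilizer G b, ψ ⟨g, h⟩ ∈ K := fun {g} => by
    refine ⟨?_, fun ⟨h, hk⟩ => ⟨⟨g, h⟩, hk, rfl⟩⟩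
    rintro ⟨⟨g, h⟩, hk, rfl⟩
    exact ⟨h, hk⟩
  have hψ : ∀ (g : stabilizer G b) (x : {x : α // x ≠ b}), ((ψ g • x : {x : α // x ≠ b}) : α) = (g : G) • x.1 :=
    fun g x => rfl
  refine ⟨p, j, N, hp, hj, by omega, ?_, fun g hg => (hN.1 hg).1, ?_, ?_, ?_, ?_⟩
  · rw [Subgroup.card_map_of_injective (Subgroup.subtype_injective _), ← hcK]
    exact Nat.card_congr
      { toFun := fun g => ⟨ψ g.1, g.2⟩
        invFun := fun k => ⟨ψ.symm k.1, Subgroup.mem_comap.2
          (show ψ (ψ.symm k.1) ∈ K by rw [ψ.apply_symm_apply]; exact k.2)⟩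
        left_inv := fun g => Subtype.ext (ψ.symm_apply_apply _)
        right_inv := fun k => Subtype.ext (ψ.apply_symm_apply _) }
  · intro g hg n hn'
    obtain ⟨h, hk⟩ := hN.1 hn'
    refine hN.2 ⟨mul_mem (mul_mem hg h) (inv_mem hg), ?_⟩
    rw [show (⟨g * n * g⁻¹, mul_mem (mul_mem hg h) (inv_mem hg)⟩ : stabilizer G b) =
      ⟨g, hg⟩ * ⟨n, h⟩ * ⟨g, hg⟩⁻¹ from rfl, map_mul, map_mul, map_inv]
    exact hKn.conj_mem _ hk _
  · intro x hx y hy
    obtain ⟨h, hk⟩ := hN.1 hx
    obtain ⟨h', hk'⟩ := hN.1 hy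
    have := congrArg (fun z : K => (z : φ.range)) (hcomm ⟨_, hk⟩ ⟨_, hk'⟩)
    simp only [Subgroup.coe_mul, ← map_mul] at this
    exact congrArg Subtype.val (ψ.injective this)
  · intro x hx
    obtain ⟨h, hk⟩ := hN.1 hx
    have := congrArg (fun z : K => (z : φ.range)) (hexp ⟨_, hk⟩)
    simp only [SubmonoidClass.coe_pow, OneMemClass.coe_one, ← map_pow] at this
    exact congrArg Subtype.val (ψ.injective (this.trans (map_one ψ).symm))
  · intro x y hx hy
    obtain ⟨⟨k, hk⟩, hkxy⟩ := hKt.exists_smul_eq (⟨x, hx⟩ : {x : α // x ≠ b}) ⟨y, hy⟩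
    obtain ⟨g, rfl⟩ := ψ.surjective k
    refine ⟨g, ⟨hN.2 ⟨g.2, hk⟩, congrArg Subtype.val hkxy⟩, ?_⟩
    rintro n ⟨hnN, hnxy⟩
    obtain ⟨h, hk'⟩ := hN.1 hnN
    have hst : (⟨ψ g, hk⟩ : K)⁻¹ * ⟨ψ ⟨n, h⟩, hk'⟩ ∈ stabilizer K (⟨x, hx⟩ : {x : α // x ≠ b}) := by
      rw [mem_stabilizer_iff, mul_smul, inv_smul_eq_iff, hkxy]
      exact Subtype.ext hnxy
    rw [hsemi, Subgroup.mem_bot, inv_mul_eq_one] at hst
    exact (congrArg Subtype.val (ψ.injective (congrArg Subtype.val hst))).symm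

section Setup

variable (hsharp : ∀ x : Fin 3 ↪ α, stabilizer G x = ⊥) {a b : α} {p : ℕ} {N : Subgroup G}
  (hab : a ≠ b) (hNb : N ≤ stabilizer G b) (hNn : ∀ g ∈ stabilizer G b, ∀ n ∈ N, g * n * g⁻¹ ∈ N)
  (hNc : ∀ x ∈ N, ∀ y ∈ N, x * y = y * x)
  (hNreg : ∀ x y : α, x ≠ b → y ≠ b → ∃! n : G, n ∈ N ∧ n • x = y)
include hsharp hab hNb hNn hNc hNreg

/-- A non-trivial element of the two-point stabiliser centralises no translation. -/
theorem translation_eq_one {h n : G} (hh : h ∈ stabilizer G a ⊓ stabilizer G b) (h1 : h ≠ 1)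
    (hn : n ∈ N) (hc : h * n = n * h) : n = 1 := by
  have hfix : h • n • a = n • a := by rw [← mul_smul, hc, mul_smul, mem_stabilizer_iff.1 hh.1]
  have hne : n • a ≠ b := fun e => hab (smul_left_cancel n (e.trans (mem_stabilizer_iff.1 (hNb hn)).symm))
  have hna : n • a = a := by
    by_contra hcon
    exact h1 (eq_one_of_three_fixed hsharp hab (Ne.symm hcon) hne.symm
      (mem_stabilizer_iff.1 hh.1) (mem_stabilizer_iff.1 hh.2) hfix)
  exact (hNreg a a hab hab).unique ⟨hn, hna⟩ ⟨one_mem _, one_smul _ _⟩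

/-- An involution of the two-point stabiliser inverts the translations. -/
theorem involution_inverts {t n : G} (ht : t ∈ stabilizer G a ⊓ stabilizer G b) (ht2 : orderOf t = 2)
    (hn : n ∈ N) : t * n * t⁻¹ = n⁻¹ := by
  have htt : t * t = 1 := by rw [← sq, ← ht2, pow_orderOf_eq_one]
  have htinv : t⁻¹ = t := inv_eq_of_mul_eq_one_right htt
  have hm := hNn t ht.2 n hn
  refine eq_inv_of_mul_eq_one_right (translation_eq_one hsharp hab hNb hNn hNc hNreg ht
    (fun e => by rw [e, orderOf_one] at ht2; omega) (mul_mem hn hm) ?_)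
  have h1 := hNc n hn _ hm
  rw [htinv] at h1 ⊢
  calc t * (n * (t * n * t)) = (t * n * t) * n * t := by group
    _ = n * (t * n * t) * t := by rw [h1]
    _ = n * (t * n) * (t * t) := by group
    _ = n * (t * n) := by rw [htt, mul_one]
    _ = n * (t * n * t) * t := by rw [mul_assoc (n : G) _ t, mul_assoc (t * n), htt, mul_one]

/-- The two-point stabiliser has at most one involution. -/
theorem involution_unique {t t' : G} (ht : t ∈ stabilizer G a ⊓ stabilizer G b) (ht2 : orderOf t = 2)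
    (ht' : t' ∈ stabilizer G a ⊓ stabilizer G b) (ht2' : orderOf t' = 2) {c : α} (hca : c ≠ a)
    (hcb : c ≠ b) : t = t' := by
  by_contra hne
  obtain ⟨n, ⟨hn, hna⟩, -⟩ := hNreg a c hab hcb
  have h1 := involution_inverts hsharp hab hNb hNn hNc hNreg ht ht2 hn
  have h2 := involution_inverts hsharp hab hNb hNn hNc hNreg ht' ht2' hn
  have hn1 := translation_eq_one hsharp hab hNb hNn hNc hNreg
    (mul_mem (inv_mem ht') ht) (fun e => hne (inv_mul_eq_one.1 e).symm) hn (by
      have : t * n * t⁻¹ = t' * n * t'⁻¹ := h1.trans h2.symm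
      calc t'⁻¹ * t * n = t'⁻¹ * (t * n * t⁻¹) * t := by group
        _ = t'⁻¹ * (t' * n * t'⁻¹) * t := by rw [this]
        _ = n * (t'⁻¹ * t) := by group)
  exact hca (hna.symm.trans (by rw [hn1, one_smul]))

/-- The two-point stabiliser as a regular linear group on the translations. -/
theorem exists_regLin [Fact p.Prime] (hexp : ∀ x ∈ N, x ^ p = 1)
    (h3 : IsMultiplyPretransitive G α 3) :
    ∃ (_ : AddCommGroup (Additive N)) (_ : Module (ZMod p) (Additive N))
      (L : Subgroup (Additive N ≃ₗ[ZMod p] Additive N)),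
      Nonempty (↥(stabilizer G a ⊓ stabilizer G b) ≃* L) ∧ RegLin.IsReg L := by
  classical
  letI : CommGroup N := { (inferInstance : Group N) with mul_comm := fun x y => Subtype.ext (hNc _ x.2 _ y.2) }
  have hnsmul : ∀ x : Additive N, p • x = 0 := fun x => by
    apply Additive.toMul.injective
    rw [toMul_nsmul, toMul_zero]
    exact Subtype.ext (hexp _ x.toMul.2)
  letI inst : Module (ZMod p) (Additive N) := AddCommGroup.zmodModule (n := p) hnsmul
  let f : ↥(stabilizer G a ⊓ stabilizer G b) → (Additive N →+ Additive N) := fun h =>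
    { toFun := fun v => Additive.ofMul ⟨(h : G) * v.toMul.1 * (h : G)⁻¹, hNn _ h.2.2 _ v.toMul.2⟩
      map_zero' := congrArg Additive.ofMul (Subtype.ext (by
        show (h : G) * 1 * (h : G)⁻¹ = 1
        group))
      map_add' := fun v w => congrArg Additive.ofMul (Subtype.ext (by
        show (h : G) * (v.toMul.1 * w.toMul.1) * (h : G)⁻¹ =
          (h : G) * v.toMul.1 * (h : G)⁻¹ * ((h : G) * w.toMul.1 * (h : G)⁻¹)
        group)) }
  have hf1 : ∀ (h h' : ↥(stabilizer G a ⊓ stabilizer G b)) (v : Additive N), f (h * h') v = f h (f h' v) :=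
    fun h h' v => Additive.toMul.injective (Subtype.ext (by
      show ((h : G) * h') * v.toMul.1 * ((h : G) * h')⁻¹ =
        (h : G) * ((h' : G) * v.toMul.1 * (h' : G)⁻¹) * (h : G)⁻¹
      group))
  have hf0 : ∀ v : Additive N, f 1 v = v := fun v => Additive.toMul.injective (Subtype.ext (by
    show (1 : G) * v.toMul.1 * (1 : G)⁻¹ = v.toMul.1
    group))
  let e0 : ↥(stabilizer G a ⊓ stabilizer G b) → (Additive N ≃ₗ[ZMod p] Additive N) := fun h =>
    LinearEquiv.ofLinear ((f h).toZModLinearMap p) ((f h⁻¹).toZModLinearMap p)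
      (LinearMap.ext fun v => by
        show f h (f h⁻¹ v) = v
        rw [← hf1, mul_inv_cancel, hf0])
      (LinearMap.ext fun v => by
        show f h⁻¹ (f h v) = v
        rw [← hf1, inv_mul_cancel, hf0])
  let ρ : ↥(stabilizer G a ⊓ stabilizer G b) →* (Additive N ≃ₗ[ZMod p] Additive N) :=
    MonoidHom.mk' e0 (fun h h' => LinearEquiv.ext fun v => hf1 h h' v)
  have hρ : ∀ (h : ↥(stabilizer G a ⊓ stabilizer G b)) (v : Additive N),
      ((ρ h v).toMul : G) = (h : G) * v.toMul.1 * (h : G)⁻¹ := fun h v => rfl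
  -- conjugation of translations corresponds to the action on the points
  have hpt : ∀ (h : G), h ∈ stabilizer G a ⊓ stabilizer G b → ∀ n ∈ N, (h * n * h⁻¹) • a = h • n • a := by
    intro h hh n hn
    rw [mul_smul, mul_smul, inv_smul_eq_iff.2 (mem_stabilizer_iff.1 hh.1).symm]
  have hne : ∀ v : Additive N, v ≠ 0 → (v.toMul : G) • a ≠ a ∧ (v.toMul : G) • a ≠ b := fun v hv =>
    ⟨fun e => hv (Additive.toMul.injective (Subtype.ext
      ((hNreg a a hab hab).unique ⟨v.toMul.2, e⟩ ⟨one_mem _, one_smul _ _⟩))),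
    fun e => hab (smul_left_cancel (v.toMul : G) (e.trans (mem_stabilizer_iff.1 (hNb v.toMul.2)).symm))⟩
  have huniq : ∀ (h : ↥(stabilizer G a ⊓ stabilizer G b)) (v : Additive N), v ≠ 0 → ρ h v = v → h = 1 := by
    intro h v hv e
    have e' := congrArg (fun w : Additive N => (w.toMul : G)) e
    simp only [hρ] at e'
    by_contra h1
    refine hv (Additive.toMul.injective (Subtype.ext ?_))
    exact translation_eq_one hsharp hab hNb hNn hNc hNreg h.2 (fun e1 => h1 (Subtype.ext e1))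
      v.toMul.2 (mul_inv_eq_iff_eq_mul.1 e')
  have hinj : Function.Injective ρ := by
    rw [injective_iff_map_eq_one]
    intro h hh
    by_contra h1
    -- all translations are trivial
    have hN1 : ∀ v : Additive N, v = 0 := fun v => by
      by_contra hv
      exact h1 (huniq h v hv (by rw [hh]; rfl))
    refine h1 (Subtype.ext (Subtype.ext (Equiv.ext fun x => ?_)))
    rcases eq_or_ne x b with rfl | hx
    · exact mem_stabilizer_iff.1 h.2.2
    · obtain ⟨n, ⟨hn, hna⟩, -⟩ := hNreg a x hab hx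
      have : n = 1 := congrArg (fun w : Additive N => (w.toMul : G)) (hN1 (Additive.ofMul ⟨n, hn⟩))
      rw [this, one_smul] at hna
      subst hna
      exact mem_stabilizer_iff.1 h.2.1
  refine ⟨inferInstance, inst, ρ.range, ⟨MonoidHom.ofInjective hinj⟩, fun v w hv hw => ?_⟩
  obtain ⟨v1, v2⟩ := hne v hv
  obtain ⟨w1, w2⟩ := hne w hw
  obtain ⟨g, g1, g2, g3⟩ := exists_move_three h3 hab v1.symm v2.symm hab w1.symm w2.symm
  refine ⟨⟨ρ ⟨g, g1, g2⟩, _, rfl⟩, Additive.toMul.injective (Subtype.ext ?_), ?_⟩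
  · rw [hρ]
    refine (hNreg a _ hab w2).unique ⟨hNn g g2 _ v.toMul.2, ?_⟩ ⟨w.toMul.2, rfl⟩
    rw [hpt g ⟨g1, g2⟩ _ v.toMul.2, g3]
  · rintro ⟨_, h, rfl⟩ he
    refine Subtype.ext ?_
    show ρ h = ρ ⟨g, g1, g2⟩
    have h' : ρ (⟨g, g1, g2⟩⁻¹ * h) v = v := by
      have he' : ρ h v = w := he
      have hg' : ρ ⟨g, g1, g2⟩ v = w := Additive.toMul.injective (Subtype.ext (by
        rw [hρ]
        refine (hNreg a _ hab w2).unique ⟨hNn g g2 _ v.toMul.2, ?_⟩ ⟨w.toMul.2, rfl⟩
        rw [hpt g ⟨g1, g2⟩ _ v.toMul.2, g3]))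
      rw [map_mul, map_inv]
      show (ρ ⟨g, g1, g2⟩).symm (ρ h v) = v
      rw [he', ← hg', LinearEquiv.symm_apply_apply]
    rw [inv_mul_eq_one.1 (huniq _ v hv h')]

end Setup

/-- In a sharply triply transitive group of even degree an element of order three of a two-point
stabiliser is inverted by the involution interchanging the two points and fixing a third. -/
theorem order_three_inverted (h3 : IsMultiplyPretransitive G α 3)
    (hsharp : ∀ x : Fin 3 ↪ α, stabilizer G x = ⊥) {a b c : α} (hab : a ≠ b) (hac : a ≠ c)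
    (hbc : b ≠ c) {t s h : G} (ht : t ∈ stabilizer G a ⊓ stabilizer G b) (ht2 : orderOf t = 2)
    (hsa : s • a = b) (hsb : s • b = a) (hsc : s • c = c)
    (hh : h ∈ stabilizer G a ⊓ stabilizer G b) (hh3 : orderOf h = 3) : s * h * s⁻¹ = h⁻¹ := by
  classical
  have hn : 3 ≤ Fintype.card α := by
    calc 3 = ({a, b, c} : Finset α).card := by simp [hab, hac, hbc]
      _ ≤ _ := Finset.card_le_univ _
  obtain ⟨p, j, N, hp, -, -, -, hNb, hNn, hNc, -, hNreg⟩ := exists_translations h3 hsharp hn b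
  obtain ⟨hta, htb⟩ := ht
  simp only [Subgroup.coe_toSubmonoid, SetLike.mem_coe, Subgroup.mem_toSubmonoid, mem_stabilizer_iff] at hta htb
  have htS : t ∈ stabilizer G a ⊓ stabilizer G b := ⟨hta, htb⟩
  have htt : ∀ z : α, t • t • z = z := fun z => by
    rw [← mul_smul, ← sq, ← ht2, pow_orderOf_eq_one, one_smul]
  obtain ⟨nc, ⟨hncN, hnca⟩, -⟩ := hNreg a c hab hbc.symm
  have hinv := fun {n : G} (hn : n ∈ N) => involution_inverts hsharp hab hNb hNn hNc hNreg htS ht2 hn
  set r : G := nc * t with hr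
  have hra : r • a = c := by rw [hr, mul_smul, hta, hnca]
  have hrb : r • b = b := by rw [hr, mul_smul, htb, mem_stabilizer_iff.1 (hNb hncN)]
  -- `r` applied to the image of a translation
  have hrn : ∀ n ∈ N, r • n • a = (nc * n⁻¹) • a := fun n hn => by
    rw [hr, ← hinv hn, ← mul_smul, mul_smul (nc * t) n a, mul_smul nc t, mul_smul nc (t * n * t⁻¹) a,
      mul_smul, mul_smul, inv_smul_eq_iff.2 hta.symm]
  have hrc : r • c = a := by rw [← hnca, hrn nc hncN, mul_inv_cancel, one_smul]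
  -- a relation for elements of order three of the two-point stabiliser
  have key : ∀ g ∈ stabilizer G a ⊓ stabilizer G b, orderOf g = 3 →
      r • t • g • c = t • g • g • c := by
    intro g hg hg3
    obtain ⟨hga, hgb⟩ := hg
    replace hga : g • a = a := hga
    replace hgb : g • b = b := hgb
    have hconj : ∀ {g' : G}, g' • a = a → ∀ n : G, (g' * n * g'⁻¹) • a = g' • n • a := fun hg' n => by
      rw [mul_smul, mul_smul, inv_smul_eq_iff.2 hg'.symm]
    set n1 := g * nc * g⁻¹ with hn1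
    set n2 := g * n1 * g⁻¹ with hn2
    have hn1N : n1 ∈ N := hNn g hgb nc hncN
    have hn2N : n2 ∈ N := hNn g hgb n1 hn1N
    have hg3' : g * g * g = 1 := by rw [← pow_orderOf_eq_one g, hg3, pow_succ, pow_succ, pow_one]
    have hn3 : g * n2 * g⁻¹ = nc := by
      rw [hn2, hn1]
      calc g * (g * (g * nc * g⁻¹) * g⁻¹) * g⁻¹ = (g * g * g) * nc * (g * g * g)⁻¹ := by group
        _ = nc := by rw [hg3']; group
    have hprod : nc * n1 * n2 = 1 := by
      refine translation_eq_one hsharp hab hNb hNn hNc hNreg (h := g) ⟨hga, hgb⟩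
        (fun e => by rw [e, orderOf_one] at hg3; omega) (mul_mem (mul_mem hncN hn1N) hn2N) ?_
      rw [← mul_inv_eq_iff_eq_mul]
      calc g * (nc * n1 * n2) * g⁻¹ = (g * nc * g⁻¹) * (g * n1 * g⁻¹) * (g * n2 * g⁻¹) := by group
        _ = n1 * n2 * nc := by rw [← hn1, ← hn2, hn3]
        _ = nc * (n1 * n2) := (hNc _ (mul_mem hn1N hn2N) _ hncN).trans rfl
        _ = nc * n1 * n2 := by group
    have e1 : t • g • c = n1⁻¹ • a := by
      rw [← hnca, ← hconj hga nc, ← hn1, ← hinv hn1N, hconj hta]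
    have e2 : t • g • g • c = n2⁻¹ • a := by
      rw [← hnca, ← hconj hga nc, ← hn1, ← hconj hga n1, ← hn2, ← hinv hn2N, hconj hta]
    rw [e1, e2, hrn _ (inv_mem hn1N), inv_inv, eq_inv_of_mul_eq_one_left hprod]
  -- the involution `s`
  have hst : ∀ z : α, s • t • z = t • s • z := by
    have h1 : s * t * s⁻¹ ∈ stabilizer G a ⊓ stabilizer G b := by
      refine ⟨mem_stabilizer_iff.2 ?_, mem_stabilizer_iff.2 ?_⟩ <;> rw [mul_smul, mul_smul]
      · rw [inv_smul_eq_iff.2 hsb.symm, htb, hsb]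
      · rw [inv_smul_eq_iff.2 hsa.symm, hta, hsa]
    have h2 := involution_unique hsharp hab hNb hNn hNc hNreg h1
      (by rw [← MulAut.conj_apply, MulEquiv.orderOf_eq, ht2]) htS ht2 hac.symm hbc.symm
    intro z
    rw [← mul_smul, ← mul_smul, mul_inv_eq_iff_eq_mul.1 h2]
  have hss : ∀ z : α, s • s • z = z := by
    have h1 : s * s = 1 := eq_one_of_three_fixed hsharp hab hac hbc (by rw [mul_smul, hsa, hsb])
      (by rw [mul_smul, hsb, hsa]) (by rw [mul_smul, hsc, hsc])
    intro z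
    rw [← mul_smul, h1, one_smul]
  have hrr : ∀ z : α, r • r • z = z := by
    have h1 : r * r = 1 := eq_one_of_three_fixed hsharp hab hac hbc (by rw [mul_smul, hra, hrc])
      (by rw [mul_smul, hrb, hrb]) (by rw [mul_smul, hrc, hra])
    intro z
    rw [← mul_smul, h1, one_smul]
  have hbraid : ∀ z : α, r • s • r • z = s • r • s • z := by
    have h1 : r * s * (r * s) * (r * s) = 1 := eq_one_of_three_fixed hsharp hab hac hbc
      (by simp only [mul_smul, hsa, hrb, hsb, hra, hsc, hrc])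
      (by simp only [mul_smul, hsb, hra, hsc, hrc, hsa, hrb])
      (by simp only [mul_smul, hsc, hrc, hsa, hrb, hsb, hra])
    intro z
    have h2 : (r * s * (r * s) * (r * s)) • (s • r • s • z) = s • r • s • z := by rw [h1, one_smul]
    simp only [mul_smul, hss, hrr] at h2
    exact h2
  set h' := s * h * s⁻¹ with hh'
  have hh'S : h' ∈ stabilizer G a ⊓ stabilizer G b := by
    refine ⟨mem_stabilizer_iff.2 ?_, mem_stabilizer_iff.2 ?_⟩ <;> rw [hh', mul_smul, mul_smul]
    · rw [inv_smul_eq_iff.2 hsb.symm, mem_stabilizer_iff.1 hh.2, hsb]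
    · rw [inv_smul_eq_iff.2 hsa.symm, mem_stabilizer_iff.1 hh.1, hsa]
  have hh'3 : orderOf h' = 3 := by rw [hh', ← MulAut.conj_apply, MulEquiv.orderOf_eq, hh3]
  have hsh : ∀ z : α, s • h • z = h' • s • z := fun z => by
    rw [hh', ← mul_smul, ← mul_smul, inv_mul_cancel_right]
  have hsh' : ∀ z : α, s • h' • z = h • s • z := fun z => by
    conv_lhs => rw [← hss z]
    rw [← hsh, hss]
  have hh3' : ∀ {g : G}, orderOf g = 3 → ∀ z : α, g • g • g • z = z := fun hg z => by
    simp only [← mul_smul]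
    rw [show _ * (_ * _) = (1 : G) from by rw [← pow_orderOf_eq_one, hg, pow_succ, pow_succ, pow_one, mul_assoc],
      one_smul]
  have hkey' : ∀ g ∈ stabilizer G a ⊓ stabilizer G b, orderOf g = 3 → r • t • g • g • c = t • g • c :=
    fun g hg hg3 => by rw [← key g hg hg3, hrr]
  have hL : r • s • r • t • h • c = t • h' • c := by
    rw [key h hh hh3, hst, hsh, hsh, hsc, hkey' h' hh'S hh'3]
  have hR : s • r • s • t • h • c = t • h • h • c := by
    rw [hst, hsh, hsc, key h' hh'S hh'3, hst, hsh', hsh', hsc]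
  have h2 : h' • c = h • h • c := smul_left_cancel t (hL.symm.trans ((hbraid _).trans hR))
  have hmem : h⁻¹ * h⁻¹ * h' ∈ stabilizer G a ⊓ stabilizer G b :=
    mul_mem (mul_mem (inv_mem hh) (inv_mem hh)) hh'S
  have h4 : h⁻¹ * h⁻¹ * h' = 1 := eq_one_of_three_fixed hsharp hab hac hbc
    (mem_stabilizer_iff.1 hmem.1) (mem_stabilizer_iff.1 hmem.2)
    (by rw [mul_smul, mul_smul, h2, inv_smul_smul, inv_smul_smul])
  calc h' = h * h * (h⁻¹ * h⁻¹ * h') := by group
    _ = h⁻¹ := by
      rw [h4, mul_one]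
      refine eq_inv_of_mul_eq_one_left ?_
      rw [← pow_orderOf_eq_one h, hh3, pow_succ, pow_succ, pow_one]

/-- The two-point stabiliser is regular on the remaining points. -/
theorem natCard_twoStabilizer (h3 : IsMultiplyPretransitive G α 3)
    (hsharp : ∀ x : Fin 3 ↪ α, stabilizer G x = ⊥) {a b c : α} (hab : a ≠ b) (hac : a ≠ c) (hbc : b ≠ c) :
    Nat.card ↥(stabilizer G a ⊓ stabilizer G b) = Fintype.card α - 2 := by
  classical
  have hne : ∀ h : ↥(stabilizer G a ⊓ stabilizer G b),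
      (h : G) • c ∈ ({a, b} : Finset α)ᶜ := fun h => by
    simp only [Finset.mem_compl, Finset.mem_insert, Finset.mem_singleton, not_or]
    exact ⟨fun e => hac (smul_left_cancel (h : G) (e.trans (mem_stabilizer_iff.1 h.2.1).symm)).symm,
      fun e => hbc (smul_left_cancel (h : G) (e.trans (mem_stabilizer_iff.1 h.2.2).symm)).symm⟩
  have hbij : Function.Bijective
      (fun h : ↥(stabilizer G a ⊓ stabilizer G b) => (⟨(h : G) • c, hne h⟩ : (({a, b} : Finset α)ᶜ : Finset α))) := by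
    refine ⟨fun h h' e => ?_, fun ⟨x, hx⟩ => ?_⟩
    · have e' : (h : G) • c = (h' : G) • c := congrArg Subtype.val e
      refine Subtype.ext (inv_mul_eq_one.1 (eq_one_of_three_fixed hsharp hab hac hbc
        (mem_stabilizer_iff.1 (mul_mem (inv_mem h.2) h'.2).1)
        (mem_stabilizer_iff.1 (mul_mem (inv_mem h.2) h'.2).2) (by rw [mul_smul, ← e', inv_smul_smul])))
    · simp only [Finset.mem_compl, Finset.mem_insert, Finset.mem_singleton, not_or] at hx
      obtain ⟨g, g1, g2, g3⟩ := exists_move_three h3 hab hac hbc hab (Ne.symm hx.1) (Ne.symm hx.2)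
      exact ⟨⟨g, g1, g2⟩, Subtype.ext g3⟩
  rw [Nat.card_eq_of_bijective _ hbij, Nat.card_eq_fintype_card, Fintype.card_coe, Finset.card_compl,
    Finset.card_pair hab]

theorem exists_involution_twoStabilizer (h3 : IsMultiplyPretransitive G α 3)
    (hsharp : ∀ x : Fin 3 ↪ α, stabilizer G x = ⊥) (heven : Even (Fintype.card α)) {a b c : α}
    (hab : a ≠ b) (hac : a ≠ c) (hbc : b ≠ c) :
    ∃ t : G, t ∈ stabilizer G a ⊓ stabilizer G b ∧ orderOf t = 2 := by
  haveI : Fact (Nat.Prime 2) := ⟨Nat.prime_two⟩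
  have hd : 2 ∣ Nat.card ↥(stabilizer G a ⊓ stabilizer G b) := by
    rw [natCard_twoStabilizer h3 hsharp hab hac hbc]
    obtain ⟨r, hr⟩ := heven
    exact ⟨r - 1, by omega⟩
  obtain ⟨t, ht⟩ := exists_prime_orderOf_dvd_card' 2 hd
  exact ⟨t, t.2, by rw [Subgroup.orderOf_coe, ht]⟩

theorem exists_third (h3 : 3 ≤ Fintype.card α) {a b : α} (hab : a ≠ b) : ∃ c : α, a ≠ c ∧ b ≠ c := by
  obtain ⟨c, hc⟩ : ∃ c, c ∈ ({a, b} : Finset α)ᶜ := by
    refine Finset.card_pos.1 ?_
    rw [Finset.card_compl, Finset.card_pair hab]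
    omega
  simp only [Finset.mem_compl, Finset.mem_insert, Finset.mem_singleton, not_or] at hc
  exact ⟨c, Ne.symm hc.1, Ne.symm hc.2⟩

end Cfsg.Agent.PermGroups
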