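import Cfsg.Agent.PermGroups.SharplyThree
import Mathlib.LinearAlgebra.Matrix.GeneralLinearGroup.Projective
import Mathlib.Topology.Compactification.OnePoint.ProjectiveLine
import Mathlib.Algebra.Field.IsField

/-!
A sharply triply transitive group with an abelian two-point stabiliser inverted by an involution
interchanging the points is `PGL(2, K)`.
-/

set_option autoImplicit false
set_option linter.style.haveILetI false
set_option linter.unusedSectionVars false

namespace Cfsg.Agent.PermGroups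

open MulAction
open scoped OnePoint

/-- A carrier type in the lowest universe. -/
structure PointBox (n : ℕ) where
  /-- The underlying number. -/
  val : Fin n

variable {α : Type*} [Fintype α] [DecidableEq α] {G : Subgroup (Equiv.Perm α)}

/-- The translations are the additive group of a field on which the two-point stabiliser acts
by multiplication. -/
theorem exists_coordinates_sharp (h3 : IsMultiplyPretransitive G α 3)
    (hsharp : ∀ x : Fin 3 ↪ α, stabilizer G x = ⊥) {a b c : α} (hab : a ≠ b) (hac : a ≠ c) (hbc : b ≠ c)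
    (hHc : ∀ x ∈ stabilizer G a ⊓ stabilizer G b, ∀ y ∈ stabilizer G a ⊓ stabilizer G b, x * y = y * x) :
    ∃ (K : Type) (_ : Field K) (_ : Fintype K) (τ : K → G),
      Fintype.card K + 1 = Fintype.card α ∧ (∀ x, τ x • b = b) ∧ (∀ x y, τ (x + y) = τ x * τ y) ∧
      (∀ x y, τ x • a = τ y • a → x = y) ∧ (∀ z, z ≠ b → ∃ x, τ x • a = z) ∧ τ 1 • a = c ∧
      ∀ k : K, k ≠ 0 → ∃ d ∈ stabilizer G a ⊓ stabilizer G b, ∀ x, d • τ x • a = τ (k * x) • a := by
  classical
  have hn : 3 ≤ Fintype.card α := by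
    calc 3 = ({a, b, c} : Finset α).card := by simp [hab, hac, hbc]
      _ ≤ _ := Finset.card_le_univ _
  obtain ⟨p, j, N, hp, hj, hcard, hcN, hNb, hNn, hNc, -, hNreg⟩ := exists_translations h3 hsharp hn b
  set H := stabilizer G a ⊓ stabilizer G b with hH
  let e : PointBox (Nat.card N) ≃ N :=
    ({ toFun := PointBox.val, invFun := PointBox.mk, left_inv := fun _ => rfl, right_inv := fun _ => rfl } :
      PointBox (Nat.card N) ≃ Fin (Nat.card N)).trans (Finite.equivFin _).symm
  let τ : PointBox (Nat.card N) → G := fun x => (e x : G)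
  have τmem : ∀ x, τ x ∈ N := fun x => (e x).2
  have τb : ∀ x, τ x • b = b := fun x => mem_stabilizer_iff.1 (hNb (τmem x))
  have fne : ∀ x, τ x • a ≠ b := fun x h => hab (smul_left_cancel (τ x) (h.trans (τb x).symm))
  have finj : ∀ x y, τ x • a = τ y • a → x = y := fun x y h => e.injective (Subtype.ext
    ((hNreg a (τ y • a) hab (fne y)).unique ⟨τmem x, h⟩ ⟨τmem y, rfl⟩))
  have fsurj : ∀ z, z ≠ b → ∃ x, τ x • a = z := fun z hz => by
    obtain ⟨n, ⟨hn', hna⟩, -⟩ := hNreg a z hab hz
    exact ⟨e.symm ⟨n, hn'⟩, by simp [τ, hna]⟩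
  have hconj : ∀ {d : G}, d ∈ H → ∀ n : G, (d * n * d⁻¹) • a = d • n • a := fun {d} hd n => by
    rw [mul_smul, mul_smul, inv_smul_eq_iff.2 (mem_stabilizer_iff.1 hd.1).symm]
  have hex : ∀ x, ∃ d ∈ H, τ x • a ≠ a → d • c = τ x • a := by
    intro x
    by_cases hx : τ x • a = a
    · exact ⟨1, one_mem _, fun h => absurd hx h⟩
    · obtain ⟨g, g1, g2, g3⟩ := exists_move_three h3 hab hac hbc hab (Ne.symm hx) (fne x).symm
      exact ⟨g, ⟨mem_stabilizer_iff.2 g1, mem_stabilizer_iff.2 g2⟩, fun _ => g3⟩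
  choose δ hδ hδe using hex
  have huniq : ∀ {d d' : G}, d ∈ H → d' ∈ H → d • c = d' • c → d = d' := fun {d d'} hd hd' h =>
    inv_mul_eq_one.1 (eq_one_of_three_fixed hsharp hab hac hbc
      (mem_stabilizer_iff.1 (mul_mem (inv_mem hd) hd').1) (mem_stabilizer_iff.1 (mul_mem (inv_mem hd) hd').2)
      (by rw [mul_smul, ← h, inv_smul_smul]))
  have hmem : ∀ x y, (if τ x • a = a then 1 else δ x * τ y * (δ x)⁻¹) ∈ N := by
    intro x y
    split
    · exact one_mem _
    · exact hNn _ (hδ x).2 _ (τmem y)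
  letI : Add (PointBox (Nat.card N)) := ⟨fun x y => e.symm ⟨τ x * τ y, mul_mem (τmem x) (τmem y)⟩⟩
  letI : Zero (PointBox (Nat.card N)) := ⟨e.symm 1⟩
  obtain ⟨one, hone⟩ := fsurj c hbc.symm
  letI : One (PointBox (Nat.card N)) := ⟨one⟩
  letI : Neg (PointBox (Nat.card N)) := ⟨fun x => e.symm ⟨(τ x)⁻¹, inv_mem (τmem x)⟩⟩
  letI : Mul (PointBox (Nat.card N)) := ⟨fun x y => e.symm ⟨_, hmem x y⟩⟩
  have hadd : ∀ x y, τ (x + y) = τ x * τ y := fun x y => by
    show ((e (e.symm _) : N) : G) = _
    rw [e.apply_symm_apply]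
  have hzero : τ 0 = 1 := by
    show ((e (e.symm 1) : N) : G) = _
    rw [e.apply_symm_apply]; rfl
  have hneg : ∀ x, τ (-x) = (τ x)⁻¹ := fun x => by
    show ((e (e.symm _) : N) : G) = _
    rw [e.apply_symm_apply]
  have τinj : Function.Injective τ := fun x y h => e.injective (Subtype.ext h)
  have hmul : ∀ x y, τ (x * y) = if τ x • a = a then 1 else δ x * τ y * (δ x)⁻¹ := fun x y => by
    show ((e (e.symm _) : N) : G) = _
    rw [e.apply_symm_apply]
  have h00 : τ (0 : PointBox (Nat.card N)) • a = a := by rw [hzero, one_smul]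
  have hne0 : ∀ {x : PointBox (Nat.card N)}, x ≠ 0 → τ x • a ≠ a := fun {x} hx h => hx (finj x 0 (h.trans h00.symm))
  have hf0 : ∀ x y, x = 0 → τ (x * y) • a = a := fun x y hx => by rw [hmul, if_pos (hx ▸ h00), one_smul]
  have hfm : ∀ {x} (y), x ≠ 0 → τ (x * y) • a = δ x • τ y • a := fun {x} y hx => by
    rw [hmul, if_neg (hne0 hx), hconj (hδ x)]
  have hδ1 : ∀ {x}, x ≠ 0 → δ x • c = τ x • a := fun {x} hx => hδe x (hne0 hx)
  have hmz : ∀ x y : PointBox (Nat.card N), y = 0 → x * y = 0 := fun x y hy => finj (x * y) 0 (by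
    rw [h00]
    by_cases hx : x = 0
    · exact hf0 x y hx
    · rw [hfm y hx, hy, h00]; exact mem_stabilizer_iff.1 (hδ x).1)
  have hzm : ∀ y : PointBox (Nat.card N), (0 : PointBox (Nat.card N)) * y = 0 := fun y =>
    finj _ _ ((hf0 0 y rfl).trans h00.symm)
  have hmne : ∀ {x y : PointBox (Nat.card N)}, x ≠ 0 → y ≠ 0 → x * y ≠ 0 := fun {x y} hx hy h => hne0 hy (by
    have h1 := hfm y hx
    rw [h, h00] at h1
    exact smul_left_cancel (δ x) (h1.symm.trans (mem_stabilizer_iff.1 (hδ x).1).symm))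
  have hδm : ∀ {x y}, x ≠ 0 → y ≠ 0 → δ (x * y) = δ x * δ y := fun {x y} hx hy =>
    huniq (hδ _) (mul_mem (hδ x) (hδ y)) (by rw [hδ1 (hmne hx hy), hfm y hx, mul_smul, hδ1 hy])
  have mul_comm' : ∀ x y : PointBox (Nat.card N), x * y = y * x := by
    intro x y
    by_cases hx : x = 0
    · rw [hx, hzm, hmz y 0 rfl]
    by_cases hy : y = 0
    · rw [hy, hzm, hmz x 0 rfl]
    apply finj
    rw [hfm y hx, hfm x hy, ← hδ1 hx, ← hδ1 hy, ← mul_smul, ← mul_smul, hHc _ (hδ x) _ (hδ y)]
  have hone0 : (1 : PointBox (Nat.card N)) ≠ 0 := fun h => hac (by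
    have h1 : τ one • a = a := by rw [show one = (0 : PointBox (Nat.card N)) from h, h00]
    exact h1.symm.trans hone)
  have hδone : δ (1 : PointBox (Nat.card N)) = 1 :=
    huniq (hδ _) (one_mem _) (by rw [hδ1 hone0, one_smul]; exact hone)
  letI R : CommRing (PointBox (Nat.card N)) := CommRing.ofMinimalAxioms
    (fun x y z => τinj (by simp only [hadd, mul_assoc]))
    (fun x => τinj (by rw [hadd, hzero, one_mul]))
    (fun x => τinj (by rw [hadd, hzero, hneg, inv_mul_cancel]))
    (fun x y z => by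
      by_cases hx : x = 0
      · rw [hx, hzm, hzm, hzm]
      by_cases hy : y = 0
      · rw [hy, hmz x 0 rfl, hzm, hmz x 0 rfl]
      apply finj
      rw [hfm z (hmne hx hy), hfm _ hx, hfm z hy, hδm hx hy, mul_smul])
    mul_comm'
    (fun x => finj _ _ (by rw [hfm x hone0, hδone, one_smul]))
    (fun x y z => τinj (by
      by_cases hx : τ x • a = a
      · simp only [hadd, hmul, if_pos hx, one_mul]
      · simp only [hadd, hmul, if_neg hx]
        group))
  have hF : IsField (PointBox (Nat.card N)) := by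
    refine ⟨⟨0, 1, hone0.symm⟩, mul_comm', fun {x} hx => ?_⟩
    have hm := inv_mem (hδ x)
    obtain ⟨y, hy⟩ := fsurj ((δ x)⁻¹ • c) fun h => hbc (by
      rw [inv_smul_eq_iff, mem_stabilizer_iff.1 (hδ x).2] at h
      exact h.symm)
    exact ⟨y, finj _ _ (by rw [hfm y hx, hy, smul_inv_smul]; exact hone.symm)⟩
  haveI : Finite (PointBox (Nat.card N)) := Finite.of_equiv _ e.symm
  letI : Fintype (PointBox (Nat.card N)) := Fintype.ofFinite _
  refine ⟨PointBox (Nat.card N), hF.toField, inferInstance, τ, ?_, τb, hadd, finj, fsurj, hone,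
    fun k hk => ⟨δ k, hδ k, fun x => (hfm x hk).symm⟩⟩
  rw [← Nat.card_eq_fintype_card (α := PointBox (Nat.card N)), Nat.card_congr e, hcN, hcard]

open Matrix in
/-- Recognition of `PGL(2, K)`. -/
theorem nonempty_pgl (h3 : IsMultiplyPretransitive G α 3)
    (hsharp : ∀ x : Fin 3 ↪ α, stabilizer G x = ⊥) {a b c : α} (hab : a ≠ b) (hac : a ≠ c) (hbc : b ≠ c)
    (hHc : ∀ x ∈ stabilizer G a ⊓ stabilizer G b, ∀ y ∈ stabilizer G a ⊓ stabilizer G b, x * y = y * x)
    (s : G) (hsa : s • a = b) (hsb : s • b = a) (hsc : s • c = c)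
    (hinv : ∀ h ∈ stabilizer G a ⊓ stabilizer G b, s * h * s⁻¹ = h⁻¹) :
    ∃ (K : Type) (_ : Field K) (_ : Fintype K), Fintype.card K + 1 = Fintype.card α ∧
      Nonempty (G ≃* Matrix.ProjGenLinGroup (Fin 2) K) := by
  classical
  obtain ⟨K, fK, fintK, τ, hcard, τb, hadd, finj, fsurj, hone, hscal⟩ := exists_coordinates_sharp h3 hsharp hab hac hbc hHc
  refine ⟨K, fK, fintK, hcard, ?_⟩
  have hτ0 : τ 0 = 1 := mul_eq_left.mp ((hadd 0 0).symm.trans (by rw [add_zero]))
  have fne : ∀ x, τ x • a ≠ b := fun x h => hab (smul_left_cancel (τ x) (h.trans (τb x).symm))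
  let f : OnePoint K → α := fun p => p.elim b fun x => τ x • a
  have hf : Function.Bijective f := by
    refine ⟨fun p q h => ?_, fun z => ?_⟩
    · induction p using OnePoint.rec with
      | infty =>
        induction q using OnePoint.rec with
        | infty => rfl
        | coe y => exact absurd h.symm (fne y)
      | coe x =>
        induction q using OnePoint.rec with
        | infty => exact absurd h (fne x)
        | coe y => exact congrArg _ (finj x y h)
    · by_cases hz : z = b
      · exact ⟨∞, hz.symm⟩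
      · obtain ⟨x, hx⟩ := fsurj z hz
        exact ⟨x, hx⟩
  let B := Equiv.ofBijective f hf
  let ρ : G →* Equiv.Perm (OnePoint K) :=
    (B.symm.permCongrHom).toMonoidHom.comp (MulAction.toPermHom G α)
  let Φ : GL (Fin 2) K →* Equiv.Perm (OnePoint K) := MulAction.toPermHom (GL (Fin 2) K) (OnePoint K)
  have hrel : ∀ (g : G) (M : GL (Fin 2) K), (∀ p, g • f p = f (M • p)) → ρ g = Φ M := fun g M h =>
    Equiv.ext fun p => by
      show B.symm (g • B p) = M • p
      rw [Equiv.symm_apply_eq]
      exact h p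
  have hρi : Function.Injective ρ := by
    rw [injective_iff_map_eq_one]
    intro g hg
    have hp : ∀ p, g • f p = f p := fun p => by
      have h1 : B.symm (g • B p) = p := DFunLike.congr_fun hg p
      exact (Equiv.symm_apply_eq _).mp h1
    refine eq_one_of_three_fixed hsharp hab hac hbc ?_ (hp ∞) ?_
    · have := hp ((0 : K) : OnePoint K)
      simpa [f, hτ0] using this
    · have := hp ((1 : K) : OnePoint K)
      simpa [f, hone] using this
  -- the three kinds of generators
  have hT : ∀ x : K, ρ (τ x) ∈ Φ.range := by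
    intro x
    have hd : (!![1, x; 0, 1] : Matrix (Fin 2) (Fin 2) K).det ≠ 0 := by simp [det_fin_two]
    refine ⟨GeneralLinearGroup.mkOfDetNeZero _ hd, (hrel _ _ fun p => ?_).symm⟩
    induction p using OnePoint.rec with
    | infty => rw [OnePoint.smul_infty_eq_ite]; simp [f, τb]
    | coe y =>
      rw [OnePoint.smul_some_eq_ite]
      simp [f, ← mul_smul, ← hadd, add_comm]
  have hD : ∀ k : K, k ≠ 0 → ∀ d ∈ stabilizer G a ⊓ stabilizer G b,
      (∀ x, d • τ x • a = τ (k * x) • a) → ρ d ∈ Φ.range := by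
    intro k hk d hdH hd'
    have hdet : (!![k, 0; 0, 1] : Matrix (Fin 2) (Fin 2) K).det ≠ 0 := by simpa [det_fin_two] using hk
    refine ⟨GeneralLinearGroup.mkOfDetNeZero _ hdet, (hrel _ _ fun p => ?_).symm⟩
    induction p using OnePoint.rec with
    | infty => rw [OnePoint.smul_infty_eq_ite]; simp [f]; exact mem_stabilizer_iff.1 hdH.2
    | coe y => rw [OnePoint.smul_some_eq_ite]; simp [f, hd']
  have hsinv : ∀ x : K, x ≠ 0 → s • τ x • a = τ x⁻¹ • a := by
    intro x hx
    obtain ⟨d, hdH, hd⟩ := hscal x hx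
    have h1 : τ x • a = d • c := by rw [← hone, hd, mul_one]
    have h2 : d • τ x⁻¹ • a = c := by rw [hd, mul_inv_cancel₀ hx, hone]
    rw [h1, ← mul_smul, show s * d = d⁻¹ * s from by rw [← hinv d hdH]; group, mul_smul, hsc, ← h2, inv_smul_smul]
  have hS : ρ s ∈ Φ.range := by
    have hdet : (!![0, 1; 1, 0] : Matrix (Fin 2) (Fin 2) K).det ≠ 0 := by simp [det_fin_two]
    refine ⟨GeneralLinearGroup.mkOfDetNeZero _ hdet, (hrel _ _ fun p => ?_).symm⟩
    induction p using OnePoint.rec with
    | infty => rw [OnePoint.smul_infty_eq_ite]; simp [f, hsb, hτ0]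
    | coe y =>
      rw [OnePoint.smul_some_eq_ite]
      by_cases hy : y = 0
      · simp [f, hy, hτ0, hsa]
      · simp [f, hy, hsinv y hy]
  have hall : ∀ g, ρ g ∈ Φ.range := by
    have hfix : ∀ g : G, g • b = b → ρ g ∈ Φ.range := by
      intro g hgb
      obtain ⟨x, hx⟩ := fsurj (g • a) fun h => hab (smul_left_cancel g (h.trans hgb.symm))
      set g' := (τ x)⁻¹ * g with hg'
      have ha' : g' • a = a := by rw [hg', mul_smul, ← hx, inv_smul_smul]
      have hb' : g' • b = b := by rw [hg', mul_smul, hgb, inv_smul_eq_iff, τb]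
      obtain ⟨k, hk⟩ := fsurj (g' • c) fun h => hbc (smul_left_cancel g' (hb'.trans h.symm))
      have hk0 : k ≠ 0 := by
        rintro rfl
        rw [hτ0, one_smul] at hk
        exact hac (smul_left_cancel g' (ha'.trans hk))
      obtain ⟨d, hdH, hd⟩ := hscal k hk0
      have hgd : g' = d := by
        refine (inv_mul_eq_one.1 (eq_one_of_three_fixed hsharp hab hac hbc ?_ ?_ ?_)).symm
        · rw [mul_smul, ha', inv_smul_eq_iff, mem_stabilizer_iff.1 hdH.1]
        · rw [mul_smul, hb', inv_smul_eq_iff, mem_stabilizer_iff.1 hdH.2]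
        · rw [mul_smul, ← hk, inv_smul_eq_iff, ← hone, hd, mul_one]
      rw [show g = τ x * d by rw [← hgd, hg', mul_inv_cancel_left], map_mul]
      exact mul_mem (hT x) (hD k hk0 d hdH hd)
    intro g
    by_cases hgb : g • b = b
    · exact hfix g hgb
    obtain ⟨x, hx⟩ := fsurj (g • b) hgb
    have hm := hfix ((τ x * s)⁻¹ * g) (by rw [mul_smul, inv_smul_eq_iff, mul_smul, hsb, hx])
    rw [show g = τ x * s * ((τ x * s)⁻¹ * g) by group, map_mul, map_mul]
    exact mul_mem (mul_mem (hT x) hS) hm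
  have hΦ : ∀ M : GL (Fin 2) K, Φ M ∈ ρ.range := by
    intro M
    have hTr : ∀ x : K, ∀ p, τ x • f p = f (p.elim ∞ fun y => ((x + y : K) : OnePoint K)) := fun x p => by
      induction p using OnePoint.rec with
      | infty => exact τb x
      | coe y => simp [f, hadd, mul_smul]
    have hdet := M.det_ne_zero
    rw [det_fin_two] at hdet
    by_cases h10 : M 1 0 = 0
    · have h00' : M 0 0 ≠ 0 := fun h => hdet (by simp [h, h10])
      have h11' : M 1 1 ≠ 0 := fun h => hdet (by simp [h, h10])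
      obtain ⟨d, hdH, hd⟩ := hscal _ (div_ne_zero h00' h11')
      refine ⟨τ (M 0 1 / M 1 1) * d, hrel _ M fun p => ?_⟩
      induction p using OnePoint.rec with
      | infty =>
        rw [OnePoint.smul_infty_eq_ite, if_pos h10]
        show (τ (M 0 1 / M 1 1) * d) • b = b
        rw [mul_smul, mem_stabilizer_iff.1 hdH.2, τb]
      | coe y =>
        rw [OnePoint.smul_some_eq_ite, h10, zero_mul, zero_add, if_neg h11']
        show (τ (M 0 1 / M 1 1) * d) • τ y • a = τ _ • a
        rw [mul_smul, hd, ← mul_smul, ← hadd]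
        congr 2
        field_simp
        ring
    · have hβ : (M 0 1 * M 1 0 - M 0 0 * M 1 1) / M 1 0 ≠ 0 :=
        div_ne_zero (fun h => hdet (by linear_combination -h)) h10
      obtain ⟨d₁, hd₁H, hd₁⟩ := hscal _ h10
      obtain ⟨d₂, hd₂H, hd₂⟩ := hscal _ hβ
      refine ⟨τ (M 0 0 / M 1 0) * d₂ * s * τ (M 1 1) * d₁, hrel _ M fun p => ?_⟩
      induction p using OnePoint.rec with
      | infty =>
        rw [OnePoint.smul_infty_eq_ite, if_neg h10]
        show (τ (M 0 0 / M 1 0) * d₂ * s * τ (M 1 1) * d₁) • b = τ _ • a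
        rw [mul_smul, mul_smul, mul_smul, mul_smul, mem_stabilizer_iff.1 hd₁H.2, τb, hsb,
          mem_stabilizer_iff.1 hd₂H.1]
      | coe y =>
        rw [OnePoint.smul_some_eq_ite]
        show (τ (M 0 0 / M 1 0) * d₂ * s * τ (M 1 1) * d₁) • τ y • a = _
        rw [mul_smul, mul_smul, mul_smul, mul_smul, hd₁, ← mul_smul (τ (M 1 1)), ← hadd, add_comm (M 1 1)]
        split_ifs with hz
        · rw [hz, hτ0, one_smul, hsa, mem_stabilizer_iff.1 hd₂H.2, τb]
          rfl
        · rw [hsinv _ hz, hd₂, ← mul_smul, ← hadd]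
          show τ _ • a = τ _ • a
          congr 2
          field_simp
          ring
  have hrange : ρ.range = Φ.range := le_antisymm (by rintro _ ⟨g, rfl⟩; exact hall g)
    (by rintro _ ⟨M, rfl⟩; exact hΦ M)
  have hker : Φ.ker = Subgroup.center (GL (Fin 2) K) := by
    ext M
    rw [GeneralLinearGroup.center_eq_range_scalar, MonoidHom.mem_ker, MonoidHom.mem_range]
    constructor
    · intro hM
      have hp : ∀ p : OnePoint K, M • p = p := fun p => DFunLike.congr_fun hM p
      have h10 : M 1 0 = 0 := OnePoint.smul_infty_eq_self_iff.1 (hp ∞)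
      have h00' : M 0 0 ≠ 0 := fun h => M.det_ne_zero (by simp [det_fin_two, h, h10])
      have h11' : M 1 1 ≠ 0 := fun h => M.det_ne_zero (by simp [det_fin_two, h, h10])
      have e0 := hp ((0 : K) : OnePoint K)
      have e1 := hp ((1 : K) : OnePoint K)
      rw [OnePoint.smul_some_eq_ite, h10, zero_mul, zero_add, if_neg h11', OnePoint.coe_eq_coe] at e0 e1
      have h01 : M 0 1 = 0 := by simpa [h11'] using e0
      rw [h01, mul_one, add_zero, div_eq_one_iff_eq h11'] at e1
      refine ⟨Units.mk0 _ h00', Units.ext ?_⟩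
      ext i j
      fin_cases i <;> fin_cases j <;> simp [h10, h01, e1]
    · rintro ⟨u, rfl⟩
      refine Equiv.ext fun p => ?_
      show GeneralLinearGroup.scalar (Fin 2) u • p = p
      induction p using OnePoint.rec with
      | infty => rw [OnePoint.smul_infty_eq_ite]; simp
      | coe y => rw [OnePoint.smul_some_eq_ite]; simp
  exact ⟨(MonoidHom.ofInjective hρi).trans ((MulEquiv.subgroupCongr hrange).trans
    ((QuotientGroup.quotientKerEquivRange Φ).symm.trans (QuotientGroup.quotientMulEquivOfEq hker)))⟩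

end Cfsg.Agent.PermGroups
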