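import Mathlib

/-!
# Soluble groups containing a cycle of prime-power length

A soluble permutation group on `ZMod (p ^ b)`, `p` odd, containing the translation preserves the
congruence modulo `p`.
-/

set_option autoImplicit false
set_option linter.style.haveILetI false
set_option maxHeartbeats 1000000

namespace Cfsg.Agent.PermGroups.SolvableShift

open Equiv

variable {N : ℕ}

/-- Translation by one. -/
def shift (N : ℕ) : Perm (ZMod N) := Equiv.addRight 1

theorem shift_apply (x : ZMod N) : shift N x = x + 1 := rfl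

theorem shift_pow_apply (k : ℕ) (x : ZMod N) : (shift N ^ k) x = x + (k : ZMod N) := by
  induction k with
  | zero => simp
  | succ k ih => rw [pow_succ', Perm.mul_apply, ih, shift_apply]; push_cast; ring

variable [NeZero N] {G : Subgroup (Perm (ZMod N))}

/-- The orbit relation of a normal subgroup is invariant. -/
theorem transitive_of_normal
    (hprim : ∀ r : ZMod N → ZMod N → Prop, Equivalence r →
      (∀ g ∈ G, ∀ x y, r x y → r (g x) (g y)) → (∀ x y, r x y → x = y) ∨ ∀ x y, r x y)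
    (E : Subgroup ↥G) [E.Normal] (hE : E ≠ ⊥) (x : ZMod N) :
    ∃ e ∈ E, (e : Perm (ZMod N)) 0 = x := by
  rcases hprim (fun a b => ∃ e ∈ E, (e : Perm (ZMod N)) a = b)
      ⟨fun a => ⟨1, E.one_mem, rfl⟩,
        fun {a b} ⟨e, he, h⟩ => ⟨e⁻¹, E.inv_mem he, by simp [← h]⟩,
        fun {a b c} ⟨e, he, h⟩ ⟨f, hf, h'⟩ => ⟨f * e, E.mul_mem hf he, by simp [h, h']⟩⟩
      (fun g hg a b ⟨e, he, h⟩ => ⟨(⟨g, hg⟩ : ↥G) * e * (⟨g, hg⟩ : ↥G)⁻¹,
        Subgroup.Normal.conj_mem inferInstance e he _, by simp [h]⟩) with h | h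
  · refine absurd ((Subgroup.eq_bot_iff_forall E).2 fun e he => ?_) hE
    exact Subtype.ext (Equiv.ext fun a => (h a _ ⟨e, he, rfl⟩).symm)
  · exact h 0 x

omit [NeZero N] in
theorem regular (E : Subgroup ↥G) (htr : ∀ x, ∃ e ∈ E, (e : Perm (ZMod N)) 0 = x)
    (hcomm : ∀ a ∈ E, ∀ b ∈ E, a * b = b * a) {a b : ↥G} (ha : a ∈ E) (hb : b ∈ E)
    (h : (a : Perm (ZMod N)) 0 = (b : Perm (ZMod N)) 0) : a = b := by
  refine Subtype.ext (Equiv.ext fun x => ?_)
  obtain ⟨e, he, rfl⟩ := htr x
  have h1 := DFunLike.congr_fun (congrArg Subtype.val (hcomm a ha e he)) (0 : ZMod N)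
  have h2 := DFunLike.congr_fun (congrArg Subtype.val (hcomm b hb e he)) (0 : ZMod N)
  simp only [Subgroup.coe_mul, Perm.mul_apply] at h1 h2
  rw [h1, h2, h]

omit [NeZero N] in
theorem card_eq (E : Subgroup ↥G) (htr : ∀ x, ∃ e ∈ E, (e : Perm (ZMod N)) 0 = x)
    (hcomm : ∀ a ∈ E, ∀ b ∈ E, a * b = b * a) : Nat.card ↥E = N := by
  rw [Nat.card_eq_of_bijective (fun e : ↥E => ((e : ↥G) : Perm (ZMod N)) 0)
    ⟨fun a b h => Subtype.ext (regular E htr hcomm a.2 b.2 h),
      fun x => by obtain ⟨e, he, h⟩ := htr x; exact ⟨⟨e, he⟩, h⟩⟩, Nat.card_zmod]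

/-- A nontrivial soluble group has a nontrivial abelian normal subgroup. -/
theorem exists_abelian_normal {H : Type*} [Group H] [Nontrivial H] (hs : Group.IsSolvable H) :
    ∃ E : Subgroup H, E.Normal ∧ E ≠ ⊥ ∧ ∀ a ∈ E, ∀ b ∈ E, a * b = b * a := by
  classical
  obtain ⟨k, hk, hmin⟩ : ∃ k, derivedSeries H k = ⊥ ∧ ∀ j < k, derivedSeries H j ≠ ⊥ := by
    obtain ⟨n, hn⟩ := hs.solvable
    exact ⟨Nat.find ⟨n, hn⟩, Nat.find_spec (p := fun i => derivedSeries H i = ⊥) ⟨n, hn⟩,
      fun j hj => Nat.find_min (p := fun i => derivedSeries H i = ⊥) ⟨n, hn⟩ hj⟩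
  obtain ⟨j, rfl⟩ : ∃ j, k = j + 1 := by
    rcases k with _ | j
    · rw [derivedSeries_zero] at hk; exact absurd hk top_ne_bot
    · exact ⟨j, rfl⟩
  refine ⟨derivedSeries H j, derivedSeries_normal H j, hmin j (by omega), fun a ha b hb => ?_⟩
  rw [derivedSeries_succ, Subgroup.commutator_eq_bot_iff_le_centralizer] at hk
  exact (Subgroup.mem_centralizer_iff.1 (hk hb)) a ha

open Polynomial in
/-- There is no soluble primitive group of degree `p ^ c`, `c ≥ 2`, containing the translation. -/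
theorem false_of_primitive {p c : ℕ} [hp : Fact p.Prime] (hp3 : 3 ≤ p) (hc : 2 ≤ c)
    (G : Subgroup (Perm (ZMod (p ^ c)))) (hsol : Group.IsSolvable ↥G) (hz : shift (p ^ c) ∈ G)
    (hprim : ∀ r : ZMod (p ^ c) → ZMod (p ^ c) → Prop, Equivalence r →
      (∀ g ∈ G, ∀ x y, r x y → r (g x) (g y)) → (∀ x y, r x y → x = y) ∨ ∀ x y, r x y) :
    False := by
  classical
  haveI : NeZero (p ^ c) := ⟨pow_ne_zero _ hp.out.ne_zero⟩
  haveI : Fact (1 < p ^ c) := ⟨Nat.one_lt_pow (by omega) hp.out.one_lt⟩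
  set z : ↥G := ⟨_, hz⟩ with hzdef
  haveI : Nontrivial ↥G := ⟨⟨z, 1, fun h => by
    have := DFunLike.congr_fun (congrArg Subtype.val h) (0 : ZMod (p ^ c))
    simp [hzdef, shift_apply] at this⟩⟩
  obtain ⟨A, hAn, hA, hAc⟩ := exists_abelian_normal hsol
  have htrA := transitive_of_normal hprim A hA
  have hcardA := card_eq A htrA hAc
  let E : Subgroup ↥G :=
    { carrier := {e | e ∈ A ∧ e ^ p = 1}
      one_mem' := ⟨A.one_mem, one_pow _⟩
      mul_mem' := fun {a b} ha hb => ⟨A.mul_mem ha.1 hb.1, by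
        rw [(show Commute a b from hAc a ha.1 b hb.1).mul_pow, ha.2, hb.2, one_mul]⟩
      inv_mem' := fun {a} ha => ⟨A.inv_mem ha.1, by rw [inv_pow, ha.2, inv_one]⟩ }
  haveI hEn : E.Normal := ⟨fun e he g => ⟨hAn.conj_mem e he.1 g, by
    rw [conj_pow, he.2, mul_one, mul_inv_cancel]⟩⟩
  have hEne : E ≠ ⊥ := by
    obtain ⟨a, ha⟩ := exists_prime_orderOf_dvd_card' (G := ↥A) p
      (by rw [hcardA]; exact dvd_pow_self p (by omega))
    intro h
    have hm : (a : ↥G) ∈ E := ⟨a.2, by
      rw [← Subgroup.coe_pow, orderOf_dvd_iff_pow_eq_one.1 (dvd_of_eq ha)]; rfl⟩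
    rw [h, Subgroup.mem_bot, OneMemClass.coe_eq_one] at hm
    rw [hm, orderOf_one] at ha
    exact hp.out.ne_one ha.symm
  have hcomm : ∀ a ∈ E, ∀ b ∈ E, a * b = b * a := fun a ha b hb => hAc a ha.1 b hb.1
  have htr := transitive_of_normal hprim E hEne
  have hcard := card_eq E htr hcomm
  letI : CommGroup ↥E := { (inferInstance : Group ↥E) with
    mul_comm := fun a b => Subtype.ext (hcomm a.1 a.2 b.1 b.2) }
  have hexpE : ∀ x : Additive ↥E, p • x = 0 := fun x => by
    apply Additive.toMul.injective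
    rw [toMul_nsmul]
    exact Subtype.ext (Additive.toMul x).2.2
  letI : Module (ZMod p) (Additive ↥E) := AddCommGroup.zmodModule (n := p) hexpE
  let cz : Additive ↥E →+ Additive ↥E :=
    MonoidHom.toAdditive (MulAut.conjNormal z : ↥E ≃* ↥E).toMonoidHom
  set L : Module.End (ZMod p) (Additive ↥E) := (cz.toZModLinearMap p : Additive ↥E →ₗ[ZMod p] Additive ↥E) with hL
  have hLapp : ∀ e : Additive ↥E, ((Additive.toMul ((L : Additive ↥E →ₗ[ZMod p] Additive ↥E) e) : ↥E) : ↥G) =
      z * ((Additive.toMul e : ↥E) : ↥G) * z⁻¹ := fun e => MulAut.conjNormal_apply z _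
  have hLpow : ∀ k, ∀ e : Additive ↥E, ((Additive.toMul ((L ^ k) e) : ↥E) : ↥G) =
      z ^ k * ((Additive.toMul e : ↥E) : ↥G) * (z ^ k)⁻¹ := by
    intro k
    induction k with
    | zero => intro e; simp
    | succ k ih =>
      intro e
      rw [pow_succ' L, Module.End.mul_apply, hLapp, ih, pow_succ' z]
      group
  have hzord : z ^ p ^ c = 1 := Subtype.ext (Equiv.ext fun x => by
    rw [Subgroup.coe_pow, shift_pow_apply, ZMod.natCast_self, add_zero]; rfl)
  have hLord : L ^ p ^ c = 1 := by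
    refine LinearMap.ext fun e => Additive.toMul.injective (Subtype.ext ?_)
    rw [hLpow, hzord]; simp
  have hpolyid : ∀ k : ℕ, ((X : (ZMod p)[X]) - 1) ^ p ^ k = X ^ p ^ k - 1 := by
    intro k; rw [sub_pow_char_pow, one_pow]
  have hnil : (L - 1) ^ p ^ c = 0 := by
    have := congrArg (aeval L) (hpolyid c)
    simpa [hLord] using this
  haveI : Module.Finite (ZMod p) (Additive ↥E) := Module.Finite.of_finite
  have hrank : Module.finrank (ZMod p) (Additive ↥E) = c := by
    have h := Module.natCard_eq_pow_finrank (K := ZMod p) (V := Additive ↥E)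
    rw [Nat.card_zmod, show Nat.card (Additive ↥E) = Nat.card ↥E from rfl, hcard] at h
    exact (Nat.pow_right_injective hp.out.two_le h).symm
  have hnil' : (L - 1) ^ c = 0 := by
    have h := Module.End.ker_pow_eq_ker_pow_finrank_of_le (f := L - 1) (m := p ^ c)
      (by rw [hrank]; exact (Nat.lt_pow_self hp.out.one_lt).le)
    rw [hnil, LinearMap.ker_zero, hrank] at h
    exact LinearMap.ker_eq_top.1 h.symm
  set m := p ^ (c - 1) with hm
  have hmc : c + 1 ≤ m := by
    have h1 : c - 1 + 2 ≤ 3 ^ (c - 1) := by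
      obtain ⟨d, hd⟩ : ∃ d, c - 1 = d + 1 := ⟨c - 2, by omega⟩
      rw [hd]
      clear hd
      induction d with
      | zero => norm_num
      | succ d ih => rw [pow_succ]; omega
    calc c + 1 = c - 1 + 2 := by omega
      _ ≤ 3 ^ (c - 1) := h1
      _ ≤ m := Nat.pow_le_pow_left hp3 _
  have hsum : ∑ i ∈ Finset.range m, L ^ i = 0 := by
    have hid : (∑ i ∈ Finset.range m, (X : (ZMod p)[X]) ^ i) = (X - 1) ^ (m - 1) := by
      refine mul_right_cancel₀ (X_sub_C_ne_zero (1 : ZMod p)) ?_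
      rw [map_one, geom_sum_mul, ← hpolyid, ← pow_succ, hm, Nat.sub_add_cancel (by omega)]
    have := congrArg (aeval L) hid
    rw [map_sum] at this
    simp only [map_pow, aeval_X, map_sub, map_one] at this
    rw [this, ← Nat.sub_add_cancel (show c ≤ m - 1 by omega), pow_add, hnil', mul_zero]
  -- the translation is `ε * h`
  obtain ⟨ε, hε, hε0⟩ := htr ((z : Perm (ZMod (p ^ c))) 0)
  set h := ε⁻¹ * z with hh
  have hh0 : (h : Perm (ZMod (p ^ c))) 0 = 0 := by
    rw [hh, Subgroup.coe_mul, Perm.mul_apply, ← hε0]; simp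
  have hconj : ∀ S ∈ E, h * S * h⁻¹ = z * S * z⁻¹ := by
    intro S hS
    have hS' : z * S * z⁻¹ ∈ E := hEn.conj_mem S hS z
    calc h * S * h⁻¹ = ε⁻¹ * ((z * S * z⁻¹) * ε) := by rw [hh]; group
      _ = z * S * z⁻¹ := by rw [hcomm _ hS' _ hε, inv_mul_cancel_left]
  have hpow : ∀ k, z ^ k = ((Additive.toMul ((∑ i ∈ Finset.range k, L ^ i)
      (Additive.ofMul (⟨ε, hε⟩ : ↥E))) : ↥E) : ↥G) * h ^ k := by
    intro k
    induction k with
    | zero => simp
    | succ k ih =>
      rw [geom_sum_succ, LinearMap.add_apply, Module.End.mul_apply, toMul_add, Subgroup.coe_mul,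
        hLapp, ← hconj _ (Subtype.coe_prop _), Module.End.one_apply, pow_succ' z, ih, pow_succ' h,
        hcomm _ (hEn.conj_mem _ (Subtype.coe_prop _) h) _ (Additive.toMul
          (Additive.ofMul (⟨ε, hε⟩ : ↥E))).2]
      show z * _ = ε * _ * _
      rw [show z = ε * h by rw [hh]; group]
      group
  have hfix : ∀ k : ℕ, ((h ^ k : ↥G) : Perm (ZMod (p ^ c))) 0 = 0 := by
    intro k
    induction k with
    | zero => simp
    | succ k ih => rw [pow_succ', Subgroup.coe_mul, Perm.mul_apply, ih, hh0]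
  have hzm := hpow m
  rw [hsum] at hzm
  have := DFunLike.congr_fun (congrArg Subtype.val hzm) (0 : ZMod (p ^ c))
  simp only [LinearMap.zero_apply, toMul_zero, Subgroup.coe_one, one_mul, hfix] at this
  rw [Subgroup.coe_pow, hzdef] at this
  simp only [shift_pow_apply, zero_add] at this
  rw [ZMod.natCast_eq_zero_iff, hm, Nat.pow_dvd_pow_iff_le_right hp.out.one_lt] at this
  omega

/-- Reduction modulo a power of `p`. -/
def red (p : ℕ) {i j : ℕ} (h : i ≤ j) : ZMod (p ^ j) →+* ZMod (p ^ i) :=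
  ZMod.castHom (pow_dvd_pow p h) (ZMod (p ^ i))

/-- A soluble group containing the translation preserves the congruence modulo `p`. -/
theorem preserves_mod {p b : ℕ} [hp : Fact p.Prime] (hp3 : 3 ≤ p) (hb : 1 ≤ b)
    (G : Subgroup (Perm (ZMod (p ^ b)))) (hsol : Group.IsSolvable ↥G) (hz : shift (p ^ b) ∈ G)
    {g : Perm (ZMod (p ^ b))} (hg : g ∈ G) {x y : ZMod (p ^ b)}
    (hxy : red p hb x = red p hb y) : red p hb (g x) = red p hb (g y) := by
  classical
  haveI : NeZero (p ^ b) := ⟨pow_ne_zero _ hp.out.ne_zero⟩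
  let Inv : ℕ → Prop := fun j => ∃ hj : j ≤ b, 1 ≤ j ∧
    ∀ g ∈ G, ∀ x y, red p hj x = red p hj y → red p hj (g x) = red p hj (g y)
  have hex : ∃ j, Inv j := ⟨b, le_rfl, hb, fun g _ x y h => by
    simp only [red, ZMod.castHom_self, RingHom.id_apply] at h
    rw [h]⟩
  set j := Nat.find hex with hjdef
  obtain ⟨hjb, hj1, hj⟩ := Nat.find_spec hex
  change j ≤ b at hjb
  rcases Nat.lt_or_ge j 2 with hlt | hge
  · obtain ⟨k, hk⟩ : ∃ k, k = j := ⟨j, rfl⟩
    have hk1 : k = 1 := by omega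
    subst hk1
    have := hj g hg x y
    revert this
    generalize_proofs at *
    intro this
    have h1 : ∀ (i : ℕ) (hi : i ≤ b), i = 1 → (∀ u v, red p hi u = red p hi v →
        red p hi (g u) = red p hi (g v)) → red p hb (g x) = red p hb (g y) := by
      rintro i hi rfl h
      exact h x y hxy
    exact h1 j hjb hk.symm (fun u v => hj g hg u v)
  exfalso
  haveI : NeZero (p ^ j) := ⟨pow_ne_zero _ hp.out.ne_zero⟩
  set π := red p hjb with hπ
  have hsurj : Function.Surjective π := ZMod.ringHom_surjective π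
  let sec : ZMod (p ^ j) → ZMod (p ^ b) := Function.surjInv hsurj
  have hsec : ∀ a, π (sec a) = a := Function.surjInv_eq hsurj
  let f : ↥G → ZMod (p ^ j) → ZMod (p ^ j) := fun g a => π ((g : Perm (ZMod (p ^ b))) (sec a))
  have hf : ∀ (g : ↥G) u, f g (π u) = π ((g : Perm (ZMod (p ^ b))) u) := fun g u =>
    hj _ g.2 _ _ (hsec _)
  have hfmul : ∀ g k : ↥G, ∀ a, f (g * k) a = f g (f k a) := fun g k a => by
    show π (((g * k : ↥G) : Perm (ZMod (p ^ b))) (sec a)) = f g (π _)
    rw [hf]; rfl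
  have hf1 : ∀ a, f 1 a = a := fun a => hsec a
  let φ : ↥G →* Perm (ZMod (p ^ j)) :=
    { toFun := fun g => ⟨f g, f g⁻¹, fun a => by rw [← hfmul, inv_mul_cancel, hf1],
        fun a => by rw [← hfmul, mul_inv_cancel, hf1]⟩
      map_one' := Equiv.ext hf1
      map_mul' := fun g k => Equiv.ext (hfmul g k) }
  have hzj : shift (p ^ j) ∈ φ.range := ⟨⟨_, hz⟩, Equiv.ext fun a => by
    show f ⟨_, hz⟩ a = a + 1
    conv_lhs => rw [← hsec a]
    rw [hf, shift_apply, map_add, map_one, hsec]⟩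
  haveI := hsol
  refine false_of_primitive hp3 hge φ.range
    (solvable_of_surjective φ.rangeRestrict_surjective) hzj ?_
  intro r hr hinv
  by_contra hcon
  push Not at hcon
  obtain ⟨⟨a, a', haa, hane⟩, ⟨q, q', hqq⟩⟩ := hcon
  have hshift : ∀ (k : ℕ) u v, r u v → r (u + k) (v + k) := fun k u v h => by
    have := hinv _ (φ.range.pow_mem hzj k) u v h
    rwa [shift_pow_apply, shift_pow_apply] at this
  have hshift' : ∀ (t : ZMod (p ^ j)) u v, r u v → r (u + t) (v + t) := fun t u v h => by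
    rw [← ZMod.natCast_zmod_val t]; exact hshift _ u v h
  let D : AddSubgroup (ZMod (p ^ j)) :=
    { carrier := {d | r 0 d}
      zero_mem' := hr.refl 0
      add_mem' := fun {d e} hd he => by
        have := hshift' d 0 e he
        rw [zero_add, add_comm] at this
        exact hr.trans hd this
      neg_mem' := fun {d} hd => by
        have := hshift' (-d) 0 d hd
        rw [zero_add, add_neg_cancel] at this
        exact hr.symm this }
  have hrD : ∀ u v, r u v ↔ v - u ∈ D := by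
    intro u v
    constructor
    · intro h
      have := hshift' (-u) u v h
      rwa [add_neg_cancel, ← sub_eq_add_neg] at this
    · intro h
      have := hshift' u 0 (v - u) h
      rwa [zero_add, sub_add_cancel] at this
  have hDmul : ∀ t : ℕ, ∀ d ∈ D, (t : ZMod (p ^ j)) * d ∈ D := fun t d hd => by
    rw [← nsmul_eq_mul]; exact D.nsmul_mem hd t
  have hexp : ∀ d : ZMod (p ^ j), d ≠ 0 → ∃ k t, d.val = p ^ k * t ∧ k < j ∧
      (d ∈ D → ((p ^ k : ℕ) : ZMod (p ^ j)) ∈ D) := by
    intro d hd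
    have hv : d.val ≠ 0 := fun h => hd ((ZMod.val_eq_zero d).1 h)
    obtain ⟨k, t, hpt, hkt⟩ := Nat.exists_eq_pow_mul_and_not_dvd hv p hp.out.ne_one
    refine ⟨k, t, hkt, ?_, fun hdD => ?_⟩
    · have h1 := ZMod.val_lt d
      have h2 : p ^ k ≤ d.val := by
        rw [hkt]; exact Nat.le_mul_of_pos_right _ (Nat.pos_of_ne_zero fun h => hpt (by simp [h]))
      exact (Nat.pow_lt_pow_iff_right hp.out.one_lt).1 (lt_of_le_of_lt h2 h1)
    · have hcop : t.Coprime (p ^ j) :=
        Nat.Coprime.pow_right j ((hp.out.coprime_iff_not_dvd.2 hpt).symm)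
      have hinvt : ((ZMod.unitOfCoprime t hcop)⁻¹ : (ZMod (p ^ j))ˣ).1 * d =
          ((p ^ k : ℕ) : ZMod (p ^ j)) := by
        have hd' : d = ((p ^ k : ℕ) : ZMod (p ^ j)) * (ZMod.unitOfCoprime t hcop : (ZMod (p ^ j))ˣ) := by
          rw [ZMod.coe_unitOfCoprime, ← Nat.cast_mul, ← hkt, ZMod.natCast_zmod_val]
        rw [hd', mul_left_comm, Units.inv_mul, mul_one]
      rw [← hinvt, ← ZMod.natCast_zmod_val ((ZMod.unitOfCoprime t hcop)⁻¹ : (ZMod (p ^ j))ˣ).1]
      exact hDmul _ d hdD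
  have hDex : ∃ i, ((p ^ i : ℕ) : ZMod (p ^ j)) ∈ D := ⟨j, by rw [ZMod.natCast_self]; exact D.zero_mem⟩
  set i := Nat.find hDex with hidef
  have hi := Nat.find_spec hDex
  have hij : i < j := by
    obtain ⟨k, t, -, hk, hkD⟩ := hexp (a' - a) (sub_ne_zero.2 (Ne.symm hane))
    exact lt_of_le_of_lt (Nat.find_min' hDex (hkD ((hrD a a').1 haa))) hk
  have hi1 : 1 ≤ i := by
    by_contra h0
    apply hqq
    rw [hrD, ← mul_one (q' - q), ← ZMod.natCast_zmod_val (q' - q)]
    refine hDmul _ 1 ?_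
    have : i = 0 := by omega
    rw [hidef] at this
    rw [this, pow_zero, Nat.cast_one] at hi
    exact hi
  have hib : i ≤ b := le_trans hij.le hjb
  have hred : ∀ d, red p hij.le d = 0 ↔ d ∈ D := by
    intro d
    have hd : red p hij.le d = ((d.val : ℕ) : ZMod (p ^ i)) := by
      conv_lhs => rw [← ZMod.natCast_zmod_val d]
      exact map_natCast _ _
    rw [hd, ZMod.natCast_eq_zero_iff]
    constructor
    · rintro ⟨t, ht⟩
      rw [← ZMod.natCast_zmod_val d, ht, mul_comm, Nat.cast_mul]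
      exact hDmul t _ hi
    · intro hdD
      by_cases hd0 : d = 0
      · simp [hd0]
      obtain ⟨k, t, hkt, -, hkD⟩ := hexp d hd0
      rw [hkt]
      exact Dvd.dvd.mul_right (pow_dvd_pow p (Nat.find_min' hDex (hkD hdD))) t
  refine Nat.find_min hex (m := i) hij ⟨hib, hi1, fun g hg u v huv => ?_⟩
  have hcomp : ∀ u, red p hib u = red p hij.le (π u) := fun u => by
    rw [hπ]
    exact (DFunLike.congr_fun (RingHom.ext_zmod (red p hib) ((red p hij.le).comp (red p hjb))) u)
  rw [hcomp, hcomp, ← sub_eq_zero, ← map_sub, hred, ← hrD] at huv ⊢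
  have := hinv _ ⟨⟨g, hg⟩, rfl⟩ _ _ huv
  change r (f ⟨g, hg⟩ (π v)) (f ⟨g, hg⟩ (π u)) at this
  rwa [hf, hf] at this

/-- In prime degree, elements of `p`-power order of a soluble group commute with the translation. -/
theorem commute_shift {p : ℕ} [hp : Fact p.Prime] (G : Subgroup (Perm (ZMod p)))
    (hsol : Group.IsSolvable ↥G) (hz : shift p ∈ G) {a : Perm (ZMod p)} (ha : a ∈ G)
    (hpa : ∃ k, orderOf a = p ^ k) :
    a * shift p = shift p * a ∧ ((a * shift p) 0 = 0 → a * shift p = 1) := by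
  classical
  have hprim : ∀ r : ZMod p → ZMod p → Prop, Equivalence r →
      (∀ g ∈ G, ∀ x y, r x y → r (g x) (g y)) → (∀ x y, r x y → x = y) ∨ ∀ x y, r x y := by
    intro r hr hinv
    by_contra hcon
    push Not at hcon
    obtain ⟨⟨u, v, huv, hne⟩, ⟨q, q', hqq⟩⟩ := hcon
    have hs : ∀ (k : ℕ) x y, r x y → r (x + k) (y + k) := fun k x y h => by
      have := hinv _ (G.pow_mem hz k) x y h
      rwa [shift_pow_apply, shift_pow_apply] at this
    set d := v - u with hd
    have hstep : ∀ x, r x (x + d) := fun x => by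
      have := hs (x - u).val u v huv
      rwa [ZMod.natCast_zmod_val, add_sub_cancel, show v + (x - u) = x + d by rw [hd]; ring] at this
    have hmul : ∀ (k : ℕ) x, r x (x + k * d) := by
      intro k
      induction k with
      | zero => intro x; simpa using hr.refl x
      | succ k ih =>
        intro x
        have := hr.trans (ih x) (hstep _)
        rwa [show x + (k : ZMod p) * d + d = x + ((k + 1 : ℕ) : ZMod p) * d by push_cast; ring]
          at this
    apply hqq
    have := hmul ((q' - q) * d⁻¹).val q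
    rwa [ZMod.natCast_zmod_val, mul_assoc, inv_mul_cancel₀ (sub_ne_zero.2 (Ne.symm hne)), mul_one,
      add_sub_cancel] at this
  haveI : Nontrivial ↥G := ⟨⟨⟨_, hz⟩, 1, fun h => by
    have := DFunLike.congr_fun (congrArg Subtype.val h) (0 : ZMod p)
    simp [shift_apply] at this⟩⟩
  obtain ⟨E, hEn, hE, hEc⟩ := exists_abelian_normal hsol
  have htr := transitive_of_normal hprim E hE
  have hcard := card_eq E htr hEc
  have hmem : ∀ x : ↥G, (∃ k, orderOf x = p ^ k) → x ∈ E := by
    rintro x ⟨k, hk⟩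
    have hP : IsPGroup p ↥E := IsPGroup.of_card (n := 1) (by rw [pow_one]; exact hcard)
    have hQ : IsPGroup p ↥(Subgroup.zpowers x) :=
      IsPGroup.of_card (n := k) (by rw [Nat.card_zpowers]; exact hk)
    obtain ⟨e, he⟩ := IsPGroup.iff_card.1 (hP.to_sup_of_normal_left hQ)
    have hd : p ^ e ∣ Nat.factorial p := by
      have h1 := Subgroup.card_subgroup_dvd_card (E ⊔ Subgroup.zpowers x)
      have h2 := Subgroup.card_subgroup_dvd_card G
      rw [Nat.card_perm, Nat.card_zmod] at h2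
      exact he ▸ h1.trans h2
    have he1 : e ≤ 1 := by
      by_contra h
      have h2 : p ^ 2 ∣ Nat.factorial p := (pow_dvd_pow p (by omega)).trans hd
      rw [← Nat.mul_factorial_pred hp.out.ne_zero, pow_two,
        Nat.mul_dvd_mul_iff_left hp.out.pos, hp.out.dvd_factorial] at h2
      have := hp.out.two_le
      omega
    have := Subgroup.eq_of_le_of_card_ge (le_sup_left : E ≤ E ⊔ Subgroup.zpowers x) (by
      rw [he, hcard]
      calc p ^ e ≤ p ^ 1 := Nat.pow_le_pow_right hp.out.pos he1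
        _ = p := pow_one p)
    exact this ▸ (le_sup_right : Subgroup.zpowers x ≤ _) (Subgroup.mem_zpowers x)
  have hzE : (⟨_, hz⟩ : ↥G) ∈ E := by
    refine hmem _ ?_
    have hd : orderOf (⟨_, hz⟩ : ↥G) ∣ p := orderOf_dvd_of_pow_eq_one (Subtype.ext
      (Equiv.ext fun x => by
        rw [Subgroup.coe_pow, shift_pow_apply, ZMod.natCast_self, add_zero]; rfl))
    rcases (Nat.dvd_prime hp.out).1 hd with h | h
    exacts [⟨0, by simpa using h⟩, ⟨1, by simpa using h⟩]
  have haE : (⟨a, ha⟩ : ↥G) ∈ E := hmem _ (by simpa [Subgroup.orderOf_mk] using hpa)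
  refine ⟨congrArg Subtype.val (hEc _ haE _ hzE), fun h0 => ?_⟩
  exact congrArg Subtype.val (regular E htr hEc (E.mul_mem haE hzE) E.one_mem h0)

end Cfsg.Agent.PermGroups.SolvableShift
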