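import Cfsg.Agent.S5752

/-!
Second kernels of a suborbit of a primitive group: the Thompson–Wielandt theorem and Wielandt's bound.
-/

set_option autoImplicit false

open Subgroup

namespace Cfsg.Agent.PermGroups.SuborbitKernels

open Cfsg.Agent.GeomClasses (TW.pc TW.pc_le TW.le_normalizer_char TW.conj_mem)

section abstract

variable {G : Type*} [Group G]

/-- The core in `M` of `Y`, inside `G`. -/
def core (M Y : Subgroup G) : Subgroup G := (Y.subgroupOf M).normalCore.map M.subtype

theorem core_le (M Y : Subgroup G) : core M Y ≤ M := Subgroup.map_subtype_le _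

theorem core_le_right (M Y : Subgroup G) : core M Y ≤ Y := by
  rintro _ ⟨x, hx, rfl⟩
  exact (Subgroup.normalCore_le _ hx : x ∈ Y.subgroupOf M)

theorem subgroupOf_core (M Y : Subgroup G) : (core M Y).subgroupOf M = (Y.subgroupOf M).normalCore :=
  Subgroup.comap_map_eq_self_of_injective M.subtype_injective _

theorem le_normalizer_core (M Y : Subgroup G) : M ≤ normalizer ((core M Y : Subgroup G) : Set G) :=
  (Subgroup.normal_subgroupOf_iff_le_normalizer (core_le M Y)).1 (by
    rw [subgroupOf_core]; infer_instance)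

theorem index_core_dvd (M Y : Subgroup G) [Finite G] :
    (core M Y).relIndex M ∣ (Y.relIndex M).factorial := by
  rw [Subgroup.relIndex, subgroupOf_core, Subgroup.normalCore_eq_ker, Subgroup.index_ker]
  refine (Subgroup.card_subgroup_dvd_card _).trans ?_
  rw [Nat.card_perm]
  rfl

/-- The index of the second core divides `d! ((d-1)!)^d`. -/
theorem index_second_dvd [Finite G] (M N : Subgroup G) (d : ℕ) (hM : (M ⊓ N).relIndex M = d)
    (hN : (M ⊓ N).relIndex N = d) :
    (core M (core M (M ⊓ N) ⊓ core N (M ⊓ N))).relIndex M ∣ d.factorial * (d - 1).factorial ^ d := by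
  set A := core M (M ⊓ N) with hA
  set B := core N (M ⊓ N) with hB
  set r := B.relIndex A
  have hd0 : d ≠ 0 := hM ▸ Subgroup.index_ne_zero_of_finite
  have hr : r ∣ (d - 1).factorial := by
    have h1 : r ∣ B.relIndex (M ⊓ N) := by
      haveI : (B.subgroupOf (M ⊓ N)).Normal := Subgroup.normal_subgroupOf_of_le_normalizer
        (inf_le_right.trans (le_normalizer_core N _))
      have := Subgroup.relIndex_dvd_index_of_normal (B.subgroupOf (M ⊓ N)) (A.subgroupOf (M ⊓ N))
      rwa [Subgroup.relIndex_subgroupOf (core_le_right _ _)] at this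
    have h2 : B.relIndex (M ⊓ N) * d ∣ d.factorial := by
      rw [← hN, Subgroup.relIndex_mul_relIndex _ _ _ (core_le_right N _) inf_le_right, hN]
      exact hN ▸ index_core_dvd N (M ⊓ N)
    refine h1.trans (Nat.dvd_of_mul_dvd_mul_left (Nat.pos_of_ne_zero hd0) ?_)
    rw [Nat.mul_factorial_pred hd0, mul_comm]
    exact h2
  set H1 := A.subgroupOf M with hH1
  set L := (A ⊓ B).subgroupOf M with hL
  haveI : H1.Normal := Subgroup.normal_subgroupOf_of_le_normalizer (le_normalizer_core M _)
  haveI : (L.subgroupOf H1).Normal := by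
    refine ⟨fun x hx y => ?_⟩
    have hy : ((y : M) : G) ∈ A := y.2
    exact ⟨A.mul_mem (A.mul_mem hy hx.1) (A.inv_mem hy),
      TW.conj_mem (inf_le_right.trans (le_normalizer_core N (M ⊓ N))) (core_le_right M _ hy) hx.2⟩
  -- one coordinate for each coset
  let f : (M ⧸ (M ⊓ N).subgroupOf M) → H1 →* H1 ⧸ L.subgroupOf H1 := fun q =>
    (QuotientGroup.mk' _).comp ((MulAut.conjNormal (H := H1) q.out⁻¹).toMonoidHom)
  have hker : (MonoidHom.pi f).ker ≤ L.normalCore.subgroupOf H1 := by
    intro x hx m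
    set q : M ⧸ (M ⊓ N).subgroupOf M := ((m⁻¹ : M) : M ⧸ (M ⊓ N).subgroupOf M)
    have h := congrFun hx q
    simp only [Pi.one_apply, MonoidHom.pi_apply, f, MonoidHom.comp_apply, QuotientGroup.mk'_apply,
      QuotientGroup.eq_one_iff] at h
    have hmem : ((q.out⁻¹ * (x : M) * q.out : M) : G) ∈ A ⊓ B := by simpa [hL, Subgroup.mem_subgroupOf] using h
    have hu : q.out⁻¹ * m⁻¹ ∈ (M ⊓ N).subgroupOf M := QuotientGroup.eq.1 (QuotientGroup.out_eq' q)
    set u := q.out⁻¹ * m⁻¹ with hu'
    show ((m * (x : M) * m⁻¹ : M) : G) ∈ A ⊓ B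
    have e : m * (x : M) * m⁻¹ = u⁻¹ * (q.out⁻¹ * (x : M) * q.out) * u⁻¹⁻¹ := by rw [hu']; group
    rw [e]
    have hu2 : ((u⁻¹ : M) : G) ∈ M ⊓ N := (Subgroup.inv_mem _ hu : u⁻¹ ∈ (M ⊓ N).subgroupOf M)
    refine ⟨?_, ?_⟩
    · have := TW.conj_mem (inf_le_left.trans (le_normalizer_core M (M ⊓ N))) hu2 hmem.1
      simpa using this
    · have := TW.conj_mem (inf_le_right.trans (le_normalizer_core N (M ⊓ N))) hu2 hmem.2
      simpa using this
  have h3 : L.normalCore.relIndex H1 ∣ r ^ d := by
    refine (Subgroup.index_dvd_of_le hker).trans ?_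
    rw [Subgroup.index_ker]
    refine (Subgroup.card_subgroup_dvd_card _).trans (dvd_of_eq ?_)
    haveI := Fintype.ofFinite (M ⧸ (M ⊓ N).subgroupOf M)
    rw [Nat.card_pi, Finset.prod_const, Finset.card_univ, ← Nat.card_eq_fintype_card]
    congr 1
    · show L.relIndex H1 = r
      rw [hH1, hL, Subgroup.relIndex_subgroupOf (core_le M _), Subgroup.inf_relIndex_left]
  have h4 : H1.index ∣ d.factorial := by
    have := index_core_dvd M (M ⊓ N)
    rwa [hM] at this
  rw [Subgroup.relIndex, subgroupOf_core, ← Subgroup.relIndex_mul_index (show L.normalCore ≤ H1 from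
    (Subgroup.normalCore_le _).trans (Subgroup.comap_mono inf_le_left)), mul_comm]
  exact mul_dvd_mul h4 (h3.trans (pow_dvd_pow_of_dvd hr d))

end abstract

/-- The two sequences of cores. -/
def seq {G : Type*} [Group G] (M N : Subgroup G) : ℕ → Subgroup G × Subgroup G
  | 0 => (M, N)
  | i + 1 => (core M ((seq M N i).1 ⊓ (seq M N i).2), core N ((seq M N i).1 ⊓ (seq M N i).2))

variable {G Ω : Type*} [Group G] [Finite G] [MulAction G Ω] [FaithfulSMul G Ω] [Finite Ω]
  {a b : Ω} {d : ℕ}

theorem relIndex_left (hd : Nat.card (MulAction.orbit (MulAction.stabilizer G a) b) = d) :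
    (MulAction.stabilizer G a ⊓ MulAction.stabilizer G b).relIndex (MulAction.stabilizer G a) = d := by
  rw [Subgroup.inf_relIndex_left, Subgroup.relIndex, ← hd,
    ← Nat.card_congr (MulAction.orbitEquivQuotientStabilizer (MulAction.stabilizer G a) b).symm]
  rfl

theorem card_eq (hprim : MulAction.IsPreprimitive G Ω) :
    Nat.card (MulAction.stabilizer G b) = Nat.card (MulAction.stabilizer G a) := by
  obtain ⟨g, hg⟩ := MulAction.exists_smul_eq G a b
  rw [← hg, MulAction.stabilizer_smul_eq_stabilizer_map_conj]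
  exact Subgroup.card_map_of_injective (MulAut.conj g).injective

theorem stabilizer_ne (hd : Nat.card (MulAction.orbit (MulAction.stabilizer G a) b) = d) (h2 : 2 ≤ d) :
    MulAction.stabilizer G a ≠ MulAction.stabilizer G b := by
  intro h
  have := relIndex_left hd
  rw [← h, inf_idem, Subgroup.relIndex_self] at this
  omega

theorem maximal (hprim : MulAction.IsPreprimitive G Ω) (hd : Nat.card (MulAction.orbit (MulAction.stabilizer G a) b) = d)
    (h2 : 2 ≤ d) (c : Ω) : IsCoatom (MulAction.stabilizer G c) ∧ (MulAction.stabilizer G c).normalCore = ⊥ := by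
  haveI : Nontrivial Ω := ⟨a, b, fun h => stabilizer_ne hd h2 (by rw [h])⟩
  refine ⟨MulAction.IsPreprimitive.isCoatom_stabilizer_of_isPreprimitive (G := G) c, eq_bot_iff.2 fun z hz => ?_⟩
  rw [Subgroup.mem_bot]
  refine FaithfulSMul.eq_of_smul_eq_smul (α := Ω) fun x => ?_
  obtain ⟨g, rfl⟩ := MulAction.exists_smul_eq G c x
  have h := hz g⁻¹
  rw [MulAction.mem_stabilizer_iff, inv_inv, mul_smul, mul_smul, inv_smul_eq_iff] at h
  rw [one_smul, h]

/-- The trichotomy: the bound holds, or there is one prime. -/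
theorem bound_or_prime (hprim : MulAction.IsPreprimitive G Ω)
    (hd : Nat.card (MulAction.orbit (MulAction.stabilizer G a) b) = d) (h2 : 2 ≤ d) :
    Nat.card (MulAction.stabilizer G a) ∣ d.factorial * (d - 1).factorial ^ d ∨
      ∃ p : ℕ, p.Prime ∧ ∃ A : Subgroup G, A ≤ MulAction.stabilizer G a ∧ A ≤ MulAction.stabilizer G b ∧
        A ≠ ⊥ ∧ MulAction.stabilizer G a ≤ normalizer (A : Set G) ∧ IsPGroup p A ∧
        A.relIndex (MulAction.stabilizer G a) ∣ d.factorial * (d - 1).factorial ^ d ∧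
        Cfsg.generalizedFittingSubgroup (MulAction.stabilizer G a) = Cfsg.pCore p (MulAction.stabilizer G a) := by
  set M := MulAction.stabilizer G a with hM
  set N := MulAction.stabilizer G b with hN
  have hcard : Nat.card N = Nat.card M := card_eq hprim
  have hMd : (M ⊓ N).relIndex M = d := relIndex_left hd
  have hNd : (M ⊓ N).relIndex N = d := by
    rw [← hMd]
    refine Nat.eq_of_mul_eq_mul_left (Nat.card_pos (α := ↥(M ⊓ N))) ?_
    have key : ∀ L : Subgroup G, M ⊓ N ≤ L → Nat.card ↥(M ⊓ N) * (M ⊓ N).relIndex L = Nat.card L := fun L hL => by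
      rw [← Nat.card_congr (Subgroup.subgroupOfEquivOfLe hL).toEquiv, Subgroup.relIndex, Subgroup.card_mul_index]
    rw [key N inf_le_right, key M inf_le_left, hcard]
  have hA := index_second_dvd M N d hMd hNd
  have hB := index_second_dvd N M d (by rw [inf_comm]; exact hNd) (by rw [inf_comm]; exact hMd)
  rw [inf_comm N M, inf_comm (core N (M ⊓ N))] at hB
  by_cases hA2 : core M (core M (M ⊓ N) ⊓ core N (M ⊓ N)) = ⊥
  · rw [hA2, Subgroup.relIndex_bot_left] at hA
    exact Or.inl hA
  by_cases hB2 : core N (core M (M ⊓ N) ⊓ core N (M ⊓ N)) = ⊥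
  · rw [hB2, Subgroup.relIndex_bot_left, hcard] at hB
    exact Or.inl hB
  obtain ⟨g, hg⟩ := MulAction.exists_smul_eq G a b
  obtain ⟨p, hp, hpAB, hF, -, -, -⟩ := S5752.result M N (maximal hprim hd h2 a).1 g
    (by rw [hN, ← hg, MulAction.stabilizer_smul_eq_stabilizer_map_conj]) (stabilizer_ne hd h2)
    (maximal hprim hd h2 a).2 (fun i => (seq M N i).1) (fun i => (seq M N i).2) rfl rfl (fun _ => rfl) (fun _ => rfl)
    hA2 hB2
  exact Or.inr ⟨p, hp, core M (core M (M ⊓ N) ⊓ core N (M ⊓ N)), core_le M _,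
    ((core_le_right M _).trans inf_le_left).trans ((core_le_right M _).trans inf_le_right), hA2,
    le_normalizer_core M _, hpAB.to_le le_sup_left, hA, hF⟩

/-- Wielandt's bound. -/
theorem exists_normal_pGroup (hprim : MulAction.IsPreprimitive G Ω)
    (hd : Nat.card (MulAction.orbit (MulAction.stabilizer G a) b) = d) (h2 : 2 ≤ d) :
    ∃ p : ℕ, p.Prime ∧ ∃ P : Subgroup (MulAction.stabilizer G a), P.Normal ∧ IsPGroup p P ∧
      (∀ g : P, ((g : MulAction.stabilizer G a) : G) • b = b) ∧ P.index ∣ d.factorial * (d - 1).factorial ^ d := by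
  rcases bound_or_prime hprim hd h2 with h | ⟨p, hp, A, hAM, hAN, -, hn, hpA, hidx, -⟩
  · refine ⟨2, Nat.prime_two, ⊥, inferInstance, IsPGroup.of_bot, fun g => ?_, ?_⟩
    · have hg : (g : MulAction.stabilizer G a) = 1 := (Subgroup.mem_bot).1 g.2
      rw [hg]; exact one_smul G b
    · rwa [Subgroup.index_bot]
  · exact ⟨p, hp, A.subgroupOf _, Subgroup.normal_subgroupOf_of_le_normalizer hn,
      hpA.of_equiv (Subgroup.subgroupOfEquivOfLe hAM).symm, fun g => hAN g.2, hidx⟩

/-- A trivial Fitting subgroup on the suborbit gives a trivial Fitting subgroup of the two-point stabilizer. -/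
theorem fitting_inf_eq_bot (hprim : MulAction.IsPreprimitive G Ω)
    (hd : Nat.card (MulAction.orbit (MulAction.stabilizer G a) b) = d) (h2 : 2 ≤ d)
    (hF : Cfsg.fittingSubgroup ↥(((MulAction.stabilizer G b).subgroupOf (MulAction.stabilizer G a)).map
      (MulAction.toPermHom (MulAction.stabilizer G a) (MulAction.orbit (MulAction.stabilizer G a) b))) = ⊥) :
    Cfsg.fittingSubgroup ↥(MulAction.stabilizer G a ⊓ MulAction.stabilizer G b) = ⊥ := by
  set M := MulAction.stabilizer G a with hM
  set N := MulAction.stabilizer G b with hN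
  set f := MulAction.toPermHom M (MulAction.orbit M b) with hf
  rw [Core.fittingSubgroup_eq_iSup, iSup_eq_bot]
  intro p
  haveI : Fact (Nat.Prime p) := ⟨p.2⟩
  rw [← Agent.Components.map_inj_eq_bot_iff (M ⊓ N).subtype_injective]
  set P := TW.pc (p : ℕ) (M ⊓ N) with hP
  show P = ⊥
  have hPle : P ≤ M ⊓ N := TW.pc_le _ _
  have hPp : IsPGroup p P := (Core.isPGroup_pCore _ _).map _
  have hPn : M ⊓ N ≤ normalizer (P : Set G) := TW.le_normalizer_char _ _
  have hmax : ∀ X : Subgroup G, ∀ c : Ω, X ≠ ⊥ → X ≤ MulAction.stabilizer G c →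
      MulAction.stabilizer G c ≤ normalizer (X : Set G) → normalizer (X : Set G) = MulAction.stabilizer G c := by
    intro X c hX hXc hle
    obtain ⟨hco, hcore⟩ := maximal hprim hd h2 c
    rcases eq_or_lt_of_le hle with h | h
    · exact h.symm
    haveI : X.Normal := Subgroup.normalizer_eq_top_iff.mp (hco.2 _ h)
    exact absurd (eq_bot_iff.mpr (hcore ▸ Subgroup.normal_le_normalCore.mpr hXc)) hX
  -- `P` acts trivially on the suborbit
  set A := core M (M ⊓ N) with hA
  have hPA : P ≤ A := by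
    set P' := P.subgroupOf M with hP'
    set D := N.subgroupOf M with hD
    have hP'D : P' ≤ D := fun x hx => (hPle hx).2
    haveI : (P'.subgroupOf D).Normal := Subgroup.normal_subgroupOf_of_le_normalizer (by
      intro x hx
      rw [Subgroup.mem_normalizer_iff]
      intro y
      have := (Subgroup.mem_normalizer_iff.1 (hPn ⟨x.2, hx⟩)) (y : G)
      simpa [hP', Subgroup.mem_subgroupOf] using this)
    let φ : D →* D.map f := f.subgroupMap D
    have hφ : Function.Surjective φ := f.subgroupMap_surjective D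
    have hp' : IsPGroup p (P'.subgroupOf D) := (hPp.of_equiv
      (Subgroup.subgroupOfEquivOfLe (hPle.trans inf_le_left)).symm).of_equiv (Subgroup.subgroupOfEquivOfLe hP'D).symm
    have hbot : (P'.subgroupOf D).map φ = ⊥ := eq_bot_iff.2 (hF ▸ (Core.le_pCore
      (‹(P'.subgroupOf D).Normal›.map φ hφ) (hp'.map φ)).trans (Core.pCore_le_fittingSubgroup p _))
    intro z hz
    have hzk : f ⟨z, (hPle hz).1⟩ = 1 := by
      have : φ ⟨⟨z, (hPle hz).1⟩, (hPle hz).2⟩ ∈ (P'.subgroupOf D).map φ := ⟨_, hz, rfl⟩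
      rw [hbot, Subgroup.mem_bot] at this
      exact congrArg Subtype.val this
    refine ⟨⟨z, (hPle hz).1⟩, fun m => ?_, rfl⟩
    refine ⟨(m * (⟨z, (hPle hz).1⟩ : M) * m⁻¹).2, ?_⟩
    have h := congrArg (fun π => ((π ⟨(m⁻¹ : M) • b, MulAction.mem_orbit _ _⟩ : MulAction.orbit M b) : Ω)) hzk
    simp only [hf, MulAction.toPermHom_apply, MulAction.toPerm_apply, Equiv.Perm.one_apply,
      MulAction.orbit.coe_smul] at h
    show ((m * ⟨z, (hPle hz).1⟩ * m⁻¹ : M) : G) • b = b
    rw [← Subgroup.smul_def, mul_smul, mul_smul, h, smul_inv_smul]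
  have hPM : P ≤ TW.pc (p : ℕ) M := by
    haveI : (A.subgroupOf M).Normal := Subgroup.normal_subgroupOf_of_le_normalizer (le_normalizer_core M _)
    have hnorm : ((P.subgroupOf M).subgroupOf (A.subgroupOf M)).Normal :=
      Subgroup.normal_subgroupOf_of_le_normalizer (by
        intro x hx
        rw [Subgroup.mem_normalizer_iff]
        intro y
        have := (Subgroup.mem_normalizer_iff.1 (hPn (core_le_right M (M ⊓ N) hx))) (y : G)
        simpa [Subgroup.mem_subgroupOf] using this)
    have := Core.le_pCore_of_isSubnormal (p := (p : ℕ)) (H := P.subgroupOf M)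
      (Cfsg.Agent.GeomClasses.TW.sub (L := P.subgroupOf M) (fun x hx => hPA hx) hnorm
        ‹(A.subgroupOf M).Normal›)
      (hPp.of_equiv (Subgroup.subgroupOfEquivOfLe (hPle.trans inf_le_left)).symm)
    rw [← Subgroup.map_subgroupOf_eq_of_le (hPle.trans inf_le_left : P ≤ M)]
    exact Subgroup.map_mono this
  have hcap : ∀ L : Subgroup G, M ⊓ N ≤ L → TW.pc (p : ℕ) L ⊓ (M ⊓ N) ≤ P := by
    intro L hL
    rw [hP, ← Subgroup.map_subgroupOf_eq_of_le (inf_le_right : TW.pc (p : ℕ) L ⊓ (M ⊓ N) ≤ M ⊓ N)]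
    refine Subgroup.map_mono (Core.le_pCore (Subgroup.normal_subgroupOf_of_le_normalizer ?_)
      ((((Core.isPGroup_pCore (p : ℕ) _).map _).to_le inf_le_left).of_equiv
        (Subgroup.subgroupOfEquivOfLe inf_le_right).symm))
    intro x hx
    rw [Subgroup.mem_normalizer_iff]
    intro y
    have h1 := (Subgroup.mem_normalizer_iff.1 (TW.le_normalizer_char L (Cfsg.pCore (p : ℕ) L) (hL hx))) y
    have h3 := (Subgroup.mem_normalizer_iff.1 (Subgroup.le_normalizer hx)) y
    exact and_congr h1 h3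
  have hMn : M ≤ normalizer (P : Set G) := by
    have e : P = TW.pc (p : ℕ) M ⊓ A := le_antisymm (le_inf hPM hPA)
      ((inf_le_inf_left _ (core_le_right M _)).trans (hcap M inf_le_left))
    intro m hm
    rw [Subgroup.mem_normalizer_iff]
    intro y
    rw [e]
    exact and_congr ((Subgroup.mem_normalizer_iff.1 (TW.le_normalizer_char M _ hm)) y)
      ((Subgroup.mem_normalizer_iff.1 (le_normalizer_core M _ hm)) y)
  by_contra hne
  have hPN := hmax P a hne (hPle.trans inf_le_left) hMn
  set Q := TW.pc (p : ℕ) N with hQ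
  have hQP : Q ≤ P := by
    set J := Q ⊔ P with hJ
    have hnorm : P ≤ normalizer (Q : Set G) := (hPle.trans inf_le_right).trans (TW.le_normalizer_char N _)
    have hJp : IsPGroup p J := ((Core.isPGroup_pCore (p : ℕ) _).map _).to_sup_of_normal_left' hPp hnorm
    have hJN : J ≤ N := sup_le (TW.pc_le _ _) (hPle.trans inf_le_right)
    by_contra hnot
    have hlt : P.subgroupOf J < ⊤ := by
      rw [lt_top_iff_ne_top, ne_eq, Subgroup.subgroupOf_eq_top]
      exact fun h => hnot (le_sup_left.trans h)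
    haveI := hJp.isNilpotent
    obtain ⟨z, hz, hz'⟩ := SetLike.exists_of_lt (Group.normalizerCondition_of_isNilpotent _ hlt)
    refine hz' ?_
    have hzM : (z : G) ∈ M := by
      show (z : G) ∈ MulAction.stabilizer G a
      rw [← hPN, Subgroup.mem_normalizer_iff]
      intro y
      constructor
      · intro hy
        exact (Subgroup.mem_normalizer_iff.mp hz ⟨y, (le_sup_right : P ≤ J) hy⟩).mp hy
      · intro hy
        have hyJ : y ∈ J := by
          have := J.mul_mem (J.mul_mem (J.inv_mem z.2) ((le_sup_right : P ≤ J) hy : (z : G) * y * (z : G)⁻¹ ∈ J)) z.2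
          simpa [mul_assoc] using this
        exact (Subgroup.mem_normalizer_iff.mp hz ⟨y, hyJ⟩).mpr hy
    obtain ⟨u, hu, v, hv, huv⟩ : ∃ u ∈ Q, ∃ v ∈ P, u * v = (z : G) := by
      have : (z : G) ∈ ((Q ⊔ P : Subgroup G) : Set G) := z.2
      rw [Subgroup.coe_mul_of_right_le_normalizer_left Q P hnorm] at this
      exact Set.mem_mul.mp this
    have huM : u ∈ M := by
      rw [show u = (z : G) * v⁻¹ by rw [← huv, mul_inv_cancel_right]]
      exact M.mul_mem hzM (M.inv_mem (hPle hv).1)
    show (z : G) ∈ P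
    rw [← huv]
    exact P.mul_mem (hcap N inf_le_right ⟨hu, huM, TW.pc_le _ _ hu⟩) hv
  obtain ⟨g, hg⟩ := MulAction.exists_smul_eq G a b
  have e : N = M.map (MulAut.conj g).toMonoidHom := by
    rw [hN, ← hg, MulAction.stabilizer_smul_eq_stabilizer_map_conj]
  let ψ : M ≃* N := (M.equivMapOfInjective _ (MulAut.conj g).injective).trans (MulEquiv.subgroupCongr e.symm)
  have hc : Nat.card (TW.pc (p : ℕ) M) = Nat.card Q := by
    rw [hQ, TW.pc, TW.pc, Subgroup.card_map_of_injective M.subtype_injective,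
      Subgroup.card_map_of_injective N.subtype_injective]
    exact Core.card_pCore_congr ψ
  have heq : Q = TW.pc (p : ℕ) M := Subgroup.eq_of_le_of_card_ge (hQP.trans hPM) hc.le
  have hQne : Q ≠ ⊥ := fun h => hne (eq_bot_iff.2 (hPM.trans (heq ▸ h.le)))
  refine stabilizer_ne hd h2 ?_
  show MulAction.stabilizer G a = MulAction.stabilizer G b
  rw [← hmax _ b hQne (TW.pc_le _ _) (TW.le_normalizer_char N _), ← hmax _ a (heq ▸ hQne) (TW.pc_le _ _)
    (TW.le_normalizer_char M _)]
  show normalizer (TW.pc (p : ℕ) M : Set G) = normalizer (Q : Set G)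
  rw [heq]

/-- Trivial Fitting subgroup on the suborbit gives the bound. -/
theorem bound_of_fitting (hprim : MulAction.IsPreprimitive G Ω)
    (hd : Nat.card (MulAction.orbit (MulAction.stabilizer G a) b) = d) (h2 : 2 ≤ d)
    (hF : Cfsg.fittingSubgroup ↥(MulAction.stabilizer G a ⊓ MulAction.stabilizer G b) = ⊥) :
    Nat.card (MulAction.stabilizer G a) ∣ d.factorial * (d - 1).factorial ^ d := by
  rcases bound_or_prime hprim hd h2 with h | ⟨p, hp, A, hAM, hAN, hne, hn, hpA, -, -⟩
  · exact h
  haveI := Fact.mk hp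
  refine absurd (eq_bot_iff.2 ?_) hne
  have hle : A ≤ MulAction.stabilizer G a ⊓ MulAction.stabilizer G b := le_inf hAM hAN
  have := (Core.le_pCore (Subgroup.normal_subgroupOf_of_le_normalizer (inf_le_left.trans hn))
    (hpA.of_equiv (Subgroup.subgroupOfEquivOfLe hle).symm)).trans (Core.pCore_le_fittingSubgroup p _)
  rw [hF, le_bot_iff] at this
  intro z hz
  have h1 : (⟨z, hle hz⟩ : ↥(MulAction.stabilizer G a ⊓ MulAction.stabilizer G b)) ∈ A.subgroupOf _ := hz
  rw [this, Subgroup.mem_bot] at h1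
  exact Subgroup.mem_bot.2 (congrArg Subtype.val h1)

end Cfsg.Agent.PermGroups.SuborbitKernels
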