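import Cfsg.Agent.Suzuki.SzLie
import Cfsg.Agent.Suzuki.SzSylow

/-!
Elements of odd order of the Suzuki group fix no nonzero vector of the natural module.

The lines `t ⟨e₀, e₁⟩` through the points of the ovoid form a spread.
-/

set_option autoImplicit false

namespace Cfsg.Agent.PermGroups

open Matrix Cfsg.Agent.Suzuki

variable {F : Type*} [Field F] {m : ℕ}

/-- The base line of the spread. -/
def spreadLine (F : Type*) [Field F] : Set (Fin 4 → F) := {v | v 2 = 0 ∧ v 3 = 0 ∧ v ≠ 0}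

variable (h : Ctx F m)
include h

theorem mulVec_mem_spreadLine (a b : F) (k : Fˣ) {v : Fin 4 → F} (hv : v ∈ spreadLine F) :
    (uEl h a b * hEl h k).1.1 *ᵥ v ∈ spreadLine F := by
  obtain ⟨h2, h3, hne⟩ := hv
  have e : (uEl h a b * hEl h k).1.1 *ᵥ v = (uMat m a b).1 *ᵥ ((hMat m k).1 *ᵥ v) := by
    rw [mulVec_mulVec]; rfl
  refine ⟨?_, ?_, sl_mulVec_ne_zero _ hne⟩ <;>
    · rw [e, uMat_mulVec, hMat_mulVec]; simp [h2, h3]

theorem fix_inf_of_mem_spreadLine (g : Cfsg.Sz F m) {v : Fin 4 → F} (hv : v ∈ spreadLine F)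
    (hgv : g.1.1 *ᵥ v ∈ spreadLine F) : g • inf' F m = inf' F m := by
  rcases element_cases h g with ⟨a, b, k, rfl⟩ | ⟨a, b, c, d, k, rfl⟩
  · exact uhEl_smul_inf h a b k
  exfalso
  obtain ⟨h2, h3, -⟩ := mulVec_mem_spreadLine h c d k hv
  have e : (uEl h a b * wEl h * uEl h c d * hEl h k).1.1 *ᵥ v =
      (uMat m a b).1 *ᵥ ((wMat (F := F)).1 *ᵥ ((uEl h c d * hEl h k).1.1 *ᵥ v)) := by
    rw [mulVec_mulVec, mulVec_mulVec, mul_assoc (uEl h a b * wEl h)]; rfl
  rw [e, uMat_mulVec, wMat_mulVec] at hgv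
  have hne := (mulVec_mem_spreadLine h c d k hv).2.2
  obtain ⟨g2, g3, -⟩ := hgv
  generalize (uEl h c d * hEl h k).1.1 *ᵥ v = u at h2 h3 g2 g3 hne
  simp at g2 g3
  refine hne ?_
  rw [g3, mul_zero, add_zero] at g2
  funext i
  fin_cases i <;> simp [h2, h3, g2, g3]

omit h in
theorem natCard_spreadLine [Finite F] :
    Nat.card (spreadLine F) + 1 = Nat.card F ^ 2 := by
  classical
  let e : spreadLine F ≃ {p : F × F // p ≠ 0} :=
    { toFun := fun v => ⟨(v.1 0, v.1 1), fun hp => v.2.2.2 (by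
        simp only [Prod.ext_iff, Prod.fst_zero, Prod.snd_zero] at hp
        funext i; fin_cases i <;> simp [hp.1, hp.2, v.2.1, v.2.2.1])⟩
      invFun := fun p => ⟨![p.1.1, p.1.2, 0, 0], by simp, by simp, fun h0 => p.2 (Prod.ext
        (by simpa using congrFun h0 0) (by simpa using congrFun h0 1))⟩
      left_inv := fun v => Subtype.ext (by
        funext i; fin_cases i <;> simp [v.2.1, v.2.2.1])
      right_inv := fun p => Subtype.ext (by simp) }
  rw [Nat.card_congr e, ← Finite.card_option, Nat.card_congr (Equiv.optionSubtypeNe (0 : F × F)),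
    Nat.card_prod, sq]

/-- The spread lines cover all nonzero vectors. -/
theorem exists_mulVec_mem_spreadLine {v : Fin 4 → F} (hv : v ≠ 0) :
    ∃ g : Cfsg.Sz F m, g.1.1 *ᵥ v ∈ spreadLine F := by
  classical
  have := h.finite
  let t : Option (F × F) → Cfsg.Sz F m := fun o => o.elim 1 fun p => uEl h p.1 p.2 * wEl h
  have ht : ∀ o, t o • inf' F m = o.elim (inf' F m) fun p => pt m p.1 p.2 := by
    rintro (_ | ⟨x, y⟩)
    · exact one_smul _ _
    · show (uEl h x y * wEl h) • inf' F m = _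
      rw [mul_smul, wEl_smul_inf, uEl_smul_zero]; rfl
  let Φ : Option (F × F) × spreadLine F → {w : Fin 4 → F // w ≠ 0} :=
    fun x => ⟨(t x.1).1.1 *ᵥ x.2.1, sl_mulVec_ne_zero _ x.2.2.2.2⟩
  have hinj : Function.Injective Φ := by
    rintro ⟨o, u⟩ ⟨o', u'⟩ e
    have e' : (t o).1.1 *ᵥ u.1 = (t o').1.1 *ᵥ u'.1 := congrArg Subtype.val e
    have hm : ((t o')⁻¹ * t o).1.1 *ᵥ u.1 = u'.1 := by
      show (((t o').1⁻¹).1 * (t o).1.1) *ᵥ u.1 = _
      rw [← mulVec_mulVec, e', sl_inv_mulVec]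
    have hfix := fix_inf_of_mem_spreadLine h _ u.2 (hm ▸ u'.2)
    rw [mul_smul, inv_smul_eq_iff, ht, ht] at hfix
    obtain rfl : o = o' := by
      rcases o with _ | ⟨x, y⟩ <;> rcases o' with _ | ⟨x', y'⟩
      · rfl
      · exact absurd hfix.symm (pt_ne_inf _ _)
      · exact absurd hfix (pt_ne_inf _ _)
      · obtain ⟨rfl, rfl⟩ := pt_inj hfix; rfl
    rw [inv_mul_cancel] at hm
    obtain rfl : u = u' := Subtype.ext (by rw [← hm]; exact (one_mulVec _).symm)
    rfl
  have hcard : Nat.card (Option (F × F) × spreadLine F) + 1 =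
      Nat.card {w : Fin 4 → F // w ≠ 0} + 1 := by
    rw [← Finite.card_option (α := {w : Fin 4 → F // w ≠ 0}),
      Nat.card_congr (Equiv.optionSubtypeNe (0 : Fin 4 → F)), Nat.card_prod, Finite.card_option,
      Nat.card_prod, Nat.card_fun, Nat.card_fin]
    have hs := natCard_spreadLine (F := F)
    have h1 : 1 ≤ Nat.card F := Nat.card_pos
    generalize Nat.card F = q at hs h1 ⊢
    generalize Nat.card (spreadLine F) = s at hs ⊢
    have hq : q ^ 4 = (q * q + 1) * s + 1 := by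
      rw [show q ^ 4 = q ^ 2 * q ^ 2 by ring, ← hs,
        show q * q = s + 1 by rw [hs]; ring]
      ring
    exact hq.symm
  obtain ⟨⟨o, u⟩, hu⟩ :=
    (hinj.bijective_of_nat_card_le (by omega)).surjective ⟨v, hv⟩
  refine ⟨(t o)⁻¹, ?_⟩
  have e : (t o).1.1 *ᵥ u.1 = v := congrArg Subtype.val hu
  rw [← e]
  show ((t o).1⁻¹).1 *ᵥ _ ∈ _
  rw [sl_inv_mulVec]
  exact u.2

/-- An element of odd order fixing a nonzero vector is trivial. -/
theorem eq_one_of_fixed_vector {g : Cfsg.Sz F m} (hodd : ¬ 2 ∣ orderOf g) {v : Fin 4 → F}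
    (hgv : g.1.1 *ᵥ v = v) (hv : v ≠ 0) : g = 1 := by
  obtain ⟨t, ht⟩ := exists_mulVec_mem_spreadLine h hv
  have hfix : (t * g * t⁻¹).1.1 *ᵥ (t.1.1 *ᵥ v) = t.1.1 *ᵥ v := by
    show (t.1.1 * g.1.1 * (t.1⁻¹).1) *ᵥ (t.1.1 *ᵥ v) = _
    rw [← mulVec_mulVec, sl_inv_mulVec, ← mulVec_mulVec, hgv]
  obtain ⟨a, b, k, e⟩ := fix_inf h (fix_inf_of_mem_spreadLine h _ ht (by rw [hfix]; exact ht))
  have hord : orderOf (t * g * t⁻¹) = orderOf g :=
    (MulAut.conj t).orderOf_eq g
  rw [e] at hfix hord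
  have e2 : (uEl h a b * hEl h k).1.1 *ᵥ (t.1.1 *ᵥ v) =
      (uMat m a b).1 *ᵥ ((hMat m k).1 *ᵥ (t.1.1 *ᵥ v)) := by
    conv_rhs => rw [mulVec_mulVec]
    rfl
  rw [e2] at hfix
  obtain ⟨w2, w3, wne⟩ := ht
  generalize t.1.1 *ᵥ v = w at hfix w2 w3 wne
  rw [hMat_mulVec, uMat_mulVec] at hfix
  have e0 := congrFun hfix 0
  have e1 := congrFun hfix 1
  simp [w2, w3] at e0 e1
  have hk : k = 1 := by
    apply Units.ext
    rw [Units.val_one]
    by_cases h1 : w 1 = 0
    · have h0 : w 0 ≠ 0 := fun h0 => wne (by funext i; fin_cases i <;> simp [h0, h1, w2, w3])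
      simp [h1] at e0
      have ek : (k : F) * th' m (k : F) = 1 :=
        mul_right_cancel₀ h0 (by rw [e0, one_mul])
      have ek2 : (k : F) ^ 2 * th m (k : F) = 1 := by
        rw [th_eq_sq, ← mul_pow, ek, one_pow]
      have ek3 : (k : F) * th m (k : F) = 1 := by
        apply h.sq_injective
        simp only [one_pow]
        have := congrArg (th m) ek2
        rw [th_mul, h.th_th, th_sq, th_one] at this
        linear_combination this
      calc (k : F) = (k : F) * ((k : F) * th m (k : F)) := by rw [ek3, mul_one]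
        _ = 1 := by linear_combination ek2
    · have ek : th' m (k : F) = 1 := mul_right_cancel₀ h1 (by rw [e1, one_mul])
      rw [← h.th_th' (k : F), ek, th_one]
  rw [hk, hEl_one, mul_one] at hord e
  have h4 : orderOf g ∣ 2 ^ 2 := hord ▸ orderOf_dvd_of_pow_eq_one (by simpa using uEl_pow_four h a b)
  obtain ⟨i, -, hi⟩ := (Nat.dvd_prime_pow Nat.prime_two).1 h4
  rcases i with _ | i
  · exact orderOf_eq_one_iff.1 (by simpa using hi)
  · exact absurd (hi ▸ dvd_pow_self 2 (by omega)) hodd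

end Cfsg.Agent.PermGroups
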