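import Mathlib

/-!
A `2`-closed group of degree `2p²` has a derangement of prime order.
-/

set_option autoImplicit false

open MulAction

namespace Cfsg.Agent.PermGroups.TwoOrbitClosed

/-- A non-trivial normal subgroup of a finite `p`-group contains a central element of order `p`. -/
theorem exists_central {R : Type*} [Group R] [Finite R] {p : ℕ} [Fact p.Prime] (hR : IsPGroup p R)
    (N : Subgroup R) [N.Normal] (hN : N ≠ ⊥) : ∃ z ∈ N, orderOf z = p ∧ ∀ r, r * z = z * r := by
  letI : MulAction R N := MulAction.compHom N (MulAut.conjNormal (H := N) : R →* MulAut N)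
  have hp : p ∣ Nat.card N := by
    obtain ⟨k, hk⟩ := IsPGroup.iff_card.1 (hR.to_subgroup N)
    refine hk ▸ dvd_pow_self p fun h0 => hN (Subgroup.eq_bot_of_card_eq N ?_)
    rw [hk, h0, pow_zero]
  have h1 : (1 : N) ∈ fixedPoints R N := fun r => map_one (MulAut.conjNormal r : N ≃* N)
  obtain ⟨w, hw, hw1⟩ := hR.exists_fixed_point_of_prime_dvd_card_of_fixed_point N hp h1
  have hc : ∀ r, r * (w : R) = w * r := fun r => by
    have h : r * (w : R) * r⁻¹ = w := (MulAut.conjNormal_apply r w).symm.trans (congrArg Subtype.val (hw r))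
    exact mul_inv_eq_iff_eq_mul.1 h
  obtain ⟨k, hk⟩ := IsPGroup.iff_orderOf.1 hR (w : R)
  have hk0 : k ≠ 0 := by
    intro h0
    rw [h0, pow_zero, orderOf_eq_one_iff] at hk
    exact hw1 (Subtype.ext hk).symm
  refine ⟨(w : R) ^ p ^ (k - 1), N.pow_mem w.2 _, ?_, fun r => ((show Commute r (w : R) from hc r).pow_right _).eq⟩
  rw [orderOf_pow' _ (pow_ne_zero _ (Fact.out : p.Prime).ne_zero), hk,
    Nat.gcd_eq_right (pow_dvd_pow p (Nat.sub_le k 1)), Nat.pow_div (Nat.sub_le k 1) (Fact.out : p.Prime).pos]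
  rw [show k - (k - 1) = 1 by omega, pow_one]

/-- In a transitive action a central element fixing one point fixes all of them. -/
theorem central_fix {R Ω : Type*} [Group R] [MulAction R Ω] {z : R} (hz : ∀ r, r * z = z * r) {a x : Ω}
    (ha : z • a = a) (hx : x ∈ orbit R a) : z • x = x := by
  obtain ⟨r, rfl⟩ := hx
  show z • r • a = r • a
  rw [← mul_smul, ← hz, mul_smul, ha]

variable {G Ω : Type*} [Group G] [Finite G] [MulAction G Ω] [FaithfulSMul G Ω] [Finite Ω]

/-- The piecewise element. -/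
theorem exists_derangement_of_blocks {p : ℕ} [Fact p.Prime]
    (hcl : ∀ σ : Equiv.Perm Ω, (∀ a b : Ω, ∃ g : G, σ a = g • a ∧ σ b = g • b) → ∃ g : G, ∀ a : Ω, σ a = g • a)
    (P : Subgroup G) (hP : IsPGroup p P) (a₁ a₂ : Ω) (hdisj : a₂ ∉ orbit P a₁)
    (hcov : ∀ x, x ∈ orbit P a₁ ∨ x ∈ orbit P a₂)
    (z : P) (hz : ∀ r, r * z = z * r) (hzp : orderOf z = p) (hz1 : z • a₁ = a₁) (hz2 : z • a₂ ≠ a₂)
    (h1 : p ^ 2 ≤ Nat.card (orbit P a₁)) (h2 : Nat.card (orbit P a₂) ≤ p ^ 2) :
    ∃ g : G, (orderOf g).Prime ∧ ∀ ω : Ω, g • ω ≠ ω := by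
  classical
  have hp : p.Prime := Fact.out
  -- the kernel on the first orbit
  set f := toPermHom P (orbit P a₁) with hf
  set K := f.ker with hK
  have hmemK : ∀ k : P, k ∈ K ↔ ∀ x ∈ orbit P a₁, k • x = x := by
    intro k
    rw [hK, MonoidHom.mem_ker, Equiv.ext_iff, Subtype.forall]
    simp [hf, Subtype.ext_iff]
  have hzK : z ∈ K := (hmemK z).2 fun x hx => central_fix hz hz1 hx
  -- the orbits of the kernel on the second orbit
  let Y : Type _ := Set.range fun x : orbit P a₂ => orbit K (x : Ω)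
  have hmove : ∀ (r : P) (x : Ω), orbit K (r • x) = (fun y => r • y) '' orbit K x := by
    intro r x
    ext y
    constructor
    · rintro ⟨k, rfl⟩
      refine ⟨(r⁻¹ * (k : P) * r) • x, ⟨⟨r⁻¹ * (k : P) * r, ?_⟩, rfl⟩, ?_⟩
      · simpa using (inferInstance : K.Normal).conj_mem k k.2 r⁻¹
      · show r • (r⁻¹ * (k : P) * r) • x = (k : P) • r • x
        rw [← mul_smul, ← mul_smul, mul_assoc, mul_inv_cancel_left]
    · rintro ⟨_, ⟨k, rfl⟩, rfl⟩
      refine ⟨⟨r * (k : P) * r⁻¹, (inferInstance : K.Normal).conj_mem k k.2 r⟩, ?_⟩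
      show (r * (k : P) * r⁻¹) • r • x = r • (k : P) • x
      rw [← mul_smul, ← mul_smul, inv_mul_cancel_right]
  letI : MulAction P Y :=
    { smul := fun r y => ⟨(fun w => r • w) '' (y : Set Ω), by
        obtain ⟨x, hx⟩ := y.2
        exact ⟨⟨r • (x : Ω), mem_orbit_of_mem_orbit r x.2⟩, by simp only at hx ⊢; rw [hmove, hx]⟩⟩
      one_smul := fun y => Subtype.ext (by
        show (fun w => (1 : P) • w) '' (y : Set Ω) = y
        simp)
      mul_smul := fun r s y => Subtype.ext (by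
        show (fun w => (r * s) • w) '' (y : Set Ω) = (fun w => r • w) '' ((fun w => s • w) '' (y : Set Ω))
        simp [Set.image_image, mul_smul]) }
  have hYr : ∀ (r : P) (x : orbit P a₂), r • (⟨orbit K (x : Ω), ⟨x, rfl⟩⟩ : Y) =
      ⟨orbit K (r • (x : Ω)), ⟨⟨r • (x : Ω), mem_orbit_of_mem_orbit r x.2⟩, rfl⟩⟩ := fun r x =>
    Subtype.ext (hmove r x).symm
  -- few blocks
  have hcardY : Nat.card Y ≤ p := by
    have hbig : ∀ x : orbit P a₂, p ≤ Nat.card (orbit K (x : Ω)) := by
      intro x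
      obtain ⟨k, hk⟩ := IsPGroup.card_orbit (hP.to_subgroup K) (x : Ω)
      rw [hk]
      refine Nat.le_of_dvd (pow_pos hp.pos _) (dvd_pow_self p fun h0 => ?_)
      rw [h0, pow_zero] at hk
      have hfix : z • (x : Ω) = x := by
        haveI := (Nat.card_eq_one_iff_unique.1 hk).1
        exact congrArg Subtype.val (Subsingleton.elim
          (⟨z • (x : Ω), ⟨⟨z, hzK⟩, rfl⟩⟩ : orbit K (x : Ω)) ⟨x, mem_orbit_self _⟩)
      obtain ⟨r, hr⟩ := x.2
      exact hz2 (central_fix hz hfix ⟨r⁻¹, by rw [← hr]; exact inv_smul_smul r a₂⟩)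
    haveI := Fintype.ofFinite Y
    have e : Nat.card (orbit P a₂) = ∑ y : Y, Nat.card {x : orbit P a₂ // (⟨orbit K (x : Ω), ⟨x, rfl⟩⟩ : Y) = y} := by
      rw [← Nat.card_congr (Equiv.sigmaFiberEquiv fun x : orbit P a₂ => (⟨orbit K (x : Ω), ⟨x, rfl⟩⟩ : Y)), Nat.card_sigma]
    have hfib : ∀ y : Y, p ≤ Nat.card {x : orbit P a₂ // (⟨orbit K (x : Ω), ⟨x, rfl⟩⟩ : Y) = y} := by
      rintro ⟨_, x, rfl⟩
      refine (hbig x).trans (Nat.card_le_card_of_injective (fun w => (⟨⟨w.1, ?_⟩, Subtype.ext ?_⟩ :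
        {u : orbit P a₂ // (⟨orbit K (u : Ω), ⟨u, rfl⟩⟩ : Y) = ⟨orbit K (x : Ω), ⟨x, rfl⟩⟩})) fun u v h => ?_)
      · obtain ⟨k, hk⟩ := w.2
        rw [← hk]
        exact mem_orbit_of_mem_orbit (k : P) x.2
      · exact orbit_eq_iff.2 w.2
      · exact Subtype.ext (congrArg (fun t => (t.1 : Ω)) h)
    have := Finset.card_nsmul_le_sum Finset.univ _ p fun y _ => hfib y
    rw [← e, smul_eq_mul, Finset.card_univ, ← Nat.card_eq_fintype_card] at this
    refine Nat.le_of_mul_le_mul_right (this.trans (h2.trans_eq (sq p))) hp.pos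
  -- the kernel on the blocks moves the first orbit
  set Q := (toPermHom P Y).ker with hQ
  have hQmem : ∀ r ∈ Q, ∀ x : orbit P a₂, r • (x : Ω) ∈ orbit K (x : Ω) := by
    intro r hr x
    have h := Equiv.ext_iff.1 hr (⟨orbit K (x : Ω), ⟨x, rfl⟩⟩ : Y)
    rw [toPermHom_apply, toPerm_apply, hYr, Equiv.Perm.one_apply] at h
    exact orbit_eq_iff.1 (congrArg Subtype.val h)
  have hQK : ¬ Q ≤ K := by
    intro hle
    have hidx : Q.index ≤ p := by
      rw [hQ, Subgroup.index_ker]
      obtain ⟨k, hk⟩ := IsPGroup.iff_card.1 (hP.of_surjective _ (toPermHom P Y).rangeRestrict_surjective)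
      rw [hk]
      calc p ^ k ≤ p ^ 1 := Nat.pow_le_pow_right hp.pos (by
            by_contra hk1
            push Not at hk1
            have hd : p ^ 2 ∣ Nat.factorial p := by
              refine (pow_dvd_pow p hk1).trans (hk ▸ ?_)
              refine (Subgroup.card_subgroup_dvd_card _).trans ?_
              rw [Nat.card_perm]
              exact Nat.factorial_dvd_factorial hcardY
            rw [← Nat.mul_factorial_pred hp.ne_zero, sq] at hd
            have := (hp.dvd_factorial).1 (Nat.dvd_of_mul_dvd_mul_left hp.pos hd)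
            have := hp.pos; omega)
        _ = p := pow_one p
    have hK1 : p ^ 2 ≤ K.index := by
      refine h1.trans ?_
      rw [Nat.card_congr (orbitEquivQuotientStabilizer P a₁)]
      refine Nat.le_of_dvd (Nat.pos_of_ne_zero Subgroup.index_ne_zero_of_finite) (Subgroup.index_dvd_of_le ?_)
      exact fun k hk => (hmemK k).1 hk a₁ (mem_orbit_self a₁)
    have := (hK1.trans (Nat.le_of_dvd (Nat.pos_of_ne_zero Subgroup.index_ne_zero_of_finite)
      (Subgroup.index_dvd_of_le hle))).trans hidx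
    nlinarith [hp.two_le]
  -- a central element of the induced group from that kernel
  haveI : (Q.map f.rangeRestrict).Normal := Subgroup.Normal.map inferInstance _ f.rangeRestrict_surjective
  have hR : IsPGroup p f.range := hP.of_surjective _ f.rangeRestrict_surjective
  obtain ⟨w, hw, hwp, hwc⟩ := exists_central hR (Q.map f.rangeRestrict) (by
    rw [Ne, Subgroup.map_eq_bot_iff, MonoidHom.ker_rangeRestrict]; exact hQK)
  obtain ⟨h, hh, rfl⟩ := hw
  have hhne : ∀ x ∈ orbit P a₁, h • x ≠ x := by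
    intro x hx he
    have h1 : f.rangeRestrict h = 1 := by
      refine Subtype.ext (Equiv.ext fun y => ?_)
      have hy : (y : Ω) ∈ orbit P x := by rw [orbit_eq_iff.2 hx]; exact y.2
      obtain ⟨r, hr⟩ := hy
      have hc := congrArg (fun t : f.range => ((t : Equiv.Perm (orbit P a₁)) ⟨x, hx⟩ : Ω)) (hwc (f.rangeRestrict r))
      refine Subtype.ext ?_
      simp only [hf, Subgroup.coe_mul, MonoidHom.coe_rangeRestrict, Equiv.Perm.mul_apply, toPermHom_apply,
        toPerm_apply, orbit.coe_smul] at hc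
      show h • (y : Ω) = (y : Ω)
      rw [← hr, ← hc, he]
    rw [h1, orderOf_one] at hwp
    exact hp.one_lt.ne hwp
  have hhp : ∀ x ∈ orbit P a₁, h ^ p • x = x := by
    refine (hmemK _).1 ?_
    have h1 : f.rangeRestrict (h ^ p) = 1 := by rw [map_pow, ← hwp, pow_orderOf_eq_one]
    exact congrArg Subtype.val h1
  -- the piecewise permutation
  let σ : Equiv.Perm Ω :=
    { toFun := fun x => if x ∈ orbit P a₁ then h • x else x
      invFun := fun x => if x ∈ orbit P a₁ then h⁻¹ • x else x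
      left_inv := fun x => by
        by_cases hx : x ∈ orbit P a₁
        · simp [hx, mem_orbit_of_mem_orbit h hx]
        · simp [hx]
      right_inv := fun x => by
        by_cases hx : x ∈ orbit P a₁
        · simp [hx, mem_orbit_of_mem_orbit h⁻¹ hx]
        · simp [hx] }
  have hmix : ∀ a b : Ω, a ∈ orbit P a₁ → b ∉ orbit P a₁ → ∃ g : G, h • a = g • a ∧ b = g • b := by
    intro a b ha hb
    obtain ⟨k, hk⟩ := hQmem h⁻¹ (Q.inv_mem hh) ⟨b, (hcov b).resolve_left hb⟩
    refine ⟨((h * (k : P) : P) : G), ?_, ?_⟩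
    · show h • a = (h * (k : P)) • a
      rw [mul_smul, (hmemK _).1 k.2 a ha]
    · show b = (h * (k : P)) • b
      have hk' : (k : P) • b = h⁻¹ • b := hk
      rw [mul_smul, hk', smul_inv_smul]
  obtain ⟨g, hg⟩ := hcl σ fun a b => by
    by_cases ha : a ∈ orbit P a₁ <;> by_cases hb : b ∈ orbit P a₁
    · exact ⟨h, by simp [σ, ha, Subgroup.smul_def], by simp [σ, hb, Subgroup.smul_def]⟩
    · obtain ⟨g, hg1, hg2⟩ := hmix a b ha hb
      exact ⟨g, by simpa [σ, ha] using hg1, by simpa [σ, hb] using hg2⟩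
    · obtain ⟨g, hg1, hg2⟩ := hmix b a hb ha
      exact ⟨g, by simpa [σ, ha] using hg2, by simpa [σ, hb] using hg1⟩
    · exact ⟨1, by simp [σ, ha], by simp [σ, hb]⟩
  have hd1 : ∀ x ∈ orbit P a₁, (g * (z : G)) • x = h • x := by
    intro x hx
    have e : (z : G) • x = x := (hmemK z).1 hzK x hx
    rw [mul_smul, e, ← hg]
    simp [σ, hx]
  have hd2 : ∀ x ∈ orbit P a₂, (g * (z : G)) • x = z • x := by
    intro x hx
    rw [mul_smul, ← hg]
    have hnot : (z : G) • x ∉ orbit P a₁ := fun hc => hdisj (by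
      have h1 : z⁻¹ • (z • x) ∈ orbit P a₁ := mem_orbit_of_mem_orbit z⁻¹ (show z • x ∈ orbit P a₁ from hc)
      rw [inv_smul_smul] at h1
      rw [← orbit_eq_iff.2 h1, orbit_eq_iff.2 hx]
      exact mem_orbit_self a₂)
    simp [σ, hnot, Subgroup.smul_def]
  have hpow1 : ∀ n, ∀ x ∈ orbit P a₁, (g * (z : G)) ^ n • x = h ^ n • x := by
    intro n
    induction n with
    | zero => simp
    | succ n ih =>
      intro x hx
      rw [pow_succ, pow_succ, mul_smul, hd1 x hx, ih _ (mem_orbit_of_mem_orbit h hx), mul_smul]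
  have hpow2 : ∀ n, ∀ x ∈ orbit P a₂, (g * (z : G)) ^ n • x = z ^ n • x := by
    intro n
    induction n with
    | zero => simp
    | succ n ih =>
      intro x hx
      rw [pow_succ, pow_succ, mul_smul, hd2 x hx, ih _ (mem_orbit_of_mem_orbit z hx), mul_smul]
  have hder : ∀ x : Ω, (g * (z : G)) • x ≠ x := by
    intro x
    rcases hcov x with hx | hx
    · rw [hd1 x hx]; exact hhne x hx
    · rw [hd2 x hx]
      intro he
      obtain ⟨r, hr⟩ := hx
      exact hz2 (central_fix hz he ⟨r⁻¹, by rw [← hr]; exact inv_smul_smul r a₂⟩)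
  refine ⟨g * (z : G), ?_, hder⟩
  have hp1 : (g * (z : G)) ^ p = 1 := by
    refine FaithfulSMul.eq_of_smul_eq_smul (α := Ω) fun x => ?_
    rw [one_smul]
    rcases hcov x with hx | hx
    · rw [hpow1 p x hx, hhp x hx]
    · rw [hpow2 p x hx, ← hzp, pow_orderOf_eq_one, one_smul]
  rw [orderOf_eq_prime hp1 fun h0 => hder a₁ (by rw [h0, one_smul])]
  exact hp

/-- A `2`-closed transitive group of degree `2p²` has a derangement of prime order. -/
theorem main [IsPretransitive G Ω] (p : ℕ) (hp : p.Prime) (hcard : Nat.card Ω = 2 * p ^ 2)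
    (hcl : ∀ σ : Equiv.Perm Ω, (∀ a b : Ω, ∃ g : G, σ a = g • a ∧ σ b = g • b) → ∃ g : G, ∀ a : Ω, σ a = g • a) :
    ∃ g : G, (orderOf g).Prime ∧ ∀ ω : Ω, g • ω ≠ ω := by
  classical
  haveI := Fact.mk hp
  obtain ⟨P⟩ : Nonempty (Sylow p G) := inferInstance
  haveI : Nonempty Ω := (Nat.card_pos_iff.1 (hcard ▸ Nat.mul_pos two_pos (pow_pos hp.pos 2))).1
  -- orbit sizes
  have horb : ∀ a : Ω, p ^ (Nat.card Ω).factorization p ∣ Nat.card (orbit (P : Subgroup G) a) := by
    intro a
    have e1 : Nat.card (orbit (P : Subgroup G) a) * Nat.card (stabilizer (P : Subgroup G) a) = p ^ (Nat.card G).factorization p := by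
      rw [← P.card_eq_multiplicity, Nat.card_congr (orbitEquivQuotientStabilizer (P : Subgroup G) a)]
      exact Subgroup.index_mul_card _
    have e2 : Nat.card Ω * Nat.card (stabilizer G a) = Nat.card G := by
      rw [← index_stabilizer_of_transitive G a, mul_comm, Subgroup.card_mul_index]
    obtain ⟨i, hi⟩ := IsPGroup.card_orbit P.2 a
    obtain ⟨j, hj⟩ := IsPGroup.iff_card.1 (P.2.to_subgroup (stabilizer (P : Subgroup G) a))
    have hle : p ^ j ∣ Nat.card (stabilizer G a) := by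
      rw [← hj]
      exact Subgroup.card_dvd_of_injective
        (((P : Subgroup G).subtype.comp (stabilizer (P : Subgroup G) a).subtype).codRestrict (stabilizer G a) fun x => x.2)
        fun x y h => Subtype.ext (Subtype.ext (congrArg (fun t => ((t : stabilizer G a) : G)) h))
    rw [hi, hj, ← pow_add] at e1
    have e3 : i + j = (Nat.card G).factorization p := Nat.pow_right_injective hp.two_le e1
    rw [← e2, Nat.factorization_mul Nat.card_pos.ne' Nat.card_pos.ne', Finsupp.add_apply] at e3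
    rw [hp.pow_dvd_iff_le_factorization Nat.card_pos.ne'] at hle
    rw [hi]
    exact pow_dvd_pow p (by omega)
  -- a central element
  have hpne : (P : Subgroup G) ≠ ⊥ := by
    intro hb
    obtain ⟨a⟩ := ‹Nonempty Ω›
    have h1 := horb a
    have h2 : Nat.card (orbit (P : Subgroup G) a) = 1 := by
      obtain ⟨i, hi⟩ := IsPGroup.card_orbit P.2 a
      refine Nat.card_eq_one_iff_unique.2 ⟨⟨fun u v => ?_⟩, ⟨⟨a, mem_orbit_self a⟩⟩⟩
      obtain ⟨u, r, rfl⟩ := u
      obtain ⟨v, s, rfl⟩ := v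
      have hr : r = s := Subtype.ext (by
        have := r.2; have := s.2
        simp_all [Subgroup.mem_bot])
      simp [hr]
    rw [h2, Nat.dvd_one, pow_eq_one_iff_right hp.ne_one] at h1
    have : 0 < (Nat.card Ω).factorization p := hp.factorization_pos_of_dvd Nat.card_pos.ne' (by
      rw [hcard]; exact (dvd_pow_self p two_ne_zero).mul_left 2)
    omega
  haveI := (Subgroup.nontrivial_iff_ne_bot _).2 hpne
  obtain ⟨z, -, hzp, hzc⟩ := exists_central P.2 (⊤ : Subgroup (P : Subgroup G)) top_ne_bot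
  by_cases hfree : ∀ ω : Ω, z • ω ≠ ω
  · exact ⟨(z : G), by rw [Subgroup.orderOf_coe, hzp]; exact hp, hfree⟩
  push Not at hfree
  obtain ⟨a₁, hza₁⟩ := hfree
  have hz1 : z ≠ 1 := fun h => by rw [h, orderOf_one] at hzp; exact hp.one_lt.ne hzp
  obtain ⟨a₂, hza₂⟩ : ∃ a₂, z • a₂ ≠ a₂ := by
    by_contra hall
    push Not at hall
    exact hz1 (Subtype.ext (FaithfulSMul.eq_of_smul_eq_smul (α := Ω) fun x => by
      rw [Subgroup.coe_one, one_smul]; exact hall x))
  have hdisj : a₂ ∉ orbit (P : Subgroup G) a₁ := fun h => hza₂ (central_fix hzc hza₁ h)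
  have hp2 : ∀ a : Ω, p ^ 2 ∣ Nat.card (orbit (P : Subgroup G) a) := fun a =>
    (pow_dvd_pow p ((hp.pow_dvd_iff_le_factorization Nat.card_pos.ne').1 (hcard ▸ dvd_mul_left _ _))).trans (horb a)
  -- count
  have hdj : ∀ x y : Ω, x ∉ orbit (P : Subgroup G) y →
      Disjoint (orbit (P : Subgroup G) y) (orbit (P : Subgroup G) x) := by
    intro x y h
    rw [Set.disjoint_left]
    intro w hwy hwx
    exact h (orbit_eq_iff.1 ((orbit_eq_iff.2 hwx).symm.trans (orbit_eq_iff.2 hwy)))
  have hsum : Nat.card (orbit (P : Subgroup G) a₁) + Nat.card (orbit (P : Subgroup G) a₂) ≤ Nat.card Ω := by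
    rw [Nat.card_coe_set_eq, Nat.card_coe_set_eq, ← Set.ncard_union_eq (hdj a₂ a₁ hdisj)]
    exact Set.ncard_le_card _
  have hge : ∀ a : Ω, p ^ 2 ≤ Nat.card (orbit (P : Subgroup G) a) := fun a =>
    haveI : Nonempty (orbit (P : Subgroup G) a) := ⟨⟨a, mem_orbit_self a⟩⟩
    Nat.le_of_dvd Nat.card_pos (hp2 a)
  have hA1 := hge a₁
  have hA2 := hge a₂
  rw [hcard] at hsum
  have hcov : ∀ x, x ∈ orbit (P : Subgroup G) a₁ ∨ x ∈ orbit (P : Subgroup G) a₂ := by
    intro x
    by_contra hx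
    rw [not_or] at hx
    have h3 : (orbit (P : Subgroup G) a₁ ∪ orbit (P : Subgroup G) a₂ ∪ orbit (P : Subgroup G) x).ncard ≤ Nat.card Ω :=
      Set.ncard_le_card _
    rw [Set.ncard_union_eq ((hdj x a₁ hx.1).union_left (hdj x a₂ hx.2)), Set.ncard_union_eq (hdj a₂ a₁ hdisj),
      ← Nat.card_coe_set_eq, ← Nat.card_coe_set_eq, ← Nat.card_coe_set_eq, hcard] at h3
    have := hge x
    have := pow_pos hp.pos 2
    omega
  exact exists_derangement_of_blocks hcl (P : Subgroup G) P.2 a₁ a₂ hdisj hcov z hzc hzp hza₁ hza₂ hA1 (by omega)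

end Cfsg.Agent.PermGroups.TwoOrbitClosed
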