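import Cfsg.Agent.Suzuki.Zassenhaus
import Cfsg.Agent.PermGroups.ZassenhausChar
import Cfsg.Agent.PermGroups.ZassenhausPSL
import Cfsg.Agent.PermGroups.ZassenhausPSLOdd
import Cfsg.Agent.PermGroups.ZassenhausSimple
import Cfsg.Agent.S0741
import Cfsg.Agent.S0739

/-!
Zassenhaus groups with abelian translations, with the degree kept.
-/

set_option autoImplicit false
set_option linter.style.haveILetI false
open Cfsg

namespace Cfsg.Agent.PermGroups

/-- A Zassenhaus group with abelian translations is sharply triply transitive, or is `PSL(2, q)`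
on `q + 1` points with two-point stabilisers of order `(q - 1) / 2`. -/
theorem zassenhaus_abelian_translations {G Ω : Type*} [Group G] [Finite G] [MulAction G Ω] [Fintype Ω]
    (hZ : Cfsg.IsZassenhausGroup G Ω) {a x : Ω} (hax : a ≠ x) (F : Subgroup G)
    (hFle : F ≤ MulAction.stabilizer G x) (hFn : (F.subgroupOf (MulAction.stabilizer G x)).Normal)
    (hFab : IsMulCommutative F) (hreg : ∀ y z : Ω, y ≠ x → z ≠ x → ∃! u : F, (u : G) • y = z) :
    Nat.card ↥(MulAction.stabilizer G a ⊓ MulAction.stabilizer G x) + 2 = Fintype.card Ω ∨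
      ∃ (K : Type) (_ : Field K) (_ : Fintype K), ringChar K ≠ 2 ∧ Fintype.card K + 1 = Fintype.card Ω ∧
        2 * Nat.card ↥(MulAction.stabilizer G a ⊓ MulAction.stabilizer G x) + 2 = Fintype.card Ω ∧
        Nonempty (G ≃* Matrix.ProjectiveSpecialLinearGroup (Fin 2) K) := by
  classical
  obtain ⟨c, hca, hcx⟩ := PermGroups.exists_third_point hZ hax
  obtain ⟨h₁, h₁H, h₁1⟩ := PermGroups.exists_ne_one_twoStabilizer hZ hax
  obtain ⟨hfaith, h2, hthree, -, -⟩ := id hZ
  haveI := hfaith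
  set H := MulAction.stabilizer G a ⊓ MulAction.stabilizer G x with hH
  set d := Nat.card H with hd
  have h3le : 3 ≤ Fintype.card Ω := by
    calc 3 = ({a, x, c} : Finset Ω).card := by simp [hax, hca.symm, hcx.symm]
      _ ≤ _ := Finset.card_le_univ _
  have hFn' : ∀ g ∈ MulAction.stabilizer G x, ∀ u ∈ F, g * u * g⁻¹ ∈ F := fun g hg u hu => by
    have := hFn.conj_mem ⟨u, hFle hu⟩ (Subgroup.mem_subgroupOf.2 hu) ⟨g, hg⟩
    exact Subgroup.mem_subgroupOf.1 this
  have hFcard : Nat.card F + 1 = Fintype.card Ω := by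
    have hne : ∀ u : F, (u : G) • a ≠ x := fun u e =>
      hax (smul_left_cancel (u : G) (e.trans (MulAction.mem_stabilizer_iff.1 (hFle u.2)).symm))
    have hbij : Function.Bijective (fun u : F => (⟨(u : G) • a, hne u⟩ : {y : Ω // y ≠ x})) :=
      ⟨fun u v e => (hreg a ((v : G) • a) hax (hne v)).unique (congrArg Subtype.val e) rfl, fun y => by
        obtain ⟨u, hu, -⟩ := hreg a y.1 hax y.2
        exact ⟨u, Subtype.ext hu⟩⟩
    rw [Nat.card_eq_of_bijective _ hbij, Nat.card_eq_fintype_card, Fintype.card_subtype_compl,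
      Fintype.card_subtype_eq]
    omega
  have hFc : ∀ u ∈ F, ∀ v ∈ F, u * v = v * u := fun u hu v hv =>
    congrArg Subtype.val (hFab.is_comm.comm ⟨u, hu⟩ ⟨v, hv⟩)
  obtain ⟨m, hm⟩ := PermGroups.card_twoStabilizer_dvd hthree hax
  rw [← hd] at hm
  have hd0 : 0 < d := Nat.card_pos
  rcases lt_or_ge m 2 with hm1 | hm2
  · left
    interval_cases m <;> omega
  right
  have h2d : d * 2 ≤ d * m := Nat.mul_le_mul_left d hm2
  rcases Nat.even_or_odd d with heven | hodd
  · have hge := S0741.result hZ hax heven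
    rw [← hH, ← hd] at hge
    obtain ⟨K, fK, fintK, hK1, hK2, hK3⟩ :=
      PermGroups.nonempty_psl_of_small h2 hthree hax heven (show 2 * d + 2 = _ by omega)
    exact ⟨K, fK, fintK, hK1, hK2, by omega, hK3⟩
  have hd3 : 3 ≤ d := by
    obtain ⟨r, hr⟩ := hodd
    by_contra hcon
    have h1 : Nat.card H = 1 := by omega
    exact h₁1 (congrArg Subtype.val ((Nat.card_eq_one_iff_unique.1 h1).1.elim (⟨h₁, h₁H⟩ : H) 1))
  -- the subgroup generated by the translations
  set M := Subgroup.normalClosure (F : Set G) with hM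
  have hFM : F ≤ M := Subgroup.le_normalClosure
  obtain ⟨u₀, hu₀, hu₀1⟩ : ∃ u ∈ F, u ≠ 1 := by
    obtain ⟨u, hu, -⟩ := hreg a c hax hcx
    refine ⟨u, u.2, fun e => hca ?_⟩
    rw [e, one_smul] at hu
    exact hu.symm
  have hM0 : M ≠ ⊥ := fun e => hu₀1 (Subgroup.mem_bot.1 (e ▸ hFM hu₀))
  have hMZ : Cfsg.IsZassenhausGroup M Ω := Suzuki.zas_of_normal hZ M hM0
  obtain ⟨hfM, h2M, hthreeM, -, -⟩ := id hMZ
  haveI := hfM
  haveI : Fintype M := Fintype.ofFinite M
  haveI hMsimple : IsSimpleGroup M := by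
    haveI : Nontrivial M := (Subgroup.nontrivial_iff_ne_bot M).2 hM0
    refine ⟨fun N hN => or_iff_not_imp_left.2 fun hN0 => eq_top_iff.2 ?_⟩
    haveI := hN
    obtain ⟨-, hker, -, -⟩ := Suzuki.zas_normal hMZ N hN0
    have hle : M ≤ N.map M.subtype := by
      refine (Subgroup.closure_le _).2 ?_
      intro g hg
      obtain ⟨u, hu, k, rfl⟩ : ∃ u ∈ F, ∃ k : G, k * u * k⁻¹ = g := by
        obtain ⟨u, hu, hug⟩ := Group.mem_conjugatesOfSet_iff.1 hg
        obtain ⟨k, hk⟩ := isConj_iff.1 hug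
        exact ⟨u, hu, k, hk⟩
      have hgM : k * u * k⁻¹ ∈ M := Subgroup.normalClosure_normal.conj_mem u (hFM hu) k
      refine ⟨⟨_, hgM⟩, hker (k • x) ⟨_, hgM⟩ ?_ ?_, rfl⟩
      · show (k * u * k⁻¹) • k • x = k • x
        rw [mul_smul, mul_smul, inv_smul_smul, MulAction.mem_stabilizer_iff.1 (hFle hu)]
      · refine (eq_or_ne u 1).imp (fun e => Subtype.ext (by simp [e])) fun hu1 z hz e => hu1 ?_
        have e' : u • k⁻¹ • z = k⁻¹ • z := by
          have e0 : (k * u * k⁻¹) • z = z := e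
          rwa [mul_smul, mul_smul, ← eq_inv_smul_iff] at e0
        have hne : k⁻¹ • z ≠ x := fun e1 => hz (inv_smul_eq_iff.1 e1)
        exact congrArg Subtype.val ((hreg _ _ hne hne).unique (y₁ := ⟨u, hu⟩) (y₂ := 1) e' (one_smul G _))
    intro g _
    obtain ⟨g', hg', e⟩ := hle g.2
    rwa [show g = g' from Subtype.ext e.symm]
  -- its two-point stabiliser
  set HM := MulAction.stabilizer M a ⊓ MulAction.stabilizer M x with hHM
  have hHMH : ∀ {g : M}, g ∈ HM → (g : G) ∈ H := fun hg => hg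
  have hdvd : Nat.card HM ∣ d := by
    rw [← Subgroup.card_map_of_injective (f := M.subtype) Subtype.val_injective]
    exact Subgroup.card_dvd_of_le (by rintro _ ⟨g, hg, rfl⟩; exact hHMH hg)
  have hoddM : Odd (Nat.card HM) := hodd.of_dvd_nat hdvd
  have hd3M : 3 ≤ Nat.card HM := by
    obtain ⟨g, hg, hg1⟩ := PermGroups.exists_ne_one_twoStabilizer hMZ hax
    obtain ⟨r, hr⟩ := hoddM
    by_contra hcon
    have h1 : Nat.card HM = 1 := by omega
    exact hg1 (congrArg Subtype.val ((Nat.card_eq_one_iff_unique.1 h1).1.elim (⟨g, hg⟩ : HM) 1))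
  obtain ⟨-, -, hinvM⟩ := S0739.result hMZ hax hoddM (PermGroups.no_complement_of_simple hMZ hax)
  have hle := PermGroups.card_le_of_abelian_kernel (G := M) h2M hthreeM hax hoddM hd3M hinvM
    (F := F.subgroupOf M) (fun u hu => hFle hu) (fun g hg u hu => hFn' g hg u hu)
    (fun y z hy hz => by
      obtain ⟨u, hu, huniq⟩ := hreg y z hy hz
      exact ⟨⟨⟨u, hFM u.2⟩, u.2⟩, hu, fun v hv => Subtype.ext (Subtype.ext
        (congrArg Subtype.val (huniq ⟨v.1.1, v.2⟩ hv) : (v.1.1 : G) = (u : G)))⟩)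
    (by rw [Nat.card_congr (Subgroup.subgroupOfEquivOfLe hFM).toEquiv]; exact hFcard)
    (fun u hu v hv => Subtype.ext (hFc u hu v hv))
  rw [← hHM] at hle
  have hdM : Nat.card HM ≤ d := Nat.le_of_dvd hd0 hdvd
  have hmap : HM.map M.subtype = H := by
    refine Subgroup.eq_of_le_of_card_ge (by rintro _ ⟨g, hg, rfl⟩; exact hHMH hg) ?_
    rw [Subgroup.card_map_of_injective (f := M.subtype) Subtype.val_injective, ← hd]
    omega
  have hinv : ∀ s : G, s • a = x → s • x = a → ∀ h ∈ H, s * h * s⁻¹ = h⁻¹ := by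
    intro s hsa hsx h hh
    obtain ⟨s₀, hs₀a, hs₀x⟩ := MulAction.is_two_pretransitive_iff.1 h2M hax hax.symm
    have hs₀a' : (s₀ : G) • a = x := hs₀a
    have hs₀x' : (s₀ : G) • x = a := hs₀x
    have hsM : s ∈ M := by
      have hmem : (s₀ : G)⁻¹ * s ∈ H :=
        ⟨MulAction.mem_stabilizer_iff.2 (by rw [mul_smul, hsa, inv_smul_eq_iff, hs₀a']),
          MulAction.mem_stabilizer_iff.2 (by rw [mul_smul, hsx, inv_smul_eq_iff, hs₀x'])⟩
      rw [← hmap] at hmem
      obtain ⟨k, -, hk⟩ := hmem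
      have hk' : (k : G) = (s₀ : G)⁻¹ * s := hk
      rw [show s = (s₀ : G) * k by rw [hk', mul_inv_cancel_left]]
      exact mul_mem s₀.2 k.2
    rw [← hmap] at hh
    obtain ⟨k, hk, rfl⟩ := hh
    exact congrArg Subtype.val (hinvM ⟨s, hsM⟩ hsa hsx k hk)
  obtain ⟨K, fK, fintK, hK1, hK2, hK3⟩ :=
    PermGroups.nonempty_psl_of_small_odd h2 hthree hax hca hcx hodd hinv hFle hFn' hreg hFcard hFc (show 2 * d + 2 = _ by omega)
  exact ⟨K, fK, fintK, hK1, hK2, by omega, hK3⟩

end Cfsg.Agent.PermGroups
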