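import Cfsg.Agent.PermGroups.FrobeniusKernel
import Mathlib.GroupTheory.GroupAction.MultipleTransitivity
import Mathlib.GroupTheory.Perm.Cycle.Type
import Mathlib.Combinatorics.Enumerative.DoubleCounting

/-!
Doubly transitive groups in which only the identity fixes three points: translations, and the
elements interchanging two points when the two-point stabiliser has even order and is small.
-/

set_option autoImplicit false
set_option linter.style.haveILetI false
set_option linter.unusedSectionVars false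

namespace Cfsg.Agent.PermGroups

open MulAction

variable {G Ω : Type*} [Group G] [Finite G] [MulAction G Ω] [Fintype Ω]

/-- Only the identity fixes three points. -/
def ThreeFix (G Ω : Type*) [Group G] [MulAction G Ω] : Prop :=
  ∀ g : G, ∀ a b c : Ω, a ≠ b → b ≠ c → a ≠ c → g • a = a → g • b = b → g • c = c → g = 1

/-- The translations at a point. -/
theorem exists_frobenius_translations (h2 : IsMultiplyPretransitive G Ω 2) (hthree : ThreeFix G Ω)
    {a b c : Ω} (hab : a ≠ b) (hca : c ≠ a) (hcb : c ≠ b)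
    (hne : ∃ h : G, h ∈ stabilizer G a ⊓ stabilizer G b ∧ h ≠ 1) :
    ∃ F : Subgroup G, F ≤ stabilizer G b ∧ (∀ g ∈ stabilizer G b, ∀ u ∈ F, g * u * g⁻¹ ∈ F) ∧
      (∀ y z : Ω, y ≠ b → z ≠ b → ∃! u : F, (u : G) • y = z) ∧ Nat.card F + 1 = Fintype.card Ω := by
  classical
  obtain ⟨h₁, h₁H, h₁1⟩ := hne
  set A := stabilizer G b with hA
  set H₀ : Subgroup A := stabilizer A a with hH₀
  have hmem : ∀ {g : A}, g ∈ H₀ ↔ (g : G) • a = a := fun {g} => Iff.rfl
  have hAb : ∀ g : A, (g : G) • b = b := fun g => g.2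
  have hneb : ∀ (g : A) {y : Ω}, y ≠ b → (g : G) • y ≠ b := fun g y hy e =>
    hy (smul_left_cancel (g : G) (e.trans (hAb g).symm))
  have hrest : ∀ z, z ≠ b → ∃ g : A, (g : G) • a = z := fun z hz => by
    obtain ⟨g, hga, hgb⟩ := is_two_pretransitive_iff.1 h2 hab hz
    exact ⟨⟨g, hgb⟩, hga⟩
  have honly : ∀ g : A, g ∈ H₀ → ∀ y, y ≠ b → y ≠ a → (g : G) • y = y → g = 1 := fun g hg y hyb hya e =>
    Subtype.ext (hthree g a b y hab hyb.symm hya.symm hg (hAb g) e)
  have hFr : Cfsg.IsFrobeniusComplement H₀ := by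
    refine ⟨?_, ?_, fun g hg => ?_⟩
    · intro h
      have : (⟨h₁, h₁H.2⟩ : A) ∈ H₀ := h₁H.1
      rw [h, Subgroup.mem_bot] at this
      exact h₁1 (congrArg Subtype.val this)
    · intro h
      obtain ⟨g, hg⟩ := hrest c hcb
      have : g ∈ H₀ := h ▸ Subgroup.mem_top g
      exact hca (hg.symm.trans (hmem.1 this))
    · rw [Subgroup.eq_bot_iff_forall]
      rintro x ⟨hx, hx'⟩
      have hx'' : g⁻¹ * x * g ∈ H₀ := mem_conj_smul.1 hx'
      rw [hmem, Subgroup.coe_mul, Subgroup.coe_mul, Subgroup.coe_inv, mul_smul, mul_smul, inv_smul_eq_iff] at hx''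
      exact honly x hx _ (hneb g hab) (fun e => hg e) hx''
  obtain ⟨N, -, hNn, hcompl⟩ := Frobenius.exists_kernel hFr
  haveI := hNn
  have hreach : ∀ y, y ≠ b → ∃ n ∈ N, ((n : A) : G) • a = y := by
    intro y hy
    obtain ⟨g, hg⟩ := hrest y hy
    obtain ⟨⟨⟨n, hn⟩, ⟨h, hh⟩⟩, rfl⟩ := hcompl.2 g
    refine ⟨n, hn, ?_⟩
    rw [← hg]
    show (n : G) • a = ((n * h : A) : G) • a
    rw [Subgroup.coe_mul, mul_smul, hmem.1 hh]
  have huniq : ∀ n ∈ N, ((n : A) : G) • a = a → n = 1 := fun n hn e =>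
    Subgroup.mem_bot.1 (hcompl.disjoint.le_bot ⟨hn, hmem.2 e⟩)
  refine ⟨N.map A.subtype, Subgroup.map_subtype_le _, ?_, ?_, ?_⟩
  · rintro g hg _ ⟨u, hu, rfl⟩
    exact ⟨⟨g, hg⟩ * u * ⟨g, hg⟩⁻¹, hNn.conj_mem u hu _, rfl⟩
  · intro y z hy hz
    obtain ⟨n, hn, hny⟩ := hreach y hy
    obtain ⟨m, hm, hmz⟩ := hreach z hz
    refine ⟨⟨((m * n⁻¹ : A) : G), m * n⁻¹, mul_mem hm (inv_mem hn), rfl⟩, ?_, ?_⟩
    · show ((m : G) * (n : G)⁻¹) • y = z
      rw [mul_smul, ← hny, inv_smul_smul, hmz]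
    · rintro ⟨_, u, hu, rfl⟩ he
      refine Subtype.ext ?_
      show (u : G) = ((m * n⁻¹ : A) : G)
      have h1 := huniq (m⁻¹ * (u * n)) (mul_mem (inv_mem hm) (mul_mem hu hn)) (by
        show ((m : G)⁻¹ * ((u : G) * (n : G))) • a = a
        rw [mul_smul, mul_smul, hny, show (u : G) • y = z from he, ← hmz, inv_smul_smul])
      rw [show u = m * n⁻¹ by
        calc u = m * (m⁻¹ * (u * n)) * n⁻¹ := by group
          _ = _ := by rw [h1, mul_one]]
  · rw [Subgroup.card_map_of_injective (Subgroup.subtype_injective _), ← hcompl.index_eq_card,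
      hH₀, index_stabilizer,
      show orbit A a = ({b} : Set Ω)ᶜ from Set.ext fun z =>
        ⟨fun ⟨g, hg⟩ => by simpa using fun e : z = b => hneb g hab (hg.trans e),
          fun hz => let ⟨g, hg⟩ := hrest z (by simpa using hz); ⟨g, hg⟩⟩,
      Set.ncard_compl, Set.ncard_singleton, Nat.card_eq_fintype_card]
    have : 0 < Fintype.card Ω := Fintype.card_pos_iff.2 ⟨a⟩
    omega

/-- When the two-point stabiliser has even order `d` with `2d + 2` not above the degree, every
element interchanging the two points is an involution with two fixed points. -/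
theorem interchange_involution (h2 : IsMultiplyPretransitive G Ω 2) (hthree : ThreeFix G Ω) {a b : Ω}
    (hab : a ≠ b) (heven : Even (Nat.card ↥(stabilizer G a ⊓ stabilizer G b)))
    (hsmall : 2 * Nat.card ↥(stabilizer G a ⊓ stabilizer G b) + 2 ≤ Fintype.card Ω) {g : G}
    (hga : g • a = b) (hgb : g • b = a) :
    g * g = 1 ∧ ∃ x y : Ω, x ≠ y ∧ x ≠ a ∧ x ≠ b ∧ g • x = x ∧ g • y = y := by
  classical
  haveI : Fact (Nat.Prime 2) := ⟨Nat.prime_two⟩
  haveI : Fintype G := Fintype.ofFinite G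
  set d := Nat.card ↥(stabilizer G a ⊓ stabilizer G b) with hd
  let fix : G → Finset Ω := fun t => Finset.univ.filter fun z => t • z = z
  let T : Finset G := Finset.univ.filter fun t => orderOf t = 2 ∧ (fix t).card = 2
  have hT : ∀ {t : G}, t ∈ T ↔ orderOf t = 2 ∧ (fix t).card = 2 := fun {t} => by simp [T]
  have hfix : ∀ {t : G} {z : Ω}, z ∈ fix t ↔ t • z = z := fun {t z} => by simp [fix]
  obtain ⟨t₀, ht₀⟩ := exists_prime_orderOf_dvd_card' 2 (even_iff_two_dvd.1 heven)
  have hexT : ∀ x y : Ω, x ≠ y → ∃ t ∈ T, t • x = x ∧ t • y = y := by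
    intro x y hxy
    obtain ⟨k, hka, hkb⟩ := is_two_pretransitive_iff.1 h2 hab hxy
    set t := k * (t₀ : G) * k⁻¹ with ht
    have ho : orderOf t = 2 := by rw [ht, ← MulAut.conj_apply, MulEquiv.orderOf_eq, Subgroup.orderOf_coe, ht₀]
    have hx : t • x = x := by
      rw [ht, ← hka, mul_smul, mul_smul, inv_smul_smul, mem_stabilizer_iff.1 t₀.2.1]
    have hy : t • y = y := by
      rw [ht, ← hkb, mul_smul, mul_smul, inv_smul_smul, mem_stabilizer_iff.1 t₀.2.2]
    refine ⟨t, hT.2 ⟨ho, ?_⟩, hx, hy⟩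
    refine le_antisymm ?_ ?_
    · by_contra hlt
      push Not at hlt
      obtain ⟨u, hu, v, hv, w, hw, huv, huw, hvw⟩ := Finset.two_lt_card.1 hlt
      have := hthree t u v w huv hvw huw (hfix.1 hu) (hfix.1 hv) (hfix.1 hw)
      rw [this, orderOf_one] at ho
      omega
    · rw [← Finset.card_pair hxy]
      exact Finset.card_le_card (by simp [Finset.insert_subset_iff, hfix, hx, hy])
  set off := (Finset.univ : Finset Ω).offDiag with hoff
  have hc1 : off.card * 1 ≤ T.card * 2 := by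
    refine Finset.card_mul_le_card_mul (fun q t => t • q.1 = q.1 ∧ t • q.2 = q.2) (fun q hq => ?_) (fun t ht => ?_)
    · obtain ⟨t, ht, h⟩ := hexT q.1 q.2 (Finset.mem_offDiag.1 hq).2.2
      exact Finset.card_pos.2 ⟨t, Finset.mem_filter.2 ⟨ht, h⟩⟩
    · have hsub : Finset.bipartiteBelow (fun q t => t • q.1 = q.1 ∧ t • q.2 = q.2) off t ⊆ (fix t).offDiag :=
        fun q hq => by
        obtain ⟨h1, h2, h3⟩ := Finset.mem_filter.1 hq
        exact Finset.mem_offDiag.2 ⟨hfix.2 h2, hfix.2 h3, (Finset.mem_offDiag.1 h1).2.2⟩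
      refine (Finset.card_le_card hsub).trans ?_
      rw [Finset.offDiag_card, (hT.1 ht).2]
  let r : G → Ω × Ω → Prop := fun t q => t • q.1 = q.2 ∧ t • q.2 = q.1
  have habove : ∀ t ∈ T, Fintype.card Ω - 2 ≤ (Finset.bipartiteAbove r off t).card := by
    intro t ht
    have htt : ∀ z : Ω, t • t • z = z := fun z => by
      rw [← mul_smul, ← sq, show t ^ 2 = 1 by rw [← (hT.1 ht).1, pow_orderOf_eq_one], one_smul]
    have hsub : (fix t)ᶜ.image (fun z => (z, t • z)) ⊆ Finset.bipartiteAbove r off t := fun q hq => by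
      obtain ⟨z, hz, rfl⟩ := Finset.mem_image.1 hq
      exact Finset.mem_filter.2 ⟨Finset.mem_offDiag.2 ⟨Finset.mem_univ _, Finset.mem_univ _,
        fun e => Finset.mem_compl.1 hz (hfix.2 e.symm)⟩, rfl, htt z⟩
    refine le_trans (le_of_eq ?_) (Finset.card_le_card hsub)
    rw [Finset.card_image_of_injective _ (fun u v e => congrArg Prod.fst e), Finset.card_compl, (hT.1 ht).2]
  have hswapcard : ∀ q ∈ off, (Finset.univ.filter fun t => r t q).card ≤ d := by
    rintro ⟨x, y⟩ hq
    have hxy : x ≠ y := (Finset.mem_offDiag.1 hq).2.2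
    obtain ⟨k, hka, hkb⟩ := is_two_pretransitive_iff.1 h2 hab hxy
    rcases (Finset.univ.filter fun t => r t (x, y)).eq_empty_or_nonempty with h | ⟨τ, hτ⟩
    · rw [h]; simp
    obtain ⟨hτ1, hτ2⟩ := (Finset.mem_filter.1 hτ).2
    have hmem : ∀ σ ∈ Finset.univ.filter fun t => r t (x, y),
        k⁻¹ * (τ * σ) * k ∈ stabilizer G a ⊓ stabilizer G b := by
      intro σ hσ
      obtain ⟨hσ1, hσ2⟩ := (Finset.mem_filter.1 hσ).2
      refine ⟨mem_stabilizer_iff.2 ?_, mem_stabilizer_iff.2 ?_⟩ <;>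
        rw [mul_smul, mul_smul, mul_smul, inv_smul_eq_iff]
      · rw [hka, show σ • x = y from hσ1, show τ • y = x from hτ2]
      · rw [hkb, show σ • y = x from hσ2, show τ • x = y from hτ1]
    rw [hd, Nat.card_eq_fintype_card, ← Finset.card_univ]
    refine Finset.card_le_card_of_injOn (fun σ => if h : σ ∈ Finset.univ.filter fun t => r t (x, y)
      then ⟨k⁻¹ * (τ * σ) * k, hmem σ h⟩ else 1) (fun σ _ => Finset.mem_univ _) ?_
    intro σ hσ σ' hσ' e
    simp only [] at e
    rw [dif_pos (Finset.mem_coe.1 hσ), dif_pos (Finset.mem_coe.1 hσ')] at e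
    exact mul_left_cancel (mul_left_cancel (mul_right_cancel (congrArg Subtype.val e)))
  have hbelow : ∀ q ∈ off, (Finset.bipartiteBelow r T q).card ≤ d := fun q hq =>
    (Finset.card_le_card (Finset.filter_subset_filter _ (Finset.subset_univ T))).trans (hswapcard q hq)
  -- equality everywhere
  have hq : (a, b) ∈ off := Finset.mem_offDiag.2 ⟨Finset.mem_univ _, Finset.mem_univ _, hab⟩
  have hgT : g ∈ T := by
    by_contra hg
    have hlt : (Finset.bipartiteBelow r T (a, b)).card < d := by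
      refine lt_of_lt_of_le (Finset.card_lt_card ((Finset.ssubset_iff_of_subset
        (Finset.filter_subset_filter _ (Finset.subset_univ T))).2 ⟨g, ?_, fun h => hg (Finset.mem_filter.1 h).1⟩))
        (hswapcard _ hq)
      exact Finset.mem_filter.2 ⟨Finset.mem_univ _, hga, hgb⟩
    have hsum : ∑ q ∈ off, (Finset.bipartiteBelow r T q).card < off.card * d := by
      rw [← smul_eq_mul, ← Finset.sum_const]
      exact Finset.sum_lt_sum hbelow ⟨_, hq, hlt⟩
    rw [← Finset.sum_card_bipartiteAbove_eq_sum_card_bipartiteBelow] at hsum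
    have hlow : T.card * (Fintype.card Ω - 2) ≤ ∑ t ∈ T, (Finset.bipartiteAbove r off t).card := by
      rw [← smul_eq_mul, ← Finset.sum_const]
      exact Finset.sum_le_sum habove
    have : off.card * d ≤ T.card * (Fintype.card Ω - 2) := by
      calc off.card * d ≤ T.card * 2 * d := Nat.mul_le_mul_right d (by simpa using hc1)
        _ ≤ T.card * (Fintype.card Ω - 2) := by
          rw [mul_assoc]; exact Nat.mul_le_mul_left _ (by omega)
    omega
  obtain ⟨ho, hc⟩ := hT.1 hgT
  refine ⟨by rw [← sq, ← ho, pow_orderOf_eq_one], ?_⟩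
  obtain ⟨x, y, hxy, he⟩ := Finset.card_eq_two.1 hc
  have hx : g • x = x := hfix.1 (by rw [he]; simp)
  have hy : g • y = y := hfix.1 (by rw [he]; simp)
  refine ⟨x, y, hxy, ?_, ?_, hx, hy⟩
  · rintro rfl; exact hab (hx.symm.trans hga)
  · rintro rfl; exact hab (hgb.symm.trans hx)

end Cfsg.Agent.PermGroups
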