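import Cfsg.Agent.PermGroups.ZassenhausBasic
import Cfsg.Agent.PermGroups.SharplyThree
import Cfsg.Agent.OddLocal.FPF
import Cfsg.Agent.S0729
import Mathlib.GroupTheory.Transfer
import Mathlib.GroupTheory.IndexNormal

/-!
A sharply triply transitive group of even degree is not simple: the transfer, to the stabiliser
of an unordered pair, of the parity on a two-point stabiliser is not trivial.  Also some general
facts on Zassenhaus groups.
-/

set_option autoImplicit false
set_option linter.style.haveILetI false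
set_option linter.unusedSectionVars false

namespace Cfsg.Agent.PermGroups

open MulAction
open scoped Pointwise

variable {G Ω : Type*} [Group G] [Finite G] [MulAction G Ω] [Fintype Ω]

/-- An abelian group acting fixed point freely is cyclic. -/
theorem isCyclic_of_fpf_comm {K H : Subgroup G} (h : OddLocal.FPF K H) (hK : K ≠ ⊥)
    (hn : H ≤ Subgroup.normalizer (K : Set G)) (hc : ∀ x ∈ H, ∀ y ∈ H, x * y = y * x) : IsCyclic H := by
  letI : CommGroup H :=
    { (inferInstance : Group H) with mul_comm := fun x y => Subtype.ext (hc x x.2 y y.2) }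
  haveI : IsZGroup H := by
    refine ⟨fun p hp P => ?_⟩
    haveI := Fact.mk hp
    have hmap : IsPGroup p ((P : Subgroup H).map H.subtype) := P.isPGroup'.map _
    have h1 : IsCyclic ((P : Subgroup H).map H.subtype) :=
      OddLocal.isCyclic_of_uniqueOrderP _ hmap (h.uniqueOrderP hK hn _ (Subgroup.map_subtype_le _) hmap)
        (Or.inr fun x y => Subtype.ext (hc x (Subgroup.map_subtype_le _ x.2) y (Subgroup.map_subtype_le _ y.2)))
        le_rfl
    exact isCyclic_of_injective ((P : Subgroup H).equivMapOfInjective H.subtype H.subtype_injective).toMonoidHom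
      (MulEquiv.injective _)
  infer_instance

/-- A two-point stabiliser of order `|Ω| - 2` is transitive on the other points. -/
theorem exists_move_of_card (hthree : ThreeFix G Ω) {a b : Ω} (hab : a ≠ b)
    (hcard : Nat.card ↥(stabilizer G a ⊓ stabilizer G b) + 2 = Fintype.card Ω) :
    ∀ z z' : Ω, z ≠ a → z ≠ b → z' ≠ a → z' ≠ b → ∃ h ∈ stabilizer G a ⊓ stabilizer G b, h • z = z' := by
  classical
  set H := stabilizer G a ⊓ stabilizer G b with hH
  have hfa : ∀ {h : G}, h ∈ H → h • a = a := fun hh => mem_stabilizer_iff.1 hh.1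
  have hfb : ∀ {h : G}, h ∈ H → h • b = b := fun hh => mem_stabilizer_iff.1 hh.2
  intro z z' hza hzb hza' hzb'
  have hne : ∀ h : H, (h : G) • z ∈ ({a, b} : Finset Ω)ᶜ := fun h => by
    simp only [Finset.mem_compl, Finset.mem_insert, Finset.mem_singleton, not_or]
    exact ⟨fun e => hza (smul_left_cancel (h : G) (e.trans (hfa h.2).symm)),
      fun e => hzb (smul_left_cancel (h : G) (e.trans (hfb h.2).symm))⟩
  have hbij : Function.Bijective
      (fun h : H => (⟨(h : G) • z, hne h⟩ : (({a, b} : Finset Ω)ᶜ : Finset Ω))) := by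
    refine (Nat.bijective_iff_injective_and_card _).2 ⟨fun h h' e => ?_, ?_⟩
    · have e' : (h : G) • z = (h' : G) • z := congrArg Subtype.val e
      refine Subtype.ext (inv_mul_eq_one.1 (hthree _ a b z hab hzb.symm hza.symm (hfa (mul_mem (inv_mem h.2) h'.2))
        (hfb (mul_mem (inv_mem h.2) h'.2)) (by rw [mul_smul, ← e', inv_smul_smul])))
    · rw [Nat.card_eq_fintype_card (α := (({a, b} : Finset Ω)ᶜ : Finset Ω)), Fintype.card_coe, Finset.card_compl,
        Finset.card_pair hab]
      omega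
  obtain ⟨h, hh⟩ := hbij.2 ⟨z', by simp [hza', hzb']⟩
  exact ⟨h, h.2, congrArg Subtype.val hh⟩

/-- A doubly transitive group with only the identity fixing three points and a two-point
stabiliser of order `|Ω| - 2` is sharply triply transitive. -/
theorem sharplyThree_of_card (h2 : IsMultiplyPretransitive G Ω 2) (hthree : ThreeFix G Ω) {a b : Ω} (hab : a ≠ b)
    (hcard : Nat.card ↥(stabilizer G a ⊓ stabilizer G b) + 2 = Fintype.card Ω) :
    IsMultiplyPretransitive G Ω 3 ∧ ∀ t : Fin 3 ↪ Ω, stabilizer G t = ⊥ := by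
  classical
  set H := stabilizer G a ⊓ stabilizer G b with hH
  have hfa : ∀ {h : G}, h ∈ H → h • a = a := fun hh => mem_stabilizer_iff.1 hh.1
  have hfb : ∀ {h : G}, h ∈ H → h • b = b := fun hh => mem_stabilizer_iff.1 hh.2
  have hmov := exists_move_of_card hthree hab hcard
  refine ⟨isMultiplyPretransitive_iff.2 fun x y => ?_, fun t => ?_⟩
  · have hx : ∀ {i j : Fin 3}, i ≠ j → x i ≠ x j := fun h e => h (x.injective e)
    have hy : ∀ {i j : Fin 3}, i ≠ j → y i ≠ y j := fun h e => h (y.injective e)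
    obtain ⟨g, hg0, hg1⟩ := is_two_pretransitive_iff.1 h2 (hx (show (0 : Fin 3) ≠ 1 by decide)) hab
    obtain ⟨k, hk0, hk1⟩ := is_two_pretransitive_iff.1 h2 (hy (show (0 : Fin 3) ≠ 1 by decide)) hab
    obtain ⟨h, hh, hh2⟩ := hmov (g • x 2) (k • y 2)
      (fun e => hx (show (2 : Fin 3) ≠ 0 by decide) (smul_left_cancel g (e.trans hg0.symm)))
      (fun e => hx (show (2 : Fin 3) ≠ 1 by decide) (smul_left_cancel g (e.trans hg1.symm)))
      (fun e => hy (show (2 : Fin 3) ≠ 0 by decide) (smul_left_cancel k (e.trans hk0.symm)))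
      (fun e => hy (show (2 : Fin 3) ≠ 1 by decide) (smul_left_cancel k (e.trans hk1.symm)))
    refine ⟨k⁻¹ * h * g, Function.Embedding.ext fun i => ?_⟩
    rw [Function.Embedding.smul_apply, mul_smul, mul_smul, inv_smul_eq_iff]
    fin_cases i
    · show h • g • x 0 = k • y 0
      rw [hg0, hk0, hfa hh]
    · show h • g • x 1 = k • y 1
      rw [hg1, hk1, hfb hh]
    · exact hh2
  · rw [Subgroup.eq_bot_iff_forall]
    intro g hg
    have hgi : ∀ i : Fin 3, g • t i = t i := fun i => by
      have := congrArg (fun u : Fin 3 ↪ Ω => u i) (mem_stabilizer_iff.1 hg)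
      simpa [Function.Embedding.smul_apply] using this
    exact hthree g (t 0) (t 1) (t 2) (fun e => absurd (t.injective e) (by decide))
      (fun e => absurd (t.injective e) (by decide)) (fun e => absurd (t.injective e) (by decide))
      (hgi 0) (hgi 1) (hgi 2)

set_option maxHeartbeats 1000000 in
/-- If the two-point stabiliser is transitive on the other points and has a subgroup of index two
normalised by an element interchanging the two points and fixing a third, the group is not
simple. -/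
theorem not_isSimpleGroup_of_index_two (hthree : ThreeFix G Ω) {a b c : Ω} (hab : a ≠ b) (hac : a ≠ c)
    (hbc : b ≠ c) (hmove : ∀ z, z ≠ a → z ≠ b → ∃ h ∈ stabilizer G a ⊓ stabilizer G b, h • c = z)
    {s : G} (hsa : s • a = b) (hsb : s • b = a) (hsc : s • c = c)
    (N : Subgroup G) (hNH : N ≤ stabilizer G a ⊓ stabilizer G b)
    (hidx : N.relIndex (stabilizer G a ⊓ stabilizer G b) = 2) (hsN : ∀ n ∈ N, s * n * s⁻¹ ∈ N)
    (h3 : 3 ≤ Nat.card G) : ¬ IsSimpleGroup G := by
  classical
  intro hsimple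
  set H := stabilizer G a ⊓ stabilizer G b with hH
  have hfa : ∀ {h : G}, h ∈ H → h • a = a := fun hh => mem_stabilizer_iff.1 hh.1
  have hfb : ∀ {h : G}, h ∈ H → h • b = b := fun hh => mem_stabilizer_iff.1 hh.2
  have hss : s * s = 1 := hthree _ a b c hab hbc hac (by rw [mul_smul, hsa, hsb]) (by rw [mul_smul, hsb, hsa])
    (by rw [mul_smul, hsc, hsc])
  have hsi : s⁻¹ = s := inv_eq_of_mul_eq_one_right hss
  have hsH : ∀ {h : G}, h ∈ H → s * h * s⁻¹ ∈ H := fun {h} hh => by
    refine ⟨mem_stabilizer_iff.2 ?_, mem_stabilizer_iff.2 ?_⟩ <;> rw [hsi, mul_smul, mul_smul]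
    · rw [hsa, hfb hh, hsb]
    · rw [hsb, hfa hh, hsa]
  have hsN' : ∀ {x : G}, s * x * s⁻¹ ∈ N ↔ x ∈ N := fun {x} => by
    refine ⟨fun hx => ?_, hsN x⟩
    have := hsN _ hx
    rwa [hsi, ← mul_assoc, ← mul_assoc, hss, one_mul, mul_assoc, hss, mul_one] at this
  have hparity : ∀ {x y : G}, x ∈ H → y ∈ H → (x * y ∈ N ↔ (x ∈ N ↔ y ∈ N)) := fun {x y} hx hy => by
    have h1 := Subgroup.mul_mem_iff_of_index_two (H := N.subgroupOf H) hidx (a := ⟨x, hx⟩) (b := ⟨y, hy⟩)
    simpa [Subgroup.mem_subgroupOf] using h1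
  -- the stabiliser of the unordered pair
  set D : Subgroup G := stabilizer G ({a, b} : Set Ω) with hD
  have hDmem : ∀ {g : G}, g ∈ D ↔ g ∈ H ∨ s * g ∈ H := fun {g} => by
    rw [hD, mem_stabilizer_iff, Set.smul_set_insert, Set.smul_set_singleton]
    constructor
    · intro h
      rcases Set.pair_eq_pair_iff.1 h with ⟨e1, e2⟩ | ⟨e1, e2⟩
      · exact Or.inl ⟨e1, e2⟩
      · refine Or.inr ⟨mem_stabilizer_iff.2 ?_, mem_stabilizer_iff.2 ?_⟩ <;> rw [mul_smul]
        · rw [e1, hsb]
        · rw [e2, hsa]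
    · rintro (h | h)
      · rw [hfa h, hfb h]
      · have e1 := hfa h
        have e2 := hfb h
        rw [mul_smul, ← eq_inv_smul_iff, hsi] at e1 e2
        rw [hsa] at e1
        rw [hsb] at e2
        rw [e1, e2, Set.pair_comm]
  have hsnot : ∀ {g : G}, g ∈ H → ¬ s * g ∈ H := fun {g} hg h => hab (by
    have := hfa h
    rw [mul_smul, hfa hg, hsa] at this
    exact this.symm)
  let P : G → Prop := fun g => g ∈ N ∨ s * g ∈ N
  have hP : ∀ {x y : G}, x ∈ D → y ∈ D → (P (x * y) ↔ (P x ↔ P y)) := by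
    intro x y hx hy
    have key : ∀ {g : G}, g ∈ H → (P g ↔ g ∈ N) := fun {g} hg =>
      ⟨fun h => h.resolve_right fun h' => hsnot hg (hNH h'), Or.inl⟩
    have key' : ∀ {g : G}, s * g ∈ H → (P g ↔ s * g ∈ N) := fun {g} hg =>
      ⟨fun h => h.resolve_left fun h' => hsnot (hNH h') hg, Or.inr⟩
    have hcj : ∀ {g : G}, g ∈ H → (s * g * s⁻¹ ∈ N ↔ g ∈ N) := fun _ => hsN'
    rcases hDmem.1 hx with hx | hx <;> rcases hDmem.1 hy with hy | hy
    · rw [key (mul_mem hx hy), key hx, key hy]; exact hparity hx hy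
    · have e : s * (x * y) = (s * x * s⁻¹) * (s * y) := by group
      rw [key' (e ▸ mul_mem (hsH hx) hy), key hx, key' hy, e, hparity (hsH hx) hy, hcj hx]
    · have e : s * (x * y) = s * x * y := (mul_assoc _ _ _).symm
      rw [key' (e ▸ mul_mem hx hy), key' hx, key hy, e, hparity hx hy]
    · have e : x * y = (s * (s * x) * s⁻¹) * (s * y) := by
        calc x * y = (s * s) * x * (s⁻¹ * s) * y := by rw [hss]; group
          _ = _ := by group
      rw [key (e ▸ mul_mem (hsH hx) hy), key' hx, key' hy, e, hparity (hsH hx) hy, hcj hx]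
  have hP1 : P (1 : G) := Or.inl (one_mem N)
  let φ₀ : D →* Multiplicative (ZMod 2) :=
    MonoidHom.mk' (fun x => if P x then 1 else Multiplicative.ofAdd 1) fun x y => by
      have h := hP x.2 y.2
      by_cases hx : P (x : G) <;> by_cases hy : P (y : G) <;>
        simp_all [show (1 : ZMod 2) + 1 = 0 from rfl, ← ofAdd_add]
  obtain ⟨φ, hφ1, hφ2⟩ : ∃ φ : D →* Multiplicative (ZMod 2), (∀ x : D, P x → φ x = 1) ∧
      ∀ x : D, ¬ P x → φ x ≠ 1 :=
    ⟨φ₀, fun x hx => by simp [φ₀, if_pos hx], fun x hx => by simp [φ₀, if_neg hx]⟩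
  obtain ⟨g, hgH, hgN⟩ : ∃ g ∈ H, g ∉ N := by
    by_contra hcon
    push Not at hcon
    rw [Subgroup.relIndex_eq_one.2 hcon] at hidx
    omega
  have hgD : g ∈ D := hDmem.2 (Or.inl hgH)
  have hPg : ¬ P g := fun h => h.elim hgN fun h' => hsnot hgH (hNH h')
  set Q := G ⧸ D
  let q₀ : Q := ((1 : G) : Q)
  letI : Fintype (Quotient (orbitRel (Subgroup.zpowers g) Q)) := Fintype.ofFinite _
  have hq₀ : g • q₀ = q₀ := by
    show ((g * 1 : G) : Q) = ((1 : G) : Q)
    exact QuotientGroup.eq.2 (by simpa using inv_mem hgD)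
  set o₁ : Quotient (orbitRel (Subgroup.zpowers g) Q) := Quotient.mk'' q₀ with ho₁
  have hout : o₁.out = q₀ := by
    have h1 : (orbitRel (Subgroup.zpowers g) Q).r o₁.out q₀ := Quotient.exact' (Quotient.out_eq' _)
    obtain ⟨⟨_, i, rfl⟩, hi⟩ := h1
    rw [← hi]
    exact mem_stabilizer_iff.mp ((stabilizer G q₀).zpow_mem (mem_stabilizer_iff.mpr hq₀) i)
  have hPy : ∀ (k : G) (r : ℕ), k ∈ D → r = 1 → ¬ P (k⁻¹ * g ^ r * k) := by
    intro k r hkD hr
    rw [hr, pow_one]
    have h1 := hP (mul_mem (inv_mem hkD) hgD) hkD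
    have h2 := hP (inv_mem hkD) hgD
    have h3 := hP (inv_mem hkD) hkD
    rw [inv_mul_cancel] at h3
    have hlogic : ∀ A B C E F O : Prop, (A ↔ (E ↔ C)) → (E ↔ (B ↔ F)) → (O ↔ (B ↔ C)) → O → ¬ F → ¬ A :=
      fun A B C E F O e1 e2 e3 hO hF hA => by
        by_cases hB : B
        · exact hF ((e2.1 ((e1.1 hA).2 ((e3.1 hO).1 hB))).1 hB)
        · have hC : ¬ C := fun hC => hB ((e3.1 hO).2 hC)
          have hE : ¬ E := fun hE => hC ((e1.1 hA).1 hE)
          exact hE (e2.2 ⟨fun h => absurd h hB, fun h => absurd h hF⟩)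
    exact hlogic _ _ _ _ _ _ h1 h2 h3 hP1 hPg
  have htr : MonoidHom.transfer φ g ≠ 1 := by
    rw [MonoidHom.transfer_eq_prod_quotient_orbitRel_zpowers_quot, Finset.prod_eq_single o₁ (fun q _ hq => ?_) (by simp)]
    · refine hφ2 _ (hPy _ _ ?_ ?_)
      · have := Quotient.out_eq o₁.out
        rw [hout] at this
        have h1 := QuotientGroup.eq.1 this.symm
        rw [hout]
        simpa using h1
      · rw [hout]; exact Function.minimalPeriod_eq_one_iff_isFixedPt.mpr hq₀
    · set k := q.out.out with hk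
      set m := Function.minimalPeriod (g • ·) q.out with hm
      have hkD : k ∉ D := fun h => hq (by
        have h1 : q.out = q₀ := by
          rw [← show ((k : G) : Q) = q.out from Quotient.out_eq _]
          exact (QuotientGroup.eq.2 (by simpa using h)).symm
        rw [← Quotient.out_eq' q, h1])
      have hmem : k⁻¹ * g ^ m * k ∈ D := QuotientGroup.out_conj_pow_minimalPeriod_mem D g q.out
      refine hφ1 _ ?_
      show P (k⁻¹ * g ^ m * k)
      have hzH : g ^ m ∈ H := pow_mem hgH m
      by_cases hz1 : g ^ m = 1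
      · rw [hz1, mul_one, inv_mul_cancel]; exact hP1
      have honly : ∀ z, g ^ m • z = z → z = a ∨ z = b := fun z hz => by
        by_contra hcon
        push Not at hcon
        exact hz1 (hthree _ a b z hab hcon.2.symm hcon.1.symm (hfa hzH) (hfb hzH) hz)
      rcases hDmem.1 hmem with hy | hy
      · exfalso
        have e1 := hfa hy
        have e2 := hfb hy
        rw [mul_smul, mul_smul, inv_smul_eq_iff] at e1 e2
        have hne : k • a ≠ k • b := fun e => hab (smul_left_cancel k e)
        refine hkD ?_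
        rw [hD, mem_stabilizer_iff, Set.smul_set_insert, Set.smul_set_singleton]
        rcases honly _ e1 with h1 | h1 <;> rcases honly _ e2 with h2 | h2
        · exact absurd (h1.trans h2.symm) hne
        · rw [h1, h2]
        · rw [h1, h2, Set.pair_comm]
        · exact absurd (h1.trans h2.symm) hne
      · set y := k⁻¹ * g ^ m * k with hy'
        have eya : y • a = b := by
          have h1 := hfa hy
          rw [mul_smul, ← eq_inv_smul_iff, hsi, hsa] at h1
          exact h1
        have eyb : y • b = a := by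
          have h1 := hfb hy
          rw [mul_smul, ← eq_inv_smul_iff, hsi, hsb] at h1
          exact h1
        have hyfix : ∀ u : Ω, g ^ m • u = u → y • k⁻¹ • u = k⁻¹ • u := fun u hu => by
          rw [hy', mul_smul, mul_smul, smul_inv_smul, hu]
        set w := k⁻¹ • a with hw
        have hwy : y • w = w := hyfix a (hfa hzH)
        have hwa : w ≠ a := fun e => hab (by rw [← eya, ← e, hwy])
        have hwb : w ≠ b := fun e => hab (by rw [← eyb, ← e, hwy])
        obtain ⟨h, hh, hhc⟩ := hmove w hwa hwb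
        have hyeq : y = h * s * h⁻¹ := by
          refine inv_mul_eq_one.1 (hthree _ a b w hab hwb.symm hwa.symm ?_ ?_ ?_) <;>
            rw [mul_smul, inv_smul_eq_iff, mul_smul, mul_smul]
          · rw [inv_smul_eq_iff.2 (hfa hh).symm, hsa, hfb hh, eya]
          · rw [inv_smul_eq_iff.2 (hfb hh).symm, hsb, hfa hh, eyb]
          · rw [← hhc, inv_smul_smul, hsc, hhc, hwy]
        have hsD : s ∈ D := hDmem.2 (Or.inr (by rw [hss]; exact one_mem H))
        have hhD : h ∈ D := hDmem.2 (Or.inl hh)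
        have hPs : P s := Or.inr (by rw [hss]; exact one_mem N)
        have h1 := hP (mul_mem hhD hsD) (inv_mem hhD)
        have h2 := hP hhD hsD
        have h3 := hP hhD (inv_mem hhD)
        rw [mul_inv_cancel] at h3
        rw [hyeq]
        have hlogic : ∀ A B C E S O : Prop, (A ↔ (E ↔ C)) → (E ↔ (B ↔ S)) → (O ↔ (B ↔ C)) → O → S → A :=
          fun A B C E S O e1 e2 e3 hO hS => e1.2 ⟨fun hE => (e3.1 hO).1 ((e2.1 hE).2 hS),
            fun hC => e2.2 ⟨fun _ => hS, fun _ => (e3.1 hO).2 hC⟩⟩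
        exact hlogic _ _ _ _ _ _ h1 h2 h3 hP1 hPs
  haveI := hsimple
  rcases (MonoidHom.normal_ker (MonoidHom.transfer φ)).eq_bot_or_eq_top with hk | hk
  · have := Nat.card_le_card_of_injective _ ((MonoidHom.ker_eq_bot_iff _).1 hk)
    simp at this
    omega
  · exact htr (MonoidHom.mem_ker.1 (hk ▸ Subgroup.mem_top g))

/-- A sharply triply transitive group of even degree is not simple. -/
theorem not_isSimpleGroup_sharplyThree [FaithfulSMul G Ω] (h2 : IsMultiplyPretransitive G Ω 2)
    (hthree : ThreeFix G Ω) {a b c : Ω} (hab : a ≠ b) (hac : a ≠ c) (hbc : b ≠ c)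
    (hd : Nat.card ↥(stabilizer G a ⊓ stabilizer G b) + 2 = Fintype.card Ω) (heven : Even (Fintype.card Ω)) :
    ¬ IsSimpleGroup G := by
  classical
  obtain ⟨h3, hsharp⟩ := sharplyThree_of_card h2 hthree hab hd
  set H := stabilizer G a ⊓ stabilizer G b with hH
  obtain ⟨g, hga, hgb⟩ := is_two_pretransitive_iff.1 h2 hab hab.symm
  have hgc : g • c ≠ a ∧ g • c ≠ b :=
    ⟨fun e => hbc (smul_left_cancel g (hgb.trans e.symm)), fun e => hac (smul_left_cancel g (hga.trans e.symm))⟩
  obtain ⟨k, hk, hkc⟩ := exists_move_of_card hthree hab hd (g • c) c hgc.1 hgc.2 hac.symm hbc.symm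
  obtain ⟨s, hsa, hsb, hsc⟩ : ∃ s : G, s • a = b ∧ s • b = a ∧ s • c = c :=
    ⟨k * g, by rw [mul_smul, hga]; exact mem_stabilizer_iff.1 hk.2,
      by rw [mul_smul, hgb]; exact mem_stabilizer_iff.1 hk.1, by rw [mul_smul, hkc]⟩
  have hmove : ∀ z, z ≠ a → z ≠ b → ∃ h ∈ H, h • c = z := fun z hza hzb =>
    exists_move_of_card hthree hab hd c z hac.symm hbc.symm hza hzb
  have h3le : 3 ≤ Fintype.card Ω := by
    calc 3 = ({a, b, c} : Finset Ω).card := by simp [hab, hac, hbc]
      _ ≤ _ := Finset.card_le_univ _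
  have hG3 : 3 ≤ Nat.card G := by
    haveI := h2
    haveI : IsPretransitive G Ω := isPretransitive_of_is_two_pretransitive
    have h := Subgroup.index_dvd_card (stabilizer G a)
    rw [index_stabilizer_of_transitive, Nat.card_eq_fintype_card] at h
    exact le_trans h3le (Nat.le_of_dvd Nat.card_pos h)
  obtain ⟨N, hNH, hidx, hsN⟩ : ∃ N : Subgroup G, N ≤ H ∧ N.relIndex H = 2 ∧ ∀ n ∈ N, s * n * s⁻¹ ∈ N := by
    obtain ⟨r, hr⟩ := heven
    by_cases h6 : 6 ≤ Fintype.card Ω
    · let f : G →* Equiv.Perm Ω := MulAction.toPermHom G Ω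
      have hf : Function.Injective f := MulAction.toPerm_injective
      let e : G ≃* f.range := MonoidHom.ofInjective hf
      have he : ∀ (g : G) (z : Ω), e g • z = g • z := fun _ _ => rfl
      have he' : ∀ (g : f.range) (z : Ω), e.symm g • z = g • z := fun g z => by rw [← he, e.apply_symm_apply]
      have h3' : IsMultiplyPretransitive f.range Ω 3 := isMultiplyPretransitive_iff.2 fun x y => by
        obtain ⟨g, hg⟩ := isMultiplyPretransitive_iff.1 h3 x y
        exact ⟨e g, Function.Embedding.ext fun i => by rw [← hg]; rfl⟩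
      have hsharp' : ∀ t : Fin 3 ↪ Ω, stabilizer f.range t = ⊥ := fun t => by
        rw [Subgroup.eq_bot_iff_forall]
        intro g hg
        refine e.symm.injective ?_
        rw [map_one, ← Subgroup.mem_bot, ← hsharp t, mem_stabilizer_iff]
        refine Function.Embedding.ext fun i => ?_
        rw [Function.Embedding.smul_apply, he']
        exact congrArg (fun u : Fin 3 ↪ Ω => u i) (mem_stabilizer_iff.1 hg)
      obtain ⟨N', hN', -, hi', hs'⟩ := S0729.result ⟨r, hr⟩ h6 f.range h3' hsharp' hab hac hbc (e s) hsa hsb hsc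
      refine ⟨N'.comap e.toMonoidHom, fun g hg => ?_, ?_, fun n hn => ?_⟩
      · exact ⟨mem_stabilizer_iff.2 ((he g a).symm.trans (mem_stabilizer_iff.1 (hN' hg).1)),
          mem_stabilizer_iff.2 ((he g b).symm.trans (mem_stabilizer_iff.1 (hN' hg).2))⟩
      · rw [Subgroup.relIndex_comap,
          show H.map e.toMonoidHom = stabilizer f.range a ⊓ stabilizer f.range b from ?_]
        · exact hi'
        ext g
        refine ⟨?_, fun hg => ⟨e.symm g, ⟨mem_stabilizer_iff.2 ((he' g a).trans hg.1),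
          mem_stabilizer_iff.2 ((he' g b).trans hg.2)⟩, e.apply_symm_apply g⟩⟩
        rintro ⟨k, hk, rfl⟩
        exact ⟨hk.1, hk.2⟩
      · show e (s * n * s⁻¹) ∈ N'
        rw [map_mul, map_mul, map_inv]
        exact hs' _ hn
    · have h4 : Nat.card H = 2 := by omega
      exact ⟨⊥, bot_le, by rw [Subgroup.relIndex_bot_left, h4], fun n hn => by
        rw [Subgroup.mem_bot.1 hn]; simp⟩
  exact not_isSimpleGroup_of_index_two hthree hab hac hbc hmove hsa hsb hsc N hNH hidx hsN hG3

end Cfsg.Agent.PermGroups
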